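import Cfsg.Agent.Mrg.Omega.BTwo.Conj
import Mathlib
import Cfsg.Agent.FastGrp
import Cfsg.Agent.Prune
set_option linter.all false
prune_inst 0x7f00000000000000000000000000000000000000000000000000000000000000000000000000000000000000000000000000000000000000000000000000000000000000000000000000000000000000003fffffffffffffffffffffffffffbeffbdffffffff
open scoped Cfsg.Agent.FastGrp

section


/-!
# SQ3: a mutual pair with `b = 2`, one natural module (#10337 (2) - (5)), K-free and field-free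

`V` elementary abelian, `R i` its points, `H i = N(R i)`, `Q i = O₂(H i)`, `W i = ⟨V^h : h ∈ H i⟩`.
-/

set_option autoImplicit false

namespace Cfsg.Agent.Omega.BTwo

open Subgroup

variable {G : Type*} [Group G] {ι : Type*}

/-- `W = ⟨V^h : h ∈ N(R)⟩` -/
def WW (V R : Subgroup G) : Subgroup G := ⨆ h : normalizer (R : Set G), cj (h : G) V

/-- `Q = O₂(N(R))` -/
abbrev QQ (R : Subgroup G) : Subgroup G := O2 (normalizer (R : Set G))

/-- The situation `b = 2`: `V` with points `R i`. -/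
structure BT (V : Subgroup G) (R : ι → Subgroup G) : Prop where
  V_comm : ∀ a ∈ V, ∀ b ∈ V, a * b = b * a
  V_sq : ∀ a ∈ V, a * a = 1
  R_le : ∀ i, R i ≤ V
  R_inf : ∀ i j, i ≠ j → R i ⊓ R j = ⊥
  R_sup : ∀ i j, i ≠ j → R i ⊔ R j = V
  R_cov : ∀ v ∈ V, ∃ i, v ∈ R i
  R_ne : ∀ i, R i ≠ ⊥
  third : ∀ i j : ι, ∃ k, k ≠ i ∧ k ≠ j
  perm : ∀ g ∈ normalizer (V : Set G), ∀ i, ∃ j, cj g (R i) = R j
  V_Q : ∀ i, V ≤ QQ (R i)
  QV : ∀ i, ∀ g ∈ QQ (R i), ∀ v ∈ V, g * v * g⁻¹ * v⁻¹ ∈ R i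
  QR : ∀ i, ∀ g ∈ QQ (R i), ∀ a ∈ R i, g * a = a * g
  mt : ∀ i, ∃ h ∈ normalizer (R i : Set G), ∀ j k, j ≠ i → k ≠ i →
    (∃ v ∈ V, cj (h * v * h⁻¹) (R j) = R k) ∧ (∃ v ∈ V, cj (h⁻¹ * v * h) (R j) = R k)

section basic

variable {V : Subgroup G} {R : ι → Subgroup G}

theorem cj_le_WW {V R : Subgroup G} {h : G} (hh : h ∈ normalizer (R : Set G)) : cj h V ≤ WW V R :=
  le_iSup (fun h : normalizer (R : Set G) => cj (h : G) V) ⟨h, hh⟩

theorem V_le_WW (V R : Subgroup G) : V ≤ WW V R := by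
  have := cj_le_WW (V := V) (R := R) (one_mem _)
  rwa [cj_one] at this

theorem normalizer_le_WW (V R : Subgroup G) :
    normalizer (R : Set G) ≤ normalizer (WW V R : Set G) := by
  intro g hg
  rw [← cj_eq_self_iff]
  apply le_antisymm
  · rw [WW, cj_iSup]
    refine iSup_le fun h => ?_
    rw [← cj_mul]
    exact cj_le_WW (mul_mem hg h.2)
  · rw [WW]
    refine iSup_le fun h => ?_
    have := cj_mono (g := g) (cj_le_WW (V := V) (mul_mem (inv_mem hg) h.2))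
    rwa [cj_mul, cj_cj_inv] at this

variable (b : BT V R)
include b

theorem BT.R_index {i j : ι} (h : R i = R j) : i = j := by
  by_contra hne
  have := b.R_inf i j hne
  rw [h, inf_idem] at this
  exact b.R_ne j this

theorem BT.eq_one {i j : ι} (hij : i ≠ j) {a : G} (h1 : a ∈ R i) (h2 : a ∈ R j) : a = 1 := by
  have : a ∈ R i ⊓ R j := ⟨h1, h2⟩
  rw [b.R_inf i j hij] at this
  exact mem_bot.1 this

theorem BT.exists_ne (i : ι) : ∃ a ∈ R i, a ≠ 1 := by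
  by_contra hc
  push Not at hc
  exact b.R_ne i ((eq_bot_iff_forall _).2 hc)

theorem BT.inv_eq {v : G} (hv : v ∈ V) : v⁻¹ = v := inv_eq_of_mul_eq_one_left (b.V_sq v hv)

theorem BT.V_le_cen : V ≤ centralizer (V : Set G) := fun v hv => by
  rw [mem_centralizer_iff]
  exact fun w hw => b.V_comm w hw v hv

theorem BT.W_le_Q (i : ι) : WW V (R i) ≤ QQ (R i) := by
  refine iSup_le fun h => ?_
  have := cj_mono (g := (h : G)) (b.V_Q i)
  rwa [cj_eq_self_iff.2 (le_normalizer_O2 _ h.2)] at this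

theorem BT.Q_le (i : ι) : QQ (R i) ≤ normalizer (R i : Set G) := by
  have _ := b
  exact O2_le _

theorem BT.W_le_N (i : ι) : WW V (R i) ≤ normalizer (R i : Set G) := (b.W_le_Q i).trans (b.Q_le i)

theorem BT.conj_R {i : ι} {g : G} (hg : g ∈ QQ (R i)) {a : G} (ha : a ∈ R i) : g * a * g⁻¹ = a := by
  rw [b.QR i g hg a ha, mul_inv_cancel_right]

/-- `[W i, Q i] ≤ R i` -/
theorem BT.WQ (i : ι) {g w : G} (hg : g ∈ QQ (R i)) (hw : w ∈ WW V (R i)) :
    g * w * g⁻¹ * w⁻¹ ∈ R i := by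
  -- the elements `w ∈ N(R i)` with this property for all `g`
  let T : Subgroup G :=
    { carrier := {w | w ∈ normalizer (R i : Set G) ∧ ∀ g ∈ QQ (R i), g * w * g⁻¹ * w⁻¹ ∈ R i}
      one_mem' := ⟨one_mem _, fun g _ => by
        have : g * 1 * g⁻¹ * 1⁻¹ = 1 := by group
        rw [this]; exact one_mem _⟩
      mul_mem' := by
        rintro u v ⟨hu, hu'⟩ ⟨hv, hv'⟩
        refine ⟨mul_mem hu hv, fun g hg => ?_⟩
        have e : g * (u * v) * g⁻¹ * (u * v)⁻¹ =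
            (g * u * g⁻¹ * u⁻¹) * (u * (g * v * g⁻¹ * v⁻¹) * u⁻¹) := by group
        rw [e]
        exact mul_mem (hu' g hg) (conj_mem_of_normalizer hu (hv' g hg))
      inv_mem' := by
        rintro u ⟨hu, hu'⟩
        refine ⟨inv_mem hu, fun g hg => ?_⟩
        have e : g * u⁻¹ * g⁻¹ * u⁻¹⁻¹ = u⁻¹ * (g * u * g⁻¹ * u⁻¹)⁻¹ * u := by group
        -- `u⁻¹ g u g⁻¹`
        have e2 : g * u⁻¹ * g⁻¹ * u⁻¹⁻¹ = g * (u⁻¹ * (g⁻¹ * u * g⁻¹⁻¹ * u⁻¹) * u) * g⁻¹ := by group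
        rw [e2]
        have h1 := hu' g⁻¹ (inv_mem hg)
        exact conj_mem_of_normalizer (b.Q_le i hg) (conj_inv_mem_of_normalizer hu h1) }
  have hT : WW V (R i) ≤ T := by
    refine iSup_le fun h => ?_
    rintro _ ⟨v, hv, rfl⟩
    change (h : G) * v * (h : G)⁻¹ ∈ T
    refine ⟨b.W_le_N i (cj_le_WW h.2 (conj_mem_cj hv)), fun g hg => ?_⟩
    have h1 := b.QV i _ (conj_inv_mem_of_normalizer (le_normalizer_O2 _ h.2) hg) v hv
    have h2 := conj_mem_of_normalizer h.2 h1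
    have e : (h : G) * ((h : G)⁻¹ * g * h * v * ((h : G)⁻¹ * g * h)⁻¹ * v⁻¹) * (h : G)⁻¹ =
        g * (h * v * (h : G)⁻¹) * g⁻¹ * (h * v * (h : G)⁻¹)⁻¹ := by group
    rwa [e] at h2
  exact (hT hw).2 g hg

theorem BT.WW_comm (i : ι) {g w : G} (hg : g ∈ WW V (R i)) (hw : w ∈ WW V (R i)) :
    g * w * g⁻¹ * w⁻¹ ∈ R i := b.WQ i (b.W_le_Q i hg) hw

/-- squares of elements of `W i` are in `R i` -/
theorem BT.W_sq (i : ι) {w : G} (hw : w ∈ WW V (R i)) : w * w ∈ R i := by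
  let T : Subgroup G :=
    { carrier := {w | w ∈ WW V (R i) ∧ w * w ∈ R i}
      one_mem' := ⟨one_mem _, by rw [one_mul]; exact one_mem _⟩
      mul_mem' := by
        rintro u v ⟨hu, hu'⟩ ⟨hv, hv'⟩
        refine ⟨mul_mem hu hv, ?_⟩
        have e : u * v * (u * v) = (u * u) * (u⁻¹ * v * u⁻¹⁻¹ * v⁻¹) * (v * v) := by group
        rw [e]
        exact mul_mem (mul_mem hu' (b.WW_comm i (inv_mem hu) hv)) hv'
      inv_mem' := by
        rintro u ⟨hu, hu'⟩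
        refine ⟨inv_mem hu, ?_⟩
        rw [← mul_inv_rev]
        exact inv_mem hu' }
  have hT : WW V (R i) ≤ T := by
    refine iSup_le fun h => ?_
    rintro _ ⟨v, hv, rfl⟩
    change (h : G) * v * (h : G)⁻¹ ∈ T
    refine ⟨cj_le_WW h.2 (conj_mem_cj hv), ?_⟩
    have e : (h : G) * v * (h : G)⁻¹ * (h * v * (h : G)⁻¹) = h * (v * v) * (h : G)⁻¹ := by group
    rw [e, b.V_sq v hv, mul_one, mul_inv_cancel]
    exact one_mem _
  exact (hT hw).2

theorem BT.W_le_NV (i : ι) : WW V (R i) ≤ normalizer (V : Set G) := by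
  have key : ∀ w ∈ WW V (R i), ∀ v ∈ V, w * v * w⁻¹ ∈ V := by
    intro w hw v hv
    have h1 := b.R_le i (b.QV i w (b.W_le_Q i hw) v hv)
    have e : w * v * w⁻¹ = w * v * w⁻¹ * v⁻¹ * v := by group
    rw [e]
    exact mul_mem h1 hv
  intro w hw
  rw [mem_normalizer_iff]
  intro v
  refine ⟨key w hw v, fun h => ?_⟩
  have := key w⁻¹ (inv_mem hw) _ h
  have e : w⁻¹ * (w * v * w⁻¹) * w⁻¹⁻¹ = v := by group
  rwa [e] at this

/-- `W i` is transitive on the other points -/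
theorem BT.trans (i : ι) {j k : ι} (hj : j ≠ i) (hk : k ≠ i) :
    ∃ w ∈ WW V (R i), cj w (R j) = R k := by
  obtain ⟨h, hh, H⟩ := b.mt i
  obtain ⟨⟨v, hv, e⟩, -⟩ := H j k hj hk
  exact ⟨_, cj_le_WW hh (conj_mem_cj hv), e⟩

/-- the points are permuted transitively by `N(V)` -/
theorem BT.trans_one (i k : ι) : ∃ x ∈ normalizer (V : Set G), cj x (R i) = R k := by
  obtain ⟨m, hm1, hm2⟩ := b.third i k
  obtain ⟨w, hw, e⟩ := b.trans m (Ne.symm hm1) (Ne.symm hm2)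
  exact ⟨w, b.W_le_NV m hw, e⟩

theorem BT.cj_WW {g : G} {i j : ι} (h : cj g (R i) = R j) : cj g (WW V (R i)) = WW V (R j) := by
  obtain ⟨x, hx, hxj⟩ := b.trans_one j i
  -- `g x ∈ N(R j)`
  have hgx : g * x ∈ normalizer (R j : Set G) := by
    rw [← cj_eq_self_iff, cj_mul, hxj, h]
  have key : ∀ g : G, ∀ i j : ι, ∀ x ∈ normalizer (V : Set G), g * x ∈ normalizer (R j : Set G) →
      cj g (R i) = R j → cj g (WW V (R i)) ≤ WW V (R j) := by
    intro g i j x hx hgx h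
    rw [WW, cj_iSup]
    refine iSup_le fun k => ?_
    have h1 : g * (k : G) * g⁻¹ ∈ normalizer (R j : Set G) := by
      rw [← cj_eq_self_iff, ← h, cj_mul, cj_mul, cj_inv_cj, cj_eq_self_iff.2 k.2]
    have e : cj g (cj (k : G) V) = cj (g * k * g⁻¹ * (g * x)) V := by
      have e1 : g * (k : G) * g⁻¹ * (g * x) = g * k * x := by group
      rw [e1, cj_mul, cj_mul, cj_eq_self_iff.2 hx]
    rw [e]
    exact cj_le_WW (mul_mem h1 hgx)
  apply le_antisymm (key g i j x hx hgx h)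
  have h' : cj g⁻¹ (R j) = R i := by rw [← h, cj_inv_cj]
  have h2 : g⁻¹ * x⁻¹ ∈ normalizer (R i : Set G) := by
    have hxi : cj x⁻¹ (R i) = R j := by rw [← hxj, cj_inv_cj]
    rw [← cj_eq_self_iff, cj_mul, hxi, h']
  have h3 := cj_mono (g := g) (key g⁻¹ j i x⁻¹ (inv_mem hx) h2 h')
  rwa [cj_cj_inv] at h3

theorem BT.cj_QQ {g : G} {i j : ι} (h : cj g (R i) = R j) : cj g (QQ (R i)) = QQ (R j) := by
  have _ := b
  rw [cj_O2, ← normalizer_cj, h]

/-- `X = ⟨W i⟩` -/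
def XX (V : Subgroup G) (R : ι → Subgroup G) : Subgroup G := ⨆ i, WW V (R i)

omit b in
theorem W_le_X (V : Subgroup G) (R : ι → Subgroup G) (i : ι) : WW V (R i) ≤ XX V R :=
  le_iSup (fun i => WW V (R i)) i

theorem BT.X_le_NV : XX V R ≤ normalizer (V : Set G) := iSup_le fun i => b.W_le_NV i

theorem BT.X_eq {i j : ι} (hij : i ≠ j) : XX V R = WW V (R i) ⊔ WW V (R j) := by
  apply le_antisymm
  · refine iSup_le fun k => ?_
    by_cases hk : k = i
    · subst hk; exact le_sup_left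
    obtain ⟨w, hw, e⟩ := b.trans i (Ne.symm hij) hk
    rw [← b.cj_WW e, cj_le_iff]
    intro x hx
    have h1 : w ∈ WW V (R i) ⊔ WW V (R j) := (le_sup_left : WW V (R i) ≤ _) hw
    exact mul_mem (mul_mem h1 ((le_sup_right : WW V (R j) ≤ _) hx)) (inv_mem h1)
  · exact sup_le (W_le_X V R i) (W_le_X V R j)

theorem BT.trans_X_one (i k : ι) : ∃ x ∈ XX V R, cj x (R i) = R k := by
  obtain ⟨m, hm1, hm2⟩ := b.third i k
  obtain ⟨w, hw, e⟩ := b.trans m (Ne.symm hm1) (Ne.symm hm2)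
  exact ⟨w, W_le_X V R m hw, e⟩

/-- `X` is 2-transitive on the points -/
theorem BT.trans_X {i j k l : ι} (hij : i ≠ j) (hkl : k ≠ l) :
    ∃ x ∈ XX V R, cj x (R i) = R k ∧ cj x (R j) = R l := by
  obtain ⟨x, hx, e1⟩ := b.trans_X_one i k
  obtain ⟨j', e2⟩ := b.perm x (b.X_le_NV hx) j
  have hj' : j' ≠ k := by
    rintro rfl
    exact hij (b.R_index (cj_injective (e1.trans e2.symm)))
  obtain ⟨w, hw, e3⟩ := b.trans k hj' (Ne.symm hkl)
  refine ⟨w * x, mul_mem (W_le_X V R k hw) hx, ?_, ?_⟩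
  · rw [cj_mul, e1, cj_eq_self_iff.2 (b.W_le_N k hw)]
  · rw [cj_mul, e2, e3]

/-- `N(V)` permutes the points bijectively -/
theorem BT.perm_inv {g : G} (hg : g ∈ normalizer (V : Set G)) (k : ι) : ∃ j, cj g (R j) = R k := by
  obtain ⟨j, hj⟩ := b.perm g⁻¹ (inv_mem hg) k
  exact ⟨j, by rw [← hj, cj_cj_inv]⟩

/-! ### (2) -/

/-- `D = ⋂ W i` -/
def DD (V : Subgroup G) (R : ι → Subgroup G) : Subgroup G := ⨅ i, WW V (R i)

omit b in
theorem mem_DD {x : G} : x ∈ DD V R ↔ ∀ i, x ∈ WW V (R i) := mem_iInf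

omit b in
theorem D_le_W (V : Subgroup G) (R : ι → Subgroup G) (i : ι) : DD V R ≤ WW V (R i) := iInf_le _ i

omit b in
theorem V_le_D (V : Subgroup G) (R : ι → Subgroup G) : V ≤ DD V R := le_iInf fun i => V_le_WW V (R i)

/-- the elements of `N(V)` centralising `D / V` -/
def cenMod (V D : Subgroup G) : Subgroup G where
  carrier := {x | x ∈ normalizer (V : Set G) ∧ ∀ d ∈ D, x * d * x⁻¹ * d⁻¹ ∈ V}
  one_mem' := ⟨one_mem _, fun d _ => by
    have : 1 * d * 1⁻¹ * d⁻¹ = 1 := by group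
    rw [this]; exact one_mem _⟩
  mul_mem' := by
    rintro x y ⟨hx, hx'⟩ ⟨hy, hy'⟩
    refine ⟨mul_mem hx hy, fun d hd => ?_⟩
    have e : x * y * d * (x * y)⁻¹ * d⁻¹ = x * (y * d * y⁻¹ * d⁻¹) * x⁻¹ * (x * d * x⁻¹ * d⁻¹) := by group
    rw [e]
    exact mul_mem (conj_mem_of_normalizer hx (hy' d hd)) (hx' d hd)
  inv_mem' := by
    rintro x ⟨hx, hx'⟩
    refine ⟨inv_mem hx, fun d hd => ?_⟩
    have e : x⁻¹ * d * x⁻¹⁻¹ * d⁻¹ = x⁻¹ * (x * d * x⁻¹ * d⁻¹)⁻¹ * x := by group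
    rw [e]
    exact conj_inv_mem_of_normalizer hx (inv_mem (hx' d hd))

omit b in
theorem cenMod_normalizes {V D : Subgroup G} (hVD : V ≤ D) : cenMod V D ≤ normalizer (D : Set G) := by
  have key : ∀ x ∈ cenMod V D, ∀ d ∈ D, x * d * x⁻¹ ∈ D := by
    rintro x ⟨-, hx⟩ d hd
    have e : x * d * x⁻¹ = x * d * x⁻¹ * d⁻¹ * d := by group
    rw [e]
    exact mul_mem (hVD (hx d hd)) hd
  intro x hx
  rw [mem_normalizer_iff]
  intro d
  refine ⟨key x hx d, fun h => ?_⟩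
  have := key x⁻¹ (inv_mem hx) _ h
  have e : x⁻¹ * (x * d * x⁻¹) * x⁻¹⁻¹ = d := by group
  rwa [e] at this

theorem BT.inf_aux {i j : ι} (hij : i ≠ j) : XX V R ≤ cenMod V (WW V (R i) ⊓ QQ (R j)) := by
  rw [b.X_eq hij]
  refine sup_le ?_ ?_
  · intro w hw
    refine ⟨b.W_le_NV i hw, fun d hd => b.R_le i (b.WW_comm i hw hd.1)⟩
  · intro w hw
    refine ⟨b.W_le_NV j hw, fun d hd => b.R_le j ?_⟩
    have h1 := b.WQ j hd.2 hw
    have e : w * d * w⁻¹ * d⁻¹ = (d * w * d⁻¹ * w⁻¹)⁻¹ := by group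
    rw [e]
    exact inv_mem h1

theorem BT.V_le_inf (i j : ι) : V ≤ WW V (R i) ⊓ QQ (R j) :=
  le_inf (V_le_WW V (R i)) (b.V_Q j)

theorem BT.inf_eq_inf {i j k l : ι} (hij : i ≠ j) (hkl : k ≠ l) :
    WW V (R i) ⊓ QQ (R j) = WW V (R k) ⊓ QQ (R l) := by
  obtain ⟨x, hx, e1, e2⟩ := b.trans_X hij hkl
  have h1 := cj_eq_self_iff.2 (cenMod_normalizes (b.V_le_inf i j) (b.inf_aux hij hx))
  rw [cj_inf, b.cj_WW e1, b.cj_QQ e2] at h1
  exact h1.symm

/-- **(2)** `D = W i ∩ Q j` for all `i ≠ j` -/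
theorem BT.D_eq {i j : ι} (hij : i ≠ j) : DD V R = WW V (R i) ⊓ QQ (R j) := by
  apply le_antisymm
  · exact le_inf (D_le_W V R i) ((D_le_W V R j).trans (b.W_le_Q j))
  · refine le_iInf fun k => ?_
    obtain ⟨l, hl, -⟩ := b.third k k
    rw [b.inf_eq_inf hij (Ne.symm hl)]
    exact inf_le_left

theorem BT.D_eq' {i j : ι} (hij : i ≠ j) : DD V R = WW V (R i) ⊓ WW V (R j) := by
  apply le_antisymm
  · exact le_inf (D_le_W V R i) (D_le_W V R j)
  · rw [b.D_eq hij]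
    exact inf_le_inf_left _ (b.W_le_Q j)

theorem BT.X_le_cenMod : XX V R ≤ cenMod V (DD V R) := by
  intro x hx
  obtain ⟨i, -⟩ := b.R_cov 1 (one_mem V)
  obtain ⟨j, hj, -⟩ := b.third i i
  rw [b.D_eq hj]
  exact b.inf_aux hj hx

/-- `[D, X] ≤ V` -/
theorem BT.XD {x d : G} (hx : x ∈ XX V R) (hd : d ∈ DD V R) : x * d * x⁻¹ * d⁻¹ ∈ V :=
  (b.X_le_cenMod hx).2 d hd

theorem BT.exists_pair : ∃ i j : ι, i ≠ j := by
  obtain ⟨i, -⟩ := b.R_cov 1 (one_mem V)
  obtain ⟨j, hj, -⟩ := b.third i i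
  exact ⟨j, i, hj⟩

theorem BT.eq_one_of_forall {a : G} (h : ∀ i, a ∈ R i) : a = 1 := by
  obtain ⟨i, j, hij⟩ := b.exists_pair
  exact b.eq_one hij (h i) (h j)

theorem BT.D_sq {d : G} (hd : d ∈ DD V R) : d * d = 1 :=
  b.eq_one_of_forall fun i => b.W_sq i (D_le_W V R i hd)

theorem BT.D_comm {c d : G} (hc : c ∈ DD V R) (hd : d ∈ DD V R) : c * d = d * c := by
  have h : c * d * c⁻¹ * d⁻¹ = 1 :=
    b.eq_one_of_forall fun i => b.WW_comm i (D_le_W V R i hc) (D_le_W V R i hd)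
  rw [mul_inv_eq_one, mul_inv_eq_iff_eq_mul] at h
  exact h

theorem BT.NV_le_ND : normalizer (V : Set G) ≤ normalizer (DD V R : Set G) := by
  have key : ∀ g ∈ normalizer (V : Set G), ∀ d ∈ DD V R, g * d * g⁻¹ ∈ DD V R := by
    intro g hg d hd
    rw [mem_DD]
    intro k
    obtain ⟨j, hj⟩ := b.perm_inv hg k
    rw [← b.cj_WW hj]
    exact conj_mem_cj (mem_DD.1 hd j)
  intro x hx
  rw [mem_normalizer_iff]
  intro d
  refine ⟨key x hx d, fun h => ?_⟩
  have := key x⁻¹ (inv_mem hx) _ h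
  have e : x⁻¹ * (x * d * x⁻¹) * x⁻¹⁻¹ = d := by group
  rwa [e] at this

end basic

end Cfsg.Agent.Omega.BTwo

end

section


/-!
# Mixed mutual pairs (TEXT MIX, bb OMEGA #12374), steps (2) - (5): one side, field-free

`V` is a line with points `R i`; `B i = W₂(R i)` is generated by the lines of the other type on the point `R i`,
`C i = W₁(R i)` by the lines of the type of `V`; `B i`, `C i` are elementary abelian, `[C i, B i] ≤ R i`.

Main result: `Side.Y_eq` : `C_G(B i C i) = R i`.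
-/

set_option autoImplicit false

namespace Cfsg.Agent.Omega.Mix

open Subgroup Cfsg.Agent.Omega.BTwo

variable {G : Type*} [Group G] {ι : Type*}

/-- the stabiliser of `V` and of the set of its points `R i` -/
def ST (V : Subgroup G) (R : ι → Subgroup G) : Subgroup G where
  carrier := {g | cj g V = V ∧ (∀ i, ∃ j, cj g (R i) = R j) ∧ ∀ i, ∃ j, cj g⁻¹ (R i) = R j}
  one_mem' := by
    refine ⟨cj_one V, fun i => ⟨i, cj_one _⟩, fun i => ⟨i, ?_⟩⟩
    rw [inv_one, cj_one]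
  mul_mem' := by
    rintro g h ⟨g1, g2, g3⟩ ⟨h1, h2, h3⟩
    refine ⟨by rw [cj_mul, h1, g1], fun i => ?_, fun i => ?_⟩
    · obtain ⟨j, hj⟩ := h2 i
      obtain ⟨k, hk⟩ := g2 j
      exact ⟨k, by rw [cj_mul, hj, hk]⟩
    · obtain ⟨j, hj⟩ := g3 i
      obtain ⟨k, hk⟩ := h3 j
      exact ⟨k, by rw [mul_inv_rev, cj_mul, hj, hk]⟩
  inv_mem' := by
    rintro g ⟨g1, g2, g3⟩
    refine ⟨?_, g3, fun i => ?_⟩
    · have := congrArg (cj g⁻¹) g1
      rwa [cj_inv_cj, eq_comm] at this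
    · rw [inv_inv]; exact g2 i

theorem ST_le (V : Subgroup G) (R : ι → Subgroup G) : ST V R ≤ normalizer (V : Set G) :=
  fun _ hg => cj_eq_self_iff.1 hg.1

/-- the situation at a line `V` with points `R i` -/
structure Side (V : Subgroup G) (R B C : ι → Subgroup G) : Prop where
  third : ∀ i j : ι, ∃ k, k ≠ i ∧ k ≠ j
  V_C : ∀ i, V ≤ C i
  R_V : ∀ i, R i ≤ V
  R_B : ∀ i, R i ≤ B i
  R_ne : ∀ i, R i ≠ ⊥
  R_inf : ∀ i j, i ≠ j → R i ⊓ R j = ⊥
  B_comm : ∀ i, ∀ a ∈ B i, ∀ b ∈ B i, a * b = b * a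
  B_sq : ∀ i, ∀ a ∈ B i, a * a = 1
  C_comm : ∀ i, ∀ a ∈ C i, ∀ b ∈ C i, a * b = b * a
  C_sq : ∀ i, ∀ a ∈ C i, a * a = 1
  CB : ∀ i, ∀ c ∈ C i, ∀ b ∈ B i, c * b * c⁻¹ * b⁻¹ ∈ R i
  B_NV : ∀ i, B i ≤ normalizer (V : Set G)
  nB : ∀ i, normalizer (R i : Set G) ≤ normalizer (B i : Set G)
  nC : ∀ i, normalizer (R i : Set G) ≤ normalizer (C i : Set G)
  perm : ∀ m, ∀ g ∈ B m, ∀ i, ∃ j, cj g (R i) = R j
  cB : ∀ g i j, cj g (R i) = R j → cj g (B i) = B j
  cC : ∀ g i j, cj g (R i) = R j → cj g (C i) = C j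
  trans : ∀ i j k, j ≠ i → k ≠ i → ∃ b ∈ B i, cj b (R j) = R k
  free : ∀ i j, j ≠ i → ∀ b ∈ B i, cj b (R j) = R j → ∀ v ∈ V, b * v = v * b
  fix : ∀ K : Subgroup G, IsPGroup 2 K → ST V R ≤ normalizer (K : Set G) →
    ∀ i j, i ≠ j → (∀ k ∈ K, ∀ b ∈ B i, b * k = k * b) → (∀ k ∈ K, ∀ b ∈ B j, b * k = k * b) → K = ⊥

/-- `T = C_B(V)` -/
def TT (V B : Subgroup G) : Subgroup G := B ⊓ centralizer (V : Set G)

/-- `Y = C_G(BC)` -/
def YY (B C : Subgroup G) : Subgroup G := centralizer ((B ⊔ C : Subgroup G) : Set G)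

theorem mem_TT {V B : Subgroup G} {t : G} : t ∈ TT V B ↔ t ∈ B ∧ ∀ v ∈ V, t * v = v * t := by
  rw [TT, mem_inf, mem_centralizer_iff]
  exact and_congr_right fun _ => forall₂_congr fun v hv => eq_comm

theorem mem_YY {B C : Subgroup G} {y : G} : y ∈ YY B C ↔ (∀ b ∈ B, y * b = b * y) ∧ ∀ c ∈ C, y * c = c * y := by
  rw [YY, mem_centralizer_iff]
  constructor
  · intro h
    exact ⟨fun b hb => (h b (le_sup_left (a := B) hb)).symm, fun c hc => (h c (le_sup_right (a := B) hc)).symm⟩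
  · rintro ⟨h1, h2⟩ x hx
    have : (B ⊔ C : Subgroup G) ≤ centralizer ({y} : Set G) := by
      refine sup_le ?_ ?_
      · intro b hb
        rw [mem_centralizer_iff]
        intro z hz
        rw [Set.mem_singleton_iff.1 hz]
        exact h1 b hb
      · intro b hb
        rw [mem_centralizer_iff]
        intro z hz
        rw [Set.mem_singleton_iff.1 hz]
        exact h2 b hb
    exact (mem_centralizer_iff.1 (this hx) y rfl).symm

theorem TT_le (V B : Subgroup G) : TT V B ≤ B := inf_le_left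

theorem cj_TT {V B B' : Subgroup G} {g : G} (hV : cj g V = V) (hB : cj g B = B') : cj g (TT V B) = TT V B' := by
  rw [TT, TT, cj_inf, hB, ← centralizer_cj, hV]

theorem cj_YY {B B' C C' : Subgroup G} {g : G} (hB : cj g B = B') (hC : cj g C = C') :
    cj g (YY B C) = YY B' C' := by
  rw [YY, YY, ← centralizer_cj, cj_sup, hB, hC]

/-- two elements commute iff their commutator is trivial -/
theorem comm_of_eq_one {a b : G} (h : a * b * a⁻¹ * b⁻¹ = 1) : a * b = b * a := by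
  have := mul_inv_eq_one.1 h
  exact mul_inv_eq_iff_eq_mul.1 this

theorem eq_one_of_comm {a b : G} (h : a * b = b * a) : a * b * a⁻¹ * b⁻¹ = 1 := by
  rw [h]; group

/-- two elements with the same commutator with `b` differ by an element commuting with `b` -/
theorem comm_of_comm_eq {b t z : G} (h : b * t * b⁻¹ * t⁻¹ = b * z * b⁻¹ * z⁻¹) :
    b * (z⁻¹ * t) = z⁻¹ * t * b := by
  have h3 : t * b⁻¹ * t⁻¹ = z * b⁻¹ * z⁻¹ := by
    have h4 : b * (t * b⁻¹ * t⁻¹) = b * (z * b⁻¹ * z⁻¹) := by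
      calc b * (t * b⁻¹ * t⁻¹) = b * t * b⁻¹ * t⁻¹ := by group
        _ = b * z * b⁻¹ * z⁻¹ := h
        _ = b * (z * b⁻¹ * z⁻¹) := by group
    exact mul_left_cancel h4
  calc b * (z⁻¹ * t) = b * z⁻¹ * (t * b⁻¹ * t⁻¹) * (t * b) := by group
    _ = b * z⁻¹ * (z * b⁻¹ * z⁻¹) * (t * b) := by rw [h3]
    _ = z⁻¹ * t * b := by group

namespace Side

variable {V : Subgroup G} {R B C : ι → Subgroup G} (s : Side V R B C)
include s

theorem R_index {i j : ι} (h : R i = R j) : i = j := by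
  by_contra hne
  have := s.R_inf i j hne
  rw [h, inf_idem] at this
  exact s.R_ne j this

theorem cV_le_NR {g : G} (hg : ∀ v ∈ V, g * v = v * g) (i : ι) : g ∈ normalizer (R i : Set G) := by
  rw [mem_normalizer_iff]
  intro x
  constructor
  · intro hx
    rw [hg x (s.R_V i hx), mul_inv_cancel_right]
    exact hx
  · intro hx
    have h1 := s.R_V i hx
    have h2 : g * (g * x * g⁻¹) * g⁻¹ = g * x * g⁻¹ := by
      rw [hg _ h1, mul_inv_cancel_right]
    have h3 : g * x * g⁻¹ = x := mul_left_cancel (mul_right_cancel h2)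
    rwa [h3] at hx

theorem V_comm {a b : G} (ha : a ∈ V) (hb : b ∈ V) (i : ι) : a * b = b * a :=
  s.C_comm i a (s.V_C i ha) b (s.V_C i hb)

theorem C_V {i : ι} {c : G} (hc : c ∈ C i) : ∀ v ∈ V, c * v = v * c := fun v hv => s.C_comm i c hc v (s.V_C i hv)

/-- `X` in the form `B i ⊔ B j` contains every `B k` -/
theorem B_le {i j : ι} (hij : i ≠ j) (k : ι) : B k ≤ B i ⊔ B j := by
  by_cases hk : k = i
  · subst hk; exact le_sup_left
  obtain ⟨w, hw, e⟩ := s.trans i j k (Ne.symm hij) hk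
  rw [← s.cB w j k e, cj_le_iff]
  intro x hx
  have h1 : w ∈ B i ⊔ B j := (le_sup_left : B i ≤ _) hw
  exact mul_mem (mul_mem h1 ((le_sup_right : B j ≤ _) hx)) (inv_mem h1)

/-- an element commuting with `B i` and `B j` commutes with all `B k` -/
theorem comm_all {i j : ι} (hij : i ≠ j) {x : G} (h1 : ∀ b ∈ B i, b * x = x * b) (h2 : ∀ b ∈ B j, b * x = x * b)
    (k : ι) : ∀ b ∈ B k, b * x = x * b := by
  have : B i ⊔ B j ≤ centralizer ({x} : Set G) := by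
    refine sup_le ?_ ?_
    · intro b hb
      rw [mem_centralizer_iff]
      intro z hz
      rw [Set.mem_singleton_iff.1 hz]
      exact (h1 b hb).symm
    · intro b hb
      rw [mem_centralizer_iff]
      intro z hz
      rw [Set.mem_singleton_iff.1 hz]
      exact (h2 b hb).symm
  intro b hb
  exact (mem_centralizer_iff.1 (this (s.B_le hij k hb)) x rfl).symm

/-- from any point to any other one by an element of some `B m` -/
theorem trans_B (i k : ι) : ∃ m, m ≠ i ∧ m ≠ k ∧ ∃ x ∈ B m, cj x (R i) = R k := by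
  obtain ⟨m, hm1, hm2⟩ := s.third i k
  obtain ⟨w, hw, e⟩ := s.trans m i k (Ne.symm hm1) (Ne.symm hm2)
  exact ⟨m, hm1, hm2, w, hw, e⟩

theorem cjV {m : ι} {x : G} (hx : x ∈ B m) : cj x V = V := cj_eq_self_iff.2 (s.B_NV m hx)

theorem B_le_ST (m : ι) : B m ≤ ST V R := fun g hg =>
  ⟨s.cjV hg, s.perm m g hg, s.perm m g⁻¹ (inv_mem hg)⟩

/-- the family `A` is permuted by the stabiliser of the set of points -/
theorem normalizer_iInf {A : ι → Subgroup G} (h : ∀ g ∈ normalizer (V : Set G), ∀ i j, cj g (R i) = R j → cj g (A i) = A j) :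
    ST V R ≤ normalizer ((⨅ i, A i : Subgroup G) : Set G) := by
  have key : ∀ g ∈ ST V R, ∀ x ∈ (⨅ i, A i : Subgroup G), g * x * g⁻¹ ∈ (⨅ i, A i : Subgroup G) := by
    intro g hg x hx
    rw [mem_iInf] at hx ⊢
    intro k
    obtain ⟨j, hj⟩ := hg.2.2 k
    have hj' : cj g (R j) = R k := by rw [← hj, cj_cj_inv]
    rw [← h g (ST_le V R hg) j k hj']
    exact conj_mem_cj (hx j)
  intro g hg
  rw [mem_normalizer_iff]
  intro x
  refine ⟨key g hg x, fun hx => ?_⟩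
  have := key g⁻¹ (inv_mem hg) _ hx
  have e : g⁻¹ * (g * x * g⁻¹) * g⁻¹⁻¹ = x := by group
  rwa [e] at this

/-- the fixed point principle for a family `A` -/
theorem inf_eq_bot {A : ι → Subgroup G} (h : ∀ g ∈ normalizer (V : Set G), ∀ i j, cj g (R i) = R j → cj g (A i) = A j)
    (hp : ∀ i, IsPGroup 2 (A i)) (hc : ∀ i, ∀ a ∈ A i, ∀ b ∈ B i, b * a = a * b) {i j : ι} (hij : i ≠ j) :
    A i ⊓ A j = ⊥ := by
  have h1 : A i ⊓ A j ≤ ⨅ k, A k := by
    rintro x ⟨hxi, hxj⟩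
    rw [mem_iInf]
    intro k
    have hall := s.comm_all hij (hc i x hxi) (hc j x hxj)
    obtain ⟨m, -, -, w, hw, e⟩ := s.trans_B i k
    have e2 := h w (s.B_NV m hw) i k e
    rw [← e2]
    have h3 := conj_mem_cj (g := w) hxi
    rwa [hall m w hw, mul_inv_cancel_right] at h3
  have h2 : (⨅ k, A k) = ⊥ := by
    refine s.fix _ ((hp i).to_le (iInf_le _ i)) (s.normalizer_iInf h) i j hij ?_ ?_
    · intro x hx b hb
      exact hc i x (mem_iInf.1 hx i) b hb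
    · intro x hx b hb
      exact hc j x (mem_iInf.1 hx j) b hb
  exact le_bot_iff.1 (h1.trans h2.le)

theorem B_isPGroup (i : ι) : IsPGroup 2 (B i) := by
  intro x
  refine ⟨1, ?_⟩
  apply Subtype.ext
  rw [pow_one, pow_two]
  exact s.B_sq i x x.2

/-- **(2)** `B i ∩ B j = 1` -/
theorem B_inf {i j : ι} (hij : i ≠ j) : B i ⊓ B j = ⊥ :=
  s.inf_eq_bot (fun g _ i j e => s.cB g i j e) s.B_isPGroup (fun i a ha b hb => s.B_comm i b hb a ha) hij

theorem B_eq_one {i j : ι} (hij : i ≠ j) {x : G} (h1 : x ∈ B i) (h2 : x ∈ B j) : x = 1 := by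
  have : x ∈ B i ⊓ B j := ⟨h1, h2⟩
  rw [s.B_inf hij] at this
  exact mem_bot.1 this

/-- `[C(V), B j] ≤ T j` -/
theorem comm_mem_T {g : G} (hg : ∀ v ∈ V, g * v = v * g) {j : ι} {b : G} (hb : b ∈ B j) :
    g * b * g⁻¹ * b⁻¹ ∈ TT V (B j) := by
  rw [mem_TT]
  refine ⟨mul_mem (conj_mem_of_normalizer (s.nB j (s.cV_le_NR hg j)) hb) (inv_mem hb), ?_⟩
  have h1 : g ∈ centralizer (V : Set G) := mem_centralizer_iff.2 fun v hv => (hg v hv).symm
  have h2 : b * g⁻¹ * b⁻¹ ∈ centralizer (V : Set G) :=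
    conj_mem_of_normalizer (normalizer_le_normalizer_centralizer V (s.B_NV j hb)) (inv_mem h1)
  have h3 : g * b * g⁻¹ * b⁻¹ ∈ centralizer (V : Set G) := by
    have e : g * b * g⁻¹ * b⁻¹ = g * (b * g⁻¹ * b⁻¹) := by group
    rw [e]; exact mul_mem h1 h2
  intro v hv
  exact (mem_centralizer_iff.1 h3 v hv).symm

theorem comm_mem_T' {g : G} (hg : ∀ v ∈ V, g * v = v * g) {j : ι} {b : G} (hb : b ∈ B j) :
    b * g * b⁻¹ * g⁻¹ ∈ TT V (B j) := by
  have := inv_mem (s.comm_mem_T hg hb)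
  have e : (g * b * g⁻¹ * b⁻¹)⁻¹ = b * g * b⁻¹ * g⁻¹ := by group
  rwa [e] at this

theorem T_comm {i j : ι} {t u : G} (ht : t ∈ TT V (B i)) (hu : u ∈ TT V (B j)) : t * u = u * t := by
  by_cases hij : i = j
  · subst hij
    exact s.B_comm i t (TT_le _ _ ht) u (TT_le _ _ hu)
  · have h1 := s.comm_mem_T (mem_TT.1 ht).2 (TT_le _ _ hu)
    have h2 := s.comm_mem_T' (mem_TT.1 hu).2 (TT_le _ _ ht)
    exact comm_of_eq_one (s.B_eq_one hij (TT_le _ _ h2) (TT_le _ _ h1))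

/-- for `b ∈ B i` outside `C(V)` the commutator map `T j → T i` is injective -/
theorem inj {i j : ι} (hij : i ≠ j) {b : G} (hb : b ∈ B i) (hbV : ¬ ∀ v ∈ V, b * v = v * b) {t : G}
    (ht : t ∈ B j) (h : b * t = t * b) : t = 1 := by
  obtain ⟨k, hk⟩ := s.perm i b hb j
  have hkj : k ≠ j := by
    rintro rfl
    exact hbV (s.free i k (Ne.symm hij) b hb hk)
  have h1 : t ∈ B k := by
    rw [← s.cB b j k hk]
    have := conj_mem_cj (g := b) ht
    rwa [h, mul_inv_cancel_right] at this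
  exact s.B_eq_one hkj h1 ht

theorem exists_move {i j : ι} (hij : i ≠ j) : ∃ b ∈ B i, ¬ ∀ v ∈ V, b * v = v * b := by
  obtain ⟨k, hk1, hk2⟩ := s.third i j
  obtain ⟨b, hb, e⟩ := s.trans i j k (Ne.symm hij) hk1
  refine ⟨b, hb, fun hall => ?_⟩
  have : cj b (R j) = R j := cj_eq_self_iff.2 (s.cV_le_NR hall j)
  rw [e] at this
  exact hk2 (s.R_index this)

theorem cj_T {g : G} (hg : g ∈ normalizer (V : Set G)) {i j : ι} (e : cj g (R i) = R j) :
    cj g (TT V (B i)) = TT V (B j) := cj_TT (cj_eq_self_iff.2 hg) (s.cB g i j e)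

theorem card_T [Finite G] (i j : ι) : Nat.card (TT V (B i)) = Nat.card (TT V (B j)) := by
  obtain ⟨m, -, -, x, hx, e⟩ := s.trans_B i j
  rw [← s.cj_T (s.B_NV m hx) e, card_cj]

/-- the commutator map `T j → T i` of `b ∈ B i` outside `C(V)` is surjective -/
theorem surj [Finite G] {i j : ι} (hij : i ≠ j) {b : G} (hb : b ∈ B i) (hbV : ¬ ∀ v ∈ V, b * v = v * b) {u : G}
    (hu : u ∈ TT V (B i)) : ∃ t ∈ TT V (B j), b * t * b⁻¹ * t⁻¹ = u := by
  let f : TT V (B j) → TT V (B i) := fun t => ⟨b * t * b⁻¹ * (t : G)⁻¹, s.comm_mem_T' (mem_TT.1 t.2).2 hb⟩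
  have hf : Function.Injective f := by
    intro x y hxy
    have h1 : b * (x : G) * b⁻¹ * (x : G)⁻¹ = b * (y : G) * b⁻¹ * (y : G)⁻¹ := congrArg Subtype.val hxy
    have h2 : b * ((y : G)⁻¹ * x) = (y : G)⁻¹ * x * b := comm_of_comm_eq h1
    have h4 := s.inj hij hb hbV (mul_mem (inv_mem (TT_le _ _ y.2)) (TT_le _ _ x.2)) h2
    exact Subtype.ext (inv_mul_eq_one.1 h4).symm
  have hfs : Function.Surjective f := (Nat.bijective_iff_injective_and_card f).2 ⟨hf, s.card_T j i⟩ |>.2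
  obtain ⟨t, ht⟩ := hfs ⟨u, hu⟩
  exact ⟨t, t.2, congrArg Subtype.val ht⟩

/-- `T k ≤ T i T j` -/
theorem T_sub {i j : ι} (hij : i ≠ j) (k : ι) {t : G} (ht : t ∈ TT V (B k)) :
    ∃ u ∈ TT V (B i), ∃ w ∈ TT V (B j), t = u * w := by
  by_cases hk : k = i
  · subst hk; exact ⟨t, ht, 1, one_mem _, (mul_one t).symm⟩
  obtain ⟨b, hb, e⟩ := s.trans i j k (Ne.symm hij) hk
  rw [← s.cj_T (s.B_NV i hb) e] at ht
  obtain ⟨w, hw, rfl⟩ := ht
  change w ∈ TT V (B j) at hw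
  refine ⟨b * w * b⁻¹ * w⁻¹, s.comm_mem_T' (mem_TT.1 hw).2 hb, w, hw, ?_⟩
  change b * w * b⁻¹ = _
  group

/-! ### (3) -/

theorem Y_V {i : ι} {y : G} (hy : y ∈ YY (B i) (C i)) : ∀ v ∈ V, y * v = v * y := fun v hv =>
  (mem_YY.1 hy).2 v (s.V_C i hv)

/-- `Y i` centralises `T j` -/
theorem Y_T {i j : ι} {y t : G} (hy : y ∈ YY (B i) (C i)) (ht : t ∈ TT V (B j)) : y * t = t * y := by
  by_cases hij : i = j
  · subst hij
    exact (mem_YY.1 hy).1 t (TT_le _ _ ht)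
  obtain ⟨b, hb, hbV⟩ := s.exists_move hij
  have hyN := s.nB j (s.cV_le_NR (s.Y_V hy) j)
  have h1 : y * t * y⁻¹ ∈ B j := conj_mem_of_normalizer hyN (TT_le _ _ ht)
  have hbt := s.comm_mem_T' (mem_TT.1 ht).2 hb
  have hyb := (mem_YY.1 hy).1 b hb
  have hyc := (mem_YY.1 hy).1 _ (TT_le _ _ hbt)
  have hu : b * (t⁻¹ * (y * t * y⁻¹)) = t⁻¹ * (y * t * y⁻¹) * b := by
    apply comm_of_comm_eq
    have hyb' : y * b * y⁻¹ = b := by rw [hyb, mul_inv_cancel_right]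
    calc b * (y * t * y⁻¹) * b⁻¹ * (y * t * y⁻¹)⁻¹
        = (y * b * y⁻¹) * (y * t * y⁻¹) * (y * b * y⁻¹)⁻¹ * (y * t * y⁻¹)⁻¹ := by rw [hyb']
      _ = y * (b * t * b⁻¹ * t⁻¹) * y⁻¹ := by group
      _ = b * t * b⁻¹ * t⁻¹ := by rw [hyc, mul_inv_cancel_right]
  have h2 := s.inj hij hb hbV (mul_mem (inv_mem (TT_le _ _ ht)) h1) hu
  rw [inv_mul_eq_one] at h2
  -- `t = y t y⁻¹`
  have : t * y = y * t := by
    calc t * y = y * t * y⁻¹ * y := by rw [← h2]
      _ = y * t := by group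
  exact this.symm

end Side

end Cfsg.Agent.Omega.Mix

end

section


/-!
# A cocycle with values in an elementary abelian 2-section, trivial on a subgroup of odd index,
is a coboundary (elementwise form)
-/

set_option autoImplicit false
set_option linter.style.haveILetI false

namespace Cfsg.Agent.Omega.BTwo.Avg

open Subgroup

variable {G : Type*} [Group G]

/-- Let `X` normalise `Y` and `D`, `Y / D` elementary abelian, `c` an element with `[c, X] ≤ Y` and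
`[c, P] ≤ D` for a subgroup `P` of odd index of `X`. Then `[c y, X] ≤ D` for some `y ∈ Y`. -/
theorem avg [Finite G] {X P Y D : Subgroup G} (hPX : P ≤ X) (hodd : Odd (P.relIndex X)) (hDY : D ≤ Y)
    (hXY : ∀ x ∈ X, ∀ y ∈ Y, x * y * x⁻¹ ∈ Y) (hXD : ∀ x ∈ X, ∀ y ∈ D, x * y * x⁻¹ ∈ D)
    (hYD : ∀ x ∈ Y, ∀ y ∈ D, x * y * x⁻¹ ∈ D) (hY2 : ∀ y ∈ Y, y * y ∈ D) {c : G}
    (hcX : ∀ x ∈ X, c⁻¹ * x * c * x⁻¹ ∈ Y) (hcP : ∀ x ∈ P, c⁻¹ * x * c * x⁻¹ ∈ D) :
    ∃ y ∈ Y, ∀ x ∈ X, (c * y)⁻¹ * x * (c * y) * x⁻¹ ∈ D := by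
  classical
  haveI hN : (D.subgroupOf Y).Normal := ⟨by
    rintro ⟨d, hd⟩ hd' ⟨y, hy⟩
    exact hYD y hy d hd'⟩
  set M := Y ⧸ (D.subgroupOf Y) with hM
  have hMsq : ∀ m : M, m * m = 1 := by
    intro m
    induction m using QuotientGroup.induction_on with
    | H y =>
      rw [← QuotientGroup.mk_mul, QuotientGroup.eq_one_iff]
      exact hY2 y y.2
  have hMinv : ∀ m : M, m⁻¹ = m := fun m => inv_eq_of_mul_eq_one_left (hMsq m)
  letI : CommGroup M :=
    { (inferInstance : Group M) with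
      mul_comm := fun a b => by
        have h1 := hMinv (a * b)
        rw [mul_inv_rev, hMinv, hMinv] at h1
        exact h1.symm }
  -- the cocycle
  let m : X → M := fun x => QuotientGroup.mk ⟨c⁻¹ * x * c * (x : G)⁻¹, hcX x x.2⟩
  let φ : X → M →* M := fun g => QuotientGroup.map (D.subgroupOf Y) (D.subgroupOf Y)
    { toFun := fun y => ⟨g * y * (g : G)⁻¹, hXY g g.2 y y.2⟩
      map_one' := by apply Subtype.ext; change (g : G) * 1 * (g : G)⁻¹ = 1; group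
      map_mul' := by
        intro a b; apply Subtype.ext
        change (g : G) * (a * b) * (g : G)⁻¹ = g * a * (g : G)⁻¹ * (g * b * (g : G)⁻¹); group }
    (by
      rintro ⟨y, hy⟩ hy'
      exact hXD g g.2 y hy')
  have hφ : ∀ (g : X) (y : Y), φ g (QuotientGroup.mk y) =
      QuotientGroup.mk ⟨g * y * (g : G)⁻¹, hXY g g.2 y y.2⟩ := fun g y => rfl
  have hmk : ∀ a b : Y, (QuotientGroup.mk a : M) = QuotientGroup.mk b ↔ (a : G)⁻¹ * b ∈ D := by
    intro a b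
    rw [QuotientGroup.eq]
    rfl
  have hmul : ∀ g x : X, m (g * x) = m g * φ g (m x) := by
    intro g x
    change (QuotientGroup.mk _ : M) = QuotientGroup.mk _ * φ g (QuotientGroup.mk _)
    rw [hφ, ← QuotientGroup.mk_mul]
    congr 1
    apply Subtype.ext
    change c⁻¹ * (g * x) * c * ((g : G) * x)⁻¹ =
      c⁻¹ * g * c * (g : G)⁻¹ * (g * (c⁻¹ * x * c * (x : G)⁻¹) * (g : G)⁻¹)
    group
  have hmP : ∀ (x : X) (p : P.subgroupOf X), m (x * p) = m x := by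
    rintro x ⟨⟨p, hpX⟩, hp⟩
    have hp' : p ∈ P := hp
    symm
    change (QuotientGroup.mk _ : M) = QuotientGroup.mk _
    rw [hmk]
    change (c⁻¹ * x * c * (x : G)⁻¹)⁻¹ * (c⁻¹ * (x * p) * c * ((x : G) * p)⁻¹) ∈ D
    have e : (c⁻¹ * x * c * (x : G)⁻¹)⁻¹ * (c⁻¹ * (x * p) * c * ((x : G) * p)⁻¹) =
        x * (c⁻¹ * p * c * p⁻¹) * (x : G)⁻¹ := by group
    rw [e]
    exact hXD x x.2 _ (hcP p hp')
  let F : X ⧸ (P.subgroupOf X) → M := Quotient.lift m (by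
    intro a b hab
    have h1 : a⁻¹ * b ∈ P.subgroupOf X := QuotientGroup.leftRel_apply.1 hab
    have h2 := hmP a ⟨_, h1⟩
    change m (a * (a⁻¹ * b)) = m a at h2
    rw [mul_inv_cancel_left] at h2
    exact h2.symm)
  have hF : ∀ x : X, F (QuotientGroup.mk x) = m x := fun x => rfl
  haveI : Fintype (X ⧸ (P.subgroupOf X)) := Fintype.ofFinite _
  let y₀ : M := ∏ q : X ⧸ (P.subgroupOf X), F q
  have hcard : Odd (Fintype.card (X ⧸ (P.subgroupOf X))) := by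
    rw [← Nat.card_eq_fintype_card]; exact hodd
  have hpow : ∀ a : M, a ^ Fintype.card (X ⧸ (P.subgroupOf X)) = a := by
    intro a
    obtain ⟨k, hk⟩ := hcard
    rw [hk, pow_succ, pow_mul, pow_two, hMsq, one_pow, one_mul]
  have key : ∀ g : X, y₀ = m g * φ g y₀ := by
    intro g
    have h1 : y₀ = ∏ q : X ⧸ (P.subgroupOf X), F (g • q) :=
      (Equiv.prod_comp (MulAction.toPerm g) F).symm
    have h2 : ∀ q : X ⧸ (P.subgroupOf X), F (g • q) = m g * φ g (F q) := by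
      intro q
      induction q using QuotientGroup.induction_on with
      | H x =>
        rw [hF]
        exact hmul g x
    calc y₀ = ∏ q : X ⧸ (P.subgroupOf X), F (g • q) := h1
      _ = ∏ q : X ⧸ (P.subgroupOf X), (m g * φ g (F q)) := Finset.prod_congr rfl fun q _ => h2 q
      _ = _ := by rw [Finset.prod_mul_distrib, Finset.prod_const, Finset.card_univ, hpow, ← map_prod]
  obtain ⟨y, hy⟩ := QuotientGroup.mk_surjective y₀
  refine ⟨y, y.2, fun x hx => ?_⟩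
  have h1 := key ⟨x, hx⟩
  rw [← hy, hφ] at h1
  change (QuotientGroup.mk _ : M) = QuotientGroup.mk _ * QuotientGroup.mk _ at h1
  rw [← QuotientGroup.mk_mul, hmk] at h1
  change (y : G)⁻¹ * (c⁻¹ * x * c * x⁻¹ * (x * y * x⁻¹)) ∈ D at h1
  have e : (c * y)⁻¹ * x * (c * y) * x⁻¹ = (y : G)⁻¹ * (c⁻¹ * x * c * x⁻¹ * (x * y * x⁻¹)) := by group
  rw [e]
  exact h1

end Cfsg.Agent.Omega.BTwo.Avg

end

section


/-!
Quadratic pairs give vector spaces: abstract form of (4) end of bb OMEGA #10337.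

`A1, A2` abelian groups, `w1 a` acts as `(u1,u2) ↦ (u1 + φ1 a u2, u2)`, `w2 a` as
`(u1,u2) ↦ (u1, u2 + φ2 a u1)`, additive in `a`; the words `n a = w1 a w2 a⁻¹ w1 a` are antidiagonal
and `n a n 1` normalises `w1`.  Then `A1` is a vector space over `F`.
-/

set_option autoImplicit false

namespace Cfsg.Agent.Omega.BTwo

/-- the purely additive core -/
structure QuadAdd (F : Type*) [Field F] (M1 M2 : Type*) [AddCommGroup M1] [AddCommGroup M2] where
  φ1 : F → M2 →+ M1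
  φ2 : F → M1 →+ M2
  add1 : ∀ a b, φ1 (a + b) = φ1 a + φ1 b
  zero2 : φ2 0 = 0
  two : ∀ x : M1, x + x = 0
  inv12 : ∀ a, a ≠ 0 → ∀ x, φ1 a (φ2 a⁻¹ x) = x
  inv21 : ∀ a, a ≠ 0 → ∀ x, φ2 a⁻¹ (φ1 a x) = x
  tor : ∀ a b, a ≠ 0 → ∀ x, φ1 a (φ2 1 (φ1 b (φ2 1 (φ1 a x)))) = φ1 (a ^ 2 * b) x

namespace QuadAdd

variable {F : Type*} [Field F] {M1 M2 : Type*} [AddCommGroup M1] [AddCommGroup M2]
  (q : QuadAdd F M1 M2)

/-- the scalar `a` -/
def f (a : F) : M1 →+ M1 := (q.φ1 a).comp (q.φ2 1)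

theorem f_apply (a : F) (x : M1) : q.f a x = q.φ1 a (q.φ2 1 x) := rfl

theorem φ1_zero : q.φ1 0 = 0 := by
  have := q.add1 0 0
  rw [add_zero] at this
  exact left_eq_add.1 this

theorem f_add (a b : F) (x : M1) : q.f (a + b) x = q.f a x + q.f b x := by
  rw [f_apply, f_apply, f_apply, q.add1]; rfl

theorem f_zero (x : M1) : q.f 0 x = 0 := by rw [f_apply, q.φ1_zero]; rfl

theorem f_one (x : M1) : q.f 1 x = x := by
  have := q.inv12 1 one_ne_zero x
  rwa [inv_one] at this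

theorem f_tri (a b : F) (x : M1) : q.f a (q.f b (q.f a x)) = q.f (a ^ 2 * b) x := by
  by_cases ha : a = 0
  · subst ha
    rw [q.f_zero, zero_pow two_ne_zero, zero_mul, q.f_zero]
  · exact q.tor a b ha (q.φ2 1 x)

theorem f_sq (a : F) (x : M1) : q.f a (q.f a x) = q.f (a ^ 2) x := by
  have := q.f_tri a 1 x
  rwa [q.f_one, mul_one] at this

theorem f_sym [CharP F 2] (a b c : F) (x : M1) :
    q.f a (q.f c (q.f b x)) = q.f b (q.f c (q.f a x)) := by
  have h := q.f_tri (a + b) c x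
  have e : (a + b) ^ 2 * c = a ^ 2 * c + b ^ 2 * c := by
    rw [add_sq, mul_comm 2 a, mul_assoc, CharTwo.two_eq_zero (R := F)]; ring
  rw [e, q.f_add, q.f_add, q.f_add, ← q.f_tri a c x, ← q.f_tri b c x, map_add, map_add, map_add] at h
  have h2 := q.two
  -- h : A + B + (C + D) = A + D
  have h3 : q.f a (q.f c (q.f b x)) + q.f b (q.f c (q.f a x)) = 0 := by
    have := h
    have e2 : q.f a (q.f c (q.f a x)) + q.f a (q.f c (q.f b x)) +
        (q.f b (q.f c (q.f a x)) + q.f b (q.f c (q.f b x))) =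
        (q.f a (q.f c (q.f a x)) + q.f b (q.f c (q.f b x))) +
        (q.f a (q.f c (q.f b x)) + q.f b (q.f c (q.f a x))) := by abel
    rw [e2] at this
    exact left_eq_add.1 this.symm
  have h4 := h2 (q.f b (q.f c (q.f a x)))
  calc q.f a (q.f c (q.f b x)) = q.f a (q.f c (q.f b x)) +
        (q.f b (q.f c (q.f a x)) + q.f b (q.f c (q.f a x))) := by rw [h4, add_zero]
    _ = (q.f a (q.f c (q.f b x)) + q.f b (q.f c (q.f a x))) + q.f b (q.f c (q.f a x)) := by abel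
    _ = q.f b (q.f c (q.f a x)) := by rw [h3, zero_add]

theorem f_comm [CharP F 2] (a b : F) (x : M1) : q.f a (q.f b x) = q.f b (q.f a x) := by
  have := q.f_sym a b 1 x
  rwa [q.f_one, q.f_one] at this

theorem f_mul [CharP F 2] (hperf : ∀ a : F, ∃ b, b ^ 2 = a) (a b : F) (x : M1) :
    q.f (a * b) x = q.f a (q.f b x) := by
  obtain ⟨c, rfl⟩ := hperf a
  rw [← q.f_tri c b x, ← q.f_sq c, q.f_comm b c x]

/-- the vector space structure on `M1` -/
@[reducible]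
def module [CharP F 2] (hperf : ∀ a : F, ∃ b, b ^ 2 = a) : Module F M1 where
  smul a x := q.f a x
  one_smul x := q.f_one x
  mul_smul a b x := q.f_mul hperf a b x
  smul_zero a := map_zero (q.f a)
  smul_add a x y := map_add (q.f a) x y
  add_smul a b x := q.f_add a b x
  zero_smul x := q.f_zero x

/-- the identification `M2 → M1` -/
def ι2 : M2 →+ M1 := q.φ1 1

theorem ι2_bij : Function.Bijective q.ι2 := by
  constructor
  · intro x y h
    have h1 := q.inv21 1 one_ne_zero x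
    have h2 := q.inv21 1 one_ne_zero y
    rw [← h1, ← h2]
    exact congrArg _ h
  · intro x
    exact ⟨q.φ2 1⁻¹ x, q.inv12 1 one_ne_zero x⟩

theorem φ1_eq (a : F) (x : M2) : q.φ1 a x = q.f a (q.ι2 x) := by
  rw [f_apply, ι2]
  have := q.inv21 1 one_ne_zero x
  rw [inv_one] at this
  rw [this]

theorem ι2_φ2 [CharP F 2] (hperf : ∀ a : F, ∃ b, b ^ 2 = a) (a : F) (x : M1) :
    q.ι2 (q.φ2 a x) = q.f a x := by
  by_cases ha : a = 0
  · subst ha
    rw [q.zero2, q.f_zero]; exact map_zero _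
  -- φ2 a x = y with φ1 a⁻¹ y = x
  have h1 := q.inv12 a⁻¹ (inv_ne_zero ha) x
  rw [inv_inv, q.φ1_eq] at h1
  -- f a⁻¹ (ι2 (φ2 a x)) = x
  have h2 : q.f a (q.f a⁻¹ (q.ι2 (q.φ2 a x))) = q.f a x := by rw [h1]
  rw [← q.f_mul hperf, mul_inv_cancel₀ ha, q.f_one] at h2
  exact h2

end QuadAdd

end Cfsg.Agent.Omega.BTwo

end

private theorem dce_b7bd7c2cd6ec : _root_.True := by
  try have : _root_.True := by simp only [_root_.Cfsg.Agent.Omega.Mix.YY.eq_1]
  try have : _root_.True := by simp only [_root_.Cfsg.Agent.Omega.BTwo.QuadAdd.ι2.eq_1]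
  try have : _root_.True := by simp only [_root_.Cfsg.Agent.Omega.Mix.TT.eq_1]
  try have : _root_.True := by simp only [_root_.Cfsg.Agent.Omega.BTwo.WW.eq_1]
  exact _root_.True.intro
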