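import Cfsg.Agent.Mrg.Omega.Lie.TorD
import Cfsg.Agent.Lib.NormalAbelian
import Cfsg.Agent.Mrg.ParSys.Par
import Cfsg.Agent.Mrg.ParSys.Core
import Cfsg.Agent.FastGrp
import Cfsg.Agent.Prune
set_option linter.all false

section
prune_inst 0x7ffcfefbaffcbddfffff7ffffffddffffdfcfffffffffffbffedfbffffff6be7ffe5fbaffffcdaffdff6e39eb4f87b53fdffc23fef6bdd7ffffd5ff45ffbfe1fffffbfad71f7bc3e1ffe6ffffbf37fae7f3fffffffffffffffffffffffffffffffffffffffff

-- part: Mrg/Omega/BTwo/Split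
section
prune_inst 0x10000000200000000000000000000010000000000000002040000000000000a0000000004002000000000000000000021000000000000000000000401800000000000080080000010000008000000000000000000000000000000000000000000000000
set_option linter.all false
open scoped Cfsg.Agent.FastGrp

section


/-!
# II.0h1, split case: #11929 (1), (2), (3), (5), `C_D(X) ≠ 1` allowed, field-free

`V` is the natural part `[V_P, E]`, `R i` its points.  `BTS` is `BTC` without the field `meet`.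
`C_X = C(X)`, `Z i = Z(W i)`.
-/

set_option autoImplicit false

namespace Cfsg.Agent.Omega.BTwo

open Subgroup

variable {G : Type*} [Group G] {ι : Type*}

/-- `b = 2`; no 2-subgroup `≠ 1` is normalised by `N(V)` and `N(R i)`; `C(Q i) ≤ Q i`.  Here
`C_D(X) ≠ 1` is allowed. -/
structure BTS (V : Subgroup G) (R : ι → Subgroup G) : Prop extends BT V R where
  nonloc : ∀ i, ∀ T : Subgroup G, IsPGroup 2 T → T ≤ normalizer (V : Set G) → T ≤ normalizer (R i : Set G) →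
    normalizer (V : Set G) ≤ normalizer (T : Set G) →
    normalizer (R i : Set G) ≤ normalizer (T : Set G) → T = ⊥
  cenQ : ∀ i, normalizer (R i : Set G) ⊓ centralizer (QQ (R i) : Set G) ≤ QQ (R i)

/-- `Z i = Z(W i)` -/
def ZZ (V : Subgroup G) (R : ι → Subgroup G) (i : ι) : Subgroup G :=
  WW V (R i) ⊓ centralizer (WW V (R i) : Set G)

/-- `C_X = C(X)` -/
abbrev CenX (V : Subgroup G) (R : ι → Subgroup G) : Subgroup G := centralizer (XX V R : Set G)

variable {V : Subgroup G} {R : ι → Subgroup G}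

theorem BTC.toBTS (b : BTC V R) : BTS V R where
  toBT := b.toBT
  nonloc := b.nonloc
  cenQ := b.cenQ

section

variable (b : BT V R)
include b

/-- the swap argument, general form -/
theorem BT.swap_exists {i j : ι} (hij : i ≠ j) {c : G} (hc : c ∈ centralizer (WW V (R i) : Set G))
    (hX : ∀ x ∈ XX V R, x * c * x⁻¹ * c⁻¹ ∈ V) : ∃ a ∈ R i, a * c ∈ CenX V R := by
  obtain ⟨n, hn, e1, -⟩ := b.trans_X hij (Ne.symm hij)
  obtain ⟨a, ha, a', ha', e⟩ := b.exists_mul hij (hX n hn)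
  have h1 : n * c * n⁻¹ ∈ centralizer (WW V (R j) : Set G) := by
    rw [← b.cj_WW e1, centralizer_cj]
    exact conj_mem_cj hc
  have h2 : a * c ∈ centralizer (WW V (R i) : Set G) := mul_mem (b.R_cen_W i ha) hc
  have h3 : a * c ∈ centralizer (WW V (R j) : Set G) := by
    have h4 : a * c = a'⁻¹ * (n * c * n⁻¹) := by
      have h5 := b.V_comm a (b.R_le i ha) a' (b.R_le j ha')
      calc a * c = a'⁻¹ * (a' * a) * c := by group
        _ = a'⁻¹ * (n * c * n⁻¹ * c⁻¹) * c := by rw [← h5, ← e]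
        _ = a'⁻¹ * (n * c * n⁻¹) := by group
    rw [h4]
    exact mul_mem (inv_mem (b.R_cen_W j ha')) h1
  exact ⟨a, ha, b.mem_cen_X hij h2 h3⟩

/-- `N(V)` normalises `C_X` -/
theorem BT.NV_le_NCenX : normalizer (V : Set G) ≤ normalizer (CenX V R : Set G) :=
  b.NV_le_NX.trans (normalizer_le_normalizer_centralizer _)

theorem BT.CenX_le_cen : CenX V R ≤ centralizer (V : Set G) := by
  obtain ⟨i⟩ := b.nonempty
  exact (cen_X_le i).trans (cen_W_le V (R i))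

theorem BT.CenX_inf_V : CenX V R ⊓ V = ⊥ := by
  rw [eq_bot_iff_forall]
  rintro x ⟨h1, h2⟩
  exact b.cen_VX h2 h1

/-- `Z i ∩ Z j = C_D(X)` -/
theorem BT.ZZ_inf {i j : ι} (hij : i ≠ j) : ZZ V R i ⊓ ZZ V R j = DD V R ⊓ CenX V R := by
  apply le_antisymm
  · rintro z ⟨⟨h1, h2⟩, h3, h4⟩
    refine ⟨?_, b.mem_cen_X hij h2 h4⟩
    rw [b.D_eq' hij]
    exact ⟨h1, h3⟩
  · rintro z ⟨h1, h2⟩
    exact ⟨⟨D_le_W V R i h1, cen_X_le i h2⟩, D_le_W V R j h1, cen_X_le j h2⟩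

theorem BT.R_le_Z (i : ι) : R i ≤ ZZ V R i :=
  le_inf ((b.R_le i).trans (V_le_WW V (R i))) (b.R_cen_W i)

end

section BTS

variable (b : BTS V R)
include b

/-- **(1)** `C_D(W i) ≤ R i · C_D(X)` -/
theorem BTS.cen_DW {i : ι} {d : G} (hd : d ∈ DD V R) (h : d ∈ centralizer (WW V (R i) : Set G)) :
    ∃ a ∈ R i, a * d ∈ DD V R ⊓ CenX V R := by
  obtain ⟨j, hj, -⟩ := b.third i i
  obtain ⟨a, ha, hX⟩ := b.swap_exists (Ne.symm hj) h (fun x hx => b.XD hx hd)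
  exact ⟨a, ha, mul_mem (V_le_D V R (b.R_le i ha)) hd, hX⟩

/-- `C_D(U i) ≤ V · C_D(X)` -/
theorem BTS.cen_DU {i : ι} {d : G} (hd : d ∈ DD V R) (hU : ∀ u ∈ UU V R i, d * u = u * d) :
    ∃ v ∈ V, v * d ∈ DD V R ⊓ CenX V R := by
  obtain ⟨v, hv, hc⟩ := b.cen_U (b.W_le_Q i (D_le_W V R i hd)) hU
  obtain ⟨a, ha, h1⟩ := b.cen_DW (mul_mem (inv_mem (V_le_D V R hv)) hd) hc
  refine ⟨a * v⁻¹, mul_mem (b.R_le i ha) (inv_mem hv), ?_⟩
  rwa [mul_assoc]

/-- `λ` is injective on `D / V C_D(X)` -/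
theorem BTS.lam_inj {d : G} (hd : d ∈ DD V R) (h : ∀ y ∈ YY V R, d * y * d⁻¹ * y⁻¹ = 1) :
    ∃ v ∈ V, v * d ∈ DD V R ⊓ CenX V R := by
  obtain ⟨i⟩ := b.nonempty
  refine b.cen_DU (i := i) hd fun u hu => ?_
  have := h u (UU_le_YY i hu)
  rwa [mul_inv_eq_one, mul_inv_eq_iff_eq_mul] at this

/-- `[C(W i), U j] ≤ D ∩ C(W i)` -/
theorem BTS.cen_W_U {i j : ι} (hij : i ≠ j) {c u : G} (hc : c ∈ centralizer (WW V (R i) : Set G))
    (hu : u ∈ UU V R j) : c * u * c⁻¹ * u⁻¹ ∈ DD V R ⊓ centralizer (WW V (R i) : Set G) := by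
  have hcV := cen_W_le V (R i) hc
  have huV := UU_le_cen j hu
  have hc2 := conj_mem_of_normalizer (normalizer_le_normalizer_centralizer _ (b.cen_le_NW i huV)) (inv_mem hc)
  have e : c * u * c⁻¹ * u⁻¹ = c * (u * c⁻¹ * u⁻¹) := by group
  have h1 : c * u * c⁻¹ * u⁻¹ ∈ centralizer (WW V (R i) : Set G) := by
    rw [e]
    exact mul_mem hc hc2
  have h2 : c * u * c⁻¹ * u⁻¹ ∈ UU V R j :=
    mul_mem (conj_mem_of_normalizer (b.cen_le_NU j hcV) hu) (inv_mem hu)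
  refine ⟨?_, h1⟩
  rw [← b.UK hij]
  exact mem_inf.2 ⟨h2, b.cen_W_le_K i h1⟩

/-- odd order elements of `C(W i)` centralise `W j` -/
theorem BTS.odd_cen {i j : ι} (hij : i ≠ j) {c : G} (hc : c ∈ centralizer (WW V (R i) : Set G))
    (ho : Odd (orderOf c)) : c ∈ centralizer (WW V (R j) : Set G) := by
  have h1 : ∀ u ∈ UU V R j, c * u = u * c := by
    intro u hu
    have h := (b.cen_W_U hij hc hu).1
    refine comm_of_odd ho ((b.W_isPGroup i).to_le (D_le_W V R i)) h ?_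
    exact (mem_centralizer_iff.1 hc _ (D_le_W V R i h)).symm
  rw [mem_centralizer_iff]
  intro w hw
  have h := b.cen_W_W hc hw
  exact (comm_of_odd ho (b.U_isPGroup j) h (h1 _ h)).symm

theorem BTS.LL_eq (i j : ι) : LL V R i = LL V R j := by
  have key : ∀ i j : ι, i ≠ j → LL V R i ≤ LL V R j := fun i j hij =>
    closure_mono fun c hc => ⟨b.odd_cen hij hc.1 hc.2, hc.2⟩
  by_cases h : i = j
  · rw [h]
  · exact le_antisymm (key i j h) (key j i (Ne.symm h))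

theorem BTS.cj_LL {g : G} {i j : ι} (h : cj g (R i) = R j) : cj g (LL V R i) = LL V R j := by
  have key : ∀ (g : G) (i j : ι), cj g (R i) = R j → cj g (LL V R i) ≤ LL V R j := by
    intro g i j h
    rw [cj, map_le_iff_le_comap, LL, closure_le]
    rintro c ⟨hc, ho⟩
    refine subset_closure ⟨?_, ?_⟩
    · rw [← b.cj_WW h, centralizer_cj]
      exact conj_mem_cj hc
    · exact ((orderOf_injective (MulAut.conj g).toMonoidHom (MulAut.conj g).injective c).symm ▸ ho :)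
  apply le_antisymm (key g i j h)
  have h' : cj g⁻¹ (R j) = R i := by rw [← h, cj_inv_cj]
  have h3 := cj_mono (g := g) (key g⁻¹ j i h')
  rwa [cj_cj_inv] at h3

/-- **(2)** `C(W i)` is a 2-group -/
theorem BTS.cen_W_isPGroup [Finite G] (i : ι) : IsPGroup 2 (centralizer (WW V (R i) : Set G)) := by
  have hLV : LL V R i ≤ centralizer (V : Set G) := (LL_le i).trans (cen_W_le V (R i))
  have hLN : LL V R i ≤ normalizer (R i : Set G) := hLV.trans (b.cen_le_N i)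
  have h1 : normalizer (V : Set G) ≤ normalizer (LL V R i : Set G) := by
    intro g hg
    obtain ⟨j, hj⟩ := b.perm g hg i
    rw [← cj_eq_self_iff, b.cj_LL hj, b.LL_eq]
  have h2 : normalizer (R i : Set G) ≤ normalizer (LL V R i : Set G) := by
    intro g hg
    rw [← cj_eq_self_iff, b.cj_LL (cj_eq_self_iff.2 hg)]
  have h3 : normalizer (LL V R i : Set G) ≤ normalizer (O2 (LL V R i) : Set G) := by
    intro g hg
    rw [← cj_eq_self_iff] at hg ⊢
    rw [cj_O2, hg]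
  have h4 : O2 (LL V R i) = ⊥ := b.nonloc i _ (O2_isPGroup _) ((O2_le _).trans (hLV.trans (cen_le_NV V)))
    ((O2_le _).trans hLN) (h1.trans h3) (h2.trans h3)
  have hQ := le_normalizer_O2 (normalizer (R i : Set G))
  have h5 : LL V R i ≤ centralizer (QQ (R i) : Set G) := by
    intro l hl
    rw [mem_centralizer_iff]
    intro q hq
    have k1 : q * l * q⁻¹ * l⁻¹ ∈ LL V R i :=
      mul_mem (conj_mem_of_normalizer (h2 (b.Q_le i hq)) hl) (inv_mem hl)
    have k2 : q * l * q⁻¹ * l⁻¹ ∈ QQ (R i) := by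
      have e : q * l * q⁻¹ * l⁻¹ = q * (l * q⁻¹ * l⁻¹) := by group
      rw [e]
      exact mul_mem hq (conj_mem_of_normalizer (hQ (hLN hl)) (inv_mem hq))
    have k3 : LL V R i ⊓ QQ (R i) ≤ O2 (LL V R i) := by
      refine le_O2_of_normal inf_le_left ((O2_isPGroup _).to_le inf_le_right) ?_
      intro g hg a ha
      exact mem_inf.2 ⟨mul_mem (mul_mem hg ha.1) (inv_mem hg), conj_mem_of_normalizer (hQ (hLN hg)) ha.2⟩
    have k4 : q * l * q⁻¹ * l⁻¹ ∈ O2 (LL V R i) := k3 (mem_inf.2 ⟨k1, k2⟩)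
    rw [h4, mem_bot, mul_inv_eq_one, mul_inv_eq_iff_eq_mul] at k4
    exact k4
  have h6 : LL V R i ≤ QQ (R i) := fun l hl => b.cenQ i (mem_inf.2 ⟨hLN hl, h5 hl⟩)
  refine isPGroup_of_odd fun c hc ho => ?_
  have h7 : c ∈ QQ (R i) := h6 (subset_closure ⟨hc, ho⟩)
  obtain ⟨n, hn⟩ := O2_isPGroup _ (⟨c, h7⟩ : QQ (R i))
  have hn' : c ^ 2 ^ n = 1 := congrArg Subtype.val hn
  have hd := Nat.dvd_gcd (dvd_refl (orderOf c)) (orderOf_dvd_of_pow_eq_one hn')
  have hco : Nat.gcd (orderOf c) (2 ^ n) = 1 := (Nat.coprime_two_right.2 ho).pow_right n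
  rw [hco, Nat.dvd_one, orderOf_eq_one_iff] at hd
  exact hd

/-- **(2)** `K i` is a 2-group, `= Q i` -/
theorem BTS.K_eq [Finite G] (i : ι) : KK V R i = QQ (R i) := by
  apply le_antisymm _ (b.Q_le_K i)
  refine le_O2_of_normal (KK_le_N i) ?_ fun g hg c hc => conj_mem_of_normalizer (b.N_le_NK i hg) hc
  refine isPGroup_of_odd fun c hc ho => ?_
  have h1 : c ∈ centralizer (WW V (R i) : Set G) := by
    rw [mem_centralizer_iff]
    intro w hw
    have h := hc.2 w hw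
    have h2 := b.KR i hc h
    rw [mul_inv_eq_iff_eq_mul] at h2
    exact (comm_of_odd ho ((b.W_isPGroup i).to_le ((b.R_le i).trans (V_le_WW V (R i)))) h h2).symm
  obtain ⟨n, hn⟩ := b.cen_W_isPGroup i ⟨c, h1⟩
  have hn' : c ^ 2 ^ n = 1 := congrArg Subtype.val hn
  have hd := Nat.dvd_gcd (dvd_refl (orderOf c)) (orderOf_dvd_of_pow_eq_one hn')
  have hco : Nat.gcd (orderOf c) (2 ^ n) = 1 := (Nat.coprime_two_right.2 ho).pow_right n
  rw [hco, Nat.dvd_one, orderOf_eq_one_iff] at hd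
  exact hd

theorem BTS.cen_W_le_Q [Finite G] (i : ι) : centralizer (WW V (R i) : Set G) ≤ QQ (R i) := by
  rw [← b.K_eq i]
  exact b.cen_W_le_K i

/-- `C_X` is a 2-group -/
theorem BTS.CenX_isPGroup [Finite G] : IsPGroup 2 (CenX V R) := by
  obtain ⟨i⟩ := b.nonempty
  exact (b.cen_W_isPGroup i).to_le (cen_X_le i)

/-- `C_X ≤ Q_1 ∩ Q_2` -/
theorem BTS.CenX_le_C [Finite G] : CenX V R ≤ CC R := le_iInf fun i => (cen_X_le i).trans (b.cen_W_le_Q i)

/-! ### (3) -/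

/-- `C(W i) ∩ Q j ≤ R i · C_X` -/
theorem BTS.cen_W_Q [Finite G] {i j : ι} (hij : i ≠ j) {c : G}
    (hc : c ∈ centralizer (WW V (R i) : Set G)) (hj : c ∈ QQ (R j)) : ∃ a ∈ R i, a * c ∈ CenX V R := by
  refine b.swap_exists hij hc fun x hx => b.CX hx ?_
  rw [b.C_eq hij]
  exact mem_inf.2 ⟨b.cen_W_le_Q i hc, hj⟩

/-- **(3)** `C_{Q_1 ∩ Q_2}(W i) ≤ R i · C_X` -/
theorem BTS.cen_CW [Finite G] {i : ι} {x : G} (hx : x ∈ CC R)
    (h : x ∈ centralizer (WW V (R i) : Set G)) : ∃ a ∈ R i, a * x ∈ CenX V R := by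
  obtain ⟨j, hj, -⟩ := b.third i i
  exact b.cen_W_Q (Ne.symm hj) h (mem_iInf.1 hx j)

/-- **(3)** `C_{Q_1 ∩ Q_2}(U i) ≤ V · C_X` -/
theorem BTS.cen_CU [Finite G] {i : ι} {x : G} (hx : x ∈ CC R) (hU : ∀ u ∈ UU V R i, x * u = u * x) :
    ∃ v ∈ V, v * x ∈ CenX V R := by
  obtain ⟨v, hv, hc⟩ := b.cen_U (mem_iInf.1 hx i) hU
  obtain ⟨a, ha, h1⟩ := b.cen_CW (mul_mem (inv_mem (b.V_le_C hv)) hx) hc
  refine ⟨a * v⁻¹, mul_mem (b.R_le i ha) (inv_mem hv), ?_⟩
  rwa [mul_assoc]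

/-- **(3)** squares of elements of `Q_1 ∩ Q_2` are in `C_X` -/
theorem BTS.C_sq [Finite G] {x : G} (hx : x ∈ CC R) : x * x ∈ CenX V R := by
  obtain ⟨i, j, hij⟩ := b.exists_pair
  have key : ∀ k, x * x ∈ centralizer (WW V (R k) : Set G) := by
    intro k
    rw [mem_centralizer_iff]
    intro w hw
    have hxk : x ∈ QQ (R k) := (mem_iInf.1 hx) k
    have h1 := b.WQ k hxk hw
    have h2 := b.conj_R hxk h1
    have e : x * x * w * (x * x)⁻¹ * w⁻¹ =
        x * (x * w * x⁻¹ * w⁻¹) * x⁻¹ * (x * w * x⁻¹ * w⁻¹) := by group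
    rw [h2, b.V_sq _ (b.R_le k h1), mul_inv_eq_one, mul_inv_eq_iff_eq_mul] at e
    exact e.symm
  exact b.mem_cen_X hij (key i) (key j)

/-- commutators of elements of `Q_1 ∩ Q_2` are in `C_X` -/
theorem BTS.C_comm [Finite G] {x y : G} (hx : x ∈ CC R) (hy : y ∈ CC R) :
    x * y * x⁻¹ * y⁻¹ ∈ CenX V R := by
  have hN := b.NV_le_NCenX (cen_le_NV V (b.C_le_cen hy))
  have h1 := b.C_sq (mul_mem hx hy)
  have h2 := inv_mem (b.C_sq hx)
  have h3 := inv_mem (b.C_sq hy)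
  have h4 := conj_inv_mem_of_normalizer hN h2
  have e : x * y * x⁻¹ * y⁻¹ = (x * y * (x * y)) * (y⁻¹ * (x * x)⁻¹ * y) * (y * y)⁻¹ := by group
  rw [e]
  exact mul_mem (mul_mem h1 h4) h3

/-- `[Q_1 ∩ Q_2, D] = 1` -/
theorem BTS.C_D [Finite G] {x d : G} (hx : x ∈ CC R) (hd : d ∈ DD V R) : x * d = d * x := by
  have h : x * d * x⁻¹ * d⁻¹ = 1 :=
    b.eq_one_of_forall fun i => b.WQ i (mem_iInf.1 hx i) (D_le_W V R i hd)
  rwa [mul_inv_eq_one, mul_inv_eq_iff_eq_mul] at h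

omit b in
/-- `Z i` is normalised by `N(R i)` -/
theorem N_le_NZ (i : ι) : normalizer (R i : Set G) ≤ normalizer (ZZ V R i : Set G) := by
  intro g hg
  have h := normalizer_le_WW V (R i) hg
  rw [← cj_eq_self_iff, ZZ, cj_inf, ← centralizer_cj, cj_eq_self_iff.2 h]

theorem BTS.cj_ZZ {g : G} {i j : ι} (h : cj g (R i) = R j) : cj g (ZZ V R i) = ZZ V R j := by
  rw [ZZ, cj_inf, ← centralizer_cj, b.cj_WW h]
  rfl

end BTS

end Cfsg.Agent.Omega.BTwo

end

section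


/-!
# II.0h1, split case: #11929 (4), (5): `C(W i) = Z(W i) C(X)` (`q ≥ 4`), `C(W i)` is abelian
-/

set_option autoImplicit false

namespace Cfsg.Agent.Omega.BTwo

open Subgroup
open scoped commutatorElement

variable {G : Type*} [Group G] {ι : Type*}

/-- **(4)**, abstract: as `RadAbs.cent_le`, without a hypothesis on `C_E(W)`. -/
theorem cent_split [Finite G] {p : ℕ} (hp : p.Prime) (hp2 : p ≠ 2) {W U V D E C : Subgroup G} {τ : G} {k : ℕ}
    (hC : ∀ c, c ∈ C ↔ ∀ w ∈ W, c * w = w * c) (hC2 : IsPGroup 2 C)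
    (hUW : U ≤ W) (hVD : V ≤ D) (hDW : D ≤ W) (hDE : D ≤ E)
    (hEV : ∀ e ∈ E, ∀ v ∈ V, e * v = v * e) (hEW : ∀ e ∈ E, ∀ w ∈ W, e * w * e⁻¹ ∈ W)
    (hτ : τ ^ p ^ k = 1) (hτW : ∀ w ∈ W, τ * w * τ⁻¹ ∈ W)
    (hτE : ∀ e ∈ E, τ * e * τ⁻¹ * e⁻¹ ∈ V) (hfpf : ∀ u ∈ U, τ * u * τ⁻¹ * u⁻¹ ∈ D → u ∈ D)
    (hy : ∀ c ∈ C, ∃ y ∈ U, c * y ∈ E) : ∀ c ∈ C, ∃ m ∈ C ⊓ W, c * m ∈ E := by
  have hτC : ∀ c ∈ C, τ * c * τ⁻¹ ∈ C := by
    intro c hc
    rw [hC] at hc ⊢
    intro w hw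
    have hmap : (W.map (MulAut.conj τ).toMonoidHom) = W := by
      refine eq_of_le_of_card_ge ?_
        (Nat.card_congr (W.equivMapOfInjective _ (MulAut.conj τ).injective).toEquiv.symm).ge
      rintro _ ⟨m, hm, rfl⟩
      exact hτW m hm
    rw [← hmap] at hw
    obtain ⟨w', hw', rfl⟩ := hw
    change τ * c * τ⁻¹ * (τ * w' * τ⁻¹) = τ * w' * τ⁻¹ * (τ * c * τ⁻¹)
    calc τ * c * τ⁻¹ * (τ * w' * τ⁻¹) = τ * (c * w') * τ⁻¹ := by group
      _ = τ * (w' * c) * τ⁻¹ := by rw [hc w' hw']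
      _ = _ := by group
  have hcomp : ∀ c ∈ C, ∀ y ∈ U, c * y ∈ E →
      ∃ v ∈ V, τ * c * τ⁻¹ * c⁻¹ = v * ((c * y) * (τ * y⁻¹ * τ⁻¹ * y⁻¹⁻¹) * (c * y)⁻¹) := by
    intro c hc y hy hE
    refine ⟨_, hτE _ hE, ?_⟩
    group
  have h1 : ∀ c ∈ C, τ * c * τ⁻¹ * c⁻¹ ∈ C ⊓ W := by
    intro c hc
    obtain ⟨y, hyU, hyE⟩ := hy c hc
    obtain ⟨v, hv, e⟩ := hcomp c hc y hyU hyE
    refine ⟨C.mul_mem (hτC c hc) (C.inv_mem hc), ?_⟩
    rw [e]
    refine mul_mem (hDW (hVD hv)) (hEW _ hyE _ ?_)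
    exact W.mul_mem (hτW _ (W.inv_mem (hUW hyU))) (W.inv_mem (W.inv_mem (hUW hyU)))
  intro c hc
  have h2 : c⁻¹ * τ * c * τ⁻¹ ∈ C ⊓ W := by
    have e2 : c⁻¹ * τ * c * τ⁻¹ = c⁻¹ * (τ * c * τ⁻¹ * c⁻¹) * c := by group
    rw [e2]
    have h4 := h1 c hc
    refine ⟨C.mul_mem (C.mul_mem (C.inv_mem hc) h4.1) hc, ?_⟩
    have h5 := (hC c).1 hc _ h4.2
    have e3 : c⁻¹ * (τ * c * τ⁻¹ * c⁻¹) * c = τ * c * τ⁻¹ * c⁻¹ := by
      rw [mul_assoc, ← h5]; group
    rw [e3]; exact h4.2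
  have hτM : ∀ m ∈ C ⊓ W, τ * m * τ⁻¹ ∈ C ⊓ W := fun m hm => ⟨hτC m hm.1, hτW m hm.2⟩
  have hy' : (c⁻¹ * τ * c) ^ p ^ k = 1 := by
    have e : c⁻¹ * τ * c = c⁻¹ * τ * c⁻¹⁻¹ := by rw [inv_inv]
    rw [e, conj_pow, hτ]; group
  obtain ⟨m, hm, hmτ⟩ := RadAbs.conj_of_same_coset hp hp2 (hC2.to_le inf_le_left) hτ hτM hy' h2
  have hcm : τ * (c * m) * τ⁻¹ * (c * m)⁻¹ = 1 := by
    have e1 : m * τ = c⁻¹ * τ * c * m := by rw [← hmτ]; group
    have e2 : (c * m) * τ = τ * (c * m) := by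
      calc (c * m) * τ = c * (m * τ) := by group
        _ = c * (c⁻¹ * τ * c * m) := by rw [e1]
        _ = _ := by group
    rw [← e2]; group
  have hcmC : c * m ∈ C := mul_mem hc hm.1
  obtain ⟨y, hyU, hyE⟩ := hy _ hcmC
  obtain ⟨v, hv, e⟩ := hcomp _ hcmC y hyU hyE
  rw [hcm] at e
  have h6 : τ * y⁻¹ * τ⁻¹ * y⁻¹⁻¹ ∈ D := by
    have h7 : τ * y⁻¹ * τ⁻¹ * y⁻¹⁻¹ = (c * m * y)⁻¹ * v⁻¹ * (c * m * y) := by
      have h8 : (c * m * y) * (τ * y⁻¹ * τ⁻¹ * y⁻¹⁻¹) * (c * m * y)⁻¹ = v⁻¹ := by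
        rw [eq_inv_iff_mul_eq_one]
        have := congrArg (fun w => v⁻¹ * w * v) e
        simp only [mul_one, inv_mul_cancel] at this
        rw [this]; group
      rw [← h8]; group
    have h9 := hEV _ hyE _ (inv_mem hv)
    rw [h7, mul_assoc, ← h9]
    have e4 : (c * m * y)⁻¹ * (c * m * y * v⁻¹) = v⁻¹ := by group
    rw [e4]
    exact hVD (inv_mem hv)
  have hyD : y ∈ D := by
    have := hfpf y⁻¹ (inv_mem hyU) h6
    simpa using inv_mem this
  refine ⟨m, hm, ?_⟩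
  have e5 : c * m = (c * m * y) * y⁻¹ := by group
  rw [e5]
  exact mul_mem hyE (inv_mem (hDE hyD))

variable {V : Subgroup G} {R : ι → Subgroup G}

section

variable (b : BTS V R)
include b

/-- **(4)**, `q ≥ 4`: `C(W i) = Z(W i) · C(X)` -/
theorem BTS.cen_W_split [Finite G] {p : ℕ} (hp : p.Prime) (hp2 : p ≠ 2) {i : ι} {τ : G} {k : ℕ}
    (hτX : τ ∈ XX V R) (hτR : τ ∈ normalizer (R i : Set G)) (hτ : τ ^ p ^ k = 1)
    (hfpf : ∀ u ∈ UU V R i, τ * u * τ⁻¹ * u⁻¹ ∈ DD V R → u ∈ DD V R) :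
    ∀ c ∈ centralizer (WW V (R i) : Set G), ∃ z ∈ ZZ V R i, ∃ x ∈ CenX V R, z * x = c := by
  intro c hc
  have key := cent_split (U := UU V R i) (V := V) (D := DD V R) (E := CC R)
    (C := centralizer (WW V (R i) : Set G)) (W := WW V (R i)) hp hp2 (fun c => by
      rw [mem_centralizer_iff]
      exact ⟨fun h w hw => (h w hw).symm, fun h w hw => (h w hw).symm⟩)
    (b.cen_W_isPGroup i) (UU_le_WW i) (V_le_D V R) (D_le_W V R i) b.D_le_C
    (fun e he v hv => (mem_centralizer_iff.1 (b.C_le_cen he) v hv).symm)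
    (fun e he w hw => conj_mem_of_normalizer (normalizer_le_WW V (R i) (b.Q_le i (mem_iInf.1 he i))) hw)
    hτ (fun w hw => conj_mem_of_normalizer (normalizer_le_WW V (R i) hτR) hw)
    (fun e he => b.CX hτX he) hfpf
    (fun c hc => b.exists_eps (b.cen_W_le_Q i hc) (cen_W_le V (R i) hc))
  obtain ⟨m, hm, hcm⟩ := key c hc
  obtain ⟨a, ha, hx⟩ := b.cen_CW hcm (mul_mem hc hm.1)
  refine ⟨a⁻¹ * m⁻¹, mul_mem (inv_mem (b.R_le_Z i ha)) (inv_mem (mem_inf.2 ⟨hm.2, hm.1⟩)), _, hx, ?_⟩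
  have h1 := mem_centralizer_iff.1 (cen_X_le i hx) _ (inv_mem hm.2)
  calc a⁻¹ * m⁻¹ * (a * (c * m)) = a⁻¹ * (m⁻¹ * (a * (c * m))) := by group
    _ = a⁻¹ * ((a * (c * m)) * m⁻¹) := by rw [h1]
    _ = c := by group

/-- the splitting `C(W i) = Z(W i) C(X)` -/
def Splits (V : Subgroup G) (R : ι → Subgroup G) (i : ι) : Prop :=
  ∀ c ∈ centralizer (WW V (R i) : Set G), ∃ z ∈ ZZ V R i, ∃ x ∈ CenX V R, z * x = c

omit b in
theorem comm_eq {V : Subgroup G} {R : ι → Subgroup G} {i : ι} {z z' x x' : G} (hz : z ∈ ZZ V R i)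
    (hz' : z' ∈ ZZ V R i) (hx : x ∈ centralizer (WW V (R i) : Set G))
    (hx' : x' ∈ centralizer (WW V (R i) : Set G)) :
    (z * x) * (z' * x') * (z * x)⁻¹ * (z' * x')⁻¹ = x * x' * x⁻¹ * x'⁻¹ := by
  have h1 : z * x = x * z := mem_centralizer_iff.1 hx z hz.1
  have h2 : z * x' = x' * z := mem_centralizer_iff.1 hx' z hz.1
  have h3 : z' * x = x * z' := mem_centralizer_iff.1 hx z' hz'.1
  have h4 : z' * x' = x' * z' := mem_centralizer_iff.1 hx' z' hz'.1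
  have h5 : z * z' = z' * z := mem_centralizer_iff.1 hz'.2 z hz.1
  have c1 : Commute z x := h1
  have c2 : Commute z x' := h2
  have c3 : Commute z' x := h3
  have c4 : Commute z' x' := h4
  have c5 : Commute z z' := h5
  have e1 : (z * x) * (z' * x') = (x * x') * (z * z') := by
    calc (z * x) * (z' * x') = (x * z) * (x' * z') := by rw [h1, h4]
      _ = x * (z * x') * z' := by group
      _ = x * (x' * z) * z' := by rw [h2]
      _ = _ := by group
  have e2 : (z * x)⁻¹ * (z' * x')⁻¹ = (z * z')⁻¹ * (x⁻¹ * x'⁻¹) := by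
    have e3 : (z' * x') * (z * x) = (x' * x) * (z * z') := by
      calc (z' * x') * (z * x) = (x' * z') * (x * z) := by rw [h1, h4]
        _ = x' * (z' * x) * z := by group
        _ = x' * (x * z') * z := by rw [h3]
        _ = x' * x * (z' * z) := by group
        _ = _ := by rw [h5]
    rw [← mul_inv_rev, e3]
    group
  calc (z * x) * (z' * x') * (z * x)⁻¹ * (z' * x')⁻¹
      = ((z * x) * (z' * x')) * ((z * x)⁻¹ * (z' * x')⁻¹) := by group
    _ = ((x * x') * (z * z')) * ((z * z')⁻¹ * (x⁻¹ * x'⁻¹)) := by rw [e1, e2]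
    _ = _ := by group

omit b in
/-- `C(W i)' = C_X'` -/
theorem commutator_cen_eq {i : ι} (hs : Splits V R i) :
    ⁅centralizer (WW V (R i) : Set G), centralizer (WW V (R i) : Set G)⁆ = ⁅CenX V R, CenX V R⁆ := by
  apply le_antisymm
  · rw [commutator_le]
    intro c hc c' hc'
    obtain ⟨z, hz, x, hx, rfl⟩ := hs c hc
    obtain ⟨z', hz', x', hx', rfl⟩ := hs c' hc'
    rw [commutatorElement_def, comm_eq hz hz' (cen_X_le i hx) (cen_X_le i hx')]
    exact commutator_mem_commutator hx hx'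
  · exact commutator_mono (cen_X_le i) (cen_X_le i)

omit b in
theorem normalizer_le_normalizer_commutator (H : Subgroup G) :
    normalizer (H : Set G) ≤ normalizer ((⁅H, H⁆ : Subgroup G) : Set G) := by
  intro g hg
  rw [← cj_eq_self_iff] at hg ⊢
  rw [cj, map_commutator]
  change ⁅cj g H, cj g H⁆ = _
  rw [hg]

/-- **(5)** `C_X` is abelian -/
theorem BTS.CenX_comm [Finite G] {i : ι} (hs : Splits V R i) :
    ∀ x ∈ CenX V R, ∀ y ∈ CenX V R, x * y = y * x := by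
  have h0 : (⁅CenX V R, CenX V R⁆ : Subgroup G) ≤ CenX V R := commutator_le_self _
  have h1 : (⁅CenX V R, CenX V R⁆ : Subgroup G) = ⊥ := by
    refine b.nonloc i _ (b.CenX_isPGroup.to_le h0)
      (h0.trans (b.CenX_le_cen.trans (cen_le_NV V)))
      (h0.trans (b.CenX_le_cen.trans (b.cen_le_N i)))
      (b.NV_le_NCenX.trans (normalizer_le_normalizer_commutator _)) ?_
    rw [← commutator_cen_eq hs]
    exact ((normalizer_le_WW V (R i)).trans (normalizer_le_normalizer_centralizer _)).trans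
      (normalizer_le_normalizer_commutator _)
  intro x hx y hy
  have h2 : ⁅x, y⁆ ∈ (⁅CenX V R, CenX V R⁆ : Subgroup G) := commutator_mem_commutator hx hy
  rw [h1, mem_bot, commutatorElement_eq_one_iff_mul_comm] at h2
  exact h2

/-- **(5)** `C(W i)` is abelian -/
theorem BTS.cen_W_comm [Finite G] {i : ι} (hs : Splits V R i) :
    ∀ c ∈ centralizer (WW V (R i) : Set G), ∀ c' ∈ centralizer (WW V (R i) : Set G), c * c' = c' * c := by
  intro c hc c' hc'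
  obtain ⟨z, hz, x, hx, rfl⟩ := hs c hc
  obtain ⟨z', hz', x', hx', rfl⟩ := hs c' hc'
  have h := comm_eq hz hz' (cen_X_le i hx) (cen_X_le i hx')
  have h2 : x * x' * x⁻¹ * x'⁻¹ = 1 := by rw [b.CenX_comm hs x hx x' hx']; group
  rw [h2, mul_inv_eq_one, mul_inv_eq_iff_eq_mul] at h
  exact h

/-! ### (6), the group level -/

/-- `[Z i, U j] ≤ D ∩ C(W i)`, which is `R i · C_D(X)` by (1) -/
theorem BTS.Z_U {i j : ι} (hij : i ≠ j) {z u : G} (hz : z ∈ ZZ V R i) (hu : u ∈ UU V R j) :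
    z * u * z⁻¹ * u⁻¹ ∈ DD V R ∧ ∃ a ∈ R i, a * (z * u * z⁻¹ * u⁻¹) ∈ DD V R ⊓ CenX V R := by
  have h := b.cen_W_U hij hz.2 hu
  exact ⟨h.1, b.cen_DW h.1 h.2⟩

/-- `[Z i, Z j] ≤ C_D(X)` -/
theorem BTS.Z_Z {i j : ι} (hij : i ≠ j) {z z' : G} (hz : z ∈ ZZ V R i) (hz' : z' ∈ ZZ V R j) :
    z * z' * z⁻¹ * z'⁻¹ ∈ DD V R ⊓ CenX V R := by
  have hzV := cen_W_le V (R i) hz.2
  have hzV' := cen_W_le V (R j) hz'.2
  rw [← b.ZZ_inf hij]
  refine mem_inf.2 ⟨?_, ?_⟩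
  · have e : z * z' * z⁻¹ * z'⁻¹ = z * (z' * z⁻¹ * z'⁻¹) := by group
    rw [e]
    exact mul_mem hz (conj_mem_of_normalizer (N_le_NZ i (b.cen_le_N i hzV')) (inv_mem hz))
  · exact mul_mem (conj_mem_of_normalizer (N_le_NZ j (b.cen_le_N j hzV)) hz') (inv_mem hz')

/-- `[Q i, Z i] ≤ R i` -/
theorem BTS.Q_Z {i : ι} {g z : G} (hg : g ∈ QQ (R i)) (hz : z ∈ ZZ V R i) : g * z * g⁻¹ * z⁻¹ ∈ R i :=
  b.WQ i hg hz.1

/-- `Z i ≤ U i` -/
theorem BTS.Z_le_U (i : ι) : ZZ V R i ≤ UU V R i := by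
  have _ := b
  exact le_inf inf_le_left (inf_le_right.trans (cen_W_le V (R i)))

/-- `Z i ∩ D = R i · C_D(X)` -/
theorem BTS.Z_inf_D {i : ι} {z : G} (hz : z ∈ ZZ V R i) (hd : z ∈ DD V R) :
    ∃ a ∈ R i, a * z ∈ DD V R ⊓ CenX V R := b.cen_DW hd hz.2

/-- `Z i ∩ C_X = C_D(X)` -/
theorem BTS.Z_inf_CenX {i : ι} : ZZ V R i ⊓ CenX V R = DD V R ⊓ CenX V R := by
  apply le_antisymm
  · rintro z ⟨⟨h1, -⟩, h3⟩
    refine ⟨?_, h3⟩
    -- `z ∈ W i` centralises `X`, so it lies in every `W j`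
    refine mem_DD.2 fun j => ?_
    obtain ⟨x, hx, e⟩ := b.trans_X_one i j
    rw [← b.cj_WW e]
    have := conj_mem_cj (g := x) h1
    rwa [mem_centralizer_iff.1 h3 x hx, mul_inv_cancel_right] at this
  · rintro z ⟨h1, h2⟩
    exact ⟨⟨D_le_W V R i h1, cen_X_le i h2⟩, h2⟩

/-- every `g ∈ Q i` is `w · x` with `w ∈ W i`, `x ∈ Q_1 ∩ Q_2`: `Q i = W i (Q_1 ∩ Q_2)` -/
theorem BTS.Q_fact_W [Finite G] {i : ι} {g : G} (hg : g ∈ QQ (R i)) :
    ∃ x ∈ CC R, ∃ w ∈ WW V (R i), x * w = g := by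
  obtain ⟨w, hw, h⟩ := b.exists_eps_W hg
  exact ⟨_, h, w⁻¹, inv_mem hw, by group⟩

end

end Cfsg.Agent.Omega.BTwo

end

section


/-!
# II.0h1, `q = 2`: LEMMA E / PI / H (#13064, #13303 (0), #13317)

`R i = {1, r}`, `S` a Sylow 2-subgroup of `G` with `S ≤ N(V)`, `S ≤ K ≤ N(R i)`.  If `Λ ≤ R i × C_X` is
normalised by `K` and not contained in `R i`, then `V` commutes with all its conjugates under `K`.
-/

set_option autoImplicit false

namespace Cfsg.Agent.Omega.HTwo.Par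

open Subgroup Cfsg.Agent.Omega.BTwo

/-! ### parity -/

/-- A vertex-transitive bipartite graph with an edge has an even number of vertices. -/
theorem even_card {Ω : Type*} [Finite Ω] {adj : Ω → Ω → Prop} (symm : ∀ x y, adj x y → adj y x)
    (tr : ∀ x y, ∃ σ : Equiv.Perm Ω, (∀ u v, adj u v ↔ adj (σ u) (σ v)) ∧ σ x = y)
    {A : Set Ω} (hA : ∀ x ∈ A, ∀ y ∈ A, ¬ adj x y) (hB : ∀ x ∉ A, ∀ y ∉ A, ¬ adj x y)
    {x y : Ω} (h : adj x y) : Even (Nat.card Ω) := by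
  classical
  have := Fintype.ofFinite Ω
  set d := (Finset.univ.filter fun v => adj x v).card with hd
  have hd0 : 0 < d := Finset.card_pos.2 ⟨y, by simp [h]⟩
  have hreg : ∀ u, (Finset.univ.filter fun v => adj u v).card = d := by
    intro u
    obtain ⟨σ, hσ, e⟩ := tr x u
    rw [hd]
    symm
    refine Finset.card_bij (fun v _ => σ v) ?_ (fun a _ b _ hab => σ.injective hab) ?_
    · intro v hv
      simp only [Finset.mem_filter, Finset.mem_univ, true_and] at hv ⊢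
      rw [← e]
      exact (hσ x v).1 hv
    · intro v hv
      simp only [Finset.mem_filter, Finset.mem_univ, true_and] at hv
      refine ⟨σ.symm v, ?_, σ.apply_symm_apply v⟩
      simp only [Finset.mem_filter, Finset.mem_univ, true_and]
      rw [hσ, e, σ.apply_symm_apply]
      exact hv
  set s := Finset.univ.filter fun v => v ∈ A with hs
  set t := Finset.univ.filter fun v => v ∉ A with ht
  have key := Finset.sum_card_bipartiteAbove_eq_sum_card_bipartiteBelow (s := s) (t := t) adj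
  have h1 : ∀ a ∈ s, (t.bipartiteAbove adj a).card = d := by
    intro a ha
    rw [← hreg a]
    congr 1
    ext v
    simp only [Finset.mem_bipartiteAbove, ht, Finset.mem_filter, Finset.mem_univ, true_and]
    refine ⟨fun h => h.2, fun h => ⟨fun hv => ?_, h⟩⟩
    rw [hs, Finset.mem_filter] at ha
    exact hA a ha.2 v hv h
  have h2 : ∀ b ∈ t, (s.bipartiteBelow adj b).card = d := by
    intro b hb
    rw [← hreg b]
    congr 1
    ext v
    simp only [Finset.mem_bipartiteBelow, hs, Finset.mem_filter, Finset.mem_univ, true_and]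
    refine ⟨fun h => symm _ _ h.2, fun h => ⟨?_, symm _ _ h⟩⟩
    by_contra hv
    rw [ht, Finset.mem_filter] at hb
    exact hB b hb.2 v hv h
  rw [Finset.sum_congr rfl h1, Finset.sum_congr rfl h2, Finset.sum_const, Finset.sum_const,
    smul_eq_mul, smul_eq_mul] at key
  have h3 : s.card = t.card := Nat.eq_of_mul_eq_mul_right hd0 key
  have h4 : s.card + t.card = Fintype.card Ω := by
    rw [hs, ht, Finset.card_filter_add_card_filter_not]
    rfl
  rw [Nat.card_eq_fintype_card, ← h4, h3]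
  exact ⟨_, rfl⟩

variable {G : Type*} [Group G]

/-- the orbit version: `S ≤ K`, `S ≤ N(V)`, `S` Sylow; a bipartition of the conjugates of `V` under `K` -/
theorem commute_of_bipartite [Finite G] {V K : Subgroup G} (S : Sylow 2 G) (hSK : (S : Subgroup G) ≤ K)
    (hSV : (S : Subgroup G) ≤ normalizer (V : Set G)) (P : Subgroup G → Prop)
    (h1 : ∀ k ∈ K, ∀ l ∈ K, P (cj k V) → P (cj l V) → ∀ a ∈ cj k V, ∀ c ∈ cj l V, a * c = c * a)
    (h2 : ∀ k ∈ K, ∀ l ∈ K, ¬ P (cj k V) → ¬ P (cj l V) → ∀ a ∈ cj k V, ∀ c ∈ cj l V, a * c = c * a) :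
    ∀ k ∈ K, ∀ a ∈ V, ∀ c ∈ cj k V, a * c = c * a := by
  by_contra hcon
  push Not at hcon
  obtain ⟨k0, hk0, a0, ha0, c0, hc0, hne⟩ := hcon
  set N := (normalizer (V : Set G)).subgroupOf K with hN
  -- the conjugate attached to a coset
  let ψ : K ⧸ N → Subgroup G := Quotient.lift (fun k : K => cj (k : G) V) (by
    intro k l hkl
    have h3 : k⁻¹ * l ∈ N := QuotientGroup.leftRel_apply.1 hkl
    have h4 : (k : G)⁻¹ * (l : G) ∈ normalizer (V : Set G) := by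
      simpa using mem_subgroupOf.1 h3
    have h5 := congrArg (cj (k : G)) (cj_eq_self_iff.2 h4)
    rw [cj_mul, cj_cj_inv] at h5
    exact h5.symm)
  have hψ : ∀ k : K, ψ (QuotientGroup.mk k) = cj (k : G) V := fun _ => rfl
  have hsm : ∀ (k : K) (x : K ⧸ N), ψ (k • x) = cj (k : G) (ψ x) := by
    intro k x
    induction x using QuotientGroup.induction_on with
    | H l =>
      change ψ (QuotientGroup.mk (k * l)) = cj (k : G) (ψ (QuotientGroup.mk l))
      rw [hψ, hψ, coe_mul, cj_mul]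
  let adj : K ⧸ N → K ⧸ N → Prop := fun x y => ∃ a ∈ ψ x, ∃ c ∈ ψ y, a * c ≠ c * a
  have hinv : ∀ (k : K) (x y : K ⧸ N), adj x y → adj (k • x) (k • y) := by
    rintro k x y ⟨a, ha, c, hc, hac⟩
    refine ⟨k * a * (k : G)⁻¹, ?_, k * c * (k : G)⁻¹, ?_, fun h => hac ?_⟩
    · rw [hsm]; exact conj_mem_cj ha
    · rw [hsm]; exact conj_mem_cj hc
    · have e1 : (k : G) * a * (k : G)⁻¹ * (k * c * (k : G)⁻¹) = k * (a * c) * (k : G)⁻¹ := by group
      have e2 : (k : G) * c * (k : G)⁻¹ * (k * a * (k : G)⁻¹) = k * (c * a) * (k : G)⁻¹ := by group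
      rw [e1, e2] at h
      exact mul_left_cancel (mul_right_cancel h)
  have heven : Even (Nat.card (K ⧸ N)) := by
    refine even_card (adj := adj) ?_ ?_ (A := {x | P (ψ x)}) ?_ ?_
      (x := QuotientGroup.mk 1) (y := QuotientGroup.mk ⟨k0, hk0⟩) ?_
    · rintro x y ⟨a, ha, c, hc, hac⟩
      exact ⟨c, hc, a, ha, hac.symm⟩
    · intro x y
      obtain ⟨k, hk⟩ := MulAction.exists_smul_eq K x y
      refine ⟨MulAction.toPerm k, fun u v => ⟨hinv k u v, fun h => ?_⟩, hk⟩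
      have := hinv k⁻¹ _ _ h
      simpa using this
    · intro x hx y hy
      induction x using QuotientGroup.induction_on with
      | H k =>
        induction y using QuotientGroup.induction_on with
        | H l =>
          rintro ⟨a, ha, c, hc, hac⟩
          exact hac (h1 k k.2 l l.2 hx hy a ha c hc)
    · intro x hx y hy
      induction x using QuotientGroup.induction_on with
      | H k =>
        induction y using QuotientGroup.induction_on with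
        | H l =>
          rintro ⟨a, ha, c, hc, hac⟩
          exact hac (h2 k k.2 l l.2 hx hy a ha c hc)
    · refine ⟨a0, ?_, c0, ?_, hne⟩
      · rw [hψ, coe_one, cj_one]; exact ha0
      · rw [hψ]; exact hc0
  have hodd : ¬ 2 ∣ Nat.card (K ⧸ N) := by
    intro h
    have h3 : (normalizer (V : Set G)).relIndex K ∣ (S : Subgroup G).relIndex K :=
      relIndex_dvd_of_le_left K hSV
    have h4 : (S : Subgroup G).relIndex K ∣ (S : Subgroup G).index := relIndex_dvd_index_of_le hSK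
    exact S.not_dvd_index (h.trans (h3.trans h4))
  exact hodd heven.two_dvd

/-! ### the Sylow group and involutions -/

/-- `O₂(M) ≤ S` for `S ≤ M` -/
theorem O2_le_sylow (S : Sylow 2 G) {M : Subgroup G} (h : (S : Subgroup G) ≤ M) : O2 M ≤ (S : Subgroup G) := by
  have h1 : IsPGroup 2 (↥(O2 M ⊔ (S : Subgroup G))) :=
    IsPGroup.to_sup_of_normal_left' (O2_isPGroup M) S.isPGroup' (h.trans (le_normalizer_O2 M))
  have h2 := S.is_maximal' h1 le_sup_right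
  rw [← h2]
  exact le_sup_left

/-- an involution of a nontrivial 2-group `E` normalised by `S`, central in `S` -/
theorem exists_inv [Finite G] (S : Sylow 2 G) {E : Subgroup G} (hE : IsPGroup 2 E) (hE1 : E ≠ ⊥)
    (hSE : (S : Subgroup G) ≤ normalizer (E : Set G)) :
    ∃ e ∈ E, e ≠ 1 ∧ e * e = 1 ∧ ∀ s ∈ (S : Subgroup G), e * s = s * e := by
  have h1 : IsPGroup 2 (↥(E ⊔ (S : Subgroup G))) :=
    IsPGroup.to_sup_of_normal_left' hE S.isPGroup' hSE
  have hES : E ≤ (S : Subgroup G) := by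
    have h2 := S.is_maximal' h1 le_sup_right
    rw [← h2]
    exact le_sup_left
  -- `E` is normal in `S`
  have hn : (E.subgroupOf (S : Subgroup G)).Normal := by
    refine ⟨?_⟩
    rintro ⟨x, hxS⟩ hx ⟨g, hg⟩
    exact mem_subgroupOf.2 (conj_mem_of_normalizer (hSE hg) (mem_subgroupOf.1 hx))
  have hne : E.subgroupOf (S : Subgroup G) ≠ ⊥ := by
    intro h
    rw [subgroupOf_eq_bot, disjoint_iff, inf_eq_left.2 hES] at h
    exact hE1 h
  have : Fact (Nat.Prime 2) := ⟨Nat.prime_two⟩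
  have : Group.IsNilpotent (S : Subgroup G) := S.isPGroup'.isNilpotent
  have h1 := Lib.NormalAbelian.normal_inf_center_ne_bot (E.subgroupOf (S : Subgroup G)) hne
  obtain ⟨x, hx1⟩ := (Subgroup.ne_bot_iff_exists_ne_one).mp h1
  have hx := x.2
  obtain ⟨k, hk⟩ := S.isPGroup' (x : (S : Subgroup G))
  have hx1' : (x : (S : Subgroup G)) ≠ 1 := fun e => hx1 (Subtype.ext e)
  have hex : ∃ n : ℕ, (x : (S : Subgroup G)) ^ 2 ^ n = 1 := ⟨k, hk⟩
  classical
  set n := Nat.find hex with hn'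
  have hn1 : (x : (S : Subgroup G)) ^ 2 ^ n = 1 := Nat.find_spec hex
  have hn0 : n ≠ 0 := by
    intro e
    rw [e] at hn1
    apply hx1'
    simpa using hn1
  obtain ⟨m, hm⟩ := Nat.exists_eq_succ_of_ne_zero hn0
  set y := (x : (S : Subgroup G)) ^ 2 ^ m with hy
  have hy1 : y ≠ 1 := Nat.find_min hex (by omega)
  have hy2 : y * y = 1 := by
    rw [hy, ← pow_two, ← pow_mul, ← pow_succ]
    rw [hm] at hn1
    exact hn1
  have hyU : y ∈ E.subgroupOf (S : Subgroup G) := pow_mem hx.1 _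
  have hyc : y ∈ center (S : Subgroup G) := pow_mem hx.2 _
  refine ⟨y, mem_subgroupOf.1 hyU, fun h => hy1 (Subtype.ext h), congrArg Subtype.val hy2, ?_⟩
  intro s hs
  have := mem_center_iff.mp hyc ⟨s, hs⟩
  exact (congrArg Subtype.val this).symm

/-- `C_M(O₂(M)) ≤ O₂(M)` for `M = C(e)`, `e` a central involution of `S` -/
def Char2 (S : Subgroup G) : Prop :=
  ∀ e : G, e ≠ 1 → e * e = 1 → (∀ s ∈ S, e * s = s * e) →
    centralizer ({e} : Set G) ⊓ centralizer (O2 (centralizer ({e} : Set G)) : Set G) ≤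
      O2 (centralizer ({e} : Set G))

/-! ### the lemma -/

variable {ι : Type*} {V : Subgroup G} {R : ι → Subgroup G}

/-- `R i × C_X` -/
def RC (b : BT V R) (i : ι) : Subgroup G where
  carrier := {l | ∃ a ∈ R i, a * l ∈ CenX V R}
  one_mem' := ⟨1, one_mem _, by rw [mul_one]; exact one_mem _⟩
  mul_mem' := by
    rintro l l' ⟨a, ha, h⟩ ⟨a', ha', h'⟩
    refine ⟨a * a', mul_mem ha ha', ?_⟩
    have h1 := mem_centralizer_iff.1 (b.CenX_le_cen h) a' (b.R_le i ha')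
    have h2 := b.V_comm a (b.R_le i ha) a' (b.R_le i ha')
    have e : a * a' * (l * l') = (a * l) * (a' * l') := by
      calc a * a' * (l * l') = (a * a') * a⁻¹ * (a * l) * l' := by group
        _ = a' * (a * l) * l' := by rw [h2]; group
        _ = _ := by rw [h1]; group
    rw [e]
    exact mul_mem h h'
  inv_mem' := by
    rintro l ⟨a, ha, h⟩
    refine ⟨a⁻¹, inv_mem ha, ?_⟩
    have h1 := mem_centralizer_iff.1 (b.CenX_le_cen h) a (b.R_le i ha)
    have e : a⁻¹ * l⁻¹ = (a * l)⁻¹ := by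
      rw [eq_inv_iff_mul_eq_one]
      calc a⁻¹ * l⁻¹ * (a * l) = a⁻¹ * (a * l)⁻¹ * (a * (a * l)) := by group
        _ = a⁻¹ * (a * l)⁻¹ * ((a * l) * a) := by rw [h1]
        _ = 1 := by group
    rw [e]
    exact inv_mem h

/-- if a central involution `e` of `S` centralises `X^k`, then `V^k ≤ Z(O₂(C(e)))` -/
theorem cj_le [Finite G] (b : BT V R) {i : ι} {r : G} (hr : ∀ x ∈ R i, x = 1 ∨ x = r)
    (S : Sylow 2 G) (hrS : ∀ s ∈ (S : Subgroup G), r * s = s * r) (hc : Char2 (S : Subgroup G))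
    {e : G} (he1 : e ≠ 1) (hee : e * e = 1) (heS : ∀ s ∈ (S : Subgroup G), e * s = s * e)
    (her : e * r = r * e) {k : G} (hk : k * r = r * k)
    (h : e ∈ centralizer (cj k (XX V R) : Set G)) :
    cj k V ≤ O2 (centralizer ({e} : Set G)) ⊓ centralizer (O2 (centralizer ({e} : Set G)) : Set G) := by
  set M := centralizer ({e} : Set G) with hM
  have hSM : (S : Subgroup G) ≤ M := fun s hs => by
    rw [hM, mem_centralizer_singleton_iff]
    exact (heS s hs).symm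
  have hrM : r ∈ M := by
    rw [hM, mem_centralizer_singleton_iff]
    exact her.symm
  have hOS := O2_le_sylow S hSM
  have hrO : r ∈ centralizer (O2 M : Set G) := by
    rw [mem_centralizer_iff]
    exact fun s hs => (hrS s (hOS hs)).symm
  have hrO2 : r ∈ O2 M := hc e he1 hee heS ⟨hrM, hrO⟩
  have hN : M ≤ normalizer ((O2 M ⊓ centralizer (O2 M : Set G) : Subgroup G) : Set G) := by
    intro g hg
    have h1 := le_normalizer_O2 M hg
    have h2 := normalizer_le_normalizer_centralizer _ h1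
    rw [← cj_eq_self_iff, cj_inf, cj_eq_self_iff.2 h1, cj_eq_self_iff.2 h2]
  rintro _ ⟨v, hv, rfl⟩
  change k * v * k⁻¹ ∈ _
  obtain ⟨j, hj⟩ := b.R_cov v hv
  obtain ⟨x, hx, e1⟩ := b.trans_X_one i j
  rw [← e1, mem_cj] at hj
  rcases hr _ hj with h0 | h0
  · have h1 : v = 1 := by
      have := congrArg (fun y => x * y * x⁻¹) h0
      simp only [mul_one, mul_inv_cancel] at this
      rw [← this]; group
    rw [h1, mul_one, mul_inv_cancel]
    exact one_mem _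
  · have h1 : v = x * r * x⁻¹ := by rw [← h0]; group
    have h2 : k * x * k⁻¹ ∈ M := by
      rw [hM, mem_centralizer_singleton_iff]
      exact mem_centralizer_iff.1 h _ (conj_mem_cj hx)
    have h3 : k * v * k⁻¹ = (k * x * k⁻¹) * r * (k * x * k⁻¹)⁻¹ := by
      have h4 : k⁻¹ * r * k = r := by rw [mul_assoc, ← hk]; group
      calc k * v * k⁻¹ = (k * x * k⁻¹) * (k * r * k⁻¹) * (k * x * k⁻¹)⁻¹ := by rw [h1]; group
        _ = (k * x * k⁻¹) * r * (k * x * k⁻¹)⁻¹ := by rw [hk]; group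
    rw [h3]
    exact conj_mem_of_normalizer (hN h2) ⟨hrO2, hrO⟩

/-- **LEMMA (PAR)** -/
theorem par [Finite G] (b : BTS V R) {i : ι} {r : G} (hr : ∀ x ∈ R i, x = 1 ∨ x = r) (hri : r ∈ R i)
    (S : Sylow 2 G) (hSV : (S : Subgroup G) ≤ normalizer (V : Set G)) (hc : Char2 (S : Subgroup G))
    {K : Subgroup G} (hK : K ≤ normalizer (R i : Set G)) (hSK : (S : Subgroup G) ≤ K)
    {Λ : Subgroup G} (hΛ : ∀ l ∈ Λ, ∃ a ∈ R i, a * l ∈ CenX V R) (hKΛ : K ≤ normalizer (Λ : Set G))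
    (hΛR : ¬ Λ ≤ R i) : ∀ k ∈ K, ∀ v ∈ V, ∀ w ∈ cj k V, v * w = w * v := by
  have hr1 : r ≠ 1 := by
    rintro rfl
    refine b.R_ne i ((eq_bot_iff_forall _).2 fun x hx => ?_)
    rcases hr x hx with h | h <;> exact h
  have hrr : r * r = 1 := b.V_sq r (b.R_le i hri)
  -- elements of `K` commute with `r`
  have hKr : ∀ k ∈ K, k * r = r * k := by
    intro k hk
    have h1 := conj_mem_of_normalizer (hK hk) hri
    rcases hr _ h1 with h | h
    · exfalso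
      apply hr1
      have := congrArg (fun y => k⁻¹ * y * k) h
      simp only [mul_one, inv_mul_cancel] at this
      rw [← this]; group
    · rw [mul_inv_eq_iff_eq_mul] at h
      exact h
  -- `E = R i Λ`
  set E := R i ⊔ Λ with hE
  have hKE : K ≤ normalizer (E : Set G) := by
    intro k hk
    rw [← cj_eq_self_iff, hE, cj_sup, cj_eq_self_iff.2 (hK hk), cj_eq_self_iff.2 (hKΛ hk)]
  have hEm : ∀ l ∈ E, ∃ a ∈ R i, a * l ∈ CenX V R := by
    intro l hl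
    have h1 : E ≤ RC b.toBT i := by
      refine sup_le (fun a ha => ⟨a⁻¹, inv_mem ha, ?_⟩) hΛ
      rw [inv_mul_cancel]
      exact one_mem _
    exact h1 hl
  have hE0 : E ⊓ CenX V R ≠ ⊥ := by
    intro h
    apply hΛR
    intro x hx
    obtain ⟨a, ha, hm⟩ := hΛ x hx
    have h1 : a * x ∈ E ⊓ CenX V R :=
      ⟨mul_mem ((le_sup_left : R i ≤ E) ha) ((le_sup_right : Λ ≤ E) hx), hm⟩
    rw [h, mem_bot, mul_eq_one_iff_eq_inv] at h1
    have h2 : x = a⁻¹ := by rw [h1, inv_inv]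
    rw [h2]; exact inv_mem ha
  have hSE : (S : Subgroup G) ≤ normalizer ((E ⊓ CenX V R : Subgroup G) : Set G) := by
    intro s hs
    have h1 := b.NV_le_NCenX (hSV hs)
    rw [← cj_eq_self_iff, cj_inf, cj_eq_self_iff.2 (hKE (hSK hs)), cj_eq_self_iff.2 h1]
  obtain ⟨e, he, he1, hee, heS⟩ := exists_inv S (b.CenX_isPGroup.to_le inf_le_right) hE0 hSE
  have her : e * r = r * e := by
    have := mem_centralizer_iff.1 (b.CenX_le_cen he.2) r (b.R_le i hri)
    exact this.symm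
  have hrS : ∀ s ∈ (S : Subgroup G), r * s = s * r := fun s hs => (hKr s (hSK hs)).symm
  have hre1 : r * e ≠ 1 := by
    intro h
    rw [mul_eq_one_iff_inv_eq] at h
    have h2 : e ∈ V := by rw [← h]; exact inv_mem (b.R_le i hri)
    exact he1 (b.cen_VX h2 he.2)
  have hree : r * e * (r * e) = 1 := by
    calc r * e * (r * e) = r * (e * r) * e := by group
      _ = (r * r) * (e * e) := by rw [her]; group
      _ = 1 := by rw [hrr, hee, one_mul]
  have hreS : ∀ s ∈ (S : Subgroup G), r * e * s = s * (r * e) := by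
    intro s hs
    rw [mul_assoc, heS s hs, ← mul_assoc, hrS s hs, mul_assoc]
  have hrer : r * e * r = r * (r * e) := by rw [mul_assoc, her]
  have ab : ∀ f : G, ∀ a ∈ O2 (centralizer ({f} : Set G)) ⊓
      centralizer (O2 (centralizer ({f} : Set G)) : Set G),
      ∀ c ∈ O2 (centralizer ({f} : Set G)) ⊓ centralizer (O2 (centralizer ({f} : Set G)) : Set G),
      a * c = c * a := fun f a ha c hc => mem_centralizer_iff.1 hc.2 a ha.1
  refine commute_of_bipartite S hSK hSV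
    (fun L => ∀ k ∈ K, cj k V = L → e ∈ centralizer (cj k (XX V R) : Set G)) ?_ ?_
  · intro k hk l hl h1 h2 a ha c hc'
    exact ab e a (cj_le b.toBT hr S hrS hc he1 hee heS her (hKr k hk) (h1 k hk rfl) ha) c
      (cj_le b.toBT hr S hrS hc he1 hee heS her (hKr l hl) (h2 l hl rfl) hc')
  · have key : ∀ k ∈ K, ¬ (∀ k' ∈ K, cj k' V = cj k V → e ∈ centralizer (cj k' (XX V R) : Set G)) →
        ∃ k' ∈ K, cj k' V = cj k V ∧ r * e ∈ centralizer (cj k' (XX V R) : Set G) := by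
      intro k hk h
      push Not at h
      obtain ⟨k', hk', e1, hne⟩ := h
      refine ⟨k', hk', e1, ?_⟩
      have h1 : k'⁻¹ * e * k' ∈ E := conj_inv_mem_of_normalizer (hKE hk') he.1
      obtain ⟨a, ha, h2⟩ := hEm _ h1
      rw [centralizer_cj, mem_cj] at hne ⊢
      rcases hr a ha with rfl | rfl
      · rw [one_mul] at h2
        exact absurd h2 hne
      · have h3 : k'⁻¹ * (a * e) * k' = a * (k'⁻¹ * e * k') := by
          have h4 : k'⁻¹ * a = a * k'⁻¹ := by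
            rw [inv_mul_eq_iff_eq_mul, ← mul_assoc, hKr k' hk', mul_inv_cancel_right]
          calc k'⁻¹ * (a * e) * k' = (k'⁻¹ * a) * e * k' := by group
            _ = _ := by rw [h4]; group
        rw [h3]; exact h2
    intro k hk l hl h1 h2 a ha c hc'
    obtain ⟨k', hk', e1, h3⟩ := key k hk h1
    obtain ⟨l', hl', e2, h4⟩ := key l hl h2
    rw [← e1] at ha
    rw [← e2] at hc'
    exact ab (r * e) a (cj_le b.toBT hr S hrS hc hre1 hree hreS hrer (hKr k' hk') h3 ha) c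
      (cj_le b.toBT hr S hrS hc hre1 hree hreS hrer (hKr l' hl') h4 hc')

/-- **LEMMA E**: if the conjugates of `V` under `N(R i)` do not all commute, the largest normal subgroup
of `N(R i)` contained in `R i × C_X` is `R i`. -/
theorem lemE [Finite G] (b : BTS V R) {i : ι} {r : G} (hr : ∀ x ∈ R i, x = 1 ∨ x = r) (hri : r ∈ R i)
    (S : Sylow 2 G) (hSV : (S : Subgroup G) ≤ normalizer (V : Set G))
    (hSR : (S : Subgroup G) ≤ normalizer (R i : Set G)) (hc : Char2 (S : Subgroup G))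
    (hnc : ∃ k ∈ normalizer (R i : Set G), ∃ v ∈ V, ∃ w ∈ cj k V, v * w ≠ w * v)
    {Λ : Subgroup G} (hΛ : ∀ l ∈ Λ, ∃ a ∈ R i, a * l ∈ CenX V R)
    (hN : normalizer (R i : Set G) ≤ normalizer (Λ : Set G)) : Λ ≤ R i := by
  by_contra h
  obtain ⟨k, hk, v, hv, w, hw, hne⟩ := hnc
  exact hne (par b hr hri S hSV hc le_rfl hSR hΛ hN h k hk v hv w hw)

/-- `W i` is abelian iff the conjugates of `V` commute -/
theorem noncomm_of_W (b : BT V R) {i : ι} (h : ∃ w ∈ WW V (R i), ∃ w' ∈ WW V (R i), w * w' ≠ w' * w) :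
    ∃ k ∈ normalizer (R i : Set G), ∃ v ∈ V, ∃ w ∈ cj k V, v * w ≠ w * v := by
  by_contra hcon
  push Not at hcon
  obtain ⟨w, hw, w', hw', hne⟩ := h
  apply hne
  have _ := b
  have key : ∀ k ∈ normalizer (R i : Set G), ∀ l ∈ normalizer (R i : Set G),
      ∀ a ∈ cj k V, ∀ c ∈ cj l V, a * c = c * a := by
    intro k hk l hl a ha c hc
    rw [mem_cj] at ha
    have h1 : k⁻¹ * c * k ∈ cj (k⁻¹ * l) V := by
      rw [mem_cj] at hc ⊢
      have e : (k⁻¹ * l)⁻¹ * (k⁻¹ * c * k) * (k⁻¹ * l) = l⁻¹ * c * l := by group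
      rw [e]; exact hc
    have h2 := hcon _ (mul_mem (inv_mem hk) hl) _ ha _ h1
    calc a * c = k * ((k⁻¹ * a * k) * (k⁻¹ * c * k)) * k⁻¹ := by group
      _ = k * ((k⁻¹ * c * k) * (k⁻¹ * a * k)) * k⁻¹ := by rw [h2]
      _ = c * a := by group
  have h1 : WW V (R i) ≤ centralizer (WW V (R i) : Set G) := by
    refine iSup_le fun k => ?_
    rw [le_centralizer_iff]
    refine iSup_le fun l => ?_
    intro c hc
    rw [mem_centralizer_iff]
    exact fun a ha => key k k.2 l l.2 a ha c hc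
  exact mem_centralizer_iff.1 (h1 hw') w hw

end Cfsg.Agent.Omega.HTwo.Par

end

section


/-!
# II.0h1 (split): the map `c ↦ [w, c]`, `c ∈ C(W i)`, `w ∈ W j - U j` (#12123 (3)), all `q`, field-free
-/

set_option autoImplicit false

namespace Cfsg.Agent.Omega.HTwo.Comm

open Subgroup Cfsg.Agent.Omega.BTwo

variable {G : Type*} [Group G] {ι : Type*}

/-- `D₀ = C_D(X)` -/
abbrev D0 (V : Subgroup G) (R : ι → Subgroup G) : Subgroup G := DD V R ⊓ CenX V R

/-- elements of `D` commute with `C(W i)` -/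
theorem comm_D {V : Subgroup G} {R : ι → Subgroup G} {i : ι} {c d : G}
    (hc : c ∈ centralizer (WW V (R i) : Set G)) (hd : d ∈ DD V R) :
    c * d = d * c := (mem_centralizer_iff.1 hc d (D_le_W V R i hd)).symm

section BT

variable {V : Subgroup G} {R : ι → Subgroup G} (b : BT V R)
include b

/-- `[w, c] ∈ U j` for `w ∈ W j`, `c ∈ C(W i)` -/
theorem WC {i j : ι} {c w : G} (hc : c ∈ centralizer (WW V (R i) : Set G))
    (hw : w ∈ WW V (R j)) : w * c * w⁻¹ * c⁻¹ ∈ UU V R j := by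
  have e : w * c * w⁻¹ * c⁻¹ = (c * w * c⁻¹ * w⁻¹)⁻¹ := by group
  rw [e]
  exact inv_mem (b.cen_W_W hc hw)

/-- `c^w ∈ C(W k)` -/
theorem conj_cen {i k : ι} {c w : G} (hc : c ∈ centralizer (WW V (R i) : Set G))
    (hk : cj w (R i) = R k) : w * c * w⁻¹ ∈ centralizer (WW V (R k) : Set G) := by
  rw [← b.cj_WW hk, centralizer_cj]
  exact conj_mem_cj hc

/-- `[C(W i), C(W j)] ≤ C_X` -/
theorem cen_cen {i j : ι} (hij : i ≠ j) {c c' : G}
    (hc : c ∈ centralizer (WW V (R i) : Set G)) (hc' : c' ∈ centralizer (WW V (R j) : Set G)) :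
    c * c' * c⁻¹ * c'⁻¹ ∈ CenX V R := by
  have n1 := normalizer_le_normalizer_centralizer _ (b.cen_le_NW j (cen_W_le V (R i) hc))
  have n2 := normalizer_le_normalizer_centralizer _ (b.cen_le_NW i (cen_W_le V (R j) hc'))
  have h1 : c * c' * c⁻¹ * c'⁻¹ ∈ centralizer (WW V (R j) : Set G) :=
    mul_mem (conj_mem_of_normalizer n1 hc') (inv_mem hc')
  have h2 : c * c' * c⁻¹ * c'⁻¹ ∈ centralizer (WW V (R i) : Set G) := by
    have e : c * c' * c⁻¹ * c'⁻¹ = c * (c' * c⁻¹ * c'⁻¹) := by group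
    rw [e]
    exact mul_mem hc (conj_mem_of_normalizer n2 (inv_mem hc))
  exact b.mem_cen_X hij h2 h1

/-- `[c^w, y] = [c, y]^w` for `y ∈ U j` -/
theorem conj_comm {i j : ι} {c w y : G} (hc : c ∈ centralizer (WW V (R i) : Set G))
    (hw : w ∈ WW V (R j)) (hy : y ∈ UU V R j) :
    (w * c * w⁻¹) * y * (w * c * w⁻¹)⁻¹ * y⁻¹ = w * (c * y * c⁻¹ * y⁻¹) * w⁻¹ := by
  have hs : w⁻¹ * y * w⁻¹⁻¹ * y⁻¹ ∈ R j := b.WU (inv_mem hw) hy
  set s := w⁻¹ * y * w⁻¹⁻¹ * y⁻¹ with hsdef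
  have h1 : c * s = s * c :=
    (mem_centralizer_iff.1 (cen_W_le V (R i) hc) s (b.R_le j hs)).symm
  have h2 : w⁻¹ * y * w = s * y := by rw [hsdef]; group
  have h3 : w * s * w⁻¹ = s := b.conj_R (b.W_le_Q j hw) hs
  calc (w * c * w⁻¹) * y * (w * c * w⁻¹)⁻¹ * y⁻¹ = w * (c * (w⁻¹ * y * w) * c⁻¹) * w⁻¹ * y⁻¹ := by group
    _ = w * (c * s * y * c⁻¹) * w⁻¹ * y⁻¹ := by rw [h2]; group
    _ = w * (s * (c * y * c⁻¹ * y⁻¹) * y) * w⁻¹ * y⁻¹ := by rw [h1]; group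
    _ = (w * s * w⁻¹) * (w * (c * y * c⁻¹ * y⁻¹) * w⁻¹) * (w * y * w⁻¹) * y⁻¹ := by group
    _ = s * (w * (c * y * c⁻¹ * y⁻¹) * w⁻¹) * (w * (s⁻¹ * (w⁻¹ * y * w)) * w⁻¹) * y⁻¹ := by
        rw [h3, h2]; group
    _ = s * (w * (c * y * c⁻¹ * y⁻¹) * w⁻¹) * (w * s * w⁻¹)⁻¹ := by group
    _ = s * (w * (c * y * c⁻¹ * y⁻¹) * w⁻¹) * s⁻¹ := by rw [h3]
    _ = w * (c * y * c⁻¹ * y⁻¹) * w⁻¹ := by
        have h4 : s * (w * (c * y * c⁻¹ * y⁻¹) * w⁻¹) = (w * (c * y * c⁻¹ * y⁻¹) * w⁻¹) * s := by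
          have h5 : c * y * c⁻¹ * y⁻¹ ∈ centralizer (V : Set G) := by
            have hcV := cen_W_le V (R i) hc
            have hyV := UU_le_cen j hy
            exact mul_mem (mul_mem (mul_mem hcV hyV) (inv_mem hcV)) (inv_mem hyV)
          have h6 : w * (c * y * c⁻¹ * y⁻¹) * w⁻¹ ∈ centralizer (V : Set G) :=
            conj_mem_of_normalizer (normalizer_le_normalizer_centralizer V (b.W_le_NV j hw)) h5
          exact mem_centralizer_iff.1 h6 s (b.R_le j hs)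
        rw [h4, mul_inv_cancel_right]

/-- an element of `W j` outside `U j` -/
theorem exists_not_U (j : ι) : ∃ w ∈ WW V (R j), w ∉ UU V R j := by
  obtain ⟨i, hij, -⟩ := b.third j j
  obtain ⟨k, hki, hkj⟩ := b.third i j
  obtain ⟨w, hw, e⟩ := b.trans j hij hkj
  refine ⟨w, hw, fun h => hki ?_⟩
  have h1 : cj w (R i) = R i := cj_eq_self_iff.2 (b.cen_le_N i (UU_le_cen j h))
  exact b.R_index (e.symm.trans h1)

end BT

section BTS

variable {V : Subgroup G} {R : ι → Subgroup G} (b : BTS V R)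
include b

/-- **(3)** multiplicativity modulo `D` -/
theorem mul_mod {i j : ι} (hij : i ≠ j) {c c' w : G} (hc : c ∈ centralizer (WW V (R i) : Set G))
    (hc' : c' ∈ centralizer (WW V (R i) : Set G)) (hw : w ∈ WW V (R j)) :
    (w * (c * c') * w⁻¹ * (c * c')⁻¹) * (w * c * w⁻¹ * c⁻¹ * (w * c' * w⁻¹ * c'⁻¹))⁻¹ ∈ DD V R := by
  have h := (b.cen_W_U hij hc (WC b.toBT hc' hw)).1
  have h2 := conj_mem_of_normalizer (b.Y_le_ND (UU_le_YY j (WC b.toBT hc hw))) h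
  have e : (w * (c * c') * w⁻¹ * (c * c')⁻¹) * (w * c * w⁻¹ * c⁻¹ * (w * c' * w⁻¹ * c'⁻¹))⁻¹ =
      (w * c * w⁻¹ * c⁻¹) * (c * (w * c' * w⁻¹ * c'⁻¹) * c⁻¹ * (w * c' * w⁻¹ * c'⁻¹)⁻¹) *
        (w * c * w⁻¹ * c⁻¹)⁻¹ := by group
  rw [e]
  exact h2

/-- **(3)** the kernel: `[w, c] ∈ D` ⟹ `c ∈ R i × C_X` -/
theorem ker [Finite G] {i j : ι} (hij : i ≠ j) {c w : G} (hc : c ∈ centralizer (WW V (R i) : Set G))
    (hw : w ∈ WW V (R j)) (hw' : w ∉ UU V R j) (h : w * c * w⁻¹ * c⁻¹ ∈ DD V R) :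
    ∃ a ∈ R i, a * c ∈ CenX V R := by
  obtain ⟨k, hki, -, hk⟩ := b.moves hij hw hw'
  have hc' := conj_cen b.toBT hc hk
  refine b.cen_W_Q (Ne.symm hki) hc ?_
  have e : c = (w * c * w⁻¹ * c⁻¹)⁻¹ * (w * c * w⁻¹) := by group
  rw [e]
  exact mul_mem (inv_mem (b.W_le_Q k (D_le_W V R k h))) (b.cen_W_le_Q k hc')

/-- **(3)** `c² ∈ R i × C_X` for `c ∈ C(W i)` -/
theorem sq_mem [Finite G] {i : ι} {c : G} (hc : c ∈ centralizer (WW V (R i) : Set G)) :
    ∃ a ∈ R i, a * (c * c) ∈ CenX V R := by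
  obtain ⟨j, hj, -⟩ := b.third i i
  obtain ⟨w, hw, hw'⟩ := exists_not_U b.toBT j
  refine ker b (Ne.symm hj) (mul_mem hc hc) hw hw' ?_
  have h1 := mul_mod b (Ne.symm hj) hc hc hw
  have h2 : w * c * w⁻¹ * c⁻¹ * (w * c * w⁻¹ * c⁻¹) ∈ DD V R :=
    V_le_D V R (b.R_le j (b.W_sq j (UU_le_WW j (WC b.toBT hc hw))))
  have e : w * (c * c) * w⁻¹ * (c * c)⁻¹ = (w * (c * c) * w⁻¹ * (c * c)⁻¹) *
      (w * c * w⁻¹ * c⁻¹ * (w * c * w⁻¹ * c⁻¹))⁻¹ * (w * c * w⁻¹ * c⁻¹ * (w * c * w⁻¹ * c⁻¹)) := by group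
  rw [e]
  exact mul_mem h1 h2

/-- **(3)** `c ∈ C(W i)` commutes with `c^w`, `w ∈ W j` -/
theorem comm_conj [Finite G] {i j : ι} (hij : i ≠ j) {c w : G} (hc : c ∈ centralizer (WW V (R i) : Set G))
    (hw : w ∈ WW V (R j)) (hw' : w ∉ UU V R j) : c * (w * c * w⁻¹) = (w * c * w⁻¹) * c := by
  obtain ⟨k, hki, -, hk⟩ := b.moves hij hw hw'
  have hc' := conj_cen b.toBT hc hk
  have hu := WC b.toBT hc hw
  set c' := w * c * w⁻¹ with hc'def
  set u := c' * c⁻¹ with hudef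
  set d := c * c' * c⁻¹ * c'⁻¹ with hddef
  have hdC : d ∈ CenX V R := cen_cen b.toBT (Ne.symm hki) hc hc'
  have hdD : d ∈ DD V R := by
    have h1 := (b.cen_W_U hij hc hu).1
    have e : d = c * u * c⁻¹ * u⁻¹ := by rw [hddef, hudef]; group
    rw [e]; exact h1
  have k1 : c * d = d * c := comm_D hc hdD
  have k2 : c' * d = d * c' := comm_D hc' hdD
  obtain ⟨a, ha, hx⟩ := sq_mem b hc
  set x := a * (c * c) with hxdef
  have hwx : w * x = x * w := mem_centralizer_iff.1 hx w (W_le_X V R j hw)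
  -- `u² = d⁻¹ (w a⁻¹ w⁻¹) a`
  have h1 : c⁻¹ * c' * c = d⁻¹ * c' := by
    have h2 : c * c' * c⁻¹ = d * c' := by rw [hddef]; group
    have h3 : c⁻¹ * d * c = d := by rw [mul_assoc, ← k1]; group
    calc c⁻¹ * c' * c = c⁻¹ * (d⁻¹ * (d * c')) * c := by group
      _ = c⁻¹ * d⁻¹ * (c * c' * c⁻¹) * c := by rw [h2]; group
      _ = (c⁻¹ * d * c)⁻¹ * c' := by group
      _ = d⁻¹ * c' := by rw [h3]
  have h4 : u * u = d⁻¹ * (c' * c') * (c * c)⁻¹ := by
    have k3 : c' * d⁻¹ = d⁻¹ * c' := by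
      rw [eq_comm, inv_mul_eq_iff_eq_mul, ← mul_assoc, ← k2, mul_inv_cancel_right]
    calc u * u = c' * (c⁻¹ * c' * c) * (c * c)⁻¹ := by rw [hudef]; group
      _ = (c' * d⁻¹) * c' * (c * c)⁻¹ := by rw [h1]; group
      _ = d⁻¹ * (c' * c') * (c * c)⁻¹ := by rw [k3]; group
  have h5 : (c' * c') * (c * c)⁻¹ = (w * a⁻¹ * w⁻¹) * a := by
    have e1 : c * c = a⁻¹ * x := by rw [hxdef]; group
    calc (c' * c') * (c * c)⁻¹ = w * (c * c) * w⁻¹ * (c * c)⁻¹ := by rw [hc'def]; group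
      _ = w * a⁻¹ * (x * w⁻¹) * (a⁻¹ * x)⁻¹ := by rw [e1]; group
      _ = (w * a⁻¹ * w⁻¹) * (w * x) * w⁻¹ * (a⁻¹ * x)⁻¹ := by group
      _ = (w * a⁻¹ * w⁻¹) * a := by rw [hwx]; group
  have h6 : (w * a⁻¹ * w⁻¹) * a ∈ R j := by
    have := b.QV j w (b.W_le_Q j hw) a⁻¹ (b.R_le i (inv_mem ha))
    rwa [inv_inv] at this
  have h7 : u * u ∈ R j := b.W_sq j (UU_le_WW j hu)
  have h8 : d ∈ R j := by
    have e : d = (w * a⁻¹ * w⁻¹ * a) * (u * u)⁻¹ := by
      rw [h4, mul_assoc d⁻¹, h5, mul_inv_rev, inv_inv, ← mul_assoc, mul_inv_cancel, one_mul]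
    rw [e]
    exact mul_mem h6 (inv_mem h7)
  have h9 : d = 1 := b.cen_VX (b.R_le j h8) hdC
  rw [hddef, mul_inv_eq_one, mul_inv_eq_iff_eq_mul] at h9
  exact h9

end BTS

end Cfsg.Agent.Omega.HTwo.Comm

end

section


/-!
# II.0h1, `q = 2`: THEOREM A: `Φ(Q i) ≤ R i`, `C_X ≤ Z(Q i)` elementary, `N(Q i) = N(R i)`
-/

set_option autoImplicit false

namespace Cfsg.Agent.Omega.HTwo.ThmA

open Subgroup Cfsg.Agent.Omega.BTwo Cfsg.Agent.Omega.HTwo.Par

variable {G : Type*} [Group G] {ι : Type*} {V : Subgroup G} {R : ι → Subgroup G}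

/-- the conclusion of LEMMA E: a subgroup of `R i × C_X` normalised by `N(R i)` is contained in `R i` -/
def LE (V : Subgroup G) (R : ι → Subgroup G) (i : ι) : Prop :=
  ∀ Λ : Subgroup G, (∀ l ∈ Λ, ∃ a ∈ R i, a * l ∈ CenX V R) →
    normalizer (R i : Set G) ≤ normalizer (Λ : Set G) → Λ ≤ R i

/-- `LE` for one point implies `LE` for all points -/
theorem le_all (b : BT V R) {i : ι} (h : LE V R i) (j : ι) : LE V R j := by
  intro Λ h1 h2
  obtain ⟨x, hx, e⟩ := b.trans_one i j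
  have e' : cj x⁻¹ (R j) = R i := by rw [← e, cj_inv_cj]
  have h3 : cj x⁻¹ Λ ≤ R i := by
    refine h _ ?_ ?_
    · rintro _ ⟨l, hl, rfl⟩
      change ∃ a ∈ R i, a * (x⁻¹ * l * x⁻¹⁻¹) ∈ CenX V R
      obtain ⟨a, ha, h⟩ := h1 l hl
      refine ⟨x⁻¹ * a * x⁻¹⁻¹, ?_, ?_⟩
      · rw [← e']; exact conj_mem_cj ha
      · have h4 := conj_mem_of_normalizer (b.NV_le_NCenX (inv_mem hx)) h
        have e5 : x⁻¹ * a * x⁻¹⁻¹ * (x⁻¹ * l * x⁻¹⁻¹) = x⁻¹ * (a * l) * x⁻¹⁻¹ := by group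
        rw [e5]; exact h4
    · intro g hg
      rw [normalizer_cj, mem_cj, inv_inv]
      apply h2
      rw [← e, normalizer_cj, mem_cj]
      have : x⁻¹ * (x * g * x⁻¹) * x = g := by group
      rw [this]; exact hg
  have h4 := cj_mono (g := x) h3
  rwa [cj_cj_inv, e] at h4

/-- **LEMMA E** for all points -/
theorem le_of [Finite G] (b : BTS V R) {i : ι} {r : G} (hr : ∀ x ∈ R i, x = 1 ∨ x = r) (hri : r ∈ R i)
    (S : Sylow 2 G) (hSV : (S : Subgroup G) ≤ normalizer (V : Set G))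
    (hSR : (S : Subgroup G) ≤ normalizer (R i : Set G)) (hc : Char2 (S : Subgroup G))
    (hnc : ∃ w ∈ WW V (R i), ∃ w' ∈ WW V (R i), w * w' ≠ w' * w) (j : ι) : LE V R j :=
  le_all b.toBT (fun _ h1 h2 => lemE b hr hri S hSV hSR hc (noncomm_of_W b.toBT hnc) h1 h2) j

section

variable (b : BTS V R)
include b

/-- squares of elements of `Q i` lie in `R i × C_X` -/
theorem sq_RC [Finite G] {i : ι} {q : G} (hq : q ∈ QQ (R i)) : q * q ∈ RC b.toBT i := by
  obtain ⟨w, hw, he⟩ := b.exists_eps_W hq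
  have hwQ := b.W_le_Q i hw
  have h1 := b.C_sq he
  -- `[w, q] ∈ R i`
  have h2 : q * w * q⁻¹ * w⁻¹ ∈ R i := b.WQ i hq hw
  have h3 : w * w ∈ R i := b.W_sq i hw
  -- `(q w)² = q² w² [w⁻¹.., q]`
  have h4 : q⁻¹ * w * q⁻¹⁻¹ * w⁻¹ ∈ R i := b.WQ i (inv_mem hq) hw
  set s := q⁻¹ * w * q⁻¹⁻¹ * w⁻¹ with hs
  have e1 : w * q = q * (s * w) := by rw [hs]; group
  have e2 : q * w * (q * w) = (q * q) * (s * (w * w)) := by
    calc q * w * (q * w) = q * (w * q) * w := by group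
      _ = _ := by rw [e1]; group
  have h5 : s * (w * w) ∈ R i := mul_mem h4 h3
  have h6 : (q * q) * (s * (w * w)) = (s * (w * w)) * (q * q) := by
    have h7 := b.QR i q hq _ h5
    rw [mul_assoc q q, h7, ← mul_assoc q, h7, mul_assoc]
  rw [e2, h6] at h1
  exact ⟨_, h5, h1⟩

theorem Q_sq [Finite G] {i : ι} (h : LE V R i) {q : G} (hq : q ∈ QQ (R i)) : q * q ∈ R i := by
  have h1 : closure {x | ∃ q ∈ QQ (R i), q * q = x} ≤ R i := by
    apply h
    · have h2 : closure {x | ∃ q ∈ QQ (R i), q * q = x} ≤ RC b.toBT i := by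
        rw [closure_le]
        rintro _ ⟨q, hq, rfl⟩
        exact sq_RC b hq
      exact fun l hl => h2 hl
    · intro g hg
      have hgQ := le_normalizer_O2 _ hg
      have key : ∀ g ∈ normalizer (R i : Set G), cj g (closure {x | ∃ q ∈ QQ (R i), q * q = x}) ≤
          closure {x | ∃ q ∈ QQ (R i), q * q = x} := by
        intro g hg
        rw [cj, map_le_iff_le_comap, closure_le]
        rintro _ ⟨q, hq, rfl⟩
        refine subset_closure ⟨g * q * g⁻¹, conj_mem_of_normalizer (le_normalizer_O2 _ hg) hq, ?_⟩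
        change g * q * g⁻¹ * (g * q * g⁻¹) = g * (q * q) * g⁻¹
        group
      rw [← cj_eq_self_iff]
      apply le_antisymm (key g hg)
      have h3 := cj_mono (g := g) (key g⁻¹ (inv_mem hg))
      rwa [cj_cj_inv] at h3
  exact h1 (subset_closure ⟨q, hq, rfl⟩)

/-- **THEOREM A** `[Q i, Q i] ≤ R i` -/
theorem Q_comm [Finite G] {i : ι} (h : LE V R i) {q q' : G} (hq : q ∈ QQ (R i)) (hq' : q' ∈ QQ (R i)) :
    q * q' * q⁻¹ * q'⁻¹ ∈ R i := by
  have h1 := Q_sq b h (mul_mem hq hq')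
  have h2 := Q_sq b h (inv_mem hq)
  have h3 := Q_sq b h (inv_mem hq')
  have h4 : q'⁻¹ * (q⁻¹ * q⁻¹) * q'⁻¹⁻¹ = q⁻¹ * q⁻¹ := b.conj_R (inv_mem hq') h2
  have e : q * q' * q⁻¹ * q'⁻¹ = (q * q' * (q * q')) * (q'⁻¹ * (q⁻¹ * q⁻¹) * q'⁻¹⁻¹) * (q'⁻¹ * q'⁻¹) := by
    group
  rw [e, h4]
  exact mul_mem (mul_mem h1 h2) h3

/-- **THEOREM A** `C_X ≤ Z(Q i)` -/
theorem cenX_Q [Finite G] {i : ι} (h : LE V R i) {x q : G} (hx : x ∈ CenX V R) (hq : q ∈ QQ (R i)) :
    x * q = q * x := by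
  have h1 := Q_comm b h hq (mem_iInf.1 (b.CenX_le_C hx) i)
  have hN : q ∈ normalizer (V : Set G) := b.K_le_NV i (b.Q_le_K i hq)
  have h2 : q * x * q⁻¹ * x⁻¹ ∈ CenX V R :=
    mul_mem (conj_mem_of_normalizer (b.NV_le_NCenX hN) hx) (inv_mem hx)
  have h3 := b.cen_VX (b.R_le i h1) h2
  rw [mul_inv_eq_one, mul_inv_eq_iff_eq_mul] at h3
  exact h3.symm

/-- **THEOREM A** `C_X` is elementary -/
theorem cenX_sq [Finite G] {i : ι} (h : LE V R i) {x : G} (hx : x ∈ CenX V R) : x * x = 1 :=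
  b.cen_VX (b.R_le i (Q_sq b h (mem_iInf.1 (b.CenX_le_C hx) i))) (mul_mem hx hx)

theorem C_comm_one [Finite G] (h : ∀ i, LE V R i) {x y : G} (hx : x ∈ CC R) (hy : y ∈ CC R) :
    x * y = y * x := by
  have h1 : x * y * x⁻¹ * y⁻¹ = 1 :=
    b.eq_one_of_forall fun i => Q_comm b (h i) (mem_iInf.1 hx i) (mem_iInf.1 hy i)
  rwa [mul_inv_eq_one, mul_inv_eq_iff_eq_mul] at h1

end

end Cfsg.Agent.Omega.HTwo.ThmA

end

section


/-!
# LEMMA E over a 2-group `T` (#17094 (C), #17600 (F3))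

`V`, `R i = {1, r}` as in `BTS`; `T` is a 2-group, `T ≤ N(V) ∩ N(R i)`, `2 ∤ |N(R i) : T|`.
`Good r e` : `r ∈ Z(O₂(C(e)))`.

* `commute_of_bipartite`, `exists_inv`, `cj_le` : the lemmas of `HTwo.Par` over `T`;
* `le_T` : `LE V R j` for all `j`, if there is a subgroup `A ≤ C_X` with `Good r y` for all `1 ≠ y ∈ A`, such that
  for every central involution `e` of `T` in `C_X` either `e` and `r e` are good, or `A` lies in every subgroup
  which contains `e` and is normalised by `N(R i)`.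
-/

set_option autoImplicit false

namespace Cfsg.Agent.Omega.HT.LemE

open Subgroup Cfsg.Agent.Omega.BTwo Cfsg.Agent.Omega.HTwo Cfsg.Agent.Omega.HTwo.Par
  Cfsg.Agent.Omega.HTwo.ThmA

variable {G : Type*} [Group G]

/-! ### over `T` -/

/-- the orbit version over `T` -/
theorem commute_of_bipartite [Finite G] {V K T : Subgroup G} (hTV : T ≤ normalizer (V : Set G))
    (hodd : ¬ 2 ∣ T.relIndex K) (P : Subgroup G → Prop)
    (h1 : ∀ k ∈ K, ∀ l ∈ K, P (cj k V) → P (cj l V) → ∀ a ∈ cj k V, ∀ c ∈ cj l V, a * c = c * a)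
    (h2 : ∀ k ∈ K, ∀ l ∈ K, ¬ P (cj k V) → ¬ P (cj l V) → ∀ a ∈ cj k V, ∀ c ∈ cj l V, a * c = c * a) :
    ∀ k ∈ K, ∀ a ∈ V, ∀ c ∈ cj k V, a * c = c * a := by
  by_contra hcon
  push Not at hcon
  obtain ⟨k0, hk0, a0, ha0, c0, hc0, hne⟩ := hcon
  set N := (normalizer (V : Set G)).subgroupOf K with hN
  let ψ : K ⧸ N → Subgroup G := Quotient.lift (fun k : K => cj (k : G) V) (by
    intro k l hkl
    have h3 : k⁻¹ * l ∈ N := QuotientGroup.leftRel_apply.1 hkl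
    have h4 : (k : G)⁻¹ * (l : G) ∈ normalizer (V : Set G) := by
      simpa using mem_subgroupOf.1 h3
    have h5 := congrArg (cj (k : G)) (cj_eq_self_iff.2 h4)
    rw [cj_mul, cj_cj_inv] at h5
    exact h5.symm)
  have hψ : ∀ k : K, ψ (QuotientGroup.mk k) = cj (k : G) V := fun _ => rfl
  have hsm : ∀ (k : K) (x : K ⧸ N), ψ (k • x) = cj (k : G) (ψ x) := by
    intro k x
    induction x using QuotientGroup.induction_on with
    | H l =>
      change ψ (QuotientGroup.mk (k * l)) = cj (k : G) (ψ (QuotientGroup.mk l))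
      rw [hψ, hψ, coe_mul, cj_mul]
  let adj : K ⧸ N → K ⧸ N → Prop := fun x y => ∃ a ∈ ψ x, ∃ c ∈ ψ y, a * c ≠ c * a
  have hinv : ∀ (k : K) (x y : K ⧸ N), adj x y → adj (k • x) (k • y) := by
    rintro k x y ⟨a, ha, c, hc, hac⟩
    refine ⟨k * a * (k : G)⁻¹, ?_, k * c * (k : G)⁻¹, ?_, fun h => hac ?_⟩
    · rw [hsm]; exact conj_mem_cj ha
    · rw [hsm]; exact conj_mem_cj hc
    · have e1 : (k : G) * a * (k : G)⁻¹ * (k * c * (k : G)⁻¹) = k * (a * c) * (k : G)⁻¹ := by group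
      have e2 : (k : G) * c * (k : G)⁻¹ * (k * a * (k : G)⁻¹) = k * (c * a) * (k : G)⁻¹ := by group
      rw [e1, e2] at h
      exact mul_left_cancel (mul_right_cancel h)
  have heven : Even (Nat.card (K ⧸ N)) := by
    refine even_card (adj := adj) ?_ ?_ (A := {x | P (ψ x)}) ?_ ?_
      (x := QuotientGroup.mk 1) (y := QuotientGroup.mk ⟨k0, hk0⟩) ?_
    · rintro x y ⟨a, ha, c, hc, hac⟩
      exact ⟨c, hc, a, ha, hac.symm⟩
    · intro x y
      obtain ⟨k, hk⟩ := MulAction.exists_smul_eq K x y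
      refine ⟨MulAction.toPerm k, fun u v => ⟨hinv k u v, fun h => ?_⟩, hk⟩
      have := hinv k⁻¹ _ _ h
      simpa using this
    · intro x hx y hy
      induction x using QuotientGroup.induction_on with
      | H k =>
        induction y using QuotientGroup.induction_on with
        | H l =>
          rintro ⟨a, ha, c, hc, hac⟩
          exact hac (h1 k k.2 l l.2 hx hy a ha c hc)
    · intro x hx y hy
      induction x using QuotientGroup.induction_on with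
      | H k =>
        induction y using QuotientGroup.induction_on with
        | H l =>
          rintro ⟨a, ha, c, hc, hac⟩
          exact hac (h2 k k.2 l l.2 hx hy a ha c hc)
    · refine ⟨a0, ?_, c0, ?_, hne⟩
      · rw [hψ, coe_one, cj_one]; exact ha0
      · rw [hψ]; exact hc0
  have hod : ¬ 2 ∣ Nat.card (K ⧸ N) := fun h =>
    hodd (h.trans (relIndex_dvd_of_le_left K hTV))
  exact hod heven.two_dvd

/-- a 2-group `E` normalised by `T` lies in `T`, if `2 ∤ |K : T|` -/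
theorem le_of_odd [Finite G] {K T E : Subgroup G} (hT : IsPGroup 2 T) (hTK : T ≤ K)
    (hodd : ¬ 2 ∣ T.relIndex K) (hE : IsPGroup 2 E) (hEK : E ≤ K) (hTE : T ≤ normalizer (E : Set G)) : E ≤ T := by
  have hU : IsPGroup 2 (E ⊔ T : Subgroup G) := IsPGroup.to_sup_of_normal_left' hE hT hTE
  have h3 := Subgroup.relIndex_mul_relIndex _ _ _ (le_sup_right : T ≤ E ⊔ T) (sup_le hEK hTK)
  have hfact : Fact (Nat.Prime 2) := ⟨Nat.prime_two⟩
  obtain ⟨n, hn⟩ := IsPGroup.iff_card.1 hU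
  have h4 : T.relIndex (E ⊔ T) ∣ 2 ^ n := by
    rw [← hn]
    exact relIndex_dvd_card _ _
  obtain ⟨m, -, hm⟩ := (Nat.dvd_prime_pow Nat.prime_two).1 h4
  rcases Nat.eq_zero_or_pos m with h0 | h0
  · rw [h0, pow_zero, relIndex_eq_one] at hm
    exact le_sup_left.trans hm
  · exfalso
    apply hodd
    rw [← h3, hm]
    exact Dvd.dvd.mul_right (dvd_pow_self 2 h0.ne') _

/-- an involution of a nontrivial 2-group `E ≤ T` normalised by `T`, central in `T` -/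
theorem exists_inv [Finite G] {T E : Subgroup G} (hT : IsPGroup 2 T) (hE1 : E ≠ ⊥) (hET : E ≤ T)
    (hTE : T ≤ normalizer (E : Set G)) : ∃ e ∈ E, e ≠ 1 ∧ e * e = 1 ∧ ∀ s ∈ T, e * s = s * e := by
  have hn : (E.subgroupOf T).Normal := by
    refine ⟨?_⟩
    rintro ⟨x, hxS⟩ hx ⟨g, hg⟩
    exact mem_subgroupOf.2 (conj_mem_of_normalizer (hTE hg) (mem_subgroupOf.1 hx))
  have hne : E.subgroupOf T ≠ ⊥ := by
    intro h
    rw [subgroupOf_eq_bot, disjoint_iff, inf_eq_left.2 hET] at h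
    exact hE1 h
  have : Fact (Nat.Prime 2) := ⟨Nat.prime_two⟩
  have : Group.IsNilpotent T := hT.isNilpotent
  have h1 := Lib.NormalAbelian.normal_inf_center_ne_bot (E.subgroupOf T) hne
  obtain ⟨x, hx1⟩ := (Subgroup.ne_bot_iff_exists_ne_one).mp h1
  have hx := x.2
  obtain ⟨k, hk⟩ := hT (x : T)
  have hx1' : (x : T) ≠ 1 := fun e => hx1 (Subtype.ext e)
  have hex : ∃ n : ℕ, (x : T) ^ 2 ^ n = 1 := ⟨k, hk⟩
  classical
  set n := Nat.find hex with hn'
  have hn1 : (x : T) ^ 2 ^ n = 1 := Nat.find_spec hex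
  have hn0 : n ≠ 0 := by
    intro e
    rw [e] at hn1
    apply hx1'
    simpa using hn1
  obtain ⟨m, hm⟩ := Nat.exists_eq_succ_of_ne_zero hn0
  set y := (x : T) ^ 2 ^ m with hy
  have hy1 : y ≠ 1 := Nat.find_min hex (by omega)
  have hy2 : y * y = 1 := by
    rw [hy, ← pow_two, ← pow_mul, ← pow_succ]
    rw [hm] at hn1
    exact hn1
  have hyU : y ∈ E.subgroupOf T := pow_mem hx.1 _
  have hyc : y ∈ center T := pow_mem hx.2 _
  refine ⟨y, mem_subgroupOf.1 hyU, fun h => hy1 (Subtype.ext h), congrArg Subtype.val hy2, ?_⟩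
  intro s hs
  have := mem_center_iff.mp hyc ⟨s, hs⟩
  exact (congrArg Subtype.val this).symm

/-- `r ∈ Z(O₂(C(e)))` -/
def Good (r e : G) : Prop :=
  r ∈ O2 (centralizer ({e} : Set G)) ⊓ centralizer (O2 (centralizer ({e} : Set G)) : Set G)

variable {ι : Type*} {V : Subgroup G} {R : ι → Subgroup G}

/-- if `e` centralises `X^k` and `r ∈ Z(O₂(C(e)))`, then `V^k ≤ Z(O₂(C(e)))` -/
theorem cj_le (b : BT V R) {i : ι} {r : G} (hr : ∀ x ∈ R i, x = 1 ∨ x = r) {e : G} (hg : Good r e) {k : G}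
    (hk : k * r = r * k) (h : e ∈ centralizer (cj k (XX V R) : Set G)) :
    cj k V ≤ O2 (centralizer ({e} : Set G)) ⊓ centralizer (O2 (centralizer ({e} : Set G)) : Set G) := by
  set M := centralizer ({e} : Set G) with hM
  have hN : M ≤ normalizer ((O2 M ⊓ centralizer (O2 M : Set G) : Subgroup G) : Set G) := by
    intro g hg
    have h1 := le_normalizer_O2 M hg
    have h2 := normalizer_le_normalizer_centralizer _ h1
    rw [← cj_eq_self_iff, cj_inf, cj_eq_self_iff.2 h1, cj_eq_self_iff.2 h2]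
  rintro _ ⟨v, hv, rfl⟩
  change k * v * k⁻¹ ∈ _
  obtain ⟨j, hj⟩ := b.R_cov v hv
  obtain ⟨x, hx, e1⟩ := b.trans_X_one i j
  rw [← e1, mem_cj] at hj
  rcases hr _ hj with h0 | h0
  · have h1 : v = 1 := by
      have := congrArg (fun y => x * y * x⁻¹) h0
      simp only [mul_one, mul_inv_cancel] at this
      rw [← this]; group
    rw [h1, mul_one, mul_inv_cancel]
    exact one_mem _
  · have h1 : v = x * r * x⁻¹ := by rw [← h0]; group
    have h2 : k * x * k⁻¹ ∈ M := by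
      rw [hM, mem_centralizer_singleton_iff]
      exact mem_centralizer_iff.1 h _ (conj_mem_cj hx)
    have h3 : k * v * k⁻¹ = (k * x * k⁻¹) * r * (k * x * k⁻¹)⁻¹ := by
      have h4 : k⁻¹ * r * k = r := by rw [mul_assoc, ← hk]; group
      calc k * v * k⁻¹ = (k * x * k⁻¹) * (k * r * k⁻¹) * (k * x * k⁻¹)⁻¹ := by rw [h1]; group
        _ = (k * x * k⁻¹) * r * (k * x * k⁻¹)⁻¹ := by rw [hk]; group
    rw [h3]
    exact conj_mem_of_normalizer (hN h2) hg

/-- **LEMMA E over `T`** -/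
theorem le_T [Finite G] (b : BTS V R) {i : ι} {r : G} (hr : ∀ x ∈ R i, x = 1 ∨ x = r) (hri : r ∈ R i)
    {T : Subgroup G} (hT : IsPGroup 2 T) (hTV : T ≤ normalizer (V : Set G))
    (hTR : T ≤ normalizer (R i : Set G)) (hodd : ¬ 2 ∣ T.relIndex (normalizer (R i : Set G)))
    (hnc : ∃ k ∈ normalizer (R i : Set G), ∃ v ∈ V, ∃ w ∈ cj k V, v * w ≠ w * v)
    {A : Subgroup G} (hA3 : ∃ y ∈ A, ∃ y' ∈ A, y ≠ 1 ∧ y' ≠ 1 ∧ y * y' ≠ 1) (hAX : A ≤ CenX V R)
    (hAg : ∀ y ∈ A, y ≠ 1 → Good r y)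
    (hdec : ∀ e ∈ T, e ≠ 1 → e * e = 1 → (∀ t ∈ T, e * t = t * e) → e ∈ CenX V R →
      (Good r e ∧ Good r (r * e)) ∨
        ∀ Λ : Subgroup G, normalizer (R i : Set G) ≤ normalizer (Λ : Set G) → e ∈ Λ → A ≤ Λ) (j : ι) :
    LE V R j := by
  refine le_all b.toBT (i := i) (fun Λ hΛ hN => ?_) j
  by_contra hΛR
  set K := normalizer (R i : Set G) with hK
  have hr1 : r ≠ 1 := by
    rintro rfl
    refine b.R_ne i ((eq_bot_iff_forall _).2 fun x hx => ?_)
    rcases hr x hx with h | h <;> exact h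
  have hrr : r * r = 1 := b.V_sq r (b.R_le i hri)
  have hKr : ∀ k ∈ K, k * r = r * k := by
    intro k hk
    have h1 := conj_mem_of_normalizer hk hri
    rcases hr _ h1 with h | h
    · exfalso
      apply hr1
      have := congrArg (fun y => k⁻¹ * y * k) h
      simp only [mul_one, inv_mul_cancel] at this
      rw [← this]; group
    · rw [mul_inv_eq_iff_eq_mul] at h
      exact h
  -- `E = R i Λ`
  set E := R i ⊔ Λ with hE
  have hKE : K ≤ normalizer (E : Set G) := by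
    intro k hk
    rw [← cj_eq_self_iff, hE, cj_sup, cj_eq_self_iff.2 hk, cj_eq_self_iff.2 (hN hk)]
  have hEm : ∀ l ∈ E, ∃ a ∈ R i, a * l ∈ CenX V R := by
    intro l hl
    have h1 : E ≤ RC b.toBT i := by
      refine sup_le (fun a ha => ⟨a⁻¹, inv_mem ha, ?_⟩) hΛ
      rw [inv_mul_cancel]
      exact one_mem _
    exact h1 hl
  -- elements of `E` modulo `X^k`
  have hEk : ∀ k ∈ K, ∀ e ∈ E, e ∈ centralizer (cj k (XX V R) : Set G) ∨
      r * e ∈ centralizer (cj k (XX V R) : Set G) := by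
    intro k hk e he
    have h1 : k⁻¹ * e * k ∈ E := conj_inv_mem_of_normalizer (hKE hk) he
    obtain ⟨a, ha, h2⟩ := hEm _ h1
    rw [centralizer_cj, mem_cj, mem_cj]
    rcases hr a ha with rfl | rfl
    · rw [one_mul] at h2
      exact Or.inl h2
    · right
      have h3 : k⁻¹ * (a * e) * k = a * (k⁻¹ * e * k) := by
        have h4 : k⁻¹ * a = a * k⁻¹ := by
          rw [inv_mul_eq_iff_eq_mul, ← mul_assoc, hKr k hk, mul_inv_cancel_right]
        calc k⁻¹ * (a * e) * k = (k⁻¹ * a) * e * k := by group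
          _ = _ := by rw [h4]; group
      rw [h3]; exact h2
  have hE0 : E ⊓ CenX V R ≠ ⊥ := by
    intro h
    apply hΛR
    intro x hx
    obtain ⟨a, ha, hm⟩ := hΛ x hx
    have h1 : a * x ∈ E ⊓ CenX V R :=
      ⟨mul_mem ((le_sup_left : R i ≤ E) ha) ((le_sup_right : Λ ≤ E) hx), hm⟩
    rw [h, mem_bot, mul_eq_one_iff_eq_inv] at h1
    have h2 : x = a⁻¹ := by rw [h1, inv_inv]
    rw [h2]; exact inv_mem ha
  have hTE : T ≤ normalizer ((E ⊓ CenX V R : Subgroup G) : Set G) := by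
    intro s hs
    have h1 := b.NV_le_NCenX (hTV hs)
    rw [← cj_eq_self_iff, cj_inf, cj_eq_self_iff.2 (hKE (hTR hs)), cj_eq_self_iff.2 h1]
  have hE2 : IsPGroup 2 (E ⊓ CenX V R : Subgroup G) := b.CenX_isPGroup.to_le inf_le_right
  have hEK : E ⊓ CenX V R ≤ K := by
    refine inf_le_right.trans ?_
    refine (b.CenX_le_cen.trans (centralizer_le (b.R_le i))).trans (centralizer_le_normalizer _)
  have hET := le_of_odd hT hTR hodd hE2 hEK hTE
  obtain ⟨e, he, he1, hee, heT⟩ := exists_inv hT hE0 hET hTE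
  have ab : ∀ f : G, ∀ a ∈ O2 (centralizer ({f} : Set G)) ⊓
      centralizer (O2 (centralizer ({f} : Set G)) : Set G),
      ∀ c ∈ O2 (centralizer ({f} : Set G)) ⊓ centralizer (O2 (centralizer ({f} : Set G)) : Set G),
      a * c = c * a := fun f a ha c hc => mem_centralizer_iff.1 hc.2 a ha.1
  obtain ⟨k0, hk0, v0, hv0, w0, hw0, hne⟩ := hnc
  rcases hdec e (hET he) he1 hee heT he.2 with ⟨g1, g2⟩ | hA
  · refine hne (commute_of_bipartite hTV hodd
      (fun L => ∀ k ∈ K, cj k V = L → e ∈ centralizer (cj k (XX V R) : Set G)) ?_ ?_ k0 hk0 v0 hv0 w0 hw0)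
    · intro k hk l hl h1 h2 a ha c hc'
      exact ab e a (cj_le b.toBT hr g1 (hKr k hk) (h1 k hk rfl) ha) c
        (cj_le b.toBT hr g1 (hKr l hl) (h2 l hl rfl) hc')
    · have key : ∀ k ∈ K, ¬ (∀ k' ∈ K, cj k' V = cj k V → e ∈ centralizer (cj k' (XX V R) : Set G)) →
          ∃ k' ∈ K, cj k' V = cj k V ∧ r * e ∈ centralizer (cj k' (XX V R) : Set G) := by
        intro k hk h
        push Not at h
        obtain ⟨k', hk', e1, hne⟩ := h
        exact ⟨k', hk', e1, (hEk k' hk' e he.1).resolve_left hne⟩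
      intro k hk l hl h1 h2 a ha c hc'
      obtain ⟨k', hk', e1, h3⟩ := key k hk h1
      obtain ⟨l', hl', e2, h4⟩ := key l hl h2
      rw [← e1] at ha
      rw [← e2] at hc'
      exact ab (r * e) a (cj_le b.toBT hr g2 (hKr k' hk') h3 ha) c
        (cj_le b.toBT hr g2 (hKr l' hl') h4 hc')
  · -- `A ≤ E`
    have hAE : A ≤ E := hA E hKE he.1
    obtain ⟨y, hy, y', hy', y1, y1', y1''⟩ := hA3
    have hfin : ∀ z ∈ A, z ≠ 1 → z ∈ centralizer (cj k0 (XX V R) : Set G) → False := by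
      intro z hz hz1 hzk
      have g1 := hAg z hz hz1
      have h1 := cj_le b.toBT hr g1 (hKr k0 hk0) hzk hw0
      have h2 : z ∈ centralizer (cj 1 (XX V R) : Set G) := by
        rw [cj_one]; exact hAX hz
      have h3 := cj_le b.toBT hr g1 (by rw [one_mul, mul_one]) h2 (by rw [cj_one]; exact hv0)
      exact hne (ab z _ h3 _ h1)
    rcases hEk k0 hk0 y (hAE hy) with h | h
    · exact hfin y hy y1 h
    rcases hEk k0 hk0 y' (hAE hy') with h' | h'
    · exact hfin y' hy' y1' h'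
    refine hfin (y * y') (mul_mem hy hy') y1'' ?_
    -- `(r y)(r y') = y y'`
    have hry : r * y = y * r := mem_centralizer_iff.1 (b.CenX_le_cen (hAX hy)) r (b.R_le i hri)
    have e1 : r * y * (r * y') = y * y' := by
      calc r * y * (r * y') = (r * y) * r * y' := by group
        _ = y * (r * r) * y' := by rw [hry]; group
        _ = y * y' := by rw [hrr, mul_one]
    rw [← e1]
    exact mul_mem h h'

end Cfsg.Agent.Omega.HT.LemE

end

section


/-!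
# II.0h1, `q = 2`: the hats, everything with `Q i` (#13303 (2), #13317)

`ZQ i = Z(Q i)`, `EE i = C_{Q i}(V)`, `J = CC R = Q i ∩ Q j`, `C = C_X`.

* `cenX_eq` : `C_X = C(⟨Q i⟩)`, `ZQ_inf` : `Z(Q i) ∩ Z(Q j) = C_X`, `ZQ_Q` : `Z(Q i) ∩ Q j = R i × C_X`;
* `EE_eq` : `C_{Q i}(V) = U i J`, `EE_comm` : `[E i, E j] ≤ J`, `EE_inf`, `EE_map`, `EE_ker`, `EE_surj`;
* `ZQ_E` : `[Z(Q i), E j] ≤ R i × C_X`;
* `C_Q`, `XC`, `C_cen`, `C_mul`, `C_mul_left` : the pairing of `J` with `E i`.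
-/

set_option autoImplicit false
set_option linter.unusedSectionVars false

namespace Cfsg.Agent.Omega.HTwo.Hat

open Subgroup Cfsg.Agent.Omega.BTwo Cfsg.Agent.Omega.HTwo.ThmA Cfsg.Agent.Omega.HTwo.Comm

variable {G : Type*} [Group G] {ι : Type*} {V : Subgroup G} {R : ι → Subgroup G}

/-- `Z(Q)` -/
def ZQ (R : ι → Subgroup G) (i : ι) : Subgroup G := QQ (R i) ⊓ centralizer (QQ (R i) : Set G)

/-- `E i = C_{Q i}(V)` -/
def EE (V : Subgroup G) (R : ι → Subgroup G) (i : ι) : Subgroup G := QQ (R i) ⊓ centralizer (V : Set G)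

/-- `⟨Q i⟩` -/
def XH (R : ι → Subgroup G) : Subgroup G := ⨆ i, QQ (R i)

theorem cmem {H : Subgroup G} {g x : G} (hg : g ∈ H) (hx : x ∈ H) : g * x * g⁻¹ ∈ H :=
  H.mul_mem (H.mul_mem hg hx) (H.inv_mem hg)

theorem comm_mem_of {H : Subgroup G} {g x : G} (hx : x ∈ H) (hg : g ∈ normalizer (H : Set G)) :
    g * x * g⁻¹ * x⁻¹ ∈ H := H.mul_mem (conj_mem_of_normalizer hg hx) (H.inv_mem hx)

theorem comm_mem_of' {H : Subgroup G} {g x : G} (hg : g ∈ H) (hx : x ∈ normalizer (H : Set G)) :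
    g * x * g⁻¹ * x⁻¹ ∈ H := by
  have e : g * x * g⁻¹ * x⁻¹ = g * (x * g⁻¹ * x⁻¹) := by group
  rw [e]
  exact H.mul_mem hg (conj_mem_of_normalizer hx (H.inv_mem hg))

theorem ZQ_le (i : ι) : ZQ R i ≤ QQ (R i) := inf_le_left

theorem ZQ_comm {i : ι} {n q : G} (hn : n ∈ ZQ R i) (hq : q ∈ QQ (R i)) : q * n = n * q :=
  mem_centralizer_iff.1 hn.2 q hq

theorem EE_le_Q (i : ι) : EE V R i ≤ QQ (R i) := inf_le_left

theorem EE_le_cen (i : ι) : EE V R i ≤ centralizer (V : Set G) := inf_le_right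

theorem N_le_NZQ (i : ι) : normalizer (R i : Set G) ≤ normalizer (ZQ R i : Set G) := by
  intro g hg
  have h1 := le_normalizer_O2 _ hg
  have h2 := normalizer_le_normalizer_centralizer _ h1
  rw [← cj_eq_self_iff, ZQ, cj_inf, cj_eq_self_iff.2 h1, cj_eq_self_iff.2 h2]

section BT

variable (b : BT V R)
include b

theorem ZQ_le_cenW (i : ι) : ZQ R i ≤ centralizer (WW V (R i) : Set G) :=
  inf_le_right.trans (centralizer_le (b.W_le_Q i))

theorem R_le_ZQ (i : ι) : R i ≤ ZQ R i := by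
  refine le_inf ((b.R_le i).trans (b.V_Q i)) ?_
  intro a ha
  rw [mem_centralizer_iff]
  exact fun g hg => b.QR i g hg a ha

theorem ZQ_le_cen (i : ι) : ZQ R i ≤ centralizer (V : Set G) := by
  intro n hn
  rw [mem_centralizer_iff]
  exact fun v hv => ZQ_comm hn (b.V_Q i hv)

theorem ZQ_le_EE (i : ι) : ZQ R i ≤ EE V R i := le_inf (ZQ_le i) (ZQ_le_cen b i)

theorem C_le_EE (i : ι) : CC R ≤ EE V R i := le_inf (iInf_le _ i) b.C_le_cen

theorem cen_le_NQ (i : ι) : centralizer (V : Set G) ≤ normalizer (QQ (R i) : Set G) :=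
  (b.cen_le_N i).trans (le_normalizer_O2 _)

/-- `[E i, E j] ≤ J` -/
theorem EE_comm {i j : ι} (hij : i ≠ j) {x y : G} (hx : x ∈ EE V R i) (hy : y ∈ EE V R j) :
    x * y * x⁻¹ * y⁻¹ ∈ CC R := by
  rw [b.C_eq hij]
  exact ⟨comm_mem_of' hx.1 (cen_le_NQ b i hy.2), comm_mem_of hy.1 (cen_le_NQ b j hx.2)⟩

/-- `Q i = W i J` -/
theorem Q_eq [Finite G] (i : ι) {x : G} (hx : x ∈ QQ (R i)) : ∃ w ∈ WW V (R i), ∃ c ∈ CC R, x = c * w := by
  obtain ⟨y, hy, h⟩ := b.exists_eps_W hx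
  exact ⟨y⁻¹, inv_mem hy, _, h, by group⟩

theorem cj_ZQ {g : G} {i j : ι} (h : cj g (R i) = R j) : cj g (ZQ R i) = ZQ R j := by
  rw [ZQ, cj_inf, ← centralizer_cj, b.cj_QQ h]
  rfl

theorem cj_EE {g : G} (hg : g ∈ normalizer (V : Set G)) {i j : ι} (h : cj g (R i) = R j) :
    cj g (EE V R i) = EE V R j := by
  rw [EE, cj_inf, ← centralizer_cj, b.cj_QQ h, cj_eq_self_iff.2 hg]
  rfl

/-- `N(V)` normalises `J` -/
theorem NV_le_NC : normalizer (V : Set G) ≤ normalizer (CC R : Set G) := by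
  have key : ∀ g ∈ normalizer (V : Set G), cj g (CC R) ≤ CC R := by
    intro g hg
    refine le_iInf fun k => ?_
    obtain ⟨j, hj⟩ := b.perm_inv hg k
    rw [← b.cj_QQ hj]
    exact cj_mono (iInf_le _ j)
  intro g hg
  rw [← cj_eq_self_iff]
  apply le_antisymm (key g hg)
  have h := cj_mono (g := g) (key g⁻¹ (inv_mem hg))
  rwa [cj_cj_inv] at h

/-- an element of `Q j` outside `E j` moves every other point -/
theorem movesQ {i j : ι} (hij : i ≠ j) {v : G} (hv : v ∈ QQ (R j)) (hv' : v ∉ centralizer (V : Set G)) :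
    ∃ k, k ≠ i ∧ k ≠ j ∧ cj v (R i) = R k := by
  obtain ⟨k, hk⟩ := b.perm v ((b.Q_le_K j).trans (b.K_le_NV j) hv) i
  refine ⟨k, ?_, ?_, hk⟩
  · rintro rfl
    exact hv' (b.mem_cen_Q hij hv hk)
  · rintro rfl
    exact hij (b.R_index (cj_injective (hk.trans (cj_eq_self_iff.2 (b.Q_le k hv)).symm)))

/-- `e ↦ [v, e]` maps `E i` into `E j` for `v ∈ Q j` -/
theorem EE_map {i j : ι} {v e : G} (hv : v ∈ QQ (R j)) (he : e ∈ EE V R i) : v * e * v⁻¹ * e⁻¹ ∈ EE V R j := by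
  refine ⟨comm_mem_of' hv (cen_le_NQ b j he.2), ?_⟩
  exact comm_mem_of he.2 (normalizer_le_normalizer_centralizer V
    ((b.Q_le_K j).trans (b.K_le_NV j) hv))

/-- modulo `J` this is a homomorphism -/
theorem EE_mul {i j : ι} (hij : i ≠ j) {v e e' : G} (hv : v ∈ QQ (R j)) (he : e ∈ EE V R i)
    (he' : e' ∈ EE V R i) :
    (v * (e * e') * v⁻¹ * (e * e')⁻¹) * (v * e * v⁻¹ * e⁻¹ * (v * e' * v⁻¹ * e'⁻¹))⁻¹ ∈ CC R := by
  have h := EE_comm b hij he (EE_map b hv he')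
  have h2 := conj_mem_of_normalizer (NV_le_NC b (cen_le_NV V (EE_le_cen j (EE_map b hv he)))) h
  have e1 : (v * (e * e') * v⁻¹ * (e * e')⁻¹) * (v * e * v⁻¹ * e⁻¹ * (v * e' * v⁻¹ * e'⁻¹))⁻¹ =
      (v * e * v⁻¹ * e⁻¹) * (e * (v * e' * v⁻¹ * e'⁻¹) * e⁻¹ * (v * e' * v⁻¹ * e'⁻¹)⁻¹) *
        (v * e * v⁻¹ * e⁻¹)⁻¹ := by group
  rw [e1]
  exact h2

/-- its kernel is `J` -/
theorem EE_ker {i j : ι} (hij : i ≠ j) {v e : G} (hv : v ∈ QQ (R j)) (hv' : v ∉ centralizer (V : Set G))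
    (he : e ∈ EE V R i) (h : v * e * v⁻¹ * e⁻¹ ∈ CC R) : e ∈ CC R := by
  obtain ⟨k, hki, -, hk⟩ := movesQ b hij hv hv'
  have h1 : v * e * v⁻¹ ∈ QQ (R k) := by
    rw [← b.cj_QQ hk]; exact conj_mem_cj he.1
  have h2 : v * e * v⁻¹ ∈ QQ (R i) := by
    have e1 : v * e * v⁻¹ = v * e * v⁻¹ * e⁻¹ * e := by group
    rw [e1]
    exact mul_mem (mem_iInf.1 h i) he.1
  have h3 : v * e * v⁻¹ ∈ CC R := by rw [b.C_eq hki]; exact ⟨h1, h2⟩
  have h4 := conj_inv_mem_of_normalizer (NV_le_NC b ((b.Q_le_K j).trans (b.K_le_NV j) hv)) h3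
  have e2 : v⁻¹ * (v * e * v⁻¹) * v = e := by group
  rwa [e2] at h4

end BT

section LE

variable [Finite G] (b : BTS V R) (h : ∀ i, LE V R i)
include b h

/-- `C_X ≤ Z(Q i)` -/
theorem cenX_le_ZQ (i : ι) : CenX V R ≤ ZQ R i := by
  intro x hx
  refine mem_inf.2 ⟨mem_iInf.1 (b.CenX_le_C hx) i, ?_⟩
  rw [mem_centralizer_iff]
  exact fun q hq => (cenX_Q b (h i) hx hq).symm

/-- `Z(Q i) ∩ Z(Q j) = C_X` -/
theorem ZQ_inf {i j : ι} (hij : i ≠ j) : ZQ R i ⊓ ZQ R j = CenX V R := by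
  apply le_antisymm
  · rintro x ⟨hi, hj⟩
    exact b.mem_cen_X hij (ZQ_le_cenW b.toBT i hi) (ZQ_le_cenW b.toBT j hj)
  · exact le_inf (cenX_le_ZQ b h i) (cenX_le_ZQ b h j)

omit h in
/-- `Z(Q i) ∩ Q j ≤ R i × C_X` -/
theorem ZQ_Q {i j : ι} (hij : i ≠ j) {c : G} (hc : c ∈ ZQ R i) (hj : c ∈ QQ (R j)) :
    ∃ a ∈ R i, a * c ∈ CenX V R := b.cen_W_Q hij (ZQ_le_cenW b.toBT i hc) hj

omit h in
/-- `[Z(Q i), E j] ≤ R i × C_X` -/
theorem ZQ_E {i j : ι} (hij : i ≠ j) {n y : G} (hn : n ∈ ZQ R i) (hy : y ∈ EE V R j) :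
    ∃ a ∈ R i, a * (n * y * n⁻¹ * y⁻¹) ∈ CenX V R := by
  refine ZQ_Q b hij ?_ ?_
  · exact comm_mem_of' hn (N_le_NZQ i (b.cen_le_N i hy.2))
  · exact comm_mem_of hy.1 (cen_le_NQ b.toBT j (ZQ_le_cen b.toBT i hn))

end LE

/-! ### `E i / J ≅ E j / J` -/

section surj

variable [Finite G] (b : BTS V R)
include b

theorem cardE (i j : ι) : (CC R).relIndex (EE V R i) = (CC R).relIndex (EE V R j) := by
  obtain ⟨x, hx, e⟩ := b.trans_one i j
  have h1 : cj x (CC R) = CC R := cj_eq_self_iff.2 (NV_le_NC b.toBT hx)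
  have h2 := relIndex_map_map_of_injective (CC R) (EE V R i) (f := (MulAut.conj x).toMonoidHom)
    (MulAut.conj x).injective
  have h3 : (CC R).map (MulAut.conj x).toMonoidHom = CC R := h1
  have h4 : (EE V R i).map (MulAut.conj x).toMonoidHom = EE V R j := cj_EE b.toBT hx e
  rw [h3, h4] at h2
  exact h2.symm

/-- every element of `E j` is `[v, e]` modulo `J` -/
theorem EE_surj {i j : ι} (hij : i ≠ j) {v : G} (hv : v ∈ QQ (R j)) (hv' : v ∉ centralizer (V : Set G))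
    {y : G} (hy : y ∈ EE V R j) : ∃ e ∈ EE V R i, (v * e * v⁻¹ * e⁻¹)⁻¹ * y ∈ CC R := by
  -- the map on cosets
  let f : EE V R i → EE V R j ⧸ (CC R).subgroupOf (EE V R j) := fun e =>
    QuotientGroup.mk ⟨v * e * v⁻¹ * (e : G)⁻¹, EE_map b.toBT hv e.2⟩
  have hf : ∀ e e' : EE V R i, f e = f e' ↔ (e : G)⁻¹ * e' ∈ CC R := by
    intro e e'
    have h1 : f e = f e' ↔ (v * e * v⁻¹ * (e : G)⁻¹)⁻¹ * (v * e' * v⁻¹ * (e' : G)⁻¹) ∈ CC R := by
      rw [QuotientGroup.eq]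
      rfl
    rw [h1]
    -- `e' = e g`
    have hg : (e : G)⁻¹ * e' ∈ EE V R i := mul_mem (inv_mem e.2) e'.2
    have h2 := EE_mul b.toBT hij hv e.2 hg
    have e3 : (e : G) * ((e : G)⁻¹ * e') = e' := by group
    rw [e3] at h2
    set a := v * e * v⁻¹ * (e : G)⁻¹ with ha
    set c := v * e' * v⁻¹ * (e' : G)⁻¹ with hc
    set g := (e : G)⁻¹ * e' with hgd
    set d := v * g * v⁻¹ * g⁻¹ with hd
    -- `c (a d)⁻¹ ∈ J`
    have haN : a ∈ normalizer (CC R : Set G) :=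
      NV_le_NC b.toBT (cen_le_NV V (EE_le_cen j (EE_map b.toBT hv e.2)))
    have h3 : a⁻¹ * (c * (a * d)⁻¹) * a ∈ CC R := conj_inv_mem_of_normalizer haN h2
    have h4 : a⁻¹ * c = a⁻¹ * (c * (a * d)⁻¹) * a * d := by group
    rw [h4]
    constructor
    · intro h5
      have h6 : d ∈ CC R := by
        have := mul_mem (inv_mem h3) h5
        rwa [inv_mul_cancel_left] at this
      exact EE_ker b.toBT hij hv hv' hg h6
    · intro h5
      refine mul_mem h3 ?_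
      have h6 := conj_mem_of_normalizer (NV_le_NC b.toBT ((b.Q_le_K j).trans (b.K_le_NV j) hv)) h5
      exact mul_mem h6 (inv_mem h5)
  -- injective on cosets of `J`, so surjective
  let F : EE V R i ⧸ (CC R).subgroupOf (EE V R i) → EE V R j ⧸ (CC R).subgroupOf (EE V R j) :=
    Quotient.lift f (by
      intro x y hxy
      rw [hf]
      have : QuotientGroup.leftRel _ x y := hxy
      rw [QuotientGroup.leftRel_apply] at this
      exact this)
  have hF : Function.Injective F := by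
    rintro ⟨x⟩ ⟨y⟩ hxy
    have h1 : f x = f y := hxy
    rw [hf] at h1
    apply Quotient.sound
    show QuotientGroup.leftRel _ x y
    rw [QuotientGroup.leftRel_apply]
    exact h1
  have hc : Nat.card (EE V R i ⧸ (CC R).subgroupOf (EE V R i)) =
      Nat.card (EE V R j ⧸ (CC R).subgroupOf (EE V R j)) := cardE b i j
  have hFs : Function.Surjective F := ((Nat.bijective_iff_injective_and_card F).2 ⟨hF, hc⟩).2
  obtain ⟨⟨e⟩, he⟩ := hFs (QuotientGroup.mk ⟨y, hy⟩)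
  refine ⟨e, e.2, ?_⟩
  have h1 : f e = QuotientGroup.mk ⟨y, hy⟩ := he
  rw [QuotientGroup.eq] at h1
  exact h1

end surj

end Cfsg.Agent.Omega.HTwo.Hat

end

section


/-!
# II.0h1, `q = 2`, after TS(z): the interface between (1)-(5), (6) and (7) of #15507 (helper779)

`C(p) = Cp p`, `Q_p = Qp p = O₂(C(p))`, `ζ_p = Zp p = Z(Q_p)`, `N_p = Np z p = ⟨z^{C(p)}⟩`, `O_M = O₂(M)`.
`M` is any subgroup with `C(p) ∩ C(z) ≤ M ≤ C(z)` for `p ∈ Δ` (so `M = C(z)` is allowed, and `M = ⟨C_{H_1}(z), X⟩`).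

* `Res z M U Δ f t` : RESULT A (the output of (1)-(5)): `U ≤ Z(O_M)` elementary abelian, normal in `M`, `f` the
  `M`-invariant alternating form on `U` with radical `⟨z⟩`, `Δ` the `M`-orbit of singular points, `t p ∈ z^{C(p)}` acts
  on `U` as `u ↦ u (p z)^{f(p, u)}`.
* `Three z Δ t` : the case `|N_p| = 8`: `z^{C(p)} = {z, t_p, p z t_p}`.
* `Out z M U Δ f t r` : the output of (6) for the point `r ∈ Δ` (the input of (7)).
-/

set_option autoImplicit false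

namespace Cfsg.Agent.Omega.HTwo.Eight

open Subgroup Cfsg.Agent.Omega.BTwo

variable {G : Type*} [Group G]

/-- `C(p)` -/
abbrev Cp (p : G) : Subgroup G := centralizer ({p} : Set G)

/-- `Q_p = O₂(C(p))` -/
def Qp (p : G) : Subgroup G := O2 (Cp p)

/-- `ζ_p = Z(Q_p)` -/
def Zp (p : G) : Subgroup G := Qp p ⊓ centralizer (Qp p : Set G)

/-- `N_p = ⟨z^{C(p)}⟩` -/
def Np (z p : G) : Subgroup G := closure {x | ∃ h ∈ Cp p, x = h * z * h⁻¹}

/-- `K_p = C(N_p)` -/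
abbrev Kp (z p : G) : Subgroup G := centralizer (Np z p : Set G)

/-- `L_p = ⟨U^{C(p)}⟩ Q_p` -/
def Lp (U : Subgroup G) (p : G) : Subgroup G := (⨆ h : Cp p, cj (h : G) U) ⊔ Qp p

/-- **RESULT A** (#15507 (1)-(5)). -/
structure Res (z : G) (M U : Subgroup G) (Δ : Set G) (f : G → G → ZMod 2) (t : G → G) : Prop where
  zz : z * z = 1
  z1 : z ≠ 1
  -- `M`
  M_z : M ≤ Cp z
  M_p : ∀ p ∈ Δ, Cp p ⊓ Cp z ≤ M
  -- `U`
  U_comm : ∀ u ∈ U, ∀ v ∈ U, u * v = v * u
  U_sq : ∀ u ∈ U, u * u = 1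
  U_M : ∀ m ∈ M, ∀ u ∈ U, m * u * m⁻¹ ∈ U
  U_O : ∀ o ∈ O2 M, ∀ u ∈ U, o * u = u * o
  U_le : U ≤ O2 M
  z_U : z ∈ U
  -- `Δ`
  Δ_U : ∀ p ∈ Δ, p ∈ U
  Δ_M : ∀ m ∈ M, ∀ p ∈ Δ, m * p * m⁻¹ ∈ Δ
  Δ_tr : ∀ p ∈ Δ, ∀ q ∈ Δ, ∃ m ∈ M, m * p * m⁻¹ = q
  Δ_1 : (1 : G) ∉ Δ
  Δ_z : z ∉ Δ
  cover : ∀ u ∈ U, u = 1 ∨ u = z ∨ u ∈ Δ ∨ u * z ∈ Δ
  inj : ∀ p ∈ Δ, p * z ∉ Δ
  -- `f`
  f_add : ∀ u ∈ U, ∀ v ∈ U, ∀ w ∈ U, f (u * v) w = f u w + f v w
  f_symm : ∀ u ∈ U, ∀ v ∈ U, f u v = f v u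
  f_self : ∀ u ∈ U, f u u = 0
  f_M : ∀ m ∈ M, ∀ u ∈ U, ∀ v ∈ U, f (m * u * m⁻¹) (m * v * m⁻¹) = f u v
  f_rad : ∀ u ∈ U, (∀ v ∈ U, f u v = 0) → u = 1 ∨ u = z
  f_z : ∀ u ∈ U, f z u = 0
  mul0 : ∀ p ∈ Δ, ∀ q ∈ Δ, p ≠ q → f p q = 0 → p * q ∈ Δ
  mul1 : ∀ p ∈ Δ, ∀ q ∈ Δ, f p q = 1 → p * q * z ∈ Δ
  -- `t`
  t_ZZ : ∀ p ∈ Δ, ∃ h ∈ Cp p, t p = h * z * h⁻¹
  t_0 : ∀ p ∈ Δ, ∀ u ∈ U, f p u = 0 → t p * u = u * t p
  t_1 : ∀ p ∈ Δ, ∀ u ∈ U, f p u = 1 → t p * u * (t p)⁻¹ = u * (p * z)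
  -- `Q_p`
  Q_comm : ∀ p ∈ Δ, ∀ x ∈ Qp p, ∀ y ∈ Qp p, x * y = y * x ∨ x * y = p * (y * x)
  N_Z : ∀ p ∈ Δ, Np z p ≤ Zp p
  N_act : ∀ p ∈ Δ, ∀ n ∈ Np z p, ∀ u ∈ U, n * u * n⁻¹ = u ∨ n * u * n⁻¹ = u * (p * z)
  N_sq : ∀ p ∈ Δ, ∀ n ∈ Np z p, n * n = 1
  Q_f : ∀ p ∈ Δ, ∀ u ∈ U, u ∈ Qp p ↔ f p u = 0
  Q_mv : ∀ p ∈ Δ, ∀ q ∈ Δ, p ≠ q → f p q = 0 → ∃ g ∈ Qp p, g * q * g⁻¹ = q * p

/-- `|N_p| = 8`: `z^{C(p)} = {z, t_p, p z t_p}` -/
def Three (z : G) (Δ : Set G) (t : G → G) : Prop :=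
  ∀ p ∈ Δ, ∀ h ∈ Cp p, h * z * h⁻¹ = z ∨ h * z * h⁻¹ = t p ∨ h * z * h⁻¹ = p * z * t p

/-- the further input of (6) at the point `r`: condition (c), `W_r` is not abelian, `C_M(O_M) ≤ O_M` -/
structure Inp (z : G) (M U : Subgroup G) (Δ : Set G) (r : G) : Prop where
  r_Δ : r ∈ Δ
  cc : ∀ K : Subgroup G, (∀ k ∈ K, k ∈ (⨅ q ∈ Δ, Zp q) ⊔ zpowers r) →
    (∀ h ∈ Cp r, ∀ k ∈ K, h * k * h⁻¹ ∈ K) → ∀ k ∈ K, k = 1 ∨ k = r
  nab : ∃ h ∈ Cp r, ∃ u ∈ U ⊓ Qp r, ∃ v ∈ U ⊓ Qp r, u * (h * v * h⁻¹) ≠ h * v * h⁻¹ * u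
  char2 : ∀ g ∈ M, (∀ o ∈ O2 M, g * o = o * g) → g ∈ O2 M

/-- **The output of (6)** at the point `r`. -/
structure Out (z : G) (M U : Subgroup G) (Δ : Set G) (f : G → G → ZMod 2) (t : G → G) (r : G) : Prop where
  O_M : O2 M = U
  C_U : ∀ g ∈ M, (∀ u ∈ U, g * u = u * g) → g ∈ U
  B_z : ∀ x : G, (∀ q ∈ Δ, x ∈ Zp q) → x = 1 ∨ x = z
  -- `ζ_r = N_r = ⟨r, z, t_r⟩`, `ζ_r ∩ U = ⟨r, z⟩`
  Z_N : Zp r = Np z r
  N_card : Nat.card (Np z r) = 8
  N_mem : ∀ n ∈ Np z r, (n = 1 ∨ n = r ∨ n = z ∨ n = r * z) ∨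
    (n = t r ∨ n = r * t r ∨ n = z * t r ∨ n = r * z * t r)
  N_U : ∀ n ∈ Np z r, n ∈ U → n = 1 ∨ n = r ∨ n = z ∨ n = r * z
  Q_card : Nat.card (Qp r) * 8 = Nat.card U ^ 2
  -- `H_r / Q_r = L_r / Q_r × K_r / Q_r`
  L_norm : Cp r ≤ normalizer (Lp U r : Set G)
  L_K : Lp U r ⊓ Kp z r = Qp r
  L_sup : Lp U r ⊔ Kp z r = Cp r
  L_card : Nat.card (Lp U r) = 6 * Nat.card (Qp r)
  K_L : ∀ k ∈ Kp z r, ∀ l ∈ Lp U r, k * l * k⁻¹ * l⁻¹ ∈ Qp r
  C_rz : Cp r ⊓ Cp z = Kp z r ⊔ U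
  -- `Q_r / ζ_r = Ũ_z ⊕ Ũ_y`, both totally isotropic
  Q_self : ∀ h ∈ Cp r, ∀ x ∈ Qp r, (∀ u ∈ cj h U ⊓ Qp r, x * u = u * x) →
    ∃ u ∈ cj h U ⊓ Qp r, ∃ n ∈ Np z r, x = u * n
  Q_gen : ∀ h ∈ Cp r, h * z * h⁻¹ ≠ z → ∀ x ∈ Qp r, ∃ u ∈ U ⊓ Qp r, ∃ v ∈ cj h U ⊓ Qp r, ∃ n ∈ Np z r, x = u * v * n
  Q_inf : ∀ h ∈ Cp r, h * z * h⁻¹ ≠ z → ∀ u ∈ U ⊓ Qp r, ∀ v ∈ cj h U ⊓ Qp r, u * v ∈ Np z r →
    u ∈ Np z r ∧ v ∈ Np z r
  -- `K_r` is transitive on the points `≠ r` of `r^⊥`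
  K_tr : ∀ p ∈ Δ, ∀ q ∈ Δ, p ≠ r → q ≠ r → f r p = 0 → f r q = 0 → ∃ k ∈ Kp z r, k * p * k⁻¹ = q

end Cfsg.Agent.Omega.HTwo.Eight

end

section


/-!
# LEMMA E over a 2-group `T`, with abelian normal subgroups of the centralisers (helper430)

As `HT.LemE.le_T`, but `r ∈ Z(O₂(C(e)))` (`Good r e`) is replaced by
`GoodY r e` : `r` lies in an abelian subgroup normalised by `C(e)`.
-/

set_option autoImplicit false

namespace Cfsg.Agent.Omega.IId.LFour.LemEY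

open Subgroup Cfsg.Agent.Omega.BTwo Cfsg.Agent.Omega.HTwo Cfsg.Agent.Omega.HTwo.Par
  Cfsg.Agent.Omega.HTwo.ThmA Cfsg.Agent.Omega.HT.LemE

variable {G : Type*} [Group G]

/-- `r` lies in an abelian subgroup normalised by `C(e)` -/
def GoodY (r e : G) : Prop :=
  ∃ Y : Subgroup G, r ∈ Y ∧ centralizer ({e} : Set G) ≤ normalizer (Y : Set G) ∧ ∀ a ∈ Y, ∀ c ∈ Y, a * c = c * a

variable {ι : Type*} {V : Subgroup G} {R : ι → Subgroup G}

/-- if `e` centralises `X^k` and `r ∈ Y`, `C(e) ≤ N(Y)`, then `V^k ≤ Y` -/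
theorem cj_le (b : BT V R) {i : ι} {r : G} (hr : ∀ x ∈ R i, x = 1 ∨ x = r) {e : G} {Y : Subgroup G}
    (hrY : r ∈ Y) (hY : centralizer ({e} : Set G) ≤ normalizer (Y : Set G)) {k : G}
    (hk : k * r = r * k) (h : e ∈ centralizer (cj k (XX V R) : Set G)) : cj k V ≤ Y := by
  rintro _ ⟨v, hv, rfl⟩
  change k * v * k⁻¹ ∈ _
  obtain ⟨j, hj⟩ := b.R_cov v hv
  obtain ⟨x, hx, e1⟩ := b.trans_X_one i j
  rw [← e1, mem_cj] at hj
  rcases hr _ hj with h0 | h0
  · have h1 : v = 1 := by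
      have := congrArg (fun y => x * y * x⁻¹) h0
      simp only [mul_one, mul_inv_cancel] at this
      rw [← this]; group
    rw [h1, mul_one, mul_inv_cancel]
    exact one_mem _
  · have h1 : v = x * r * x⁻¹ := by rw [← h0]; group
    have h2 : k * x * k⁻¹ ∈ centralizer ({e} : Set G) := by
      rw [mem_centralizer_singleton_iff]
      exact mem_centralizer_iff.1 h _ (conj_mem_cj hx)
    have h3 : k * v * k⁻¹ = (k * x * k⁻¹) * r * (k * x * k⁻¹)⁻¹ := by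
      have h4 : k⁻¹ * r * k = r := by rw [mul_assoc, ← hk]; group
      calc k * v * k⁻¹ = (k * x * k⁻¹) * (k * r * k⁻¹) * (k * x * k⁻¹)⁻¹ := by rw [h1]; group
        _ = (k * x * k⁻¹) * r * (k * x * k⁻¹)⁻¹ := by rw [hk]; group
    rw [h3]
    exact conj_mem_of_normalizer (hY h2) hrY

/-- **LEMMA E over `T`** -/
theorem le_T' [Finite G] (b : BTS V R) {i : ι} {r : G} (hr : ∀ x ∈ R i, x = 1 ∨ x = r) (hri : r ∈ R i)
    {T : Subgroup G} (hT : IsPGroup 2 T) (hTV : T ≤ normalizer (V : Set G))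
    (hTR : T ≤ normalizer (R i : Set G)) (hodd : ¬ 2 ∣ T.relIndex (normalizer (R i : Set G)))
    (hnc : ∃ k ∈ normalizer (R i : Set G), ∃ v ∈ V, ∃ w ∈ cj k V, v * w ≠ w * v)
    {A : Subgroup G} (hA3 : ∃ y ∈ A, ∃ y' ∈ A, y ≠ 1 ∧ y' ≠ 1 ∧ y * y' ≠ 1) (hAX : A ≤ CenX V R)
    (hAg : ∀ y ∈ A, y ≠ 1 → GoodY r y)
    (hdec : ∀ e ∈ T, e ≠ 1 → e * e = 1 → (∀ t ∈ T, e * t = t * e) → e ∈ CenX V R →
      (GoodY r e ∧ GoodY r (r * e)) ∨
        ∀ Λ : Subgroup G, normalizer (R i : Set G) ≤ normalizer (Λ : Set G) → e ∈ Λ → A ≤ Λ) (j : ι) :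
    LE V R j := by
  refine le_all b.toBT (i := i) (fun Λ hΛ hN => ?_) j
  by_contra hΛR
  set K := normalizer (R i : Set G) with hK
  have hr1 : r ≠ 1 := by
    rintro rfl
    refine b.R_ne i ((eq_bot_iff_forall _).2 fun x hx => ?_)
    rcases hr x hx with h | h <;> exact h
  have hrr : r * r = 1 := b.V_sq r (b.R_le i hri)
  have hKr : ∀ k ∈ K, k * r = r * k := by
    intro k hk
    have h1 := conj_mem_of_normalizer hk hri
    rcases hr _ h1 with h | h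
    · exfalso
      apply hr1
      have := congrArg (fun y => k⁻¹ * y * k) h
      simp only [mul_one, inv_mul_cancel] at this
      rw [← this]; group
    · rw [mul_inv_eq_iff_eq_mul] at h
      exact h
  -- `E = R i Λ`
  set E := R i ⊔ Λ with hE
  have hKE : K ≤ normalizer (E : Set G) := by
    intro k hk
    rw [← cj_eq_self_iff, hE, cj_sup, cj_eq_self_iff.2 hk, cj_eq_self_iff.2 (hN hk)]
  have hEm : ∀ l ∈ E, ∃ a ∈ R i, a * l ∈ CenX V R := by
    intro l hl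
    have h1 : E ≤ RC b.toBT i := by
      refine sup_le (fun a ha => ⟨a⁻¹, inv_mem ha, ?_⟩) hΛ
      rw [inv_mul_cancel]
      exact one_mem _
    exact h1 hl
  -- elements of `E` modulo `X^k`
  have hEk : ∀ k ∈ K, ∀ e ∈ E, e ∈ centralizer (cj k (XX V R) : Set G) ∨
      r * e ∈ centralizer (cj k (XX V R) : Set G) := by
    intro k hk e he
    have h1 : k⁻¹ * e * k ∈ E := conj_inv_mem_of_normalizer (hKE hk) he
    obtain ⟨a, ha, h2⟩ := hEm _ h1
    rw [centralizer_cj, mem_cj, mem_cj]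
    rcases hr a ha with rfl | rfl
    · rw [one_mul] at h2
      exact Or.inl h2
    · right
      have h3 : k⁻¹ * (a * e) * k = a * (k⁻¹ * e * k) := by
        have h4 : k⁻¹ * a = a * k⁻¹ := by
          rw [inv_mul_eq_iff_eq_mul, ← mul_assoc, hKr k hk, mul_inv_cancel_right]
        calc k⁻¹ * (a * e) * k = (k⁻¹ * a) * e * k := by group
          _ = _ := by rw [h4]; group
      rw [h3]; exact h2
  have hE0 : E ⊓ CenX V R ≠ ⊥ := by
    intro h
    apply hΛR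
    intro x hx
    obtain ⟨a, ha, hm⟩ := hΛ x hx
    have h1 : a * x ∈ E ⊓ CenX V R :=
      ⟨mul_mem ((le_sup_left : R i ≤ E) ha) ((le_sup_right : Λ ≤ E) hx), hm⟩
    rw [h, mem_bot, mul_eq_one_iff_eq_inv] at h1
    have h2 : x = a⁻¹ := by rw [h1, inv_inv]
    rw [h2]; exact inv_mem ha
  have hTE : T ≤ normalizer ((E ⊓ CenX V R : Subgroup G) : Set G) := by
    intro s hs
    have h1 := b.NV_le_NCenX (hTV hs)
    rw [← cj_eq_self_iff, cj_inf, cj_eq_self_iff.2 (hKE (hTR hs)), cj_eq_self_iff.2 h1]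
  have hE2 : IsPGroup 2 (E ⊓ CenX V R : Subgroup G) := b.CenX_isPGroup.to_le inf_le_right
  have hEK : E ⊓ CenX V R ≤ K := by
    refine inf_le_right.trans ?_
    refine (b.CenX_le_cen.trans (centralizer_le (b.R_le i))).trans (centralizer_le_normalizer _)
  have hET := le_of_odd hT hTR hodd hE2 hEK hTE
  obtain ⟨e, he, he1, hee, heT⟩ := exists_inv hT hE0 hET hTE
  obtain ⟨k0, hk0, v0, hv0, w0, hw0, hne⟩ := hnc
  rcases hdec e (hET he) he1 hee heT he.2 with ⟨⟨Y₁, g1, n1, ab1⟩, ⟨Y₂, g2, n2, ab2⟩⟩ | hA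
  · refine hne (commute_of_bipartite hTV hodd
      (fun L => ∀ k ∈ K, cj k V = L → e ∈ centralizer (cj k (XX V R) : Set G)) ?_ ?_ k0 hk0 v0 hv0 w0 hw0)
    · intro k hk l hl h1 h2 a ha c hc'
      exact ab1 a (cj_le b.toBT hr g1 n1 (hKr k hk) (h1 k hk rfl) ha) c
        (cj_le b.toBT hr g1 n1 (hKr l hl) (h2 l hl rfl) hc')
    · have key : ∀ k ∈ K, ¬ (∀ k' ∈ K, cj k' V = cj k V → e ∈ centralizer (cj k' (XX V R) : Set G)) →
          ∃ k' ∈ K, cj k' V = cj k V ∧ r * e ∈ centralizer (cj k' (XX V R) : Set G) := by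
        intro k hk h
        push Not at h
        obtain ⟨k', hk', e1, hne⟩ := h
        exact ⟨k', hk', e1, (hEk k' hk' e he.1).resolve_left hne⟩
      intro k hk l hl h1 h2 a ha c hc'
      obtain ⟨k', hk', e1, h3⟩ := key k hk h1
      obtain ⟨l', hl', e2, h4⟩ := key l hl h2
      rw [← e1] at ha
      rw [← e2] at hc'
      exact ab2 a (cj_le b.toBT hr g2 n2 (hKr k' hk') h3 ha) c
        (cj_le b.toBT hr g2 n2 (hKr l' hl') h4 hc')
  · -- `A ≤ E`
    have hAE : A ≤ E := hA E hKE he.1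
    obtain ⟨y, hy, y', hy', y1, y1', y1''⟩ := hA3
    have hfin : ∀ z ∈ A, z ≠ 1 → z ∈ centralizer (cj k0 (XX V R) : Set G) → False := by
      intro z hz hz1 hzk
      obtain ⟨Y, g1, n1, ab⟩ := hAg z hz hz1
      have h1 := cj_le b.toBT hr g1 n1 (hKr k0 hk0) hzk hw0
      have h2 : z ∈ centralizer (cj 1 (XX V R) : Set G) := by
        rw [cj_one]; exact hAX hz
      have h3 := cj_le b.toBT hr g1 n1 (by rw [one_mul, mul_one]) h2 (by rw [cj_one]; exact hv0)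
      exact hne (ab _ h3 _ h1)
    rcases hEk k0 hk0 y (hAE hy) with h | h
    · exact hfin y hy y1 h
    rcases hEk k0 hk0 y' (hAE hy') with h' | h'
    · exact hfin y' hy' y1' h'
    refine hfin (y * y') (mul_mem hy hy') y1'' ?_
    -- `(r y)(r y') = y y'`
    have hry : r * y = y * r := mem_centralizer_iff.1 (b.CenX_le_cen (hAX hy)) r (b.R_le i hri)
    have e1 : r * y * (r * y') = y * y' := by
      calc r * y * (r * y') = (r * y) * r * y' := by group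
        _ = y * (r * r) * y' := by rw [hry]; group
        _ = y * y' := by rw [hrr, mul_one]
    rw [← e1]
    exact mul_mem h h'

end Cfsg.Agent.Omega.IId.LFour.LemEY

end

private theorem dce_bdcfb43481a7 : _root_.True := by
  try have : _root_.True := by simp only [_root_.Cfsg.Agent.Omega.HTwo.Hat.ZQ.eq_1]
  try have : _root_.True := by simp only [_root_.Cfsg.Agent.Omega.HTwo.Hat.EE.eq_1]
  try have : _root_.True := by simp only [_root_.Cfsg.Agent.Omega.BTwo.ZZ.eq_1]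
  exact _root_.True.intro
end

-- part: Mrg/ParSys/FrontSys
section
prune_inst 0x10000100040000000000000000000000200000000000000100000000000080000001000000000000100200000000000000cc00000000000000000000000000000000000000000000000000000005180c00000000000000000000000000000000000000000
set_option linter.all false
open scoped Cfsg.Agent.FastGrp

-- merged: Cfsg.Agent.Mrg.ParSys.Front
section

section


/-!
# THEOREM PAR, front end: globalisation of the Borel subgroup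

`U` a `p`-subgroup of `G`, `U ≤ E i`, `T i := N_{E i}(U)`.  If `T j` normalises `E i` and the `T i / U` are commuting
`p'`-groups then `Bo := ⟨T i⟩ = U H` with `Bo / U` an abelian `p'`-group, and the `P i := E i Bo` are subgroups with
`E i ∩ Bo = T i`.  `Front.link` : the chamber system of `P i ⊔ P j` over `Bo` is the one of the rank two group `F`, when
`ψ : E i ⊔ E j → F` is surjective with `ψ⁻¹ (Borel) = N(U)`.
-/

set_option autoImplicit false

namespace Cfsg.Agent.ParSys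

open Subgroup

variable {G : Type*} [Group G] {I : Type*}

/-- The local Borel subgroup `N_E(U)`. -/
def Tn (U E : Subgroup G) : Subgroup G := E ⊓ normalizer (U : Set G)

/-- The global Borel subgroup. -/
def Bo (U : Subgroup G) (E : I → Subgroup G) : Subgroup G := ⨆ i, Tn U (E i)

/-- The minimal parabolic subgroups. -/
def Pa (U : Subgroup G) (E : I → Subgroup G) (i : I) : Subgroup G := Bo U E ⊔ E i

/-- The hypotheses for the globalisation of the Borel subgroup. -/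
structure Front (p : ℕ) (U : Subgroup G) (E : I → Subgroup G) : Prop where
  le : ∀ i, U ≤ E i
  isP : IsPGroup p U
  /-- `N_{E i}(U) / U` is a `p'`-group -/
  cop : ∀ i, ∀ x ∈ Tn U (E i), ∃ k : ℕ, p.Coprime k ∧ x ^ k ∈ U
  norm : ∀ i j, ∀ x ∈ Tn U (E j), x ∈ normalizer (E i : Set G)
  comm : ∀ i j, ∀ x ∈ Tn U (E i), ∀ y ∈ Tn U (E j), x * y * x⁻¹ * y⁻¹ ∈ U

theorem conj_mem_of_normalizer {K : Subgroup G} {x y : G} (hx : x ∈ normalizer (K : Set G)) (hy : y ∈ K) :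
    x * y * x⁻¹ ∈ K := (Subgroup.mem_normalizer_iff.mp hx y).mp hy

theorem conj_mem_of_normalizer' {K : Subgroup G} {x y : G} (hx : x ∈ normalizer (K : Set G)) (hy : y ∈ K) :
    x⁻¹ * y * x ∈ K := by
  have := conj_mem_of_normalizer (inv_mem hx) hy
  rwa [inv_inv] at this

/-- the elements of `N(U)` which commute with `y` modulo `U` -/
def CenU (U : Subgroup G) (y : G) : Subgroup G where
  carrier := {x | x ∈ normalizer (U : Set G) ∧ x * y * x⁻¹ * y⁻¹ ∈ U}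
  one_mem' := ⟨one_mem _, by simp⟩
  mul_mem' := by
    rintro a b ⟨ha, ha'⟩ ⟨hb, hb'⟩
    refine ⟨mul_mem ha hb, ?_⟩
    have h1 := conj_mem_of_normalizer ha hb'
    have e : a * b * y * (a * b)⁻¹ * y⁻¹ = a * (b * y * b⁻¹ * y⁻¹) * a⁻¹ * (a * y * a⁻¹ * y⁻¹) := by group
    rw [e]
    exact mul_mem h1 ha'
  inv_mem' := by
    rintro a ⟨ha, ha'⟩
    refine ⟨inv_mem ha, ?_⟩
    have h1 := conj_mem_of_normalizer' ha (inv_mem ha')
    have e : a⁻¹ * (a * y * a⁻¹ * y⁻¹)⁻¹ * a = a⁻¹ * y * a⁻¹⁻¹ * y⁻¹ := by group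
    rwa [e] at h1

theorem comm_symm {U : Subgroup G} {x y : G} (h : x * y * x⁻¹ * y⁻¹ ∈ U) : y * x * y⁻¹ * x⁻¹ ∈ U := by
  have := inv_mem h
  have e : (x * y * x⁻¹ * y⁻¹)⁻¹ = y * x * y⁻¹ * x⁻¹ := by group
  rwa [e] at this

namespace Front

variable {p : ℕ} {U : Subgroup G} {E : I → Subgroup G} (D : Front p U E)

theorem Tn_le (i : I) : Tn U (E i) ≤ Bo U E := le_iSup (fun i => Tn U (E i)) i

theorem Bo_le_norm : Bo U E ≤ normalizer (U : Set G) := iSup_le fun _ => inf_le_right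

theorem Bo_le_Pa (i : I) : Bo U E ≤ Pa U E i := le_sup_left

theorem E_le_Pa (i : I) : E i ≤ Pa U E i := le_sup_right

include D

theorem U_le_Tn (i : I) : U ≤ Tn U (E i) := le_inf (D.le i) Subgroup.le_normalizer

theorem U_le_Bo [Nonempty I] : U ≤ Bo U E :=
  (D.U_le_Tn (Classical.arbitrary I)).trans (Tn_le _)

theorem Bo_norm (i : I) : Bo U E ≤ normalizer (E i : Set G) := iSup_le fun j x hx => D.norm i j x hx

/-- `Bo / U` is abelian -/
theorem comm_mem {x y : G} (hx : x ∈ Bo U E) (hy : y ∈ Bo U E) : x * y * x⁻¹ * y⁻¹ ∈ U := by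
  have h1 : ∀ j, ∀ y, (hy : y ∈ Tn U (E j)) → Bo U E ≤ CenU U y := fun j y hy =>
    iSup_le fun i x hx => ⟨hx.2, D.comm i j x hx y hy⟩
  have h2 : Bo U E ≤ CenU U x := iSup_le fun j y hy =>
    ⟨hy.2, comm_symm (h1 j y hy hx).2⟩
  exact comm_symm (h2 hy).2

theorem exists_pow {x : G} (hx : x ∈ Bo U E) : ∃ k : ℕ, p.Coprime k ∧ x ^ k ∈ U := by
  have hU : ∀ {x : G}, x ∈ Bo U E → ∀ {u : G}, u ∈ U → ∀ k : ℕ, (x * u) ^ k * (x ^ k)⁻¹ ∈ U := by
    intro x hx u hu k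
    have hxN := Bo_le_norm hx
    induction k with
    | zero => simp
    | succ k ih =>
      have e : (x * u) ^ (k + 1) * (x ^ (k + 1))⁻¹ =
          (x * u) ^ k * (x ^ k)⁻¹ * (x ^ k * (x * u * x⁻¹) * (x ^ k)⁻¹) := by
        rw [pow_succ, pow_succ]; group
      rw [e]
      exact mul_mem ih (conj_mem_of_normalizer (pow_mem hxN k) (conj_mem_of_normalizer hxN hu))
  have hmul : ∀ {x y : G}, x ∈ Bo U E → y ∈ Bo U E → ∀ k : ℕ, (x * y) ^ k * (x ^ k * y ^ k)⁻¹ ∈ U := by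
    intro x y hx hy k
    induction k with
    | zero => simp
    | succ k ih =>
      have hc := D.comm_mem (pow_mem hy k) hx
      have e : (x * y) ^ (k + 1) * (x ^ (k + 1) * y ^ (k + 1))⁻¹ =
          (x * y) ^ k * (x ^ k * y ^ k)⁻¹ *
            (x ^ k * (y ^ k * x * (y ^ k)⁻¹ * x⁻¹) * (x ^ k)⁻¹) := by
        rw [pow_succ, pow_succ, pow_succ]; group
      rw [e]
      exact mul_mem ih (conj_mem_of_normalizer (pow_mem (Bo_le_norm hx) k) hc)
  unfold Bo at hx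
  induction hx using Subgroup.iSup_induction' with
  | hp i x hx => exact D.cop i x hx
  | h1 => exact ⟨1, Nat.coprime_one_right p, by simp⟩
  | hmul x y hx hy ihx ihy =>
    obtain ⟨k, hk, hxk⟩ := ihx
    obtain ⟨l, hl, hyl⟩ := ihy
    refine ⟨k * l, Nat.Coprime.mul_right hk hl, ?_⟩
    have h1 := hmul hx hy (k * l)
    have h2 : x ^ (k * l) * y ^ (k * l) ∈ U := by
      rw [pow_mul, mul_comm k l, pow_mul]
      exact mul_mem (pow_mem hxk l) (pow_mem hyl k)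
    have h3 := mul_mem h1 h2
    rwa [inv_mul_cancel_right] at h3

theorem mem_of_pow {x : G} (hx : x ∈ Bo U E) {a : ℕ} (ha : x ^ p ^ a = 1) : x ∈ U := by
  obtain ⟨k, hk, hxk⟩ := D.exists_pow hx
  exact Hall.mem_of_pow_mem_of_coprime (a := p ^ a) (b := k) (by rw [ha]; exact one_mem _) hxk (hk.pow_left a)

/-- **The Hall complement.** -/
theorem exists_hall [Nonempty I] [Finite G] [hp : Fact p.Prime] :
    ∃ H : Subgroup G, Hall.HallData p (Bo U E) U H ∧ U ⊔ H = Bo U E := by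
  have hUB := D.U_le_Bo
  have hn : (U.subgroupOf (Bo U E)).Normal :=
    Subgroup.normal_subgroupOf_of_le_normalizer Bo_le_norm
  have hcop : (Nat.card (U.subgroupOf (Bo U E))).Coprime (U.subgroupOf (Bo U E)).index := by
    have h1 : Nat.card (U.subgroupOf (Bo U E)) = Nat.card U :=
      Nat.card_congr (Subgroup.subgroupOfEquivOfLe hUB).toEquiv
    obtain ⟨a, ha⟩ := (IsPGroup.iff_card (p := p)).mp D.isP
    rw [h1, ha]
    apply Nat.Coprime.pow_left
    rw [Nat.Prime.coprime_iff_not_dvd hp.out]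
    intro hd
    rw [Subgroup.index_eq_card] at hd
    obtain ⟨z, hz⟩ := exists_prime_orderOf_dvd_card' (G := Bo U E ⧸ U.subgroupOf (Bo U E)) p hd
    obtain ⟨x, rfl⟩ := QuotientGroup.mk'_surjective (U.subgroupOf (Bo U E)) z
    obtain ⟨k, hk, hxk⟩ := D.exists_pow x.2
    have h2 : (QuotientGroup.mk' (U.subgroupOf (Bo U E)) x) ^ k = 1 := by
      rw [← map_pow, QuotientGroup.mk'_apply, QuotientGroup.eq_one_iff, Subgroup.mem_subgroupOf]
      simpa using hxk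
    have h3 := orderOf_dvd_of_pow_eq_one h2
    rw [hz] at h3
    exact (Nat.Prime.coprime_iff_not_dvd hp.out).1 hk h3
  obtain ⟨H', hH'⟩ := Subgroup.exists_right_complement'_of_coprime hcop
  set H : Subgroup G := H'.map (Bo U E).subtype with hH
  have hHB : H ≤ Bo U E := by
    rintro _ ⟨x, -, rfl⟩
    exact x.2
  have hsup : U ⊔ H = Bo U E := by
    apply le_antisymm (sup_le hUB hHB)
    intro x hx
    have h1 := hH'.sup_eq_top
    have h2 : (⟨x, hx⟩ : Bo U E) ∈ U.subgroupOf (Bo U E) ⊔ H' := by rw [h1]; trivial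
    have h3 := Subgroup.mem_map_of_mem (Bo U E).subtype h2
    rw [Subgroup.map_sup, Subgroup.subgroupOf_map_subtype] at h3
    have h4 : U ⊓ Bo U E ⊔ H'.map (Bo U E).subtype ≤ U ⊔ H := sup_le_sup_right inf_le_left _
    exact h4 h3
  refine ⟨H, ?_, hsup⟩
  exact {
    U_le := hUB
    H_le := hHB
    U_norm := Bo_le_norm
    U_pgroup := D.isP
    H_cop := by
      have h1 : Nat.card H = Nat.card H' := Nat.card_congr
        (Subgroup.equivMapOfInjective H' _ (Bo U E).subtype_injective).symm.toEquiv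
      have h2 : Nat.card H' = (U.subgroupOf (Bo U E)).index := by
        rw [← hH'.symm.index_eq_card]
      rw [Nat.Prime.coprime_iff_not_dvd hp.out, h1, h2, Subgroup.index_eq_card]
      intro hd
      obtain ⟨z, hz⟩ := exists_prime_orderOf_dvd_card' (G := Bo U E ⧸ U.subgroupOf (Bo U E)) p hd
      obtain ⟨x, rfl⟩ := QuotientGroup.mk'_surjective (U.subgroupOf (Bo U E)) z
      obtain ⟨k, hk, hxk⟩ := D.exists_pow x.2
      have h2 : (QuotientGroup.mk' (U.subgroupOf (Bo U E)) x) ^ k = 1 := by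
        rw [← map_pow, QuotientGroup.mk'_apply, QuotientGroup.eq_one_iff, Subgroup.mem_subgroupOf]
        simpa using hxk
      have h3 := orderOf_dvd_of_pow_eq_one h2
      rw [hz] at h3
      exact (Nat.Prime.coprime_iff_not_dvd hp.out).1 hk h3
    UH_norm := by rw [hsup]; exact Subgroup.le_normalizer
    index := ⟨0, by rw [hsup, Subgroup.relIndex_self, pow_zero]⟩
    core := by
      intro T hTB hT _ x hx
      obtain ⟨a, ha⟩ := hT ⟨x, hx⟩
      exact D.mem_of_pow (hTB hx) (a := a) (by simpa using congrArg Subtype.val ha) }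

theorem mem_Pa {i : I} {x : G} (hx : x ∈ Pa U E i) : ∃ e ∈ E i, ∃ b ∈ Bo U E, x = e * b :=
  Solvable.Glauberman.exists_mul_of_mem_sup (Bo U E) (E i) (D.Bo_norm i) hx

/-- **The link** between the residue of type `{i, j}` and a group `F` of rank two. -/
theorem link {i j : I} {F : Type*} [Group F] {B' : Subgroup F} {P' : I → Subgroup F}
    (hgen' : (E i ⊔ E j) ⊓ normalizer (U : Set G) ≤ Bo U E)
    (ψ : ↥(E i ⊔ E j) →* F) (hψ : Function.Surjective ψ)
    (hB : ∀ x : ↥(E i ⊔ E j), (x : G) ∈ normalizer (U : Set G) ↔ ψ x ∈ B')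
    (hP : ∀ k, k = i ∨ k = j → ∀ x : ↥(E i ⊔ E j), (x : G) ∈ Pa U E k ↔ ψ x ∈ P' k) :
    Link (Bo U E) (Pa U E) i j B' P' (fun g e => ∃ y : ↥(E i ⊔ E j), ψ y = e ∧ (y : G)⁻¹ * g ∈ Bo U E) := by
  have hB' : ∀ x : ↥(E i ⊔ E j), (x : G) ∈ Bo U E ↔ ψ x ∈ B' := fun x =>
    ⟨fun h => (hB x).1 (Bo_le_norm h), fun h => hgen' ⟨x.2, (hB x).2 h⟩⟩
  exact {
    one := ⟨1, map_one ψ, by simp only [_root_.OneMemClass.coe_one, _root_.inv_one, _root_.mul_one, _root_.OneMemClass.one_mem]⟩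
    memB := by
      rintro g e g' e' ⟨y, rfl, hy⟩ ⟨y', rfl, hy'⟩
      rw [← map_inv, ← map_mul, ← hB']
      have e1 : g⁻¹ * g' = ((y : G)⁻¹ * g)⁻¹ * ((y : G)⁻¹ * y') * ((y' : G)⁻¹ * g') := by group
      rw [e1]
      constructor
      · intro h
        have := mul_mem (mul_mem hy h) (inv_mem hy')
        have e2 : (y : G)⁻¹ * g * (((y : G)⁻¹ * g)⁻¹ * ((y : G)⁻¹ * y') * ((y' : G)⁻¹ * g')) *
            ((y' : G)⁻¹ * g')⁻¹ = ((y⁻¹ * y' : ↥(E i ⊔ E j)) : G) := by push_cast; group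
        rwa [e2] at this
      · intro h
        exact mul_mem (mul_mem (inv_mem hy) h) hy'
    memP := by
      rintro k hk g e g' e' ⟨y, rfl, hy⟩ ⟨y', rfl, hy'⟩
      have hy := Bo_le_Pa k hy
      have hy' := Bo_le_Pa k hy'
      rw [← map_inv, ← map_mul, ← hP k hk]
      have e1 : g⁻¹ * g' = ((y : G)⁻¹ * g)⁻¹ * ((y : G)⁻¹ * y') * ((y' : G)⁻¹ * g') := by group
      rw [e1]
      constructor
      · intro h
        have := mul_mem (mul_mem hy h) (inv_mem hy')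
        have e2 : (y : G)⁻¹ * g * (((y : G)⁻¹ * g)⁻¹ * ((y : G)⁻¹ * y') * ((y' : G)⁻¹ * g')) *
            ((y' : G)⁻¹ * g')⁻¹ = ((y⁻¹ * y' : ↥(E i ⊔ E j)) : G) := by push_cast; group
        rwa [e2] at this
      · intro h
        exact mul_mem (mul_mem (inv_mem hy) h) hy'
    ex := by
      rintro k hk g e ⟨y, rfl, hy⟩ x hx
      obtain ⟨c, hc, b, hb, h1⟩ := D.mem_Pa (i := k) (mul_mem (Bo_le_Pa k hy) hx)
      have hc' : c ∈ E i ⊔ E j := by
        rcases hk with rfl | rfl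
        · exact (le_sup_left : E _ ≤ _) hc
        · exact (le_sup_right : E _ ≤ _) hc
      refine ⟨ψ (y * ⟨c, hc'⟩), y * ⟨c, hc'⟩, rfl, ?_⟩
      have e1 : ((y * ⟨c, hc'⟩ : ↥(E i ⊔ E j)) : G)⁻¹ * (g * x) = c⁻¹ * ((y : G)⁻¹ * g * x) := by
        push_cast; group
      rw [e1, h1, inv_mul_cancel_left]
      exact hb
    sur := by
      intro e
      obtain ⟨y, rfl⟩ := hψ e
      exact ⟨y, y, rfl, by simp⟩
    act := by
      intro z
      obtain ⟨w, rfl⟩ := hψ z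
      refine ⟨w, ?_⟩
      rintro g e ⟨y, rfl, hy⟩
      refine ⟨w * y, map_mul ψ w y, ?_⟩
      have e1 : ((w * y : ↥(E i ⊔ E j)) : G)⁻¹ * (w * g) = (y : G)⁻¹ * g := by push_cast; group
      rwa [e1] }

end Front

end Cfsg.Agent.ParSys

end

section


/-!
# Parabolic systems: the pairs whose residue is a product of two rank ones

* `Digon B P Q` : `P Q = Q P` and `P ⊓ Q ≤ B`; it gives the fields `unq`, `braid` and `g1` of `ParSys.Data` for `m = 2`.
* `Pair B P Q L M` : `P = L B`, `Q = M B`, `B` normalises `L` and `M`, `[L, M] ≤ B`; it gives a digon if `P ≠ Q`.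
* `pan_commutator` : the torus of one of the two factors gives (G1).
-/

set_option autoImplicit false
set_option linter.style.haveILetI false

namespace Cfsg.Agent.ParSys

open Subgroup

variable {G : Type*} [Group G] {I : Type*}

/-- The residue generated by the panels `P / B` and `Q / B` is a digon. -/
structure Digon (B P Q : Subgroup G) : Prop where
  left : B ≤ P
  right : B ≤ Q
  comm : ∀ a ∈ P, ∀ b ∈ Q, ∃ b' ∈ Q, ∃ a' ∈ P, a * b = b' * a'
  inf : ∀ x ∈ P, x ∈ Q → x ∈ B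

namespace Digon

variable {B P Q : Subgroup G}

theorem symm (D : Digon B P Q) : Digon B Q P where
  left := D.right
  right := D.left
  comm := by
    intro a ha b hb
    obtain ⟨b', hb', a', ha', e⟩ := D.comm b⁻¹ (inv_mem hb) a⁻¹ (inv_mem ha)
    refine ⟨a'⁻¹, inv_mem ha', b'⁻¹, inv_mem hb', ?_⟩
    have := congrArg (·⁻¹) e
    simpa only [mul_inv_rev, _root_.inv_inv] using this
  inf := fun x h1 h2 => D.inf x h2 h1

/-- `y ∈ B` which fixes the end of the gallery `B, n B, n n' B` fixes `n B`. -/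
theorem unq_aux (D : Digon B P Q) {n n' : G} (hn : n ∈ P) (hn' : n' ∈ Q) {y : G} (hy : y ∈ B)
    (h : (n * n')⁻¹ * y * (n * n') ∈ B) : n⁻¹ * y * n ∈ B := by
  refine D.inf _ (mul_mem (mul_mem (inv_mem hn) (D.left hy)) hn) ?_
  have e : n⁻¹ * y * n = n' * ((n * n')⁻¹ * y * (n * n')) * n'⁻¹ := by group
  rw [e]
  exact mul_mem (mul_mem hn' (D.right h)) (inv_mem hn')

/-- `n n' B = n' n B` -/
theorem braid_aux (D : Digon B P Q) {H₀ : Subgroup G} (hH : H₀ ≤ B)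
    {n n' : G} (hn : n ∈ P) (hnH : n ∈ normalizer (H₀ : Set G))
    (hn' : n' ∈ Q) (hnB' : n' ∉ B) (hnH' : n' ∈ normalizer (H₀ : Set G))
    (huQ : ∀ g ∈ Q, g ∉ B → (∀ a ∈ H₀, g⁻¹ * a * g ∈ B) → g⁻¹ * n' ∈ B) :
    (n * n')⁻¹ * (n' * n) ∈ P := by
  obtain ⟨b, hb, a, ha, e⟩ := D.comm n hn n' hn'
  have hbB : b ∉ B := by
    intro h
    apply hnB'
    refine D.inf _ ?_ hn'
    have : n' = n⁻¹ * (b * a) := by rw [← e]; group
    rw [this]
    exact mul_mem (inv_mem hn) (mul_mem (D.left h) ha)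
  have h1 : b⁻¹ * n' ∈ B := by
    refine huQ b hb hbB fun h hh => ?_
    refine D.inf _ ?_ (mul_mem (mul_mem (inv_mem hb) (D.right (hH hh))) hb)
    have hnn : n * n' ∈ normalizer (H₀ : Set G) := mul_mem hnH hnH'
    have h2 : (n * n')⁻¹ * h * (n * n') ∈ H₀ := by
      have := (mem_normalizer_iff.mp (inv_mem hnn) h).mp hh
      simpa using this
    have e2 : b⁻¹ * h * b = a * ((n * n')⁻¹ * h * (n * n')) * a⁻¹ := by rw [e]; group
    rw [e2]
    exact mul_mem (mul_mem ha (D.left (hH h2))) (inv_mem ha)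
  have e3 : (n * n')⁻¹ * (n' * n) = a⁻¹ * (b⁻¹ * n') * n := by rw [e]; group
  rw [e3]
  exact mul_mem (mul_mem (inv_mem ha) (D.left h1)) hn

/-- the braid relation, `m = 2` -/
theorem braid_mem (D : Digon B P Q) {H₀ : Subgroup G} (hH : H₀ ≤ B)
    {n n' : G} (hn : n ∈ P) (hnB : n ∉ B) (hnH : n ∈ normalizer (H₀ : Set G))
    (hn' : n' ∈ Q) (hnB' : n' ∉ B) (hnH' : n' ∈ normalizer (H₀ : Set G))
    (huP : ∀ g ∈ P, g ∉ B → (∀ a ∈ H₀, g⁻¹ * a * g ∈ B) → g⁻¹ * n ∈ B)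
    (huQ : ∀ g ∈ Q, g ∉ B → (∀ a ∈ H₀, g⁻¹ * a * g ∈ B) → g⁻¹ * n' ∈ B) :
    (n * n')⁻¹ * (n' * n) ∈ B ⊓ normalizer (H₀ : Set G) := by
  refine ⟨D.inf _ (D.braid_aux hH hn hnH hn' hnB' hnH' huQ) ?_, ?_⟩
  · have h := D.symm.braid_aux hH hn' hnH' hn hnB hnH huP
    have := inv_mem h
    simpa only [mul_assoc, _root_.mul_inv_rev, _root_.inv_inv] using this
  · exact (normalizer (H₀ : Set G)).mul_mem ((normalizer (H₀ : Set G)).inv_mem (mul_mem hnH hnH')) (mul_mem hnH' hnH)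

/-- The key step of (G1): an element of `T` which fixes `n B` and moves the chamber of `Q / B` below `n n' B` to the one
below `n x B`. -/
theorem step (D : Digon B P Q) {T : Subgroup G} {n n' x : G} (hn' : n' ∈ Q)
    (hx : x ∈ Q) {b a b' a' : G} (ha : a ∈ P) (ha' : a' ∈ P) (e : n * n' = b * a)
    (e' : n * x = b' * a') {s : G} (hs : s ∈ T) (hsn : n⁻¹ * s * n ∈ B) (hsb : b'⁻¹ * s * b ∈ B) :
    ∃ t ∈ stp B n T, (t * n')⁻¹ * x ∈ B := by
  refine ⟨n⁻¹ * s * n, ⟨?_, hsn⟩, ?_⟩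
  · show n * (n⁻¹ * s * n) * n⁻¹ ∈ T
    have : n * (n⁻¹ * s * n) * n⁻¹ = s := by group
    rwa [this]
  · refine D.inf _ ?_ ?_
    · have e1 : (n⁻¹ * s * n * n')⁻¹ * x = a⁻¹ * (b'⁻¹ * s * b)⁻¹ * a' := by
        have e2 : (n⁻¹ * s * n * n')⁻¹ * x = (n * n')⁻¹ * s⁻¹ * (n * x) := by group
        rw [e2, e, e']; group
      rw [e1]
      exact mul_mem (mul_mem (inv_mem ha) (D.left (inv_mem hsb))) ha'
    · exact mul_mem (inv_mem (mul_mem (D.right hsn) hn')) hx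

end Digon

/-! ### The fields of `ParSys.Data` -/

namespace Digon

variable {B : Subgroup G} {P : I → Subgroup G} {n : I → G} {i j : I}

/-- field `unq` -/
theorem unq (D : Digon B (P i) (P j)) (hi : n i ∈ P i) (hj : n j ∈ P j) {m : ℕ} (hm : m = 2) :
    ∀ y ∈ B, (nw n (alt i j m))⁻¹ * y * nw n (alt i j m) ∈ B →
      ∀ k ≤ m, (nw n (alt i j k))⁻¹ * y * nw n (alt i j k) ∈ B := by
  subst hm
  intro y hy h k hk
  have h' : (n i * n j)⁻¹ * y * (n i * n j) ∈ B := by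
    simpa [alt_cons] using h
  rcases k with _ | _ | _ | k
  · simpa using hy
  · have := D.unq_aux hi hj hy h'
    simpa only [alt_cons, _root_.zero_add, _root_.Cfsg.Agent.ParSys.alt_zero, _root_.Cfsg.Agent.ParSys.nw_cons, _root_.Cfsg.Agent.ParSys.nw_nil, _root_.mul_one] using this
  · exact h
  · omega

/-- field `braid` -/
theorem braid (D : Digon B (P i) (P j)) {H₀ : Subgroup G} (hH : H₀ ≤ B)
    (hi : n i ∈ P i) (hiB : n i ∉ B) (hiH : n i ∈ normalizer (H₀ : Set G))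
    (hj : n j ∈ P j) (hjB : n j ∉ B) (hjH : n j ∈ normalizer (H₀ : Set G))
    (hui : ∀ g ∈ P i, g ∉ B → (∀ a ∈ H₀, g⁻¹ * a * g ∈ B) → g⁻¹ * n i ∈ B)
    (huj : ∀ g ∈ P j, g ∉ B → (∀ a ∈ H₀, g⁻¹ * a * g ∈ B) → g⁻¹ * n j ∈ B) {m : ℕ} (hm : m = 2) :
    (nw n (alt i j m))⁻¹ * nw n (alt j i m) ∈ B ⊓ normalizer (H₀ : Set G) := by
  subst hm
  have := D.braid_mem hH hi hiB hiH hj hjB hjH hui huj
  simpa only [alt_cons, _root_.Cfsg.Agent.ParSys.alt_zero, _root_.Cfsg.Agent.ParSys.nw_cons, _root_.Cfsg.Agent.ParSys.nw_nil, _root_.mul_one, _root_.mul_inv_rev, _root_.Subgroup.mem_inf] using this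

end Digon

/-! ### Pairs of commuting factors -/

/-- `P = L B`, `Q = M B` and `[L, M] ≤ B` -/
structure Pair (B P Q L M : Subgroup G) : Prop where
  left : B ≤ P
  right : B ≤ Q
  L_le : L ≤ P
  M_le : M ≤ Q
  eqP : ∀ x ∈ P, ∃ l ∈ L, ∃ b ∈ B, x = l * b
  eqQ : ∀ x ∈ Q, ∃ l ∈ M, ∃ b ∈ B, x = l * b
  normL : B ≤ normalizer (L : Set G)
  normM : B ≤ normalizer (M : Set G)
  comm : ∀ x ∈ L, ∀ y ∈ M, x⁻¹ * y⁻¹ * x * y ∈ B

namespace Pair

variable {B P Q L M : Subgroup G}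

theorem symm (D : Pair B P Q L M) : Pair B Q P M L where
  left := D.right
  right := D.left
  L_le := D.M_le
  M_le := D.L_le
  eqP := D.eqQ
  eqQ := D.eqP
  normL := D.normM
  normM := D.normL
  comm := fun x hx y hy => by
    have := inv_mem (D.comm y hy x hx)
    have e : x⁻¹ * y⁻¹ * x * y = (y⁻¹ * x⁻¹ * y * x)⁻¹ := by group
    rw [e]; exact this

/-- `L ⊓ B` fixes `Q / B` -/
theorem fix (D : Pair B P Q L M) {t : G} (ht : t ∈ L) (htB : t ∈ B) {x : G} (hx : x ∈ Q) : x⁻¹ * t * x ∈ B := by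
  obtain ⟨y, hy, b, hb, rfl⟩ := D.eqQ x hx
  have h := D.comm t ht y hy
  have e : (y * b)⁻¹ * t * (y * b) = b⁻¹ * (t * (t⁻¹ * y⁻¹ * t * y)) * b := by group
  rw [e]
  exact mul_mem (mul_mem (inv_mem hb) (mul_mem htB h)) hb

theorem digon (D : Pair B P Q L M) (hinf : ∀ x ∈ P, x ∈ Q → x ∈ B) : Digon B P Q where
  left := D.left
  right := D.right
  comm := by
    intro a ha b hb
    obtain ⟨l, hl, b₁, hb₁, rfl⟩ := D.eqP a ha
    obtain ⟨y, hy, b₂, hb₂, rfl⟩ := D.eqQ b hb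
    have hy' : b₁ * y * b₁⁻¹ ∈ M := (mem_normalizer_iff.mp (D.normM hb₁) y).mp hy
    refine ⟨b₁ * y * b₁⁻¹, D.M_le hy', l * (l⁻¹ * (b₁ * y * b₁⁻¹)⁻¹ * l * (b₁ * y * b₁⁻¹)) * (b₁ * b₂), ?_, by group⟩
    exact mul_mem (mul_mem (D.L_le hl) (D.left (D.comm l hl _ hy'))) (D.left (mul_mem hb₁ hb₂))
  inf := hinf

end Pair

/-! ### The torus of one factor -/

/-- the subgroup generated by the commutators of `T` and `A` -/
def cmt (T A : Subgroup G) : Subgroup G := _root_.Subgroup.closure {x | ∃ t ∈ T, ∃ a ∈ A, x = t * a * t⁻¹ * a⁻¹}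

theorem cmt_le_left {T A : Subgroup G} (h : A ≤ normalizer (T : Set G)) : cmt T A ≤ T := by
  unfold cmt
  rw [closure_le]
  rintro _ ⟨t, ht, a, ha, rfl⟩
  have : t * a * t⁻¹ * a⁻¹ = t * (a * t⁻¹ * a⁻¹) := by group
  rw [SetLike.mem_coe, this]
  exact mul_mem ht ((mem_normalizer_iff.mp (h ha) _).mp (inv_mem ht))

theorem cmt_le_right {T A L : Subgroup G} (hA : A ≤ L) (h : T ≤ normalizer (L : Set G)) : cmt T A ≤ L := by
  unfold cmt
  rw [closure_le]
  rintro _ ⟨t, ht, a, ha, rfl⟩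
  rw [SetLike.mem_coe]
  exact mul_mem ((mem_normalizer_iff.mp (h ht) _).mp (hA ha)) (inv_mem (hA ha))

/-- The hypothesis on one panel: `K` is normal in `P`, contained in `B`, the group `U` is regular on the
chambers `≠ B` modulo `K`, and `U = [U, A] K` modulo `K`. -/
structure Torus (B P U A K : Subgroup G) (n : G) : Prop where
  K_le : K ≤ B
  K_norm : P ≤ normalizer (K : Set G)
  reg : ∀ u ∈ U, n⁻¹ * u * n ∈ B → u ∈ K
  A_le : A ≤ B
  gen : U ≤ cmt U A ⊔ K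

theorem Torus.mono {B P U A A' K : Subgroup G} {n : G} (D : Torus B P U A K n) (h : A ≤ A') (h' : A' ≤ B) :
    Torus B P U A' K n where
  K_le := D.K_le
  K_norm := D.K_norm
  reg := D.reg
  A_le := h'
  gen := D.gen.trans (sup_le_sup_right (Subgroup.closure_mono (by
    rintro _ ⟨t, ht, a, ha, rfl⟩
    exact ⟨t, ht, a, h ha, rfl⟩)) _)

/-- `[T, A]` is transitive on the panel if `T` is. -/
theorem Torus.pan {B P U A K : Subgroup G} {n : G} (D : Torus B P U A K n) (hBP : B ≤ P) (hU : U ≤ B)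
    (hn : n ∈ P) (hnB : n ∉ B)
    {T : Subgroup G} (hT : T ≤ U) (hA : A ≤ normalizer (T : Set G))
    (hU' : ∀ x ∈ P, x ∉ B → ∃ u ∈ U, (u * n)⁻¹ * x ∈ B)
    (hpan : ∀ x ∈ P, x ∉ B → ∃ t ∈ T, (t * n)⁻¹ * x ∈ B) :
    ∀ x ∈ P, x ∉ B → ∃ t ∈ cmt T A, (t * n)⁻¹ * x ∈ B := by
  have hKB : B ≤ normalizer (K : Set G) := hBP.trans D.K_norm
  have hTU : ∀ u ∈ U, ∃ t ∈ T, ∃ k ∈ K, u = t * k := by
    intro u hu
    have h1 : u * n ∈ P := mul_mem (hBP (hU hu)) hn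
    have h2 : u * n ∉ B := fun h => hnB (by
      have := mul_mem (inv_mem (hU hu)) h
      rwa [inv_mul_cancel_left] at this)
    obtain ⟨t, ht, h3⟩ := hpan _ h1 h2
    refine ⟨t, ht, t⁻¹ * u, D.reg _ (mul_mem (inv_mem (hT ht)) hu) ?_, by group⟩
    have : n⁻¹ * (t⁻¹ * u) * n = (t * n)⁻¹ * (u * n) := by group
    rw [this]; exact h3
  have hcT : cmt T A ≤ B := (cmt_le_left hA).trans (hT.trans hU)
  have hle : cmt U A ≤ cmt T A ⊔ K := by
    unfold cmt
    rw [closure_le]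
    rintro _ ⟨u, hu, a, ha, rfl⟩
    obtain ⟨t, ht, k, hk, rfl⟩ := hTU u hu
    have e : t * k * a * (t * k)⁻¹ * a⁻¹ =
        (t * (k * (a * k⁻¹ * a⁻¹)) * t⁻¹) * (t * a * t⁻¹ * a⁻¹) := by group
    rw [SetLike.mem_coe, e]
    refine mul_mem (mem_sup_right ?_) (mem_sup_left (subset_closure ⟨t, ht, a, ha, rfl⟩))
    have hk1 : k * (a * k⁻¹ * a⁻¹) ∈ K :=
      mul_mem hk ((mem_normalizer_iff.mp (hKB (D.A_le ha)) _).mp (inv_mem hk))
    exact (mem_normalizer_iff.mp (hKB (hU (hT ht))) _).mp hk1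
  have hle2 : U ≤ cmt T A ⊔ K := D.gen.trans (sup_le hle le_sup_right)
  intro x hx hxB
  obtain ⟨u, hu, h1⟩ := hU' x hx hxB
  obtain ⟨k, hk, c, hc, rfl⟩ := Solvable.Glauberman.exists_mul_of_mem_sup (cmt T A) K (hcT.trans hKB) (hle2 hu)
  refine ⟨c, hc, ?_⟩
  have h2 : c⁻¹ * k * c ∈ K := by
    have := (mem_normalizer_iff.mp (hKB (inv_mem (hcT hc))) k).mp hk
    simpa using this
  have h3 : n⁻¹ * (c⁻¹ * k * c) * n ∈ K := by
    have := (mem_normalizer_iff.mp (D.K_norm (inv_mem hn)) _).mp h2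
    simpa only [_root_.inv_inv] using this
  have e : (c * n)⁻¹ * x = (n⁻¹ * (c⁻¹ * k * c) * n) * ((k * c * n)⁻¹ * x) := by group
  rw [e]
  exact mul_mem (D.K_le h3) h1

/-! ### (G1) for a pair of commuting factors -/

/-! ### The torus of a perfect factor -/

open scoped commutatorElement in
/-- A TI subgroup `X` with `N(X) = X A`, `|A|` prime to `p`: if `X ≤ Y'`, then `X = [X, A]`. -/
theorem le_cmt_of_ti {Y : Type*} [Group Y] [Finite Y] {p : ℕ} [Fact p.Prime] (X A : Subgroup Y)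
    (hX : IsPGroup p X) (hA : p.Coprime (Nat.card A)) (hAX : A ≤ normalizer (X : Set Y))
    (hTI : ∀ x ∈ X, x ≠ 1 → ∀ g : Y, g * x * g⁻¹ ∈ X → ∃ y ∈ X, ∃ a ∈ A, g = y * a)
    (hcomm : X ≤ commutator Y) : X ≤ cmt X A := by
  rcases eq_or_ne X ⊥ with hbot | hbot
  · rw [hbot]; exact bot_le
  obtain ⟨x₀, hx₀, hx₀1⟩ := (X.bot_or_exists_ne_one).resolve_left hbot
  -- `X` is a Sylow subgroup
  have hmax : ∀ {R : Subgroup Y}, IsPGroup p R → X ≤ R → R = X := by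
    intro R hR hXR
    by_contra hne
    have hlt : X.subgroupOf R < ⊤ := by
      rw [lt_top_iff_ne_top]
      intro h
      rw [subgroupOf_eq_top] at h
      exact hne (le_antisymm h hXR)
    haveI := hR.isNilpotent
    have h1 := Group.normalizerCondition_of_isNilpotent (G := R) _ hlt
    obtain ⟨g, hg, hgX⟩ := SetLike.exists_of_lt h1
    apply hgX
    rw [mem_subgroupOf]
    have h2 : (g : Y) * x₀ * (g : Y)⁻¹ ∈ X := by
      have := (mem_normalizer_iff.mp hg ⟨x₀, hXR hx₀⟩).mp (by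
        rw [mem_subgroupOf]; exact hx₀)
      rw [mem_subgroupOf] at this
      exact this
    obtain ⟨y, hy, a, ha, e⟩ := hTI x₀ hx₀ hx₀1 g h2
    have haR : a ∈ R := by
      have : a = y⁻¹ * g := by rw [e]; group
      rw [this]
      exact mul_mem (inv_mem (hXR hy)) g.2
    have ha1 : a = 1 := by
      obtain ⟨k, hk⟩ := hR ⟨a, haR⟩
      have hk' : a ^ p ^ k = 1 := by simpa only [_root_.SubmonoidClass.mk_pow, _root_.OneMemClass.coe_one] using congrArg Subtype.val hk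
      have := Hall.mem_of_pow_mem_of_coprime (K := (⊥ : Subgroup Y)) (x := a) (a := p ^ k) (b := Nat.card A)
        (by rw [hk']; exact one_mem _) (by rw [Hall.pow_card_of_mem ha]; exact one_mem _) (hA.pow_left k)
      exact mem_bot.mp this
    rw [e, ha1, mul_one]; exact hy
  let S : Sylow p Y := ⟨X, hX, hmax⟩
  have hfoc := Subgroup.commutator_inf_eq_focalSubgroup S
  have hfoc' : commutator Y ⊓ X = Subgroup.focalSubgroup X := hfoc
  rw [inf_eq_right.mpr hcomm] at hfoc'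
  set C := cmt X A with hC
  have hCX : C ≤ X := cmt_le_left hAX
  -- `C` is normal in `X`
  have hCn : X ≤ normalizer (C : Set Y) := by
    have key : ∀ x ∈ X, ∀ c ∈ C, x * c * x⁻¹ ∈ C := by
      intro x hx c hc
      rw [hC] at hc ⊢
      unfold cmt at hc ⊢
      induction hc using closure_induction with
      | mem z hz =>
        obtain ⟨t, ht, a, ha, rfl⟩ := hz
        have e : x * (t * a * t⁻¹ * a⁻¹) * x⁻¹ = ((x * t) * a * (x * t)⁻¹ * a⁻¹) * (x * a * x⁻¹ * a⁻¹)⁻¹ := by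
          group
        rw [e]
        exact mul_mem (subset_closure ⟨x * t, mul_mem hx ht, a, ha, rfl⟩)
          (inv_mem (subset_closure ⟨x, hx, a, ha, rfl⟩))
      | one => simp only [one_mem, _root_.mul_one, _root_.mul_inv_cancel]
      | mul a b _ _ h1 h2 =>
        have e : x * (a * b) * x⁻¹ = (x * a * x⁻¹) * (x * b * x⁻¹) := by group
        rw [e]; exact mul_mem h1 h2
      | inv a _ h1 =>
        have e : x * a⁻¹ * x⁻¹ = (x * a * x⁻¹)⁻¹ := by group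
        rw [e]; exact inv_mem h1
    intro x hx
    rw [mem_normalizer_iff]
    intro c
    refine ⟨key x hx c, fun h => ?_⟩
    have := key x⁻¹ (inv_mem hx) _ h
    simpa [mul_assoc] using this
  have hle : X ≤ C ⊔ ⁅X, X⁆ := by
    conv_lhs => rw [hfoc']
    rw [Subgroup.focalSubgroup_def, Subgroup.closure_le]
    rintro g ⟨hg, x, hx, u, rfl⟩
    rw [SetLike.mem_coe]
    rcases eq_or_ne x 1 with rfl | hx1
    · rw [commutatorElement_one_left]; exact one_mem _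
    have hy : u * x * u⁻¹ ∈ X := by
      have h1 : (⁅x, u⁆)⁻¹ * x ∈ X := mul_mem (inv_mem hg) hx
      have h2 : (⁅x, u⁆)⁻¹ * x = u * x * u⁻¹ := by
        rw [commutatorElement_def]; group
      rwa [h2] at h1
    obtain ⟨y, hyX, a, ha, rfl⟩ := hTI x hx hx1 u hy
    have hx' : a * x * a⁻¹ ∈ X := (mem_normalizer_iff.mp (hAX ha) x).mp hx
    have e : ⁅x, y * a⁆ = (x * a * x⁻¹ * a⁻¹) * ⁅a * x * a⁻¹, y⁆ := by
      rw [commutatorElement_def, commutatorElement_def]; group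
    rw [e]
    exact mul_mem (mem_sup_left (subset_closure ⟨x, hx, a, ha, rfl⟩))
      (mem_sup_right (commutator_mem_commutator hx' hyX))
  -- `X / C` is perfect and solvable
  haveI hn : (C.subgroupOf X).Normal := by
    constructor
    intro c hc g
    rw [mem_subgroupOf] at hc ⊢
    have := (mem_normalizer_iff.mp (hCn g.2) (c : Y)).mp hc
    simpa only [_root_.Subgroup.coe_mul, _root_.InvMemClass.coe_inv] using this
  haveI := hX.isNilpotent
  by_contra hnot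
  have hnt : Nontrivial (X ⧸ C.subgroupOf X) := by
    rw [QuotientGroup.nontrivial_iff]
    intro h
    rw [subgroupOf_eq_top] at h
    exact hnot h
  have hlt := Group.IsSolvable.commutator_lt_top_of_nontrivial (X ⧸ C.subgroupOf X)
  apply hlt.ne
  rw [eq_top_iff]
  intro z _
  obtain ⟨x, rfl⟩ := QuotientGroup.mk'_surjective (C.subgroupOf X) z
  obtain ⟨d, hd, c, hc, e⟩ := Solvable.Glauberman.exists_mul_of_mem_sup C ⁅X, X⁆
    (hCX.trans (by
      intro g hg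
      rw [mem_normalizer_iff]
      have key : ∀ g ∈ X, ∀ h ∈ ⁅X, X⁆, g * h * g⁻¹ ∈ ⁅X, X⁆ := by
        intro g hg h hh
        have hhX : h ∈ X := (Subgroup.commutator_le_self X) hh
        have e : g * h * g⁻¹ = ⁅g, h⁆ * h := by rw [commutatorElement_def]; group
        rw [e]
        exact mul_mem (commutator_mem_commutator hg hhX) hh
      intro h
      refine ⟨key g hg h, fun h' => ?_⟩
      have := key g⁻¹ (inv_mem hg) _ h'
      simpa only [mul_assoc, _root_.inv_mul_cancel_left, _root_.inv_inv, _root_.inv_mul_cancel, _root_.mul_one] using this)) (hle x.2)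
  have hdX : d ∈ X := (Subgroup.commutator_le_self X) hd
  have hcX : c ∈ X := hCX hc
  have ex : x = ⟨d, hdX⟩ * ⟨c, hcX⟩ := Subtype.ext e
  have h1 : (QuotientGroup.mk' (C.subgroupOf X)) ⟨c, hcX⟩ = 1 := by
    rw [QuotientGroup.mk'_apply, QuotientGroup.eq_one_iff, mem_subgroupOf]; exact hc
  rw [ex, map_mul, h1, mul_one]
  have h2 : (⟨d, hdX⟩ : X) ∈ commutator X := by
    have h3 : ⁅X, X⁆ = (commutator X).map X.subtype := by rw [map_subtype_commutator]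
    rw [h3] at hd
    obtain ⟨d', hd', e'⟩ := hd
    have : (⟨d, hdX⟩ : X) = d' := Subtype.ext e'.symm
    rw [this]; exact hd'
  have h4 := mem_map_of_mem (QuotientGroup.mk' (C.subgroupOf X)) h2
  rw [_root_.commutator_def, Subgroup.map_commutator] at h4
  exact Subgroup.commutator_mono le_top le_top h4

/-- The subgroup `⟨U, A⟩ K` -/
theorem mem_sup_three {B U A K : Subgroup G} (hU : U ≤ B) (hA : A ≤ B) (hUn : B ≤ normalizer (U : Set G))
    (hKn : B ≤ normalizer (K : Set G)) {x : G} (hx : x ∈ U ⊔ A ⊔ K) :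
    ∃ u ∈ U, ∃ a ∈ A, ∃ k ∈ K, x = u * a * k := by
  obtain ⟨k, hk, y, hy, rfl⟩ := Solvable.Glauberman.exists_mul_of_mem_sup (U ⊔ A) K ((sup_le hU hA).trans hKn) hx
  rw [sup_comm] at hy
  obtain ⟨u, hu, a, ha, rfl⟩ := Solvable.Glauberman.exists_mul_of_mem_sup A U (hA.trans hUn) hy
  have hn : (u * a)⁻¹ ∈ normalizer (K : Set G) := inv_mem (hKn (mul_mem (hU hu) (hA ha)))
  refine ⟨u, hu, a, ha, (u * a)⁻¹ * k * ((u * a)⁻¹)⁻¹, (mem_normalizer_iff.mp hn k).mp hk, by group⟩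

/-- **(G1) for a perfect factor**: `L` is a subgroup of `P` with `U ≤ L K`, `U ≤ L' K`, `L ⊓ B ≤ U A K` where `A ≤ L ⊓ B` is a
`p'`-group; `U` is regular on the chambers `≠ B` of `P / B` modulo `K`. -/
theorem Torus.of_perfect [Finite G] {p : ℕ} [Fact p.Prime] {B P U A K L : Subgroup G} {n : G}
    (hBP : B ≤ P) (hKB : K ≤ B) (hKP : P ≤ normalizer (K : Set G)) (hLP : L ≤ P)
    (hUB : U ≤ B) (hUp : IsPGroup p U) (hUn : B ≤ normalizer (U : Set G))
    (hAL : A ≤ L) (hAB : A ≤ B) (hAp : p.Coprime (Nat.card A)) (hLB : L ⊓ B ≤ U ⊔ A ⊔ K)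
    (hpan : ∀ x ∈ P, x ∉ B → ∃ u ∈ U, (u * n)⁻¹ * x ∈ B)
    (hreg : ∀ u ∈ U, n⁻¹ * u * n ∈ B → u ∈ K) (hperf : U ≤ ⁅L, L⁆ ⊔ K) : Torus B P U A K n where
  K_le := hKB
  K_norm := hKP
  reg := hreg
  A_le := hAB
  gen := by
    have hKBn : B ≤ normalizer (K : Set G) := hBP.trans hKP
    set E := L ⊔ K with hE
    have hLE : L ≤ E := le_sup_left
    have hKE : K ≤ E := le_sup_right
    have hEP : E ≤ P := sup_le hLP (hKB.trans hBP)
    have hUE : U ≤ E := hperf.trans (sup_le_sup_right (Subgroup.commutator_le_self L) K)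
    have hAE : A ≤ E := hAL.trans hLE
    have hEB : ∀ g ∈ E, g ∈ B → ∃ u ∈ U, ∃ a ∈ A, ∃ k ∈ K, g = u * a * k := by
      intro g hg hgB
      obtain ⟨k, hk, l, hl, rfl⟩ := Solvable.Glauberman.exists_mul_of_mem_sup L K (hLP.trans hKP) hg
      have hlB : l ∈ B := by
        have := mul_mem (inv_mem (hKB hk)) hgB
        rwa [inv_mul_cancel_left] at this
      exact mem_sup_three hUB hAB hUn hKBn (mul_mem (mem_sup_right hk) (hLB ⟨hl, hlB⟩))
    haveI hKN : (K.subgroupOf E).Normal := by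
      constructor
      intro c hc g
      rw [mem_subgroupOf] at hc ⊢
      have := (mem_normalizer_iff.mp (hKP (hEP g.2)) (c : G)).mp hc
      simpa only [_root_.Subgroup.coe_mul, _root_.InvMemClass.coe_inv] using this
    set π := QuotientGroup.mk' (K.subgroupOf E) with hπ
    have hπs : Function.Surjective π := QuotientGroup.mk'_surjective _
    have hker : ∀ e : E, π e = 1 ↔ (e : G) ∈ K := by
      intro e
      rw [hπ, QuotientGroup.mk'_apply, QuotientGroup.eq_one_iff, mem_subgroupOf]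
    have heq : ∀ e f : E, π e = π f ↔ (f : G)⁻¹ * (e : G) ∈ K := by
      intro e f
      have := hker (f⁻¹ * e)
      rw [map_mul, map_inv, inv_mul_eq_one] at this
      rw [eq_comm, this]
      simp only [_root_.Subgroup.coe_mul, _root_.InvMemClass.coe_inv]
    set X : Subgroup (E ⧸ K.subgroupOf E) := (U.subgroupOf E).map π with hX
    set A' : Subgroup (E ⧸ K.subgroupOf E) := (A.subgroupOf E).map π with hA'
    have hXU : ∀ u (hu : u ∈ U), π ⟨u, hUE hu⟩ ∈ X := fun u hu =>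
      mem_map_of_mem π (by rw [mem_subgroupOf]; exact hu)
    have hAA : ∀ a (ha : a ∈ A), π ⟨a, hAE ha⟩ ∈ A' := fun a ha =>
      mem_map_of_mem π (by rw [mem_subgroupOf]; exact ha)
    have hXp : IsPGroup p X := by
      rintro ⟨x, hx⟩
      obtain ⟨u, hu, rfl⟩ := mem_map.mp hx
      obtain ⟨k, hk⟩ := hUp ⟨(u : G), hu⟩
      refine ⟨k, Subtype.ext ?_⟩
      have h1 : (u : G) ^ p ^ k = 1 := by simpa only [_root_.SubmonoidClass.coe_pow, _root_.OneMemClass.coe_one] using congrArg Subtype.val hk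
      have h2 : u ^ p ^ k = 1 := Subtype.ext (by simpa only [_root_.SubmonoidClass.coe_pow, _root_.OneMemClass.coe_one] using h1)
      simp only [SubmonoidClass.mk_pow, OneMemClass.coe_one]
      rw [← map_pow, h2, map_one]
    have hA'p : p.Coprime (Nat.card A') := by
      have h1 : Nat.card A' ∣ Nat.card (A.subgroupOf E) := Subgroup.card_map_dvd _ _
      have h2 : Nat.card (A.subgroupOf E) = Nat.card A := by
        exact Nat.card_congr (Subgroup.subgroupOfEquivOfLe hAE).toEquiv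
      rw [h2] at h1
      exact Nat.Coprime.coprime_dvd_right h1 hAp
    have hA'X : A' ≤ normalizer (X : Set _) := by
      have key : ∀ a ∈ A', ∀ x ∈ X, a * x * a⁻¹ ∈ X := by
        rintro _ ⟨a, ha, rfl⟩ _ ⟨u, hu, rfl⟩
        refine ⟨a * u * a⁻¹, ?_, by simp only [_root_.map_mul, _root_.map_inv]⟩
        rw [SetLike.mem_coe, mem_subgroupOf] at hu ha ⊢
        have := (mem_normalizer_iff.mp (hUn (hAB ha)) (u : G)).mp hu
        simpa only [_root_.Subgroup.coe_mul, _root_.InvMemClass.coe_inv] using this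
      intro a ha
      rw [mem_normalizer_iff]
      intro x
      refine ⟨key a ha x, fun h => ?_⟩
      have := key a⁻¹ (inv_mem ha) _ h
      simpa only [mul_assoc, _root_.inv_mul_cancel_left, _root_.inv_inv, _root_.inv_mul_cancel, _root_.mul_one] using this
    have hTI : ∀ x ∈ X, x ≠ 1 → ∀ g, g * x * g⁻¹ ∈ X → ∃ y ∈ X, ∃ a ∈ A', g = y * a := by
      rintro _ ⟨u, hu, rfl⟩ hx1 g hg
      obtain ⟨e, rfl⟩ := hπs g
      rw [SetLike.mem_coe, mem_subgroupOf] at hu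
      have huK : (u : G) ∉ K := fun h => hx1 ((hker u).mpr h)
      have h1 : (e : G) * u * (e : G)⁻¹ ∈ B := by
        obtain ⟨v, hv, h⟩ := hg
        rw [SetLike.mem_coe, mem_subgroupOf] at hv
        rw [← map_inv, ← map_mul, ← map_mul, eq_comm, heq] at h
        have h2 : (e : G) * u * (e : G)⁻¹ = v * ((v : G)⁻¹ * ((e * u * e⁻¹ : E) : G)) := by simp only [_root_.Subgroup.coe_mul, _root_.InvMemClass.coe_inv, _root_.mul_inv_cancel_left]
        rw [h2]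
        exact mul_mem (hUB hv) (hKB h)
      have h3 : (e : G) ∈ B := by
        by_contra hnot
        have h4 : (e : G)⁻¹ ∉ B := fun h => hnot (by simpa using inv_mem h)
        obtain ⟨v, hv, hb⟩ := hpan _ (inv_mem (hEP e.2)) h4
        set b := (v * n)⁻¹ * (e : G)⁻¹ with hbdef
        have he : (e : G) = b⁻¹ * (v * n)⁻¹ := by rw [hbdef]; group
        have h5 : n⁻¹ * (v⁻¹ * u * v) * n ∈ B := by
          have e1 : n⁻¹ * (v⁻¹ * u * v) * n = b * ((e : G) * u * (e : G)⁻¹) * b⁻¹ := by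
            rw [he]; group
          rw [e1]
          exact mul_mem (mul_mem hb h1) (inv_mem hb)
        have h6 := hreg _ (mul_mem (mul_mem (inv_mem hv) hu) hv) h5
        apply huK
        have h7 := (mem_normalizer_iff.mp (hKBn (hUB hv)) _).mp h6
        have e2 : v * (v⁻¹ * (u : G) * v) * v⁻¹ = u := by group
        rwa [e2] at h7
      obtain ⟨v, hv, a, ha, k, hk, e'⟩ := hEB e e.2 h3
      refine ⟨_, hXU v hv, _, hAA a ha, ?_⟩
      rw [← map_mul, heq]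
      have e3 : (((⟨v, hUE hv⟩ * ⟨a, hAE ha⟩ : E) : G))⁻¹ * (e : G) = k := by
        rw [e']; simp [mul_assoc]
      rw [e3]; exact hk
    have hXc : X ≤ _root_.commutator (E ⧸ K.subgroupOf E) := by
      rintro _ ⟨u, hu, rfl⟩
      rw [SetLike.mem_coe, mem_subgroupOf] at hu
      have hKc : ⁅L, L⁆ ≤ normalizer (K : Set G) := (Subgroup.commutator_le_self L).trans (hLP.trans hKP)
      obtain ⟨k, hk, c, hc, e⟩ := Solvable.Glauberman.exists_mul_of_mem_sup _ K hKc (hperf hu)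
      have hc' : c ∈ ⁅E, E⁆ := Subgroup.commutator_mono hLE hLE hc
      rw [← map_subtype_commutator] at hc'
      obtain ⟨c', hc', rfl⟩ := hc'
      have h1 : π u = π c' := by
        rw [heq, e]
        have h2 := (mem_normalizer_iff.mp (hKP (hEP (inv_mem c'.2))) k).mp hk
        simpa only [mul_assoc, _root_.Subgroup.subtype_apply, _root_.inv_inv] using h2
      rw [h1]
      have h4 := mem_map_of_mem π hc'
      rw [_root_.commutator_def, Subgroup.map_commutator] at h4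
      exact Subgroup.commutator_mono le_top le_top h4
    have hmain := le_cmt_of_ti X A' hXp hA'p hA'X hTI hXc
    have hcE : cmt U A ≤ E := (cmt_le_left (hAB.trans hUn)).trans hUE
    have hle : cmt X A' ≤ ((cmt U A).subgroupOf E).map π := by
      unfold cmt
      rw [closure_le]
      rintro _ ⟨_, ⟨t, ht, rfl⟩, _, ⟨a, ha, rfl⟩, rfl⟩
      rw [SetLike.mem_coe, mem_subgroupOf] at ht ha
      refine ⟨t * a * t⁻¹ * a⁻¹, ?_, by simp only [_root_.map_mul, _root_.map_inv]⟩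
      rw [SetLike.mem_coe, mem_subgroupOf]
      exact subset_closure ⟨t, ht, a, ha, by simp only [_root_.Subgroup.coe_mul, _root_.InvMemClass.coe_inv]⟩
    intro u hu
    obtain ⟨c, hc, e⟩ := hle (hmain (hXU u hu))
    rw [SetLike.mem_coe, mem_subgroupOf] at hc
    rw [eq_comm, heq] at e
    have : u = c * ((c : G)⁻¹ * u) := by group
    rw [this]
    exact mul_mem (mem_sup_left hc) (mem_sup_right e)

end Cfsg.Agent.ParSys

end

section


/-!
# Parabolic systems: the pairs whose residue is a product of two rank ones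

The fields `poly`, `torus`, `frat` of `ParSys.Sys` for a pair `P`, `Q` which generates a product of two rank ones.
-/

set_option autoImplicit false
set_option linter.style.haveILetI false

namespace Cfsg.Agent.ParSys

open Subgroup

variable {G : Type*} [Group G] {I : Type*}

theorem SepT.both {B U H Pi Pj : Subgroup G} (h : SepT B U H Pi Pj) (hH : H ≤ normalizer (U : Set G)) :
    ∀ u ∈ U, ∀ v ∈ U, ∃ w ∈ U, u⁻¹ * w ∈ Qk B Pi ∧ v⁻¹ * w ∈ Qk B Pj := by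
  intro u hu v hv
  obtain ⟨t, ht, h1, h2⟩ := h U le_rfl hH (fun u hu => ⟨u, hu, by rw [inv_mul_cancel]; exact one_mem _⟩)
    (u⁻¹ * v) (mul_mem (inv_mem hu) hv)
  refine ⟨u * t, mul_mem hu ht, ?_, ?_⟩
  · rw [inv_mul_cancel_left]; exact h1
  · have := inv_mem h2
    have e : v⁻¹ * (u * t) = (t⁻¹ * (u⁻¹ * v))⁻¹ := by group
    rw [e]; exact this

namespace Digon

variable {B P Q : Subgroup G}

/-- `P ⊔ Q = P Q` -/
theorem exists_mul (D : Digon B P Q) {g : G} (hg : g ∈ P ⊔ Q) : ∃ a ∈ P, ∃ b ∈ Q, g = a * b := by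
  let S : Subgroup G :=
    { carrier := {g | ∃ a ∈ P, ∃ b ∈ Q, g = a * b}
      mul_mem' := by
        rintro _ _ ⟨a, ha, b, hb, rfl⟩ ⟨a', ha', b', hb', rfl⟩
        obtain ⟨c, hc, d, hd, e⟩ := D.symm.comm b hb a' ha'
        refine ⟨a * c, mul_mem ha hc, d * b', mul_mem hd hb', ?_⟩
        calc a * b * (a' * b') = a * (b * a') * b' := by group
          _ = a * (c * d) * b' := by rw [e]
          _ = a * c * (d * b') := by group
      one_mem' := ⟨1, one_mem _, 1, one_mem _, by simp⟩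
      inv_mem' := by
        rintro _ ⟨a, ha, b, hb, rfl⟩
        obtain ⟨c, hc, d, hd, e⟩ := D.symm.comm b⁻¹ (inv_mem hb) a⁻¹ (inv_mem ha)
        exact ⟨c, hc, d, hd, by rw [mul_inv_rev, e]⟩ }
  have h : P ⊔ Q ≤ S := sup_le (fun a ha => ⟨a, ha, 1, one_mem _, by simp⟩)
    (fun b hb => ⟨1, one_mem _, b, hb, by simp⟩)
  exact h hg

/-- **(b)** the kernel of the digon -/
theorem qk_inf (D : Digon B P Q) {x : G} (h1 : x ∈ Qk B P) (h2 : x ∈ Qk B Q) : x ∈ Qk B (P ⊔ Q) := by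
  intro g hg
  obtain ⟨a, ha, b, hb, rfl⟩ := D.exists_mul hg
  obtain ⟨b', hb', a', ha', e⟩ := D.comm a ha b hb
  refine D.inf _ ?_ ?_
  · rw [e]
    have e1 : (b' * a')⁻¹ * x * (b' * a') = a'⁻¹ * (b'⁻¹ * x * b') * a' := by group
    rw [e1]
    exact mul_mem (mul_mem (inv_mem ha') (D.left (h2 b' hb'))) ha'
  · have e1 : (a * b)⁻¹ * x * (a * b) = b⁻¹ * (a⁻¹ * x * a) * b := by group
    rw [e1]
    exact mul_mem (mul_mem (inv_mem hb) (D.right (h1 a ha))) hb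

/-- the field `frat` of `Sys` -/
theorem frat (D : Digon B P Q) {U T : Subgroup G}
    (h : ∀ u ∈ U, ∃ t ∈ T, t⁻¹ * u ∈ Qk B P ∧ t⁻¹ * u ∈ Qk B Q) :
    ∀ u ∈ U, ∃ t ∈ T, t⁻¹ * u ∈ Qk B (P ⊔ Q) := by
  intro u hu
  obtain ⟨t, ht, h1, h2⟩ := h u hu
  exact ⟨t, ht, D.qk_inf h1 h2⟩

variable {R : I → Subgroup G} {i j : I}

theorem uniq_two (D : Digon B (R i) (R j)) (l l' : List G) (hl : GalE B R (alt i j 2) l)
    (hl' : GalE B R (alt i j 2) l') (h : l.prod⁻¹ * l'.prod ∈ B) : Same B 1 1 l l' := by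
  match l, l', hl, hl' with
  | [x, y], [x', y'], hl, hl' =>
    have hx : x ∈ R i := hl.1.1
    have hy : y ∈ R j := hl.2.1.1
    have hx' : x' ∈ R i := hl'.1.1
    have hy' : y' ∈ R j := hl'.2.1.1
    have h1 : (x * y)⁻¹ * (x' * y') ∈ B := by simpa only [_root_.mul_inv_rev, _root_.List.prod_cons, _root_.List.prod_nil, _root_.mul_one] using h
    have h2 : x⁻¹ * x' ∈ B := by
      refine D.inf _ (mul_mem (inv_mem hx) hx') ?_
      have e : x⁻¹ * x' = y * ((x * y)⁻¹ * (x' * y')) * y'⁻¹ := by group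
      rw [e]
      exact mul_mem (mul_mem hy (D.right h1)) (inv_mem hy')
    refine ⟨by simp [one_mem], ?_, ?_⟩
    · simpa using h2
    · show (1 * x * y)⁻¹ * (1 * x' * y') ∈ B
      rw [one_mul, one_mul]; exact h1
  | [], _, hl, _ => exact hl.elim
  | [_], _, hl, _ => exact hl.2.elim
  | _ :: _ :: _ :: _, _, hl, _ => exact hl.2.2.elim
  | _, [], _, hl' => exact hl'.elim
  | _, [_], _, hl' => exact hl'.2.elim
  | _, _ :: _ :: _ :: _, _, hl' => exact hl'.2.2.elim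

/-- the first factor of `x y = b a` is not in `B` -/
theorem first_not_mem (D : Digon B P Q) {x y b a : G} (hx : x ∈ P) (hy : y ∈ Q) (hyB : y ∉ B) (ha : a ∈ P)
    (e : x * y = b * a) : b ∉ B := by
  intro h
  apply hyB
  refine D.inf _ ?_ hy
  have : y = x⁻¹ * (b * a) := by rw [← e]; group
  rw [this]
  exact mul_mem (inv_mem hx) (mul_mem (D.left h) ha)

theorem trans_two (D : Digon B (R i) (R j)) {U : Subgroup G} (hU : U ≤ B) (hi : Hall.HallData.PTr B U (R i))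
    (hj : Hall.HallData.PTr B U (R j))
    (hw : ∀ u ∈ U, ∀ v ∈ U, ∃ w ∈ U, u⁻¹ * w ∈ Qk B (R i) ∧ v⁻¹ * w ∈ Qk B (R j)) (l l' : List G)
    (hl : GalE B R (alt i j 2) l) (hl' : GalE B R (alt i j 2) l') : ∃ y ∈ B, Same B y 1 l l' := by
  match l, l', hl, hl' with
  | [x, y], [x', y'], hl, hl' =>
    obtain ⟨⟨hx, hxB⟩, ⟨hy, hyB⟩, -⟩ := hl
    obtain ⟨⟨hx', hxB'⟩, ⟨hy', hyB'⟩, -⟩ := hl'
    obtain ⟨b, hb, a, ha, e⟩ := D.comm x hx y hy
    obtain ⟨b', hb', a', ha', e'⟩ := D.comm x' hx' y' hy'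
    have hbB : b ∉ B := D.first_not_mem hx hy hyB ha e
    have hbB' : b' ∉ B := D.first_not_mem hx' hy' hyB' ha' e'
    obtain ⟨u, hu, c, hc, hx2⟩ := hi x hx hxB x' hx' hxB'
    obtain ⟨v, hv, d, hd, hb2⟩ := hj b hb hbB b' hb' hbB'
    obtain ⟨w, hwU, h1, h2⟩ := hw u hu v hv
    have h3 : (w * x)⁻¹ * x' ∈ B := by
      have h4 := inv_mem (h1 x hx)
      have e1 : (w * x)⁻¹ * x' = (x⁻¹ * (u⁻¹ * w) * x)⁻¹ * c := by rw [hx2]; group
      rw [e1]; exact mul_mem h4 hc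
    have h4 : (w * b)⁻¹ * b' ∈ B := by
      have h5 := inv_mem (h2 b hb)
      have e1 : (w * b)⁻¹ * b' = (b⁻¹ * (v⁻¹ * w) * b)⁻¹ * d := by rw [hb2]; group
      rw [e1]; exact mul_mem h5 hd
    refine ⟨w, hU hwU, ?_, ?_, ?_⟩
    · rw [mul_one]; exact inv_mem (hU hwU)
    · rw [one_mul]; exact h3
    · show (w * x * y)⁻¹ * (1 * x' * y') ∈ B
      rw [one_mul]
      refine D.inf _ ?_ ?_
      · have e1 : (w * x * y)⁻¹ * (x' * y') = a⁻¹ * ((w * b)⁻¹ * b') * a' := by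
          rw [e', mul_assoc w, e]; group
        rw [e1]
        exact mul_mem (mul_mem (inv_mem ha) (D.left h4)) ha'
      · have e1 : (w * x * y)⁻¹ * (x' * y') = y⁻¹ * ((w * x)⁻¹ * x') * y' := by group
        rw [e1]
        exact mul_mem (mul_mem (inv_mem hy) (D.right h3)) hy'
  | [], _, hl, _ => exact hl.elim
  | [_], _, hl, _ => exact hl.2.elim
  | _ :: _ :: _ :: _, _, hl, _ => exact hl.2.2.elim
  | _, [], _, hl' => exact hl'.elim
  | _, [_], _, hl' => exact hl'.2.elim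
  | _, _ :: _ :: _ :: _, _, hl' => exact hl'.2.2.elim

/-- **(a)** a digon with a sufficiently transitive group is a generalised `2`-gon. -/
theorem polygon (D : Digon B (R i) (R j)) {U : Subgroup G} (hU : U ≤ B) (hi : Hall.HallData.PTr B U (R i))
    (hj : Hall.HallData.PTr B U (R j))
    (hw : ∀ u ∈ U, ∀ v ∈ U, ∃ w ∈ U, u⁻¹ * w ∈ Qk B (R i) ∧ v⁻¹ * w ∈ Qk B (R j))
    (hPi : ∃ x ∈ R i, x ∉ B) (hPj : ∃ x ∈ R j, x ∉ B) : Polygon B R i j 2 where
  uniq := D.uniq_two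
  uniq' := D.symm.uniq_two
  swap := by
    obtain ⟨x, hx, hxB⟩ := hPi
    obtain ⟨y, hy, hyB⟩ := hPj
    obtain ⟨b, hb, a, ha, e⟩ := D.comm x hx y hy
    have hbB : b ∉ B := D.first_not_mem hx hy hyB ha e
    have haB : a ∉ B := D.symm.first_not_mem (x := b⁻¹) (y := x) (b := a) (a := y⁻¹) (inv_mem hb) hx hxB
      (inv_mem hy) (by
        have : x = b * a * y⁻¹ := by rw [← e]; group
        rw [this]; group)
    refine ⟨[x, y], [b, a], ⟨⟨hx, hxB⟩, ⟨hy, hyB⟩, trivial⟩, ⟨⟨hb, hbB⟩, ⟨ha, haB⟩, trivial⟩, ?_⟩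
    have e1 : [x, y].prod⁻¹ * [b, a].prod = 1 := by
      simp only [List.prod_cons, List.prod_nil, mul_one]
      rw [← e, inv_mul_cancel]
    rw [e1]; exact one_mem _
  trans := D.trans_two hU hi hj hw
  trans' := D.symm.trans_two hU hj hi (fun u hu v hv => by
    obtain ⟨w, hwU, h1, h2⟩ := hw v hv u hu
    exact ⟨w, hwU, h2, h1⟩)

end Digon

/-- **The torus of the second factor**: `A ≤ M ⊓ H` with `U ≤ [U, A] Q j` gives `SepT`. -/
theorem Pair.sepT {B U H P Q L M A : Subgroup G} (D : Pair B P Q L M) (hU : U ≤ B) (hH : H ≤ B)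
    (hAM : A ≤ M) (hAH : A ≤ H) (hgen : U ≤ cmt U A ⊔ Qk B Q) : SepT B U H P Q := by
  intro T hTU hTH hcov
  have hTB := hTU.trans hU
  have hcT : cmt T A ≤ T := cmt_le_left (hAH.trans hTH)
  have hK : ∀ b ∈ B, ∀ k ∈ Qk B Q, b * k * b⁻¹ ∈ Qk B Q := fun b hb k hk => Qk_conj' hk (D.right hb)
  have hKn : B ≤ normalizer (Qk B Q : Set G) := by
    intro b hb
    rw [mem_normalizer_iff]
    intro k
    refine ⟨hK b hb k, fun h => ?_⟩
    have := hK b⁻¹ (inv_mem hb) _ h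
    simpa [mul_assoc] using this
  have hle : cmt U A ≤ cmt T A ⊔ Qk B Q := by
    unfold cmt
    rw [closure_le]
    rintro _ ⟨u, hu, a, ha, rfl⟩
    obtain ⟨t, ht, hk⟩ := hcov u hu
    set k := t⁻¹ * u with hkd
    have hu' : u = t * k := by rw [hkd]; group
    rw [hu']
    have e : t * k * a * (t * k)⁻¹ * a⁻¹ =
        (t * (k * (a * k⁻¹ * a⁻¹)) * t⁻¹) * (t * a * t⁻¹ * a⁻¹) := by group
    rw [SetLike.mem_coe, e]
    refine mul_mem (mem_sup_right ?_) (mem_sup_left (subset_closure ⟨t, ht, a, ha, rfl⟩))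
    exact hK t (hTB ht) _ (mul_mem hk (hK a (hH (hAH ha)) _ (inv_mem hk)))
  intro u hu
  have hu2 : u ∈ cmt T A ⊔ Qk B Q := (hgen.trans (sup_le hle le_sup_right)) hu
  obtain ⟨k, hk, c, hc, rfl⟩ := Solvable.Glauberman.exists_mul_of_mem_sup (cmt T A) (Qk B Q)
    ((hcT.trans hTB).trans hKn) hu2
  refine ⟨c, hcT hc, ?_, ?_⟩
  · intro x hx
    exact D.symm.fix (cmt_le_right hAM (hTB.trans D.normM) hc) (hTB (hcT hc)) hx
  · have := hK c⁻¹ (inv_mem (hTB (hcT hc))) k hk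
    have e : c⁻¹ * (k * c) = c⁻¹ * k * (c⁻¹)⁻¹ := by group
    rw [e]; exact this

end Cfsg.Agent.ParSys

end

end

-- merged: Cfsg.Agent.Mrg.ParSys.FrontSys
section

/-!
# THEOREM PAR, front end: from local data to `Sys`
-/

set_option autoImplicit false

namespace Cfsg.Agent.ParSys

open Subgroup

variable {G : Type*} [Group G] {I : Type*}

/-- a `p'`-element of `B` which centralises `U / Q i` and acts fixed-point-freely on `U / Q j` -/
def SepG (p : ℕ) (B U : Subgroup G) (Pi Pj : Subgroup G) : Prop :=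
  ∃ b ∈ B, (∃ k : ℕ, p.Coprime k ∧ b ^ k = 1) ∧ (∀ u ∈ U, b * u * b⁻¹ * u⁻¹ ∈ Qk B Pi) ∧
    ∀ u ∈ U, b * u * b⁻¹ * u⁻¹ ∈ Qk B Pj → u ∈ Qk B Pj

/-- a `p'`-element of `B` which acts fixed-point-freely on `U / Q i` -/
def FpfG (p : ℕ) (B U : Subgroup G) (Pi : Subgroup G) : Prop :=
  ∃ b ∈ B, (∃ k : ℕ, p.Coprime k ∧ b ^ k = 1) ∧ ∀ u ∈ U, b * u * b⁻¹ * u⁻¹ ∈ Qk B Pi → u ∈ Qk B Pi

open Pointwise in
/-- A `p'`-element of `B = U H` is conjugate into `H` under `U`. -/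
theorem exists_conj_mem [Finite G] {p : ℕ} [hp : Fact p.Prime] {B U H : Subgroup G}
    (D : Hall.HallData p B U H) {b : G} (hb : b ∈ B) {k : ℕ} (hk : p.Coprime k) (hbk : b ^ k = 1) :
    ∃ u ∈ U, u * b * u⁻¹ ∈ H := by
  set K : Subgroup G := zpowers b with hK
  have hKB : K ≤ B := by rw [hK, zpowers_le]; exact hb
  have hKc : p.Coprime (Nat.card K) := by
    rw [hK, Nat.card_zpowers]
    exact Nat.Coprime.coprime_dvd_right (orderOf_dvd_of_pow_eq_one hbk) hk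
  have hKs := D.le_sup hKB hKc
  have hHN := D.H_norm_U
  have hKN : K ≤ normalizer (U : Set G) := hKB.trans D.U_norm
  -- the complement `K' = H ∩ U K`
  set K' : Subgroup G := H ⊓ (U ⊔ K) with hK'
  have hK'H : K' ≤ H := inf_le_left
  have hK'N : K' ≤ normalizer (U : Set G) := hK'H.trans hHN
  have hKK' : K ≤ U ⊔ K' := by
    intro x hx
    have h1 := hKs hx
    rw [sup_comm] at h1
    obtain ⟨u, hu, a, ha, rfl⟩ := Solvable.Glauberman.exists_mul_of_mem_sup H U hHN h1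
    refine mul_mem (Subgroup.mem_sup_left hu) (Subgroup.mem_sup_right (mem_inf.2 ⟨ha, ?_⟩))
    have h2 : u * a ∈ U ⊔ K := Subgroup.mem_sup_right hx
    have h3 := mul_mem (inv_mem (Subgroup.mem_sup_left hu : u ∈ U ⊔ K)) h2
    rwa [inv_mul_cancel_left] at h3
  have hK'K : K' ≤ U ⊔ K := inf_le_right
  have hcU : ∀ L : Subgroup G, p.Coprime (Nat.card L) → Disjoint U L := by
    intro L hL
    obtain ⟨a, ha⟩ := (IsPGroup.iff_card (p := p)).mp D.U_pgroup
    apply Subgroup.disjoint_of_coprime_natCard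
    rw [ha]; exact hL.pow_left a
  have hK'c : p.Coprime (Nat.card K') := Nat.Coprime.coprime_dvd_right (Subgroup.card_dvd_of_le hK'H) D.H_cop
  have hsup : U ⊔ K = U ⊔ K' := le_antisymm (sup_le le_sup_left hKK') (sup_le le_sup_left hK'K)
  have hcard : ∀ L : Subgroup G, L ≤ normalizer (U : Set G) → Disjoint U L →
      Nat.card ↥(U ⊔ L) = Nat.card U * Nat.card L := by
    intro L hL hd
    rw [← Nat.card_prod]
    symm
    apply Nat.card_congr
    refine Equiv.ofBijective (fun z : U × L => (⟨(z.1 : G) * z.2, mul_mem (Subgroup.mem_sup_left z.1.2)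
      (Subgroup.mem_sup_right z.2.2)⟩ : ↥(U ⊔ L))) ⟨?_, ?_⟩
    · rintro ⟨u, l⟩ ⟨u', l'⟩ h
      have h1 : (u : G) * l = u' * l' := congrArg Subtype.val h
      have h2 : (u' : G)⁻¹ * u = l' * (l : G)⁻¹ := by
        rw [inv_mul_eq_iff_eq_mul, ← mul_assoc, ← h1, mul_inv_cancel_right]
      have h3 : (u' : G)⁻¹ * u ∈ U ⊓ L := mem_inf.2 ⟨mul_mem (inv_mem u'.2) u.2, by
        rw [h2]; exact mul_mem l'.2 (inv_mem l.2)⟩
      rw [disjoint_iff.1 hd, Subgroup.mem_bot] at h3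
      have h4 : (u : G) = u' := (inv_mul_eq_one.1 h3).symm
      have h5 : (l : G) = l' := by
        rw [h3] at h2
        exact (mul_inv_eq_one.1 h2.symm).symm
      exact Prod.ext (Subtype.ext h4) (Subtype.ext h5)
    · rintro ⟨x, hx⟩
      rw [sup_comm] at hx
      obtain ⟨u, hu, a, ha, rfl⟩ := Solvable.Glauberman.exists_mul_of_mem_sup L U hL hx
      exact ⟨(⟨u, hu⟩, ⟨a, ha⟩), rfl⟩
  have hcards : Nat.card K = Nat.card K' := by
    have h1 := hcard K hKN (hcU K hKc)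
    have h2 := hcard K' hK'N (hcU K' hK'c)
    rw [hsup, h2] at h1
    exact (Nat.eq_of_mul_eq_mul_left Nat.card_pos h1).symm
  obtain ⟨u, hu, h⟩ := Solvable.Glauberman.exists_conj_of_le_sup K' U hK'N
    (Nat.Coprime.coprime_dvd_left (Subgroup.card_dvd_of_le hK'H) D.card_cop) (Or.inr D.U_solvable) K
    (by rw [sup_comm]; exact hKK') hcards
  refine ⟨u⁻¹, inv_mem hu, hK'H ?_⟩
  have h1 : b ∈ MulAut.conj u • K' := by rw [h]; exact mem_zpowers b
  rw [Subgroup.mem_smul_pointwise_iff_exists] at h1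
  obtain ⟨c, hc, h2⟩ := h1
  rw [MulAut.smul_def, MulAut.conj_apply] at h2
  rw [← h2]
  have e : u⁻¹ * (u * c * u⁻¹) * u⁻¹⁻¹ = c := by group
  rwa [e]

theorem sep_of_sepG [Finite G] {p : ℕ} [hp : Fact p.Prime] {B U H : Subgroup G}
    (D : Hall.HallData p B U H) {Pi Pj : Subgroup G} (hi : B ≤ Pi) (hj : B ≤ Pj) (h : SepG p B U Pi Pj) :
    Sep B U H Pi Pj := by
  obtain ⟨b, hb, ⟨k, hk, hbk⟩, h1, h2⟩ := h
  obtain ⟨u, hu, hh⟩ := exists_conj_mem D hb hk hbk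
  have huB := D.U_le hu
  have key : ∀ v ∈ U, u * b * u⁻¹ * v * (u * b * u⁻¹)⁻¹ * v⁻¹ =
      u * (b * (u⁻¹ * v * u) * b⁻¹ * (u⁻¹ * v * u)⁻¹) * u⁻¹ := by intro v _; group
  have hv : ∀ v ∈ U, u⁻¹ * v * u ∈ U := fun v hv => mul_mem (mul_mem (inv_mem hu) hv) hu
  refine ⟨_, hh, fun v hv' => ?_, fun v hv' h3 => ?_⟩
  · rw [key v hv']
    exact Qk_conj' (h1 _ (hv v hv')) (hi huB)
  · rw [key v hv'] at h3
    have h4 := Qk_conj h3 (hj huB)
    have e : u⁻¹ * (u * (b * (u⁻¹ * v * u) * b⁻¹ * (u⁻¹ * v * u)⁻¹) * u⁻¹) * u =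
        b * (u⁻¹ * v * u) * b⁻¹ * (u⁻¹ * v * u)⁻¹ := by group
    rw [e] at h4
    have h5 := Qk_conj' (h2 _ (hv v hv') h4) (hj huB)
    have e2 : u * (u⁻¹ * v * u) * u⁻¹ = v := by group
    rwa [e2] at h5

theorem fix_of_fpfG [Finite G] {p : ℕ} [hp : Fact p.Prime] {B U H : Subgroup G}
    (D : Hall.HallData p B U H) {Pi : Subgroup G} (hi : B ≤ Pi) (h : FpfG p B U Pi) :
    ∀ c ∈ U, c ∈ centralizer (H : Set G) → c ∈ Qk B Pi := by
  obtain ⟨b, hb, ⟨k, hk, hbk⟩, h2⟩ := h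
  obtain ⟨u, hu, hh⟩ := exists_conj_mem D hb hk hbk
  have huB := D.U_le hu
  intro c hc hcC
  rw [Subgroup.mem_centralizer_iff] at hcC
  have h3 := hcC _ hh
  have h4 : b * (u⁻¹ * c * u) * b⁻¹ * (u⁻¹ * c * u)⁻¹ = 1 := by
    have e : b * (u⁻¹ * c * u) * b⁻¹ * (u⁻¹ * c * u)⁻¹ =
        u⁻¹ * (u * b * u⁻¹ * c * (u * b * u⁻¹)⁻¹ * c⁻¹) * u := by group
    rw [e, h3]; group
  have h5 := h2 (u⁻¹ * c * u) (mul_mem (mul_mem (inv_mem hu) hc) hu) (by rw [h4]; exact one_mem _)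
  have h6 := Qk_conj' h5 (hi huB)
  have e2 : u * (u⁻¹ * c * u) * u⁻¹ = c := by group
  rwa [e2] at h6

/-- **From local data to a parabolic system with tori.** -/
theorem Front.sys [Nonempty I] [Finite G] {p : ℕ} [hp : Fact p.Prime] {U : Subgroup G} {E : I → Subgroup G}
    {m : I → I → ℕ} (D : Front p U E) (gen : ⨆ i, E i = ⊤)
    (three : ∀ i, ∃ x ∈ Pa U E i, ∃ y ∈ Pa U E i, x ∉ Bo U E ∧ y ∉ Bo U E ∧ x⁻¹ * y ∉ Bo U E)
    (ptr : ∀ i, Hall.HallData.PTr (Bo U E) U (Pa U E i))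
    (reg : ∀ i, ∀ u ∈ U, ∀ g ∈ Pa U E i, g ∉ Bo U E → g⁻¹ * u * g ∈ Bo U E → u ∈ Qk (Bo U E) (Pa U E i))
    (fpf : ∀ i, FpfG p (Bo U E) U (Pa U E i))
    (m_two : ∀ i j, i ≠ j → 2 ≤ m i j) (m_symm : ∀ i j, m i j = m j i)
    (poly : ∀ i j, i ≠ j → Polygon (Bo U E) (Pa U E) i j (m i j))
    (torus : ∀ i j, i ≠ j → SepG p (Bo U E) U (Pa U E i) (Pa U E j) ∨ SepG p (Bo U E) U (Pa U E j) (Pa U E i))
    (frat : ∀ i j, i ≠ j → ∀ T ≤ U,
      (∀ u ∈ U, ∃ t ∈ T, t⁻¹ * u ∈ Qk (Bo U E) (Pa U E i) ∧ t⁻¹ * u ∈ Qk (Bo U E) (Pa U E j)) →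
      ∀ u ∈ U, ∃ t ∈ T, t⁻¹ * u ∈ Qk (Bo U E) (Pa U E i ⊔ Pa U E j)) :
    ∃ H : Subgroup G, Sys p (Bo U E) U H (Pa U E) m := by
  obtain ⟨H, hall, -⟩ := D.exists_hall
  exact ⟨H, {
    hall := hall
    gen := by
      rw [eq_top_iff, ← gen]
      exact iSup_mono fun i => Front.E_le_Pa i
    le := Front.Bo_le_Pa
    three := three
    ptr := ptr
    reg := reg
    fix := fun i => fix_of_fpfG hall (Front.Bo_le_Pa i) (fpf i)
    m_two := m_two
    m_symm := m_symm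
    poly := poly
    torus := fun i j hij => (torus i j hij).imp
      (fun h => (sep_of_sepG hall (Front.Bo_le_Pa i) (Front.Bo_le_Pa j) h).sepT hall (Front.Bo_le_Pa j))
      (fun h => (sep_of_sepG hall (Front.Bo_le_Pa j) (Front.Bo_le_Pa i) h).sepT hall (Front.Bo_le_Pa i))
    frat := fun i j hij T hT _ h => frat i j hij T hT h }⟩

end Cfsg.Agent.ParSys

end
end
end
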