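import Cfsg.Agent.Mrg.Omega.NatPair.Pair
import Cfsg.Agent.Mrg.Omega.BTwo.Basic
import Cfsg.Agent.Mrg.Omega.BTwo.Conj
import Cfsg.Agent.FastGrp
import Cfsg.Agent.Prune
set_option linter.all false

section
prune_inst 0x7ffcfefbaffcbfffffff7e7ffffddffff9f87fffefdff9cbffecefffdfff4b8ecbe5abad8fe890ff4ef7629490f87b53f9ffcbbfea6bdc7ffffd5ff45ffbff8ffdf7bd0951df88b41fbc2fffe3f07f8e7f3fffffffffffffffffffffffffffbeffffffffffff

-- part: Mrg/Omega/Mix/RelPair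
section
prune_inst 0x1000000000000000000000200000401000000200400000000000000000004000000000340001100000000000080020034400000000000000000800000400000000000000400000200000000000000000000000000000000000000000000000000000000
set_option linter.all false
open scoped Cfsg.Agent.FastGrp


/-!
# Mutual pairs of natural modules relative to subgroups `N ≤ N_G(V)`, `N' ≤ N_G(V')`; Sylow subgroups and tori

The same statements as in `NatPair.{Pair, Bridge}`, with `N` in place of `N_G(V)`.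
-/

set_option autoImplicit false
set_option linter.unusedSectionVars false

namespace Cfsg.Agent.Omega.Mix

open Subgroup Cfsg.Agent.Lib.SL2Mat
open Cfsg.Agent.Omega.NatPair (ap ap_zero' ap_one' ap_mul ap_one ap_add ap_smul ap_inv_ap ap_ap_inv ap_inj exists_ap_e
  exists_ap ap_up_e ext2 exists_ringEquiv card_ringAut_lt exists_of_fix dt dt_add dt_smul exists_smul_of_dt exists_comb
  fix_all cj mem_cj cj_mul cj_one cj_eq_iff mem_normalizer_cj sq_of_fix eq_one_of_pow)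

variable {G : Type*} [Group G]

/-- two subgroups which normalise each other (inside `N`, `N'`) and do not commute -/
structure RMutual (V V' N N' : Subgroup G) : Prop where
  le : V' ≤ N
  le' : V ≤ N'
  ne : ∃ v ∈ V, ∃ w ∈ V', v * w ≠ w * v

theorem RMutual.symm {V V' N N' : Subgroup G} (h : RMutual V V' N N') : RMutual V' V N' N where
  le := h.le'
  le' := h.le
  ne := by
    obtain ⟨v, hv, w, hw, hvw⟩ := h.ne
    exact ⟨w, hw, v, hv, fun h => hvw h.symm⟩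

theorem RMutual.ne_of {V V' N N' : Subgroup G} (h : RMutual V V' N N') : ∃ a ∈ V', ∃ v ∈ V, a * v ≠ v * a := by
  obtain ⟨v, hv, w, hw, hvw⟩ := h.ne
  exact ⟨w, hw, v, hv, fun h => hvw h.symm⟩

section pair

variable {F F' : Type*} [Field F] [Field F'] {V V' N N' : Subgroup G} (M : RMod F V N) (M' : RMod F' V' N')

include M M' in
theorem RMutual.comm_mem (h : RMutual V V' N N') {a v : G} (ha : a ∈ V') (hv : v ∈ V) :
    a * v * a⁻¹ * v⁻¹ ∈ V ⊓ V' := by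
  rw [mem_inf]
  constructor
  · exact mul_mem ((mem_normalizer_iff.1 (M.le (h.le ha)) v).1 hv) (inv_mem hv)
  · have h1 : v * a⁻¹ * v⁻¹ ∈ V' := (mem_normalizer_iff.1 (M'.le (h.le' hv)) a⁻¹).1 (inv_mem ha)
    have h2 : a * v * a⁻¹ * v⁻¹ = a * (v * a⁻¹ * v⁻¹) := by group
    rw [h2]
    exact mul_mem ha h1

include M M' in
theorem RMutual.quad (h : RMutual V V' N N') : ∀ a ∈ V', ∀ b ∈ V', ∀ v ∈ V,
    b * (a * v * a⁻¹ * v⁻¹) = (a * v * a⁻¹ * v⁻¹) * b := fun _ ha _ hb _ hv =>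
  M'.comm hb (mem_inf.1 (h.comm_mem M M' ha hv)).2

theorem pair_aux [Finite G] [Finite F] [Finite F'] [CharP F 2] [CharP F' 2] (h : RMutual V V' N N')
    (hle : (centralizer (V' : Set G)).relIndex V ≤ (centralizer (V : Set G)).relIndex V') :
    ∃ w w', M.Quad V' w ∧ M'.Quad V w' := by
  obtain ⟨w, hw⟩ := M.quad_ff h.le h.ne_of (h.quad M M') hle
  obtain ⟨w', hw'⟩ := M'.quad_ff h.le' h.symm.ne_of (h.symm.quad M' M) (by rw [hw.card, hw.index])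
  exact ⟨w, w', hw, hw'⟩

theorem pair_aux' [Finite G] [Finite F] [Finite F'] [CharP F 2] [CharP F' 2] (h : RMutual V V' N N') :
    ∃ w w', M.Quad V' w ∧ M'.Quad V w' := by
  rcases le_total ((centralizer (V' : Set G)).relIndex V) ((centralizer (V : Set G)).relIndex V') with hle | hle
  · exact pair_aux M M' h hle
  · obtain ⟨w', w, h1, h2⟩ := pair_aux M' M h.symm hle
    exact ⟨w, w', h2, h1⟩

/-- **mutual pairs of natural modules** -/
theorem pair [Finite G] [Finite F] [Finite F'] [CharP F 2] [CharP F' 2] (h : RMutual V V' N N') :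
    Nat.card F = Nat.card F' ∧ ∃ w w', M.Quad V' w ∧ M'.Quad V w' ∧ V ⊓ V' = M.line w ∧ V ⊓ V' = M'.line w' := by
  obtain ⟨w, w', hw, hw'⟩ := pair_aux' M M' h
  refine ⟨by rw [← hw.card, hw'.index], w, w', hw, hw', ?_, ?_⟩
  · apply le_antisymm
    · rw [← hw.cent]
      intro g hg
      rw [mem_inf] at hg ⊢
      exact ⟨mem_centralizer_iff.2 fun v hv => M'.comm hv hg.2, hg.1⟩
    · intro r hr
      obtain ⟨a, ha, v, hv, rfl⟩ := hw.comm' r hr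
      exact h.comm_mem M M' ha hv
  · apply le_antisymm
    · rw [← hw'.cent]
      intro g hg
      rw [mem_inf] at hg ⊢
      exact ⟨mem_centralizer_iff.2 fun v hv => M.comm hv hg.1, hg.2⟩
    · intro r hr
      obtain ⟨a, ha, v, hv, rfl⟩ := hw'.comm' r hr
      have := h.symm.comm_mem M' M ha hv
      rwa [inf_comm]

end pair

section conj

variable {F : Type*} [Field F] {V N : Subgroup G} (M : RMod F V N)

/-- the conjugate of a natural module -/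
def RMod.conj (g : G) : RMod F (cj g V) (cj g N) where
  e x := g * M.e x * g⁻¹
  e_add x y := by rw [M.e_add]; group
  e_inj x y h := M.e_inj (mul_left_cancel (mul_right_cancel h))
  mem_iff x := by
    rw [mem_cj, M.mem_iff]
    constructor
    · rintro ⟨y, hy⟩
      exact ⟨y, by rw [hy]; group⟩
    · rintro ⟨y, hy⟩
      exact ⟨y, by rw [← hy]; group⟩
  le := by
    rintro _ ⟨x, hx, rfl⟩
    rw [mem_normalizer_cj]
    have e : g⁻¹ * (MulAut.conj g).toMonoidHom x * g = x := by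
      show g⁻¹ * (MulAut.conj g x) * g = x
      rw [MulAut.conj_apply]; group
    rw [e]
    exact M.le hx
  cent := by
    intro x hx
    rw [mem_cj]
    apply M.cent
    rw [mem_centralizer_iff] at hx ⊢
    intro v hv
    have h1 := hx (g * v * g⁻¹) (by
      rw [SetLike.mem_coe, mem_cj]
      have : g⁻¹ * (g * v * g⁻¹) * g = v := by group
      rw [this]
      exact hv)
    calc v * (g⁻¹ * x * g) = g⁻¹ * (g * v * g⁻¹ * x) * g := by group
      _ = g⁻¹ * (x * (g * v * g⁻¹)) * g := by rw [h1]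
      _ = g⁻¹ * x * g * v := by group
  lift' A := by
    obtain ⟨h, hN, hA⟩ := M.lift' A
    refine ⟨g * h * g⁻¹, ⟨h, hN, by simp⟩, fun x => ?_⟩
    rw [← hA x]; group
  norm x hx h A hA := by
    rw [mem_cj] at hx
    obtain ⟨B, hB⟩ := M.norm _ hx (g⁻¹ * h * g) A (by
      intro y
      have h1 : g⁻¹ * h * g * M.e y * (g⁻¹ * h * g)⁻¹ = g⁻¹ * (h * (g * M.e y * g⁻¹) * h⁻¹) * g := by group
      rw [h1, hA]; group)
    refine ⟨B, fun y => ?_⟩
    rw [← hB y]; group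

theorem RMod.conj_line (g : G) (w : Fin 2 → F) : (M.conj g).line w = cj g (M.line w) := by
  ext x
  rw [RMod.mem_line, mem_cj, RMod.mem_line]
  constructor
  · rintro ⟨c, hc⟩
    refine ⟨c, ?_⟩
    rw [← hc]
    show _ = g⁻¹ * (g * M.e (c • w) * g⁻¹) * g
    group
  · rintro ⟨c, hc⟩
    refine ⟨c, ?_⟩
    show g * M.e (c • w) * g⁻¹ = x
    rw [hc]; group

theorem RMod.cj_line_of_ind {h : G} {A : Matrix.SpecialLinearGroup (Fin 2) F} (hA : M.Ind h A) (w : Fin 2 → F) :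
    cj h (M.line w) = M.line (ap A w) := by
  ext x
  rw [mem_cj, RMod.mem_line, RMod.mem_line]
  constructor
  · rintro ⟨c, hc⟩
    refine ⟨c, ?_⟩
    rw [← ap_smul, ← hA, hc]; group
  · rintro ⟨c, hc⟩
    refine ⟨c, ?_⟩
    rw [← ap_smul, ← hA] at hc
    rw [← hc]; group

include M in
/-- `N_G(V)` is transitive on the nontrivial elements of `V` -/
theorem RMod.trans {v v' : G} (hv : v ∈ V) (hv1 : v ≠ 1) (hv' : v' ∈ V) (hv'1 : v' ≠ 1) :
    ∃ l ∈ N, l * v * l⁻¹ = v' := by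
  obtain ⟨x, rfl⟩ := (M.mem_iff v).1 hv
  obtain ⟨y, rfl⟩ := (M.mem_iff v').1 hv'
  obtain ⟨A, hA⟩ := exists_ap (x := x) (y := y) (fun h => hv1 (by rw [h, M.e_zero])) (fun h => hv'1 (by rw [h, M.e_zero]))
  obtain ⟨l, hl⟩ := M.lift A
  exact ⟨l, M.mem_normalizer hl, by rw [hl, hA]⟩

include M in
/-- if `N_G(V) ≤ K`, `Q` a normal 2-subgroup of `K` with `C_K(Q) ≤ Q`, then `V ≤ Z(Q)` -/
theorem RMod.le_center_of [Finite G] [Finite F] [CharP F 2] (S : Sylow 2 G) (hS : (S : Subgroup G) ≤ N)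
    (hZ : ∀ z ∈ S, z * z = 1 → (∀ s ∈ S, s * z = z * s) → z ∈ V) {K Q : Subgroup G} (hVK : N ≤ K)
    (hQK : Q ≤ K) (hQ : IsPGroup 2 Q) (hQn : K ≤ normalizer (Q : Set G)) (hQc : ∀ x ∈ K, (∀ q ∈ Q, q * x = x * q) → x ∈ Q) :
    ∀ v ∈ V, v ∈ Q ∧ ∀ q ∈ Q, q * v = v * q := by
  have : Fact (Nat.Prime 2) := ⟨Nat.prime_two⟩
  -- `Q ≤ S`
  have hQS : Q ≤ (S : Subgroup G) := by
    have hSQ : (S : Subgroup G) ≤ normalizer (Q : Set G) := (hS.trans hVK).trans hQn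
    have h1 : IsPGroup 2 ((S : Subgroup G) ⊔ Q : Subgroup G) := S.isPGroup'.to_sup_of_normal_right' hQ hSQ
    have h2 := S.is_maximal' h1 le_sup_left
    rw [← h2]
    exact le_sup_right
  -- a central involution of `S`
  have hVne : Nontrivial V := by
    have h1 : (1 : ℕ) < Nat.card V := by
      rw [M.card_V]
      exact Nat.one_lt_pow (by norm_num) Finite.one_lt_card
    exact Finite.one_lt_card_iff_nontrivial.1 h1
  have hSne : Nontrivial S := by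
    have h2V : IsPGroup 2 V := fun v => ⟨1, by
      rw [pow_one, pow_two]; exact Subtype.ext (M.sq v.2)⟩
    obtain ⟨P, hP⟩ := h2V.exists_le_sylow
    have h1 : Nat.card S = Nat.card P := Nat.card_congr (Sylow.equiv S P).toEquiv
    rw [← Finite.one_lt_card_iff_nontrivial, h1]
    exact lt_of_lt_of_le (Finite.one_lt_card_iff_nontrivial.2 hVne)
      (Nat.card_le_card_of_injective _ (inclusion_injective hP))
  obtain ⟨z, hzS, hz2, hzc, hz1⟩ : ∃ z ∈ (S : Subgroup G), z * z = 1 ∧ (∀ s ∈ S, s * z = z * s) ∧ z ≠ 1 := by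
    have h1 : Nontrivial (center S) := S.isPGroup'.center_nontrivial
    have h2 : 2 ∣ Nat.card (center S) := by
      obtain ⟨n, hn⟩ := IsPGroup.iff_card.1 (S.isPGroup'.to_subgroup (center S))
      rw [hn]
      have : n ≠ 0 := by
        rintro rfl
        rw [pow_zero] at hn
        exact absurd (Finite.one_lt_card_iff_nontrivial.2 h1) (by rw [hn]; norm_num)
      exact dvd_pow_self 2 this
    obtain ⟨z, hz⟩ := exists_prime_orderOf_dvd_card' 2 h2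
    have hz2 : z * z = 1 := by
      have h3 := pow_orderOf_eq_one z
      rwa [hz, pow_two] at h3
    refine ⟨((z : S) : G), (z : S).2, ?_, ?_, ?_⟩
    · exact congrArg (fun t : center S => ((t : S) : G)) hz2
    · intro s hs
      exact congrArg Subtype.val (mem_center_iff.1 z.2 ⟨s, hs⟩)
    · intro h
      have : z = 1 := Subtype.ext (Subtype.ext h)
      rw [this, orderOf_one] at hz
      norm_num at hz
  have hzV : z ∈ V := hZ z hzS hz2 hzc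
  have hzQ : z ∈ Q := hQc z (hVK (hS hzS)) fun q hq => hzc q (hQS hq)
  intro v hv
  by_cases hv1 : v = 1
  · rw [hv1]
    exact ⟨one_mem _, fun q _ => by rw [mul_one, one_mul]⟩
  · obtain ⟨l, hl, rfl⟩ := M.trans hzV hz1 hv hv1
    have hlQ := hQn (hVK hl)
    refine ⟨(mem_normalizer_iff.1 hlQ z).1 hzQ, fun q hq => ?_⟩
    have h1 : l⁻¹ * q * l ∈ Q := by
      have := (mem_normalizer_iff.1 (inv_mem hlQ) q).1 hq
      rwa [inv_inv] at this
    have h2 := hzc _ (hQS h1)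
    calc q * (l * z * l⁻¹) = l * (l⁻¹ * q * l * z) * l⁻¹ := by group
      _ = l * (z * (l⁻¹ * q * l)) * l⁻¹ := by rw [h2]
      _ = l * z * l⁻¹ * q := by group

end conj


namespace RMod

variable {F : Type*} [Field F] {V N : Subgroup G} (M : RMod F V N)

/-- the image of a line -/
theorem cj_line [Finite F] {g : G} (hg : g ∈ N) (w : Fin 2 → F) :
    cj g (M.line w) = M.line (M.act g w) := by
  obtain ⟨s, hs⟩ := M.exists_semi hg
  ext x
  rw [mem_cj, mem_line, mem_line]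
  constructor
  · rintro ⟨c, hc⟩
    refine ⟨s c, ?_⟩
    rw [← hs, M.e_act hg, hc]; group
  · rintro ⟨c, hc⟩
    refine ⟨s.symm c, ?_⟩
    have h1 : M.act g (s.symm c • w) = c • M.act g w := by rw [hs, RingEquiv.apply_symm_apply]
    have h2 := M.e_act hg (s.symm c • w)
    rw [h1, hc] at h2
    rw [h2]; group

theorem line_smul {w : Fin 2 → F} {c : F} (hc : c ≠ 0) : M.line (c • w) = M.line w := by
  ext x
  rw [mem_line, mem_line]
  constructor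
  · rintro ⟨d, hd⟩
    exact ⟨d * c, by rw [mul_smul]; exact hd⟩
  · rintro ⟨d, hd⟩
    refine ⟨d * c⁻¹, ?_⟩
    rw [smul_smul, mul_assoc, inv_mul_cancel₀ hc, mul_one]
    exact hd

theorem line_eq_iff {w w' : Fin 2 → F} (hw' : w' ≠ 0) : M.line w' = M.line w ↔ ∃ c : F, w' = c • w := by
  constructor
  · intro h
    have h1 : M.e w' ∈ M.line w' := M.e_mem_line.2 ⟨1, (one_smul _ _).symm⟩
    rw [h, M.e_mem_line] at h1
    exact h1
  · rintro ⟨c, rfl⟩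
    refine M.line_smul ?_
    rintro rfl
    exact hw' (zero_smul _ _)

/-- a line of `V` is normalised by a Sylow 2-subgroup of `G` inside `N_G(V)` -/
theorem exists_sylow [Finite G] [Finite F] [CharP F 2] (S : Sylow 2 G) (hS : (S : Subgroup G) ≤ N)
    {w : Fin 2 → F} (hw : w ≠ 0) :
    ∃ S₁ : Sylow 2 G, (S₁ : Subgroup G) ≤ N ∧
      (S₁ : Subgroup G) ≤ normalizer ((M.line w : Subgroup G) : Set G) := by
  have : Fact (Nat.Prime 2) := ⟨Nat.prime_two⟩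
  -- a fixed vector
  let _ : MulAction S (Fin 2 → F) :=
    { smul := fun s x => M.act s x
      one_smul := fun x => M.act_one x
      mul_smul := fun s t x => M.act_mul (hS s.2) (hS t.2) x }
  have hcard : 2 ∣ Nat.card (Fin 2 → F) := by
    have h1 : 2 ∣ Nat.card F := by
      have : Fintype F := Fintype.ofFinite F
      obtain ⟨n, -, hn⟩ := FiniteField.card F 2
      rw [Nat.card_eq_fintype_card, hn]
      exact dvd_pow_self 2 n.pos.ne'
    rw [show Nat.card (Fin 2 → F) = Nat.card F * Nat.card F by simp [Nat.card_fun, pow_two]]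
    exact h1.mul_left _
  obtain ⟨x, hx, hx0⟩ := S.isPGroup'.exists_fixed_point_of_prime_dvd_card_of_fixed_point (Fin 2 → F) hcard (a := 0) (by
    intro s
    show M.act s 0 = 0
    apply M.e_inj
    rw [M.e_act (hS s.2), M.e_zero]; group)
  obtain ⟨A, hA⟩ := exists_ap (x := x) (y := w) (Ne.symm hx0) hw
  obtain ⟨l, hl⟩ := M.lift A
  have hlV := M.mem_normalizer hl
  refine ⟨l • S, ?_, ?_⟩
  · intro s hs
    have h1 : l⁻¹ * s * l ∈ (S : Subgroup G) := by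
      have h2 := Subgroup.mem_pointwise_smul_iff_inv_smul_mem.1 hs
      rw [← map_inv, MulAut.smul_def, MulAut.conj_apply, inv_inv] at h2
      exact h2
    have h2 := mul_mem (mul_mem hlV (hS h1)) (inv_mem hlV)
    have h3 : l * (l⁻¹ * s * l) * l⁻¹ = s := by group
    rwa [h3] at h2
  · intro s hs
    have h1 : l⁻¹ * s * l ∈ (S : Subgroup G) := by
      have h2 := Subgroup.mem_pointwise_smul_iff_inv_smul_mem.1 hs
      rw [← map_inv, MulAut.smul_def, MulAut.conj_apply, inv_inv] at h2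
      exact h2
    have h2 : M.act (l⁻¹ * s * l) x = x := hx ⟨_, h1⟩
    rw [← cj_eq_iff, ← hA, ← M.cj_line_of_ind hl, ← cj_mul]
    have h3 : s * l = l * (l⁻¹ * s * l) := by group
    rw [h3, cj_mul, M.cj_line (hS h1), h2]

/-- the group of all elements which induce a transvection with axis `w` -/
def UW (w : Fin 2 → F) : Subgroup G where
  carrier := {u | ∃ B, ap B w = w ∧ M.Ind u B}
  mul_mem' := by
    rintro a b ⟨A, hA, hA'⟩ ⟨B, hB, hB'⟩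
    refine ⟨A * B, by rw [ap_mul, hB, hA], fun x => ?_⟩
    have h1 : a * b * M.e x * (a * b)⁻¹ = a * (b * M.e x * b⁻¹) * a⁻¹ := by group
    rw [h1, hB', hA', ap_mul]
  one_mem' := ⟨1, ap_one w, fun x => by rw [ap_one]; group⟩
  inv_mem' := by
    rintro a ⟨A, hA, hA'⟩
    refine ⟨A⁻¹, ?_, fun x => ?_⟩
    · nth_rewrite 1 [← hA]
      exact ap_inv_ap A w
    · have h1 := hA' (ap A⁻¹ x)
      rw [ap_ap_inv] at h1
      rw [← h1]; group

theorem UW_le (w : Fin 2 → F) : M.UW w ≤ N := by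
  rintro u ⟨B, -, hB⟩
  exact M.mem_normalizer hB

theorem conj_mem_UW [Finite F] {w : Fin 2 → F} (hw : w ≠ 0) {g u : G} (hg : g ∈ N)
    (hgw : g ∈ normalizer ((M.line w : Subgroup G) : Set G)) (hu : u ∈ M.UW w) : g * u * g⁻¹ ∈ M.UW w := by
  obtain ⟨B, hB, hB'⟩ := hu
  obtain ⟨B', hB''⟩ := M.norm g hg u B hB'
  have hI : M.Ind (g * u * g⁻¹) B' := hB''
  have huV : u ∈ N := M.mem_normalizer hB'
  refine ⟨B', ?_, hI⟩
  rw [← cj_eq_iff, M.cj_line hg, M.line_eq_iff (M.act_ne_zero hg hw)] at hgw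
  obtain ⟨c, hc⟩ := hgw
  have hc0 : c ≠ 0 := by
    rintro rfl
    rw [zero_smul] at hc
    exact M.act_ne_zero hg hw hc
  have h1 : M.act (g * u * g⁻¹) (M.act g w) = M.act g w := by
    rw [← M.act_mul (M.mem_normalizer hI) hg]
    have h2 : g * u * g⁻¹ * g = g * u := by group
    rw [h2, M.act_mul hg huV, M.act_of_ind hB', hB]
  rw [M.act_of_ind hI, hc, ap_smul] at h1
  exact smul_right_injective _ hc0 h1

/-- a Sylow 2-subgroup of `G` inside `N_G(V) ∩ N_G(R)` induces all the transvections with axis `R` -/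
theorem full_of_sylow [Finite G] [Finite F] [CharP F 2] (S : Sylow 2 G)
    (hS : (S : Subgroup G) ≤ N) {w : Fin 2 → F} (hw : w ≠ 0)
    (hSw : (S : Subgroup G) ≤ normalizer ((M.line w : Subgroup G) : Set G)) {B : Matrix.SpecialLinearGroup (Fin 2) F}
    (hB : ap B w = w) : ∃ s ∈ S, M.Ind s B := by
  have : Fact (Nat.Prime 2) := ⟨Nat.prime_two⟩
  let φ : N →* MulAut V := V.normalizerMonoidHom.comp (inclusion M.le)
  have hφ : ∀ n : N, ∀ v : V, ((φ n v : V) : G) = n * v * (n : G)⁻¹ := fun n v => rfl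
  let ψ : N →* φ.range := φ.rangeRestrict
  have hψ : Function.Surjective ψ := φ.rangeRestrict_surjective
  let P : Sylow 2 N := S.subtype hS
  let P' : Sylow 2 φ.range := P.mapSurjective hψ
  let U : Subgroup φ.range := ((M.UW w).subgroupOf N).map ψ
  have hU2 : IsPGroup 2 U := by
    rintro ⟨_, ⟨n, hn, rfl⟩⟩
    obtain ⟨B, hB, hB'⟩ := mem_subgroupOf.1 hn
    refine ⟨1, ?_⟩
    apply Subtype.ext
    show ψ n ^ (2 ^ 1) = 1
    rw [pow_one, pow_two]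
    apply Subtype.ext
    show φ n * φ n = 1
    ext v
    obtain ⟨x, hx⟩ := (M.mem_iff (v : G)).1 v.2
    show (n : G) * ((n : G) * v * (n : G)⁻¹) * (n : G)⁻¹ = v
    rw [← hx, hB', hB', sq_of_fix hw hB]
  have hnorm : (P' : Subgroup φ.range) ≤ normalizer (U : Set φ.range) := by
    rintro _ ⟨p, hp, rfl⟩
    have hp' : (p : G) ∈ (S : Subgroup G) := mem_subgroupOf.1 hp
    have key : ∀ g : N, (g : G) ∈ normalizer ((M.line w : Subgroup G) : Set G) → ∀ u ∈ U, ψ g * u * (ψ g)⁻¹ ∈ U := by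
      rintro g hg _ ⟨n, hn, rfl⟩
      refine ⟨g * n * g⁻¹, ?_, by rw [map_mul, map_mul, map_inv]⟩
      exact mem_subgroupOf.2 (M.conj_mem_UW hw g.2 hg (mem_subgroupOf.1 hn))
    rw [mem_normalizer_iff]
    intro u
    constructor
    · exact key p (hSw hp') u
    · intro h
      have h1 := key p⁻¹ (inv_mem (hSw hp')) _ h
      rw [map_inv, inv_inv] at h1
      have h2 : (ψ p)⁻¹ * (ψ p * u * (ψ p)⁻¹) * ψ p = u := by group
      rwa [h2] at h1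
  have h1 : IsPGroup 2 ((P' : Subgroup φ.range) ⊔ U : Subgroup φ.range) := P'.isPGroup'.to_sup_of_normal_right' hU2 hnorm
  have h2 := P'.is_maximal' h1 le_sup_left
  have hUP : U ≤ (P' : Subgroup φ.range) := by rw [← h2]; exact le_sup_right
  obtain ⟨l, hl⟩ := M.lift B
  have hlN : l ∈ N := M.mem_normalizer hl
  obtain ⟨p, hp, hpl⟩ := hUP ⟨⟨l, hlN⟩, mem_subgroupOf.2 ⟨B, hB, hl⟩, rfl⟩
  refine ⟨p, mem_subgroupOf.1 hp, fun x => ?_⟩
  have h3 : φ p = φ ⟨l, hlN⟩ := congrArg Subtype.val hpl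
  have h4 := congrArg (fun α : MulAut V => ((α ⟨M.e x, M.e_mem x⟩ : V) : G)) h3
  rw [← hl x]
  exact h4

theorem cent_le_of_sylow [Finite G] [Finite F] [CharP F 2] (S : Sylow 2 G)
    (hS : (S : Subgroup G) ≤ N) {w : Fin 2 → F} (hw : w ≠ 0)
    (hSw : (S : Subgroup G) ≤ normalizer ((M.line w : Subgroup G) : Set G)) :
    centralizer ((S : Subgroup G) : Set G) ⊓ V ≤ M.line w := by
  intro v hv
  rw [mem_inf] at hv
  obtain ⟨x, rfl⟩ := (M.mem_iff v).1 hv.2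
  obtain ⟨D, hD⟩ := exists_ap_e hw
  have h1 : ap (D * up 1 * D⁻¹) w = w := by
    rw [← hD, ap_mul, ap_mul, ap_inv_ap, ap_up_e]
  obtain ⟨s, hs, hsB⟩ := M.full_of_sylow S hS hw hSw h1
  have h2 : ap (D * up 1 * D⁻¹) x = x := by
    apply M.e_inj
    rw [← hsB, mul_inv_eq_iff_eq_mul]
    exact mem_centralizer_iff.1 hv.1 s hs
  obtain ⟨y, rfl⟩ : ∃ y, ap D y = x := ⟨ap D⁻¹ x, ap_ap_inv D x⟩
  rw [ap_mul, ap_mul, ap_inv_ap] at h2
  have h3 : ap (up 1) y = y := by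
    have h4 := congrArg (ap D⁻¹) h2
    rwa [ap_inv_ap, ap_inv_ap] at h4
  have h4 := congrFun h3 0
  rw [ap_zero', up_00, up_01, one_mul, one_mul] at h4
  have h5 : y 1 = 0 := left_eq_add.1 h4.symm
  rw [M.e_mem_line]
  refine ⟨y 0, ?_⟩
  rw [← hD, ← ap_smul]
  congr 1
  apply ext2
  · simp
  · rw [h5]; simp

theorem act_pow {g : G} (hg : g ∈ N) {w : Fin 2 → F} {γ : F}
    (hl : ∀ (c : F) x, M.act g (c • x) = c • M.act g x) (hw : M.act g w = γ • w) (n : ℕ) :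
    M.act (g ^ n) w = γ ^ n • w := by
  induction n with
  | zero => rw [pow_zero, pow_zero, M.act_one, one_smul]
  | succ n ih => rw [pow_succ', M.act_mul hg (pow_mem hg n), ih, hl, hw, smul_smul, ← pow_succ]

/-- the torus element -/
theorem exists_torus {w : Fin 2 → F} (hw : w ≠ 0) {c : F} (hc : c ≠ 0) :
    ∃ l : G, ∃ B : Matrix.SpecialLinearGroup (Fin 2) F, M.Ind l B ∧ ap B w = c • w := by
  obtain ⟨D, hD⟩ := exists_ap_e hw
  obtain ⟨l, hl⟩ := M.lift (D * dg c hc * D⁻¹)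
  refine ⟨l, _, hl, ?_⟩
  rw [← hD, ap_mul, ap_mul, ap_inv_ap, ← ap_smul]
  congr 1
  apply ext2
  · rw [ap_zero']; simp
  · rw [ap_one']; simp

/-- a 2-subgroup of `N_G(V) ∩ N_G(R)` normalised by `N_G(V) ∩ N_G(R)` induces transvections with axis `R` only -/
theorem lin_of_torus [Finite G] [Finite F] [CharP F 2] {w : Fin 2 → F} (hw : w ≠ 0) {Q : Subgroup G}
    (hQV : Q ≤ N) (hQw : Q ≤ normalizer ((M.line w : Subgroup G) : Set G)) (hQ : IsPGroup 2 Q)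
    (hQn : ∀ g ∈ N, g ∈ normalizer ((M.line w : Subgroup G) : Set G) → ∀ x ∈ Q, g * x * g⁻¹ ∈ Q) :
    Q ≤ M.UW w := by
  intro x hx
  have hxV := hQV hx
  have hmul : ∀ g ∈ N, g ∈ normalizer ((M.line w : Subgroup G) : Set G) →
      ∃ c : F, c ≠ 0 ∧ M.act g w = c • w := by
    intro g hg hgw
    rw [← cj_eq_iff, M.cj_line hg, M.line_eq_iff (M.act_ne_zero hg hw)] at hgw
    obtain ⟨c, hc⟩ := hgw
    refine ⟨c, ?_, hc⟩
    rintro rfl
    rw [zero_smul] at hc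
    exact M.act_ne_zero hg hw hc
  obtain ⟨s, hs⟩ := M.exists_semi hxV
  obtain ⟨s', hs'⟩ := M.exists_semi (inv_mem hxV)
  obtain ⟨α, hα0, hα⟩ := hmul x hxV (hQw hx)
  obtain ⟨β, hβ0, hβ⟩ := hmul x⁻¹ (inv_mem hxV) (inv_mem (hQw hx))
  have hαβ : s β * α = 1 := by
    have h1 := M.act_act_inv hxV w
    rw [hβ, hs, hα, smul_smul] at h1
    exact smul_left_injective F hw (by simpa using h1)
  have hss : ∀ c, s (s' c) = c := by
    intro c
    have h1 := M.act_act_inv hxV (c • w)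
    rw [hs', hs, M.act_act_inv hxV] at h1
    exact smul_left_injective F hw h1
  -- the field automorphism is trivial
  have hs1 : ∀ c, s c = c := by
    intro c
    by_cases hc : c = 0
    · rw [hc, map_zero]
    obtain ⟨l, T, hl, hT⟩ := M.exists_torus hw hc
    have hlV : l ∈ N := M.mem_normalizer hl
    have hlw : l ∈ normalizer ((M.line w : Subgroup G) : Set G) := by
      rw [← cj_eq_iff, M.cj_line_of_ind hl, hT, M.line_smul hc]
    have hlact : ∀ y, M.act l y = ap T y := M.act_of_ind hl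
    have hlinv : ∀ (d : F) y, M.act l⁻¹ (d • y) = d • M.act l⁻¹ y := by
      intro d y
      obtain ⟨z, rfl⟩ : ∃ z, M.act l z = y := ⟨M.act l⁻¹ y, M.act_act_inv hlV y⟩
      rw [M.act_inv_act hlV, hlact, ← ap_smul, ← hlact, M.act_inv_act hlV]
    have hlw' : M.act l⁻¹ w = c⁻¹ • w := by
      have h1 : w = M.act l (c⁻¹ • w) := by
        rw [hlact, ap_smul, hT, smul_smul, inv_mul_cancel₀ hc, one_smul]
      nth_rewrite 1 [h1]
      rw [M.act_inv_act hlV]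
    set u := x * (l * x⁻¹ * l⁻¹) with hu
    have huQ : u ∈ Q := mul_mem hx (hQn l hlV hlw _ (inv_mem hx))
    have huV := hQV huQ
    have hact : ∀ y, M.act u y = M.act x (M.act l (M.act x⁻¹ (M.act l⁻¹ y))) := by
      intro y
      rw [hu, M.act_mul hxV (mul_mem (mul_mem hlV (inv_mem hxV)) (inv_mem hlV)),
        M.act_mul (mul_mem hlV (inv_mem hxV)) (inv_mem hlV), M.act_mul hlV (inv_mem hxV)]
    have hulin : ∀ (d : F) y, M.act u (d • y) = d • M.act u y := by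
      intro d y
      rw [hact, hact, hlinv, hs', hlact, ap_smul, hs, hss, hlact]
    have huw : M.act u w = (s c * c⁻¹) • w := by
      rw [hact, hlw', hs', hβ, smul_smul, hlact, ap_smul, hT, smul_smul, hs, hα, smul_smul]
      congr 1
      rw [map_mul, map_mul, hss]
      calc c⁻¹ * s β * s c * α = (s β * α) * (s c * c⁻¹) := by ring
        _ = s c * c⁻¹ := by rw [hαβ, one_mul]
    obtain ⟨k, hk⟩ := hQ ⟨u, huQ⟩
    have hk' : u ^ 2 ^ k = 1 := congrArg Subtype.val hk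
    have h1 := M.act_pow huV hulin huw (2 ^ k)
    rw [hk', M.act_one] at h1
    have h2 : (s c * c⁻¹) ^ 2 ^ k = 1 := (smul_left_injective F hw (by simpa using h1)).symm
    have h3 := eq_one_of_pow h2
    rwa [mul_inv_eq_one₀ hc] at h3
  have hlin : ∀ (d : F) y, M.act x (d • y) = d • M.act x y := fun d y => by rw [hs, hs1]
  obtain ⟨k, hk⟩ := hQ ⟨x, hx⟩
  have hk' : x ^ 2 ^ k = 1 := congrArg Subtype.val hk
  have hα1 : α = 1 := by
    have h1 := M.act_pow hxV hlin hα (2 ^ k)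
    rw [hk', M.act_one] at h1
    exact eq_one_of_pow (smul_left_injective F hw (by simpa using h1)).symm
  rw [hα1, one_smul] at hα
  -- the determinant
  obtain ⟨D, hD⟩ := exists_ap_e hw
  set y := ap D ![0, 1] with hy
  have hwy : dt w y = 1 := by
    have h1 := det_eq D
    rw [← hD, hy]
    unfold dt
    rw [ap_zero', ap_zero', ap_one', ap_one']
    simp only [Matrix.cons_val_zero, Matrix.cons_val_one, mul_one, mul_zero, add_zero, zero_add]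
    rw [← h1]; ring
  have hww : dt w w = 0 := by unfold dt; ring
  set δ := dt w (M.act x y) with hδ
  have hdt : ∀ z, dt w (M.act x z) = δ * dt w z := by
    intro z
    obtain ⟨a, b, rfl⟩ := exists_comb (by rw [hwy]; exact one_ne_zero : dt w y ≠ 0) z
    rw [M.act_add hxV, hlin, hlin, hα]
    simp only [dt_add, dt_smul, hww, hwy, ← hδ]
    ring
  have hdt' : ∀ (n : ℕ) z, dt w (M.act (x ^ n) z) = δ ^ n * dt w z := by
    intro n
    induction n with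
    | zero => intro z; rw [pow_zero, pow_zero, M.act_one, one_mul]
    | succ n ih =>
      intro z
      rw [pow_succ', M.act_mul hxV (pow_mem hxV n), hdt, ih, pow_succ']; ring
  have hδ1 : δ = 1 := by
    have h1 := hdt' (2 ^ k) y
    rw [hk', M.act_one, hwy, mul_one] at h1
    exact eq_one_of_pow h1.symm
  obtain ⟨B, hB⟩ := exists_of_fix hw (M.act x) (M.act_add hxV) hlin hα (fun z => by
    refine exists_smul_of_dt hw ?_
    have h1 := hdt z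
    rw [hδ1, one_mul] at h1
    unfold dt at h1 ⊢
    rw [Pi.sub_apply, Pi.sub_apply]
    linear_combination h1)
  exact ⟨B, by rw [← hB, hα], M.ind_of_act hxV hB⟩

end RMod

/-- **the bridge**: `V' ≤ Q` a mutual partner of `V`, `Q` a 2-group normalised by `N ∩ N_G(R)`, `R = V ∩ V'`: `Q`
induces on `V` exactly the transvections with axis `R`; in particular `C_V(Q) = R` and `[V, Q] ≤ R` -/
theorem bridge [Finite G] {F F' : Type*} [Field F] [Field F'] [Finite F] [Finite F'] [CharP F 2] [CharP F' 2]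
    {V V' N N' : Subgroup G} (M : RMod F V N) (M' : RMod F' V' N') (h : RMutual V V' N N') {Q : Subgroup G} (hV'Q : V' ≤ Q)
    (hQV : Q ≤ N) (hQR : Q ≤ normalizer ((V ⊓ V' : Subgroup G) : Set G)) (hQ : IsPGroup 2 Q)
    (hQn : ∀ g ∈ N, g ∈ normalizer ((V ⊓ V' : Subgroup G) : Set G) → ∀ x ∈ Q, g * x * g⁻¹ ∈ Q) :
    ∃ w, w ≠ 0 ∧ V ⊓ V' = M.line w ∧ Q ≤ M.UW w ∧ (∀ B, ap B w = w → ∃ x ∈ V', M.Ind x B) ∧
      centralizer (Q : Set G) ⊓ V = V ⊓ V' ∧ ∀ x ∈ Q, ∀ v ∈ V, x * v * x⁻¹ * v⁻¹ ∈ V ⊓ V' := by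
  obtain ⟨-, w, w', hw, hw', hl, -⟩ := pair M M' h
  have hU : Q ≤ M.UW w := M.lin_of_torus hw.ne hQV (by rwa [← hl]) hQ (by rw [← hl]; exact hQn)
  refine ⟨w, hw.ne, hl, hU, hw.full, ?_, ?_⟩
  · apply le_antisymm
    · rw [hl, ← hw.cent]
      exact inf_le_inf_right _ (centralizer_le hV'Q)
    · rw [hl]
      rintro _ ⟨c, rfl⟩
      refine mem_inf.2 ⟨mem_centralizer_iff.2 ?_, M.e_mem _⟩
      intro x hx
      obtain ⟨B, hB, hB'⟩ := hU hx
      rw [M.commute_e (hQV hx), M.act_of_ind hB', ap_smul, hB]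
  · intro x hx v hv
    obtain ⟨B, hB, hB'⟩ := hU hx
    obtain ⟨b, hb, hb'⟩ := hw.full B hB
    have h1 : x * v * x⁻¹ = b * v * b⁻¹ := by
      obtain ⟨y, rfl⟩ := (M.mem_iff v).1 hv
      rw [hB' y, hb' y]
    rw [h1, hl]
    exact hw.comm b hb v hv


end Cfsg.Agent.Omega.Mix
end

-- part: Mrg/Omega/BTwo/Entry
section
prune_inst 0x1000000000000000000000000000010000000001200002000200020085002100002000000800220000000040000000500000000000000000000000000028000001000000000000000000000000000000000000000000000000000000000000000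
set_option linter.all false
open scoped Cfsg.Agent.FastGrp

section


/-!
# SQ3: the structure `BT` from a mutual pair (#9945, #10337 (1))

`bt`: `V` a natural module (`NatMod F V`), `S ≤ N_G(V)` a Sylow 2-subgroup of `G`, `(V, V^g)` a mutual pair,
`R = V ∩ V^g` and `V ≤ O₂(N_G(R))` (`b = 2`): then `BT V (points of V)`; `full`: an element of `O₂(N_G(R))` centralises `V`
or `[V, g] = R`.
-/

set_option autoImplicit false
set_option linter.unusedSectionVars false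

namespace Cfsg.Agent.Omega.BTwo

open Subgroup Cfsg.Agent.Lib.SL2Mat Cfsg.Agent.Omega.NatPair

variable {G : Type*} [Group G] {F : Type*} [Field F] {V : Subgroup G}

/-- the points of `V` -/
def Pt (M : NatMod F V) : Type _ := {R : Subgroup G // ∃ w, w ≠ 0 ∧ R = M.line w}

/-- the points of `V`, as subgroups -/
def pt (M : NatMod F V) (i : Pt M) : Subgroup G := i.1

theorem exists_basis {w u : Fin 2 → F} (h : dt w u ≠ 0) :
    ∃ D : Matrix.SpecialLinearGroup (Fin 2) F, ap D ![1, 0] = w ∧ ap D ![0, 1] = (dt w u)⁻¹ • u := by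
  refine ⟨_root_.Cfsg.Agent.Lib.SL2Mat.mk (w 0) ((dt w u)⁻¹ * u 0) (w 1) ((dt w u)⁻¹ * u 1) ?_, ?_, ?_⟩
  · have h1 : (dt w u)⁻¹ * dt w u = 1 := inv_mul_cancel₀ h
    nth_rewrite 2 [dt] at h1
    linear_combination h1
  · apply ext2
    · rw [ap_zero']; simp
    · rw [ap_one']; simp
  · apply ext2
    · rw [ap_zero']; simp
    · rw [ap_one']; simp

theorem exists_move {w u u' : Fin 2 → F} (h : dt w u ≠ 0) (h' : dt w u' ≠ 0) :
    ∃ B : Matrix.SpecialLinearGroup (Fin 2) F, ap B w = w ∧ ∃ c : F, c ≠ 0 ∧ ap B u = c • u' := by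
  obtain ⟨D, hD1, hD2⟩ := exists_basis h
  obtain ⟨D', hD1', hD2'⟩ := exists_basis h'
  refine ⟨D' * D⁻¹, ?_, dt w u * (dt w u')⁻¹, mul_ne_zero h (inv_ne_zero h'), ?_⟩
  · nth_rewrite 1 [← hD1]
    rw [ap_mul, ap_inv_ap, hD1']
  · have h1 : u = dt w u • ap D ![0, 1] := by rw [hD2, smul_smul, mul_inv_cancel₀ h, one_smul]
    nth_rewrite 1 [h1]
    rw [ap_smul, ap_mul, ap_inv_ap, hD2', smul_smul]

theorem dt_smul_left (w x : Fin 2 → F) (c : F) : dt (c • w) x = c * dt w x := by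
  simp only [dt, Pi.smul_apply, smul_eq_mul]; ring

theorem dt_self (w : Fin 2 → F) : dt w w = 0 := by unfold dt; ring

theorem line_eq_iff_dt (M : NatMod F V) {w u : Fin 2 → F} (hw : w ≠ 0) (hu : u ≠ 0) :
    M.line u = M.line w ↔ dt w u = 0 := by
  rw [M.line_eq_iff hu]
  constructor
  · rintro ⟨c, rfl⟩
    rw [dt_smul, dt_self, mul_zero]
  · exact fun h => exists_smul_of_dt hw h

theorem exists_dt {w : Fin 2 → F} (hw : w ≠ 0) : ∃ u, dt w u ≠ 0 := by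
  obtain ⟨D, hD⟩ := exists_ap_e hw
  refine ⟨ap D ![0, 1], ?_⟩
  have h1 := det_eq D
  rw [← hD]
  unfold dt
  rw [ap_zero', ap_zero', ap_one', ap_one']
  simp only [Matrix.cons_val_zero, Matrix.cons_val_one, mul_one, mul_zero, add_zero, zero_add]
  intro h2
  rw [show ent D 0 0 * ent D 1 1 - ent D 1 0 * ent D 0 1 = ent D 0 0 * ent D 1 1 - ent D 0 1 * ent D 1 0 by ring,
    h1] at h2
  exact one_ne_zero h2

theorem ne_zero_of_dt {w u : Fin 2 → F} (h : dt w u ≠ 0) : u ≠ 0 := by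
  rintro rfl
  apply h
  unfold dt
  simp

/-- the mutual pair `(V, V^h)`, with `R = V ∩ V^h` normalised by `h` and `V ≤ O₂(N(R))` -/
structure At (V R : Subgroup G) (h : G) : Prop where
  norm : h ∈ normalizer (R : Set G)
  mtl : Mutual V (cj h V)
  inf : V ⊓ cj h V = R
  VQ : V ≤ QQ R

theorem Mutual.cj {A B : Subgroup G} (h : Mutual A B) (g : G) : Mutual (cj g A) (cj g B) where
  le := by rw [normalizer_cj]; exact cj_mono h.le
  le' := by rw [normalizer_cj]; exact cj_mono h.le'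
  ne := by
    obtain ⟨v, hv, w, hw, hvw⟩ := h.ne
    refine ⟨g * v * g⁻¹, conj_mem_cj hv, g * w * g⁻¹, conj_mem_cj hw, fun h1 => hvw ?_⟩
    have h2 : g * (v * w) * g⁻¹ = g * (w * v) * g⁻¹ := by
      calc g * (v * w) * g⁻¹ = g * v * g⁻¹ * (g * w * g⁻¹) := by group
        _ = g * w * g⁻¹ * (g * v * g⁻¹) := h1
        _ = g * (w * v) * g⁻¹ := by group
    exact mul_left_cancel (mul_right_cancel h2)

theorem At.cj {R : Subgroup G} {h : G} (a : At V R h) {l : G} (hl : l ∈ normalizer (V : Set G)) :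
    At V (cj l R) (l * h * l⁻¹) := by
  have h1 : BTwo.cj (l * h * l⁻¹) V = BTwo.cj l (BTwo.cj h V) := by
    rw [cj_mul, cj_mul, cj_eq_self_iff.2 (inv_mem hl)]
  have h2 : BTwo.cj l V = V := cj_eq_self_iff.2 hl
  refine ⟨?_, ?_, ?_, ?_⟩
  · rw [← cj_eq_self_iff, cj_mul, cj_mul, cj_inv_cj, cj_eq_self_iff.2 a.norm]
  · have := Mutual.cj a.mtl l
    rwa [h2, ← h1] at this
  · rw [h1]
    nth_rewrite 1 [← h2]
    rw [← cj_inf, a.inf]
  · have := cj_mono (g := l) a.VQ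
    rwa [h2, cj_O2, ← normalizer_cj] at this

theorem At.inv {R : Subgroup G} {h : G} (a : At V R h) : At V R h⁻¹ := by
  have h3 : BTwo.cj h⁻¹ R = R := cj_eq_self_iff.2 (inv_mem a.norm)
  refine ⟨inv_mem a.norm, ?_, ?_, a.VQ⟩
  · have := (Mutual.cj a.mtl h⁻¹).symm
    rwa [cj_inv_cj] at this
  · have : BTwo.cj h⁻¹ (V ⊓ BTwo.cj h V) = BTwo.cj h⁻¹ V ⊓ V := by rw [cj_inf, cj_inv_cj]
    rw [inf_comm, ← this, a.inf, h3]

theorem At.V'Q {R : Subgroup G} {h : G} (a : At V R h) : BTwo.cj h V ≤ QQ R := by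
  have := cj_mono (g := h) a.VQ
  rwa [cj_eq_self_iff.2 (le_normalizer_O2 _ a.norm)] at this

section main

variable [Finite G] [Finite F] [CharP F 2] (M : NatMod F V) (S : Sylow 2 G)
  (hS : (S : Subgroup G) ≤ normalizer (V : Set G))

include M hS in
/-- `O₂(N(R))` normalises `V` -/
theorem At.Q_le {R : Subgroup G} {h : G} (a : At V R h) : QQ R ≤ normalizer (V : Set G) := by
  have : Fact (Nat.Prime 2) := ⟨Nat.prime_two⟩
  obtain ⟨-, w, w', hw, hw', hl, -⟩ := pair M (M.conj h) a.mtl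
  obtain ⟨S₁, h1, h2⟩ := M.exists_sylow S hS hw.ne
  have hR : M.line w = R := by rw [← hl]; exact a.inf
  rw [hR] at h2
  have h3 : IsPGroup 2 ((S₁ : Subgroup G) ⊔ QQ R : Subgroup G) :=
    S₁.isPGroup'.to_sup_of_normal_right' (O2_isPGroup _) (h2.trans (le_normalizer_O2 _))
  have h4 := S₁.is_maximal' h3 le_sup_left
  exact (le_sup_right.trans_eq h4).trans h1

include hS in
theorem At.data {R : Subgroup G} {h : G} (a : At V R h) :
    ∃ w, w ≠ 0 ∧ R = M.line w ∧ QQ R ≤ M.UW w ∧ (∀ B, ap B w = w → ∃ x ∈ BTwo.cj h V, M.Ind x B) ∧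
      ∀ x ∈ QQ R, ∀ v ∈ V, x * v * x⁻¹ * v⁻¹ ∈ R := by
  have hR : V ⊓ BTwo.cj h V = R := a.inf
  obtain ⟨w, hw, hl, hU, hf, -, hc⟩ := bridge M (M.conj h) a.mtl (Q := QQ R) a.V'Q (a.Q_le M S hS)
    (by
      show QQ R ≤ normalizer ((V ⊓ BTwo.cj h V : Subgroup G) : Set G)
      rw [hR]; exact BTwo.O2_le _) (O2_isPGroup _) (by
      intro g _ hg x hx
      have hg' : g ∈ normalizer ((V ⊓ BTwo.cj h V : Subgroup G) : Set G) := hg
      rw [hR] at hg'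
      exact conj_mem_of_normalizer (le_normalizer_O2 _ hg') hx)
  refine ⟨w, hw, ?_, hU, hf, ?_⟩
  · rw [← hl]; exact hR.symm
  · intro x hx v hv
    rw [← hR]
    exact hc x hx v hv

include M hS in
/-- an element of `O₂(N(R))` centralises `V` or has commutator space `R` -/
theorem At.full {R : Subgroup G} {h : G} (a : At V R h) {x : G} (hx : x ∈ QQ R) :
    (∀ v ∈ V, x * v = v * x) ∨ ∀ r ∈ R, ∃ v ∈ V, x * v * x⁻¹ * v⁻¹ = r := by
  obtain ⟨w, hw, rfl, hU, -, -⟩ := a.data M S hS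
  obtain ⟨B, hB, hB'⟩ := hU hx
  obtain ⟨u, hu⟩ := exists_dt hw
  have h1 : dt w (ap B u - u) = 0 := by
    have h2 : dt (ap B w) (ap B u) = dt w u := by
      unfold dt
      rw [ap_zero', ap_zero', ap_one', ap_one']
      linear_combination (w 0 * u 1 - w 1 * u 0) * det_eq B
    rw [hB] at h2
    unfold dt at h2 ⊢
    rw [Pi.sub_apply, Pi.sub_apply]
    linear_combination h2
  obtain ⟨c, hc⟩ := exists_smul_of_dt hw h1
  by_cases hc0 : c = 0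
  · left
    intro v hv
    obtain ⟨y, rfl⟩ := (M.mem_iff v).1 hv
    obtain ⟨α, β, rfl⟩ := exists_comb hu y
    rw [hc0, zero_smul, sub_eq_zero] at hc
    rw [← mul_inv_eq_iff_eq_mul, hB', ap_add, ap_smul, ap_smul, hB, hc]
  · right
    rintro _ ⟨d, rfl⟩
    refine ⟨M.e ((d * c⁻¹) • u), M.e_mem _, ?_⟩
    rw [hB', ← M.e_sub, ap_smul, ← smul_sub, hc, smul_smul, mul_assoc, inv_mul_cancel₀ hc0, mul_one]

include hS in
theorem bt_of_at {w₀ : Fin 2 → F} (hw₀ : w₀ ≠ 0) {h : G} (a : At V (M.line w₀) h) : BT V (pt M) := by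
  -- the same at every point
  have hat : ∀ i : Pt M, ∃ h, At V (pt M i) h := by
    rintro ⟨_, w, hw, rfl⟩
    obtain ⟨A, hA⟩ := exists_ap hw₀ hw
    obtain ⟨l, hl⟩ := M.lift A
    refine ⟨l * h * l⁻¹, ?_⟩
    have h1 : BTwo.cj l (M.line w₀) = M.line w := by
      have := M.cj_line_of_ind hl w₀
      rw [hA] at this
      exact this
    show At V (M.line w) (l * h * l⁻¹)
    rw [← h1]
    exact a.cj (M.mem_normalizer hl)
  have hmt : ∀ i : Pt M, ∀ h, At V (pt M i) h → ∀ j k : Pt M, j ≠ i → k ≠ i →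
      ∃ v ∈ V, BTwo.cj (h * v * h⁻¹) (pt M j) = pt M k := by
    rintro i h a ⟨_, u, hu, rfl⟩ ⟨_, u', hu', rfl⟩ hj hk
    obtain ⟨w, hw, hR, -, hf, -⟩ := a.data M S hS
    have hju : dt w u ≠ 0 := by
      intro h1
      apply hj
      apply Subtype.ext
      show M.line u = pt M i
      rw [hR, (line_eq_iff_dt M hw hu).2 h1]
    have hku : dt w u' ≠ 0 := by
      intro h1
      apply hk
      apply Subtype.ext
      show M.line u' = pt M i
      rw [hR, (line_eq_iff_dt M hw hu').2 h1]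
    obtain ⟨B, hB, c, hc, hBu⟩ := exists_move hju hku
    obtain ⟨x, hx, hxB⟩ := hf B hB
    obtain ⟨v, hv, rfl⟩ := hx
    refine ⟨v, hv, ?_⟩
    show BTwo.cj _ (M.line u) = M.line u'
    have h1 := M.cj_line_of_ind hxB u
    rw [hBu, M.line_smul hc] at h1
    exact h1
  refine
    { V_comm := fun a ha b hb => M.comm ha hb
      V_sq := fun a ha => M.sq ha
      R_le := ?_
      R_inf := ?_
      R_sup := ?_
      R_cov := ?_
      R_ne := ?_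
      third := ?_
      perm := ?_
      V_Q := ?_
      QV := ?_
      QR := ?_
      mt := ?_ }
  · rintro ⟨_, w, hw, rfl⟩
    exact M.line_le w
  · rintro ⟨_, w, hw, rfl⟩ ⟨_, u, hu, rfl⟩ hne
    have h1 : dt w u ≠ 0 := by
      intro h1
      apply hne
      apply Subtype.ext
      exact ((line_eq_iff_dt M hw hu).2 h1).symm
    rw [eq_bot_iff]
    rintro _ ⟨⟨c, hc⟩, ⟨d, hd⟩⟩
    have h2 : c • w = d • u := M.e_inj (hc.trans hd.symm)
    have h3 : d = 0 := by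
      have h4 := congrArg (dt w) h2
      rw [dt_smul, dt_smul, dt_self, mul_zero] at h4
      exact (mul_eq_zero.1 h4.symm).resolve_right h1
    rw [mem_bot, ← hd, h3, zero_smul, M.e_zero]
  · rintro ⟨_, w, hw, rfl⟩ ⟨_, u, hu, rfl⟩ hne
    have h1 : dt w u ≠ 0 := by
      intro h1
      apply hne
      apply Subtype.ext
      exact ((line_eq_iff_dt M hw hu).2 h1).symm
    apply le_antisymm
    · exact sup_le (M.line_le w) (M.line_le u)
    · intro v hv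
      obtain ⟨x, rfl⟩ := (M.mem_iff v).1 hv
      obtain ⟨α, β, rfl⟩ := exists_comb h1 x
      rw [M.e_add]
      exact mul_mem (mem_sup_left ⟨α, rfl⟩) (mem_sup_right ⟨β, rfl⟩)
  · intro v hv
    obtain ⟨x, rfl⟩ := (M.mem_iff v).1 hv
    by_cases hx : x = 0
    · refine ⟨⟨_, w₀, hw₀, rfl⟩, ?_⟩
      rw [hx, M.e_zero]
      exact one_mem _
    · exact ⟨⟨_, x, hx, rfl⟩, ⟨1, by rw [one_smul]⟩⟩
  · rintro ⟨_, w, hw, rfl⟩ h1
    have h2 : M.e w ∈ M.line w := ⟨1, by rw [one_smul]⟩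
    have h3 : M.line w = ⊥ := h1
    rw [h3, mem_bot, M.e_eq_one] at h2
    exact hw h2
  · rintro ⟨_, w, hw, rfl⟩ ⟨_, u, hu, rfl⟩
    by_cases hwu : dt w u = 0
    · obtain ⟨x, hx⟩ := exists_dt hw
      refine ⟨⟨_, x, ne_zero_of_dt hx, rfl⟩, ?_, ?_⟩
      · intro h1
        exact hx ((line_eq_iff_dt M hw (ne_zero_of_dt hx)).1 (congrArg Subtype.val h1))
      · intro h1
        have h2 : M.line x = M.line u := congrArg Subtype.val h1
        rw [(line_eq_iff_dt M hw hu).2 hwu, line_eq_iff_dt M hw (ne_zero_of_dt hx)] at h2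
        exact hx h2
    · have h0 : w + u ≠ 0 := by
        intro h1
        apply hwu
        have h2 := congrArg (dt w) h1
        rw [dt_add, dt_self, zero_add] at h2
        rw [h2]
        unfold dt
        simp
      refine ⟨⟨_, w + u, h0, rfl⟩, ?_, ?_⟩
      · intro h1
        have h2 : M.line (w + u) = M.line w := congrArg Subtype.val h1
        rw [line_eq_iff_dt M hw h0, dt_add, dt_self, zero_add] at h2
        exact hwu h2
      · intro h1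
        have h2 : M.line (w + u) = M.line u := congrArg Subtype.val h1
        rw [line_eq_iff_dt M hu h0, dt_add, dt_self, add_zero] at h2
        apply hwu
        have h3 : dt w u = - dt u w := by unfold dt; ring
        rw [h3, h2, neg_zero]
  · rintro g hg ⟨_, w, hw, rfl⟩
    exact ⟨⟨_, M.act g w, M.act_ne_zero hg hw, rfl⟩, M.cj_line hg w⟩
  · intro i
    obtain ⟨h, a⟩ := hat i
    exact a.VQ
  · intro i
    obtain ⟨h, a⟩ := hat i
    obtain ⟨w, hw, hR, -, -, hc⟩ := a.data M S hS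
    exact hc
  · intro i g hg r hr
    obtain ⟨h, a⟩ := hat i
    obtain ⟨w, hw, hR, hU, -, -⟩ := a.data M S hS
    rw [hR] at hr
    obtain ⟨c, rfl⟩ := hr
    obtain ⟨B, hB, hB'⟩ := hU hg
    rw [← mul_inv_eq_iff_eq_mul, hB', ap_smul, hB]
  · intro i
    obtain ⟨h, a⟩ := hat i
    refine ⟨h, a.norm, fun j k hj hk => ⟨hmt i h a j k hj hk, ?_⟩⟩
    obtain ⟨v, hv, h1⟩ := hmt i h⁻¹ a.inv j k hj hk
    rw [inv_inv] at h1
    exact ⟨v, hv, h1⟩

include hS in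
/-- **the entry**: a mutual pair with `b = 2` gives `BT` -/
theorem bt {g : G} (h : Mutual V (NatPair.cj g V)) (hQ : V ≤ QQ (V ⊓ NatPair.cj g V)) : BT V (pt M) := by
  obtain ⟨-, w, w', hw, hw', hl, -⟩ := pair M (M.conj g) h
  obtain ⟨x, hx, hxV⟩ := exists_conj M h
  refine bt_of_at M S hS hw.ne (h := x) ⟨?_, ?_, ?_, ?_⟩
  · rw [← hl]; exact hx
  · have h1 : BTwo.cj x V = NatPair.cj g V := hxV
    rw [h1]; exact h
  · have h1 : BTwo.cj x V = NatPair.cj g V := hxV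
    rw [h1]; exact hl
  · rw [← hl]; exact hQ

end main

end Cfsg.Agent.Omega.BTwo

end

section


/-!
# Mixed mutual pairs (TEXT MIX, bb OMEGA #12374): the global structure

`LL V R r` : the subgroup generated by the lines of the type of `V` on the point `r` (`r` conjugate to `R`), i.e.
`W(r) = ⟨V^g : R^g = r⟩`.  `W₁ r = LL V₁ R r`, `W₂ r = LL V₂ R r`.
-/

set_option autoImplicit false

namespace Cfsg.Agent.Omega.Mix

open Subgroup Cfsg.Agent.Omega.BTwo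
open Cfsg.Agent.Omega.NatPair (NatMod)

variable {G : Type*} [Group G]

/-- `⟨V^g : R^g = r⟩` -/
def LL (V R r : Subgroup G) : Subgroup G := ⨆ g : {g : G // cj g R = r}, cj (g : G) V

theorem cj_le_LL {V R r : Subgroup G} {g : G} (h : cj g R = r) : cj g V ≤ LL V R r :=
  le_iSup (fun g : {g : G // cj g R = r} => cj (g : G) V) ⟨g, h⟩

theorem V_le_LL (V R : Subgroup G) : V ≤ LL V R R := by
  have := cj_le_LL (V := V) (R := R) (cj_one R)
  rwa [cj_one] at this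

theorem LL_le {V R r K : Subgroup G} (h : ∀ g, cj g R = r → cj g V ≤ K) : LL V R r ≤ K :=
  iSup_le fun g => h g g.2

/-- `W(r)^g = W(r^g)` -/
theorem cj_LL {V R r r' : Subgroup G} {g : G} (h : cj g r = r') : cj g (LL V R r) = LL V R r' := by
  have key : ∀ (g : G) (r r' : Subgroup G), cj g r = r' → cj g (LL V R r) ≤ LL V R r' := by
    intro g r r' h
    rw [LL, cj_iSup]
    refine iSup_le fun k => ?_
    rw [← cj_mul]
    exact cj_le_LL (by rw [cj_mul, k.2, h])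
  refine le_antisymm (key g r r' h) ?_
  have h2 := cj_mono (g := g) (key g⁻¹ r' r (by rw [← h, cj_inv_cj]))
  rwa [cj_cj_inv] at h2

theorem normalizer_le_LL (V R r : Subgroup G) :
    normalizer (r : Set G) ≤ normalizer (LL V R r : Set G) := by
  intro g hg
  rw [← cj_eq_self_iff] at hg ⊢
  exact cj_LL hg

/-- `C_H(O₂(H)) ≤ O₂(H)` -/
def Char2 (H : Subgroup G) : Prop := ∀ x ∈ H, (∀ q ∈ O2 H, x * q = q * x) → x ∈ O2 H

/-- A mixed mutual pair `(V₁, V₂)`, normal form: `V₁`, `V₂` natural `SL₂`-modules with the common line `R`, `S` a Sylow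
2-subgroup of `G` normalising `V₁`, `V₂`, `R`; `W₁ R`, `W₂ R` abelian, not commuting. -/
structure Mixed {F₁ F₂ : Type*} [Field F₁] [Field F₂] {V₁ V₂ : Subgroup G} (M₁ : NatMod F₁ V₁) (M₂ : NatMod F₂ V₂)
    (R : Subgroup G) : Prop where
  line₁ : ∃ w, w ≠ 0 ∧ R = M₁.line w
  line₂ : ∃ w, w ≠ 0 ∧ R = M₂.line w
  sylow : ∃ S : Sylow 2 G, (S : Subgroup G) ≤ normalizer (V₁ : Set G) ∧ (S : Subgroup G) ≤ normalizer (V₂ : Set G) ∧
    (S : Subgroup G) ≤ normalizer (R : Set G)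
  char₁ : Char2 (normalizer (V₁ : Set G))
  char₂ : Char2 (normalizer (V₂ : Set G))
  charR : Char2 (normalizer (R : Set G))
  comm₁ : ∀ a ∈ LL V₁ R R, ∀ b ∈ LL V₁ R R, a * b = b * a
  comm₂ : ∀ a ∈ LL V₂ R R, ∀ b ∈ LL V₂ R R, a * b = b * a
  ne : ∃ a ∈ LL V₁ R R, ∃ b ∈ LL V₂ R R, a * b ≠ b * a

theorem Mixed.symm {F₁ F₂ : Type*} [Field F₁] [Field F₂] {V₁ V₂ : Subgroup G} {M₁ : NatMod F₁ V₁} {M₂ : NatMod F₂ V₂}
    {R : Subgroup G} (m : Mixed M₁ M₂ R) : Mixed M₂ M₁ R where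
  line₁ := m.line₂
  line₂ := m.line₁
  sylow := by
    obtain ⟨S, h1, h2, h3⟩ := m.sylow
    exact ⟨S, h2, h1, h3⟩
  char₁ := m.char₂
  char₂ := m.char₁
  charR := m.charR
  comm₁ := m.comm₂
  comm₂ := m.comm₁
  ne := by
    obtain ⟨a, ha, b, hb, h⟩ := m.ne
    exact ⟨b, hb, a, ha, fun h1 => h h1.symm⟩

/-- A mixed mutual pair `(V₁, V₂)`, normal form, relative to subgroups `N₁ ≤ N(V₁)`, `N₂ ≤ N(V₂)` (for `q = 4` the full
normaliser may induce `A₇` on `V₁`): `V₁`, `V₂` natural `SL₂`-modules with the common line `R`, `S` a Sylow 2-subgroup of `G`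
inside `N₁ ∩ N₂ ∩ N(R)` with `Ω₁(Z(S)) ≤ R`; all 2-local subgroups have characteristic 2; `W₁ = LL V₁ R R`,
`W₂ = LL V₂ R R` abelian, not commuting. -/
structure MixedN {F₁ F₂ : Type*} [Field F₁] [Field F₂] {V₁ V₂ N₁ N₂ : Subgroup G} (M₁ : RMod F₁ V₁ N₁)
    (M₂ : RMod F₂ V₂ N₂) (R : Subgroup G) : Prop where
  line₁ : ∃ w, w ≠ 0 ∧ R = M₁.line w
  line₂ : ∃ w, w ≠ 0 ∧ R = M₂.line w
  sylow : ∃ S : Sylow 2 G, (S : Subgroup G) ≤ N₁ ∧ (S : Subgroup G) ≤ N₂ ∧ (S : Subgroup G) ≤ normalizer (R : Set G) ∧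
    ∀ z ∈ S, z * z = 1 → (∀ s ∈ S, s * z = z * s) → z ∈ R
  char : ∀ K : Subgroup G, IsPGroup 2 K → K ≠ ⊥ → Char2 (normalizer (K : Set G))
  comm₁ : ∀ a ∈ LL V₁ R R, ∀ b ∈ LL V₁ R R, a * b = b * a
  comm₂ : ∀ a ∈ LL V₂ R R, ∀ b ∈ LL V₂ R R, a * b = b * a
  ne : ∃ a ∈ LL V₁ R R, ∃ b ∈ LL V₂ R R, a * b ≠ b * a

theorem MixedN.symm {F₁ F₂ : Type*} [Field F₁] [Field F₂] {V₁ V₂ N₁ N₂ : Subgroup G} {M₁ : RMod F₁ V₁ N₁}
    {M₂ : RMod F₂ V₂ N₂} {R : Subgroup G} (m : MixedN M₁ M₂ R) : MixedN M₂ M₁ R where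
  line₁ := m.line₂
  line₂ := m.line₁
  sylow := by
    obtain ⟨S, h1, h2, h3, h4⟩ := m.sylow
    exact ⟨S, h2, h1, h3, h4⟩
  char := m.char
  comm₁ := m.comm₂
  comm₂ := m.comm₁
  ne := by
    obtain ⟨a, ha, b, hb, h⟩ := m.ne
    exact ⟨b, hb, a, ha, fun h1 => h h1.symm⟩

end Cfsg.Agent.Omega.Mix

end

section


/-!
# Mixed mutual pairs (TEXT MIX, bb OMEGA #12374), steps (3) - (5): `C_G(B i C i) = R i`
-/

set_option autoImplicit false

namespace Cfsg.Agent.Omega.Mix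

open Subgroup Pointwise Cfsg.Agent.Omega.BTwo

variable {G : Type*} [Group G] {ι : Type*}

theorem sq_eq_of_comm {z y : G} (hc : z * y = y * z) (h : z * y⁻¹ * (z * y⁻¹) = 1) : z * z = y * y := by
  have hc' : y⁻¹ * z = z * y⁻¹ := by
    calc y⁻¹ * z = y⁻¹ * (z * y) * y⁻¹ := by group
      _ = y⁻¹ * (y * z) * y⁻¹ := by rw [hc]
      _ = z * y⁻¹ := by group
  have h1 : z * z * (y * y)⁻¹ = 1 := by
    calc z * z * (y * y)⁻¹ = z * (z * y⁻¹) * y⁻¹ := by group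
      _ = z * (y⁻¹ * z) * y⁻¹ := by rw [hc']
      _ = z * y⁻¹ * (z * y⁻¹) := by group
      _ = 1 := h
  exact mul_inv_eq_one.1 h1

namespace Side

variable {V : Subgroup G} {R B C : ι → Subgroup G} (s : Side V R B C)
include s

theorem b_inv {i : ι} {b : G} (hb : b ∈ B i) : b⁻¹ = b := inv_eq_of_mul_eq_one_left (s.B_sq i b hb)

theorem c_inv {i : ι} {c : G} (hc : c ∈ C i) : c⁻¹ = c := inv_eq_of_mul_eq_one_left (s.C_sq i c hc)

/-- if `b ∈ B k` maps `R i` to `R j`, then `x = t x'`, `t ∈ T k`, `x' = b x b⁻¹`, for `x ∈ C(V)` -/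
theorem split {k : ι} {b x : G} (hb : b ∈ B k) (hx : ∀ v ∈ V, x * v = v * x) :
    ∃ t ∈ TT V (B k), x = t * (b * x * b⁻¹) := by
  refine ⟨(b * x * b⁻¹ * x⁻¹)⁻¹, inv_mem (s.comm_mem_T' hx hb), ?_⟩
  group

/-- `Y i` centralises `C j` -/
theorem Y_C {i j : ι} {y c : G} (hy : y ∈ YY (B i) (C i)) (hc : c ∈ C j) : y * c = c * y := by
  by_cases hij : i = j
  · subst hij
    exact (mem_YY.1 hy).2 c hc
  obtain ⟨k, hkj, hki, b, hb, e⟩ := s.trans_B j i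
  obtain ⟨t, ht, h⟩ := s.split hb (s.C_V hc)
  have h1 : b * c * b⁻¹ ∈ C i := by
    rw [← s.cC b j i e]
    exact conj_mem_cj hc
  rw [h]
  have h2 := s.Y_T hy ht
  have h3 := (mem_YY.1 hy).2 _ h1
  calc y * (t * (b * c * b⁻¹)) = y * t * (b * c * b⁻¹) := by group
    _ = t * (y * (b * c * b⁻¹)) := by rw [h2]; group
    _ = t * (b * c * b⁻¹) * y := by rw [h3]; group

theorem R_Y (i : ι) : R i ≤ YY (B i) (C i) := by
  intro r hr
  rw [mem_YY]
  exact ⟨fun b hb => s.B_comm i r (s.R_B i hr) b hb, fun c hc => s.C_comm i r (s.V_C i (s.R_V i hr)) c hc⟩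

theorem nY (i : ι) : normalizer (R i : Set G) ≤ normalizer (YY (B i) (C i) : Set G) := by
  intro g hg
  rw [← cj_eq_self_iff]
  exact cj_YY (cj_eq_self_iff.2 (s.nB i hg)) (cj_eq_self_iff.2 (s.nC i hg))

theorem cY {g : G} {i j : ι} (e : cj g (R i) = R j) : cj g (YY (B i) (C i)) = YY (B j) (C j) :=
  cj_YY (s.cB g i j e) (s.cC g i j e)

/-- elements of odd order of `Y i` are in `Y j` -/
theorem odd_mem [Finite G] {i : ι} (j : ι) {y : G} (hy : y ∈ YY (B i) (C i)) (ho : Odd (orderOf y)) :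
    y ∈ YY (B j) (C j) := by
  rw [mem_YY]
  refine ⟨?_, fun c hc => s.Y_C hy hc⟩
  intro b hb
  have hyV := s.Y_V hy
  have ht := s.comm_mem_T hyV hb
  set t := y * b * y⁻¹ * b⁻¹ with ht'
  have hyt := s.Y_T hy ht
  have h1 : y * b * y⁻¹ = t * b := by rw [ht']; group
  have h2 : ∀ n : ℕ, y ^ n * b * (y ^ n)⁻¹ = t ^ n * b := by
    intro n
    induction n with
    | zero => simp
    | succ n ih =>
      have hc : y * t ^ n * y⁻¹ = t ^ n := by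
        have : Commute y (t ^ n) := Commute.pow_right hyt n
        rw [this.eq, mul_inv_cancel_right]
      calc y ^ (n + 1) * b * (y ^ (n + 1))⁻¹ = y * (y ^ n * b * (y ^ n)⁻¹) * y⁻¹ := by
            rw [pow_succ' y n]; group
        _ = (y * t ^ n * y⁻¹) * (y * b * y⁻¹) := by rw [ih]; group
        _ = t ^ n * (t * b) := by rw [hc, h1]
        _ = t ^ (n + 1) * b := by rw [pow_succ]; group
  have h3 := h2 (orderOf y)
  rw [pow_orderOf_eq_one] at h3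
  have h4 : t ^ orderOf y = 1 := by
    have : (1 : G) * b * 1⁻¹ = b := by group
    rw [this] at h3
    exact (right_eq_mul.1 h3)
  have h5 : t = 1 := by
    obtain ⟨m, hm⟩ := ho
    rw [hm, pow_succ, pow_mul, pow_two, s.B_sq j t (TT_le _ _ ht), one_pow, one_mul] at h4
    exact h4
  rw [h5, one_mul] at h1
  exact mul_inv_eq_iff_eq_mul.1 h1

/-! ### (4) -/

/-- `Y i ∩ Y j = 1` -/
theorem Y_inf (hY : ∀ i, IsPGroup 2 (YY (B i) (C i))) {i j : ι} (hij : i ≠ j) :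
    YY (B i) (C i) ⊓ YY (B j) (C j) = ⊥ :=
  s.inf_eq_bot (A := fun i => YY (B i) (C i)) (fun _ _ _ _ e => s.cY e) hY
    (fun _ _ ha b hb => ((mem_YY.1 ha).1 b hb).symm) hij

theorem Y_eq_one (hY : ∀ i, IsPGroup 2 (YY (B i) (C i))) {i j : ι} (hij : i ≠ j) {x : G}
    (h1 : x ∈ YY (B i) (C i)) (h2 : x ∈ YY (B j) (C j)) : x = 1 := by
  have : x ∈ YY (B i) (C i) ⊓ YY (B j) (C j) := ⟨h1, h2⟩
  rw [s.Y_inf hY hij] at this
  exact mem_bot.1 this

theorem Y_comm (hY : ∀ i, IsPGroup 2 (YY (B i) (C i))) {i j : ι} (hij : i ≠ j) {x y : G}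
    (hx : x ∈ YY (B i) (C i)) (hy : y ∈ YY (B j) (C j)) : x * y = y * x := by
  apply comm_of_eq_one
  apply s.Y_eq_one hY hij
  · have h1 : y ∈ normalizer (YY (B i) (C i) : Set G) := s.nY i (s.cV_le_NR (s.Y_V hy) i)
    have h2 := conj_mem_of_normalizer h1 (inv_mem hx)
    have e : x * y * x⁻¹ * y⁻¹ = x * (y * x⁻¹ * y⁻¹) := by group
    rw [e]
    exact mul_mem hx h2
  · have h1 : x ∈ normalizer (YY (B j) (C j) : Set G) := s.nY j (s.cV_le_NR (s.Y_V hx) j)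
    exact mul_mem (conj_mem_of_normalizer h1 hy) (inv_mem hy)

/-- `Y i` has exponent 2 -/
theorem Y_sq (hY : ∀ i, IsPGroup 2 (YY (B i) (C i))) {i : ι} {y : G} (hy : y ∈ YY (B i) (C i)) : y * y = 1 := by
  obtain ⟨j, hj, -⟩ := s.third i i
  obtain ⟨b, hb, hbV⟩ := s.exists_move hj
  obtain ⟨k, hk⟩ := s.perm j b hb i
  have hki : k ≠ i := by
    rintro rfl
    exact hbV (s.free j k (Ne.symm hj) b hb hk)
  have h1 : b * y * b⁻¹ ∈ YY (B k) (C k) := by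
    rw [← s.cY hk]
    exact conj_mem_cj hy
  have hc := s.Y_comm hY hki h1 hy
  set z := b * y * b⁻¹ with hz
  have hu := s.comm_mem_T' (s.Y_V hy) hb
  have hu2 := s.B_sq j _ (TT_le _ _ hu)
  rw [← hz] at hu2
  have h3 : z * z = y * y := sq_eq_of_comm hc hu2
  refine s.Y_eq_one hY hki ?_ (mul_mem hy hy)
  rw [← h3]
  exact mul_mem h1 h1

/-- `Y i ≤ T i` -/
theorem Y_le_T (hY : ∀ i, IsPGroup 2 (YY (B i) (C i))) {i : ι} {y : G} (hy : y ∈ YY (B i) (C i)) :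
    y ∈ TT V (B i) := by
  -- `A i = Y i T i`
  set A : ι → Subgroup G := fun i => YY (B i) (C i) ⊔ TT V (B i) with hA
  have hTY : ∀ i, TT V (B i) ≤ normalizer (YY (B i) (C i) : Set G) := by
    intro i t ht
    exact s.nY i (s.cV_le_NR (mem_TT.1 ht).2 i)
  have hmem : ∀ i, ∀ x ∈ A i, ∃ y ∈ YY (B i) (C i), ∃ t ∈ TT V (B i), x = y * t := by
    intro i x hx
    have h1 : x ∈ ((YY (B i) (C i) : Subgroup G) : Set G) * (TT V (B i) : Set G) := by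
      rw [← Subgroup.coe_mul_of_right_le_normalizer_left _ _ (hTY i)]
      exact hx
    obtain ⟨y, hy, t, ht, rfl⟩ := h1
    exact ⟨y, hy, t, ht, rfl⟩
  have hAB : ∀ i, ∀ a ∈ A i, ∀ b ∈ B i, b * a = a * b := by
    intro i a ha b hb
    obtain ⟨y, hy, t, ht, rfl⟩ := hmem i a ha
    have h1 := (mem_YY.1 hy).1 b hb
    have h2 := s.B_comm i b hb t (TT_le _ _ ht)
    calc b * (y * t) = b * y * t := by group
      _ = y * (b * t) := by rw [← h1]; group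
      _ = y * t * b := by rw [h2]; group
  have hAp : ∀ i, IsPGroup 2 (A i) := by
    intro i x
    obtain ⟨y, hy, t, ht, h⟩ := hmem i x x.2
    refine ⟨1, ?_⟩
    apply Subtype.ext
    rw [pow_one, pow_two]
    change (x : G) * x = 1
    have h1 := s.Y_T hy ht
    rw [h]
    calc y * t * (y * t) = y * (t * y) * t := by group
      _ = (y * y) * (t * t) := by rw [← h1]; group
      _ = 1 := by rw [s.Y_sq hY hy, s.B_sq i t (TT_le _ _ ht), one_mul]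
  have hAc : ∀ g ∈ normalizer (V : Set G), ∀ i j, cj g (R i) = R j → cj g (A i) = A j := by
    intro g hg i j e
    rw [hA]
    change cj g (YY (B i) (C i) ⊔ TT V (B i)) = YY (B j) (C j) ⊔ TT V (B j)
    rw [cj_sup, s.cY e, s.cj_T hg e]
  obtain ⟨j, hj, -⟩ := s.third i i
  obtain ⟨k, hkj, hki, b, hb, e⟩ := s.trans_B i j
  obtain ⟨t, ht, h⟩ := s.split hb (s.Y_V hy)
  have h1 : b * y * b⁻¹ ∈ YY (B j) (C j) := by
    rw [← s.cY e]
    exact conj_mem_cj hy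
  set z := b * y * b⁻¹ with hz
  obtain ⟨u, hu, w, hw, htuw⟩ := s.T_sub (Ne.symm hj) k ht
  -- `y = u w z`, `u⁻¹ y = w z ∈ A i ∩ A j`
  have h2 : u⁻¹ * y = w * z := by rw [h, htuw]; group
  have h3 : u⁻¹ * y ∈ A i ⊓ A j := by
    refine ⟨(A i).mul_mem ((A i).inv_mem ((le_sup_right : TT V (B i) ≤ A i) hu)) ((le_sup_left : YY (B i) (C i) ≤ A i) hy), ?_⟩
    rw [h2]
    exact (A j).mul_mem ((le_sup_right : TT V (B j) ≤ A j) hw) ((le_sup_left : YY (B j) (C j) ≤ A j) h1)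
  rw [s.inf_eq_bot hAc hAp hAB (Ne.symm hj)] at h3
  have h4 : u = y := inv_mul_eq_one.1 (mem_bot.1 h3)
  rw [← h4]
  exact hu

/-! ### (5) -/

/-- `[B i, Y j] ≤ Y i` -/
theorem comm_B_Y (hY : ∀ i, IsPGroup 2 (YY (B i) (C i))) {i j : ι} {b y : G} (hb : b ∈ B i)
    (hy : y ∈ YY (B j) (C j)) : b * y * b⁻¹ * y⁻¹ ∈ YY (B i) (C i) := by
  have hyT := s.Y_le_T hY hy
  have h1 := s.comm_mem_T' (s.Y_V hy) hb
  obtain ⟨k, hk⟩ := s.perm i b hb j
  have h2 : b * y * b⁻¹ ∈ YY (B k) (C k) := by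
    rw [← s.cY hk]
    exact conj_mem_cj hy
  rw [mem_YY]
  refine ⟨fun b' hb' => s.B_comm i _ (TT_le _ _ h1) b' hb', fun c hc => ?_⟩
  have h3 := s.Y_C h2 hc
  have h4 := s.Y_C ((YY (B j) (C j)).inv_mem hy) hc
  calc b * y * b⁻¹ * y⁻¹ * c = b * y * b⁻¹ * (y⁻¹ * c) := by group
    _ = (b * y * b⁻¹ * c) * y⁻¹ := by rw [h4]; group
    _ = c * (b * y * b⁻¹ * y⁻¹) := by rw [h3]; group

/-- the elements of `N(R i)` which centralise `B i / Y i`, `C i / Y i` and `Y i` -/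
def Om (R B C : Subgroup G) : Subgroup G where
  carrier := {g | g ∈ normalizer (R : Set G) ∧ g ∈ normalizer (YY B C : Set G) ∧
    (∀ b ∈ B, g * b * g⁻¹ * b⁻¹ ∈ YY B C) ∧ (∀ c ∈ C, g * c * g⁻¹ * c⁻¹ ∈ YY B C) ∧ ∀ y ∈ YY B C, g * y = y * g}
  one_mem' := by
    refine ⟨one_mem _, one_mem _, fun b _ => ?_, fun c _ => ?_, fun y _ => by group⟩
    · have : 1 * b * 1⁻¹ * b⁻¹ = 1 := by group
      rw [this]; exact one_mem _
    · have : 1 * c * 1⁻¹ * c⁻¹ = 1 := by group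
      rw [this]; exact one_mem _
  mul_mem' := by
    rintro g h ⟨g1, g2, g3, g4, g5⟩ ⟨h1, h2, h3, h4, h5⟩
    refine ⟨mul_mem g1 h1, mul_mem g2 h2, fun b hb => ?_, fun c hc => ?_, fun y hy => ?_⟩
    · have e : g * h * b * (g * h)⁻¹ * b⁻¹ = g * (h * b * h⁻¹ * b⁻¹) * g⁻¹ * (g * b * g⁻¹ * b⁻¹) := by group
      rw [e]; exact mul_mem (conj_mem_of_normalizer g2 (h3 b hb)) (g3 b hb)
    · have e : g * h * c * (g * h)⁻¹ * c⁻¹ = g * (h * c * h⁻¹ * c⁻¹) * g⁻¹ * (g * c * g⁻¹ * c⁻¹) := by group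
      rw [e]; exact mul_mem (conj_mem_of_normalizer g2 (h4 c hc)) (g4 c hc)
    · calc g * h * y = g * (h * y) := by group
        _ = (g * y) * h := by rw [h5 y hy]; group
        _ = y * (g * h) := by rw [g5 y hy]; group
  inv_mem' := by
    rintro g ⟨g1, g2, g3, g4, g5⟩
    refine ⟨inv_mem g1, inv_mem g2, fun b hb => ?_, fun c hc => ?_, fun y hy => ?_⟩
    · have e : g⁻¹ * b * g⁻¹⁻¹ * b⁻¹ = g⁻¹ * (g * b * g⁻¹ * b⁻¹)⁻¹ * g := by group
      rw [e]; exact conj_inv_mem_of_normalizer g2 (inv_mem (g3 b hb))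
    · have e : g⁻¹ * c * g⁻¹⁻¹ * c⁻¹ = g⁻¹ * (g * c * g⁻¹ * c⁻¹)⁻¹ * g := by group
      rw [e]; exact conj_inv_mem_of_normalizer g2 (inv_mem (g4 c hc))
    · have := g5 y hy
      calc g⁻¹ * y = g⁻¹ * (y * g) * g⁻¹ := by group
        _ = g⁻¹ * (g * y) * g⁻¹ := by rw [this]
        _ = y * g⁻¹ := by group

theorem Om_isPGroup (hY : ∀ i, IsPGroup 2 (YY (B i) (C i))) (i : ι) : IsPGroup 2 (Om (R i) (B i) (C i)) := by
  have key : ∀ g x : G, g * x * g⁻¹ * x⁻¹ ∈ YY (B i) (C i) → (∀ y ∈ YY (B i) (C i), g * y = y * g) →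
      g * g * x = x * (g * g) := by
    intro g x h1 h2
    have h3 := h2 _ h1
    have h4 := s.Y_sq hY h1
    set y := g * x * g⁻¹ * x⁻¹ with hy
    have h5 : g * x * g⁻¹ = y * x := by rw [hy]; group
    have h6 : g * g * x * (g * g)⁻¹ = x := by
      calc g * g * x * (g * g)⁻¹ = g * (g * x * g⁻¹) * g⁻¹ := by group
        _ = g * y * (x * g⁻¹) := by rw [h5]; group
        _ = y * (g * x * g⁻¹) := by rw [h3]; group
        _ = y * y * x := by rw [h5]; group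
        _ = x := by rw [h4, one_mul]
    exact mul_inv_eq_iff_eq_mul.1 h6
  intro g
  obtain ⟨-, -, h3, h4, h5⟩ := g.2
  refine ⟨2, ?_⟩
  apply Subtype.ext
  change (g : G) ^ 2 ^ 2 = 1
  have h6 : (g : G) * g ∈ YY (B i) (C i) :=
    mem_YY.2 ⟨fun b hb => key g b (h3 b hb) h5, fun c hc => key g c (h4 c hc) h5⟩
  have h7 := s.Y_sq hY h6
  calc (g : G) ^ 2 ^ 2 = (g : G) * g * (g * g) := by norm_num [pow_succ, mul_assoc]
    _ = 1 := h7

theorem Om_le (hY : ∀ i, IsPGroup 2 (YY (B i) (C i))) (i : ι) : Om (R i) (B i) (C i) ≤ QQ (R i) := by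
  refine le_O2_of_normal (fun g hg => hg.1) (s.Om_isPGroup hY i) ?_
  rintro n hn g ⟨g1, g2, g3, g4, g5⟩
  have hnB := s.nB i hn
  have hnC := s.nC i hn
  have hnY := s.nY i hn
  refine ⟨mul_mem (mul_mem hn g1) (inv_mem hn), mul_mem (mul_mem hnY g2) (inv_mem hnY), fun b hb => ?_,
    fun c hc => ?_, fun y hy => ?_⟩
  · have h1 := g3 _ (conj_inv_mem_of_normalizer hnB hb)
    have e : n * g * n⁻¹ * b * (n * g * n⁻¹)⁻¹ * b⁻¹ =
        n * (g * (n⁻¹ * b * n) * g⁻¹ * (n⁻¹ * b * n)⁻¹) * n⁻¹ := by group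
    rw [e]; exact conj_mem_of_normalizer hnY h1
  · have h1 := g4 _ (conj_inv_mem_of_normalizer hnC hc)
    have e : n * g * n⁻¹ * c * (n * g * n⁻¹)⁻¹ * c⁻¹ =
        n * (g * (n⁻¹ * c * n) * g⁻¹ * (n⁻¹ * c * n)⁻¹) * n⁻¹ := by group
    rw [e]; exact conj_mem_of_normalizer hnY h1
  · have h1 := g5 _ (conj_inv_mem_of_normalizer hnY hy)
    calc n * g * n⁻¹ * y = n * (g * (n⁻¹ * y * n)) * n⁻¹ := by group
      _ = n * (n⁻¹ * y * n * g) * n⁻¹ := by rw [h1]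
      _ = y * (n * g * n⁻¹) := by group

/-- `Y j ≤ O₂(N(R i))` -/
theorem Y_le_Q (hY : ∀ i, IsPGroup 2 (YY (B i) (C i))) {i j : ι} (hij : i ≠ j) : YY (B j) (C j) ≤ QQ (R i) := by
  intro y hy
  apply s.Om_le hY i
  have hN := s.cV_le_NR (s.Y_V hy) i
  refine ⟨hN, s.nY i hN, fun b hb => ?_, fun c hc => ?_, fun z hz => ?_⟩
  · have := inv_mem (s.comm_B_Y hY hb hy)
    have e : (b * y * b⁻¹ * y⁻¹)⁻¹ = y * b * y⁻¹ * b⁻¹ := by group
    rwa [e] at this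
  · rw [eq_one_of_comm (s.Y_C hy hc)]
    exact one_mem _
  · exact s.Y_comm hY (Ne.symm hij) hy hz

/-- **(5)** `C_G(B i C i) = R i` -/
theorem Y_eq [Finite G] (hY : ∀ i, IsPGroup 2 (YY (B i) (C i)))
    (hQ : ∀ i, ∀ g ∈ QQ (R i), ∀ b ∈ B i, g * b * g⁻¹ * b⁻¹ ∈ R i) (j : ι) : YY (B j) (C j) = R j := by
  apply le_antisymm _ (s.R_Y j)
  obtain ⟨i, hij, -⟩ := s.third j j
  obtain ⟨b, hb, hbV⟩ := s.exists_move hij
  -- `y ↦ [b, y]` maps `Y j` injectively into `R i`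
  have hmap : ∀ y ∈ YY (B j) (C j), b * y * b⁻¹ * y⁻¹ ∈ R i := by
    intro y hy
    have := inv_mem (hQ i y (s.Y_le_Q hY hij hy) b hb)
    have e : (y * b * y⁻¹ * b⁻¹)⁻¹ = b * y * b⁻¹ * y⁻¹ := by group
    rwa [e] at this
  have hinj : ∀ y ∈ YY (B j) (C j), ∀ z ∈ YY (B j) (C j), b * y * b⁻¹ * y⁻¹ = b * z * b⁻¹ * z⁻¹ → y = z := by
    intro y hy z hz h
    have h1 := comm_of_comm_eq h
    have h2 := s.inj hij hb hbV (mul_mem (inv_mem (TT_le _ _ (s.Y_le_T hY hz))) (TT_le _ _ (s.Y_le_T hY hy))) h1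
    exact (inv_mul_eq_one.1 h2).symm
  have hcard : Nat.card (YY (B j) (C j)) ≤ Nat.card (R j) := by
    have h1 : Nat.card (R i) = Nat.card (R j) := by
      obtain ⟨m, -, -, x, hx, e⟩ := s.trans_B i j
      rw [← e, card_cj]
    rw [← h1]
    refine Nat.card_le_card_of_injective
      (fun y : YY (B j) (C j) => (⟨b * y * b⁻¹ * (y : G)⁻¹, hmap y y.2⟩ : R i)) ?_
    intro y z h
    exact Subtype.ext (hinj y y.2 z z.2 (congrArg Subtype.val h))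
  exact (eq_of_le_of_card_ge (s.R_Y j) hcard).symm.le

end Side

end Cfsg.Agent.Omega.Mix

end

section


/-!
# Mixed mutual pairs (TEXT MIX, bb OMEGA #12374), step (3), global part: `C_G(W₁ W₂)` is a 2-group

`OD Y` : the subgroup generated by the elements of odd order of `Y`.
-/

set_option autoImplicit false

namespace Cfsg.Agent.Omega.Mix

open Subgroup Cfsg.Agent.Omega.BTwo

variable {G : Type*} [Group G] {ι κ : Type*}

/-- the subgroup generated by the elements of odd order -/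
def OD (Y : Subgroup G) : Subgroup G := _root_.Subgroup.closure {y | y ∈ Y ∧ Odd (orderOf y)}

theorem OD_le (Y : Subgroup G) : OD Y ≤ Y := (closure_le _).2 fun _ hy => hy.1

theorem orderOf_conj' (g y : G) : orderOf (g * y * g⁻¹) = orderOf y :=
  orderOf_injective (MulAut.conj g).toMonoidHom (MulAut.conj g).injective y

theorem cj_OD_le (g : G) (Y : Subgroup G) : cj g (OD Y) ≤ OD (cj g Y) := by
  rw [OD, cj, MonoidHom.map_closure, closure_le]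
  rintro _ ⟨y, ⟨hy, ho⟩, rfl⟩
  refine subset_closure ⟨conj_mem_cj hy, ?_⟩
  change Odd (orderOf (g * y * g⁻¹))
  rw [orderOf_conj']
  exact ho

theorem cj_OD (g : G) (Y : Subgroup G) : cj g (OD Y) = OD (cj g Y) := by
  refine le_antisymm (cj_OD_le g Y) ?_
  have := cj_mono (g := g) (cj_OD_le g⁻¹ (cj g Y))
  rwa [cj_cj_inv, cj_inv_cj] at this

theorem OD_le_of_mem {Y Y' : Subgroup G} (h : ∀ y ∈ Y, Odd (orderOf y) → y ∈ Y') : OD Y ≤ OD Y' := by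
  rw [OD, closure_le]
  rintro y ⟨hy, ho⟩
  exact subset_closure ⟨h y hy ho, ho⟩

theorem isPGroup_of_OD [Finite G] {Y : Subgroup G} (h : OD Y = ⊥) : IsPGroup 2 Y := by
  intro y
  obtain ⟨k, m, hm, hkm⟩ := Nat.exists_eq_two_pow_mul_odd (n := orderOf (y : G)) (orderOf_pos _).ne'
  refine ⟨k, ?_⟩
  apply Subtype.ext
  have h1 : orderOf ((y : G) ^ 2 ^ k) = m := by
    rw [orderOf_pow' _ (by positivity), hkm, Nat.gcd_eq_right (Dvd.intro _ rfl),
      Nat.mul_div_cancel_left _ (by positivity)]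
  have h2 : (y : G) ^ 2 ^ k ∈ OD Y := subset_closure ⟨pow_mem y.2 _, by rw [h1]; exact hm⟩
  rw [h] at h2
  exact mem_bot.1 h2

theorem Side.OD_eq [Finite G] {V : Subgroup G} {R B C : ι → Subgroup G} (s : Side V R B C) (i j : ι) :
    OD (YY (B i) (C i)) = OD (YY (B j) (C j)) :=
  le_antisymm (OD_le_of_mem fun _ hy ho => s.odd_mem j hy ho) (OD_le_of_mem fun _ hy ho => s.odd_mem i hy ho)

/-- `OD Y` is normalised by the stabiliser of the set of points of `V` -/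
theorem Side.nOD [Finite G] {V : Subgroup G} {R B C : ι → Subgroup G} (s : Side V R B C) (i : ι) :
    ST V R ≤ normalizer (OD (YY (B i) (C i)) : Set G) := by
  intro g hg
  rw [← cj_eq_self_iff, cj_OD]
  obtain ⟨j, hj⟩ := hg.2.1 i
  rw [s.cY hj]
  exact s.OD_eq j i

/-- **(3)** `C_G(W₁ W₂)` is a 2-group -/
theorem Y_isPGroup [Finite G] {V₁ V₂ : Subgroup G} {R₁ B₁ C₁ : ι → Subgroup G} {R₂ B₂ C₂ : κ → Subgroup G}
    (s₁ : Side V₁ R₁ B₁ C₁) (s₂ : Side V₂ R₂ B₂ C₂) {i : ι} {j : κ} (hR : R₁ i = R₂ j) (hB : B₁ i = C₂ j)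
    (hC : C₁ i = B₂ j) (hch : Char2 (normalizer (R₁ i : Set G)))
    (hNL : ∀ K : Subgroup G, IsPGroup 2 K → ST V₁ R₁ ≤ normalizer (K : Set G) →
      ST V₂ R₂ ≤ normalizer (K : Set G) → normalizer (R₁ i : Set G) ≤ normalizer (K : Set G) → K = ⊥) :
    IsPGroup 2 (YY (B₁ i) (C₁ i)) := by
  have hYY : YY (B₁ i) (C₁ i) = YY (B₂ j) (C₂ j) := by
    rw [YY, YY, hB, hC, sup_comm]
  set D := OD (YY (B₁ i) (C₁ i)) with hD
  have h1 : ST V₁ R₁ ≤ normalizer (D : Set G) := s₁.nOD i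
  have h2 : ST V₂ R₂ ≤ normalizer (D : Set G) := by
    rw [hD, hYY]; exact s₂.nOD j
  have h3 : normalizer (R₁ i : Set G) ≤ normalizer (D : Set G) := by
    intro g hg
    rw [← cj_eq_self_iff, hD, cj_OD, cj_eq_self_iff.2 (s₁.nY i hg)]
  have hN : normalizer (D : Set G) ≤ normalizer (O2 D : Set G) := by
    intro g hg
    rw [← cj_eq_self_iff, cj_O2, cj_eq_self_iff.2 hg]
  have h4 : O2 D = ⊥ := hNL _ (O2_isPGroup D) (h1.trans hN) (h2.trans hN) (h3.trans hN)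
  have hDR : D ≤ normalizer (R₁ i : Set G) := by
    intro x hx
    exact s₁.cV_le_NR (s₁.Y_V (OD_le _ hx)) i
  set Q := O2 (normalizer (R₁ i : Set G)) with hQ
  have hQR : Q ≤ normalizer (R₁ i : Set G) := O2_le _
  have h5 : D ⊓ Q ≤ O2 D := by
    refine le_O2_of_normal inf_le_left ((O2_isPGroup _).to_le inf_le_right) ?_
    rintro g hg a ⟨haD, haQ⟩
    exact ⟨D.mul_mem (D.mul_mem hg haD) (D.inv_mem hg),
      conj_mem_of_normalizer (le_normalizer_O2 _ (hDR hg)) haQ⟩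
  rw [h4] at h5
  have h6 : D ≤ Q := by
    intro d hd
    refine hch d (hDR hd) fun q hq => ?_
    apply comm_of_eq_one
    have : d * q * d⁻¹ * q⁻¹ ∈ D ⊓ Q := by
      refine ⟨?_, Q.mul_mem (conj_mem_of_normalizer (le_normalizer_O2 _ (hDR hd)) hq) (Q.inv_mem hq)⟩
      have e : d * q * d⁻¹ * q⁻¹ = d * (q * d⁻¹ * q⁻¹) := by group
      rw [e]
      exact D.mul_mem hd (conj_mem_of_normalizer (h3 (hQR hq)) (D.inv_mem hd))
    exact mem_bot.1 (h5 this)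
  have h7 : D = ⊥ := by
    rw [eq_bot_iff]
    exact fun d hd => h5 ⟨hd, h6 hd⟩
  exact isPGroup_of_OD h7

/-- **(3)-(5)** `C_G(W₁ W₂) = R` -/
theorem center_eq [Finite G] {V₁ V₂ : Subgroup G} {R₁ B₁ C₁ : ι → Subgroup G} {R₂ B₂ C₂ : κ → Subgroup G}
    (s₁ : Side V₁ R₁ B₁ C₁) (s₂ : Side V₂ R₂ B₂ C₂) {i : ι} {j : κ} (hR : R₁ i = R₂ j) (hB : B₁ i = C₂ j)
    (hC : C₁ i = B₂ j) (hch : Char2 (normalizer (R₁ i : Set G)))
    (hNL : ∀ K : Subgroup G, IsPGroup 2 K → ST V₁ R₁ ≤ normalizer (K : Set G) →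
      ST V₂ R₂ ≤ normalizer (K : Set G) → normalizer (R₁ i : Set G) ≤ normalizer (K : Set G) → K = ⊥)
    (hQ : ∀ i, ∀ g ∈ QQ (R₁ i), ∀ b ∈ B₁ i, g * b * g⁻¹ * b⁻¹ ∈ R₁ i) (k : ι) :
    YY (B₁ k) (C₁ k) = R₁ k := by
  refine s₁.Y_eq (fun k => ?_) hQ k
  have h := Y_isPGroup s₁ s₂ hR hB hC hch hNL
  obtain ⟨m, -, -, x, hx, e⟩ := s₁.trans_B i k
  rw [← s₁.cY e]
  exact isPGroup_cj h

end Cfsg.Agent.Omega.Mix

end

section


/-!
# `MixedW` : a mixed mutual pair in normal form, without the hypothesis `Ω₁(Z(S)) ≤ R`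

This is what is available in II.0h1 (`V_i := [V_{P_i}, O²(P_i)]`, `C_{V_{P_i}}(O²(P_i)) ≠ 1`).
-/

set_option autoImplicit false

namespace Cfsg.Agent.Omega.MixOne

open Subgroup Cfsg.Agent.Omega.BTwo Cfsg.Agent.Omega.Mix

variable {G : Type*} [Group G]

/-- `Mix.MixedN` without `Ω₁(Z(S)) ≤ R` -/
structure MixedW {F₁ F₂ : Type*} [Field F₁] [Field F₂] {V₁ V₂ N₁ N₂ : Subgroup G} (M₁ : RMod F₁ V₁ N₁)
    (M₂ : RMod F₂ V₂ N₂) (R : Subgroup G) : Prop where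
  line₁ : ∃ w, w ≠ 0 ∧ R = M₁.line w
  line₂ : ∃ w, w ≠ 0 ∧ R = M₂.line w
  sylow : ∃ S : Sylow 2 G, (S : Subgroup G) ≤ N₁ ∧ (S : Subgroup G) ≤ N₂ ∧ (S : Subgroup G) ≤ normalizer (R : Set G)
  char : ∀ K : Subgroup G, IsPGroup 2 K → K ≠ ⊥ → Char2 (normalizer (K : Set G))
  comm₁ : ∀ a ∈ LL V₁ R R, ∀ b ∈ LL V₁ R R, a * b = b * a
  comm₂ : ∀ a ∈ LL V₂ R R, ∀ b ∈ LL V₂ R R, a * b = b * a
  ne : ∃ a ∈ LL V₁ R R, ∃ b ∈ LL V₂ R R, a * b ≠ b * a

variable {F₁ F₂ : Type*} [Field F₁] [Field F₂] {V₁ V₂ N₁ N₂ : Subgroup G} {M₁ : RMod F₁ V₁ N₁}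
  {M₂ : RMod F₂ V₂ N₂} {R : Subgroup G}

theorem MixedW.symm (m : MixedW M₁ M₂ R) : MixedW M₂ M₁ R where
  line₁ := m.line₂
  line₂ := m.line₁
  sylow := by
    obtain ⟨S, h1, h2, h3⟩ := m.sylow
    exact ⟨S, h2, h1, h3⟩
  char := m.char
  comm₁ := m.comm₂
  comm₂ := m.comm₁
  ne := by
    obtain ⟨a, ha, b, hb, h⟩ := m.ne
    exact ⟨b, hb, a, ha, fun h1 => h h1.symm⟩

end Cfsg.Agent.Omega.MixOne

end

section


/-!
# TEXT MIX without the fixed point hypothesis (bb OMEGA #13275, (2) - (4)): one side, field-free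

`SideW` is `Mix.Side` without the field `fix` (i.e. without `C_V(E) = 1`), with `VB : C_V(B i) = R i` added.
`B₀ = ⨅ k, B k`, `D = ⨅ k, C_G(B k C k)`.  Main result: `SideW.exists_D` : `C_G(B i C i) ≤ T i · D`.
-/

set_option autoImplicit false

namespace Cfsg.Agent.Omega.MixOne

open Subgroup Cfsg.Agent.Omega.BTwo Cfsg.Agent.Omega.Mix

variable {G : Type*} [Group G] {ι : Type*}

/-- the situation at a line `V` with points `R i`, without the fixed point hypothesis -/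
structure SideW (V : Subgroup G) (R B C : ι → Subgroup G) : Prop where
  third : ∀ i j : ι, ∃ k, k ≠ i ∧ k ≠ j
  V_C : ∀ i, V ≤ C i
  R_V : ∀ i, R i ≤ V
  R_B : ∀ i, R i ≤ B i
  R_ne : ∀ i, R i ≠ ⊥
  R_inf : ∀ i j, i ≠ j → R i ⊓ R j = ⊥
  B_comm : ∀ i, ∀ a ∈ B i, ∀ b ∈ B i, a * b = b * a
  B_sq : ∀ i, ∀ a ∈ B i, a * a = 1
  C_comm : ∀ i, ∀ a ∈ C i, ∀ b ∈ C i, a * b = b * a
  C_sq : ∀ i, ∀ a ∈ C i, a * a = 1
  CB : ∀ i, ∀ c ∈ C i, ∀ b ∈ B i, c * b * c⁻¹ * b⁻¹ ∈ R i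
  B_NV : ∀ i, B i ≤ normalizer (V : Set G)
  nB : ∀ i, normalizer (R i : Set G) ≤ normalizer (B i : Set G)
  nC : ∀ i, normalizer (R i : Set G) ≤ normalizer (C i : Set G)
  perm : ∀ m, ∀ g ∈ B m, ∀ i, ∃ j, cj g (R i) = R j
  cB : ∀ g i j, cj g (R i) = R j → cj g (B i) = B j
  cC : ∀ g i j, cj g (R i) = R j → cj g (C i) = C j
  trans : ∀ i j k, j ≠ i → k ≠ i → ∃ b ∈ B i, cj b (R j) = R k
  free : ∀ i j, j ≠ i → ∀ b ∈ B i, cj b (R j) = R j → ∀ v ∈ V, b * v = v * b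
  VB : ∀ i, ∀ v ∈ V, (∀ b ∈ B i, b * v = v * b) → v ∈ R i

namespace SideW

variable {V : Subgroup G} {R B C : ι → Subgroup G} (s : SideW V R B C)
include s

theorem toSide (fix : ∀ K : Subgroup G, IsPGroup 2 K → _root_.Cfsg.Agent.Omega.Mix.ST V R ≤ normalizer (K : Set G) →
    ∀ i j, i ≠ j → (∀ k ∈ K, ∀ b ∈ B i, b * k = k * b) → (∀ k ∈ K, ∀ b ∈ B j, b * k = k * b) → K = ⊥) :
    Side V R B C where
  third := s.third
  V_C := s.V_C
  R_V := s.R_V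
  R_B := s.R_B
  R_ne := s.R_ne
  R_inf := s.R_inf
  B_comm := s.B_comm
  B_sq := s.B_sq
  C_comm := s.C_comm
  C_sq := s.C_sq
  CB := s.CB
  B_NV := s.B_NV
  nB := s.nB
  nC := s.nC
  perm := s.perm
  cB := s.cB
  cC := s.cC
  trans := s.trans
  free := s.free
  fix := fix

theorem R_index {i j : ι} (h : R i = R j) : i = j := by
  by_contra hne
  have := s.R_inf i j hne
  rw [h, inf_idem] at this
  exact s.R_ne j this

theorem cV_le_NR {g : G} (hg : ∀ v ∈ V, g * v = v * g) (i : ι) : g ∈ normalizer (R i : Set G) := by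
  rw [mem_normalizer_iff]
  intro x
  constructor
  · intro hx
    rw [hg x (s.R_V i hx), mul_inv_cancel_right]
    exact hx
  · intro hx
    have h1 := s.R_V i hx
    have h2 : g * (g * x * g⁻¹) * g⁻¹ = g * x * g⁻¹ := by
      rw [hg _ h1, mul_inv_cancel_right]
    have h3 : g * x * g⁻¹ = x := mul_left_cancel (mul_right_cancel h2)
    rwa [h3] at hx

theorem V_comm {a b : G} (ha : a ∈ V) (hb : b ∈ V) (i : ι) : a * b = b * a :=
  s.C_comm i a (s.V_C i ha) b (s.V_C i hb)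

theorem C_V {i : ι} {c : G} (hc : c ∈ C i) : ∀ v ∈ V, c * v = v * c := fun v hv => s.C_comm i c hc v (s.V_C i hv)

/-- `X` in the form `B i ⊔ B j` contains every `B k` -/
theorem B_le {i j : ι} (hij : i ≠ j) (k : ι) : B k ≤ B i ⊔ B j := by
  by_cases hk : k = i
  · subst hk; exact le_sup_left
  obtain ⟨w, hw, e⟩ := s.trans i j k (Ne.symm hij) hk
  rw [← s.cB w j k e, cj_le_iff]
  intro x hx
  have h1 : w ∈ B i ⊔ B j := (le_sup_left : B i ≤ _) hw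
  exact mul_mem (mul_mem h1 ((le_sup_right : B j ≤ _) hx)) (inv_mem h1)

/-- an element commuting with `B i` and `B j` commutes with all `B k` -/
theorem comm_all {i j : ι} (hij : i ≠ j) {x : G} (h1 : ∀ b ∈ B i, b * x = x * b) (h2 : ∀ b ∈ B j, b * x = x * b)
    (k : ι) : ∀ b ∈ B k, b * x = x * b := by
  have : B i ⊔ B j ≤ centralizer ({x} : Set G) := by
    refine sup_le ?_ ?_
    · intro b hb
      rw [mem_centralizer_iff]
      intro z hz
      rw [Set.mem_singleton_iff.1 hz]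
      exact (h1 b hb).symm
    · intro b hb
      rw [mem_centralizer_iff]
      intro z hz
      rw [Set.mem_singleton_iff.1 hz]
      exact (h2 b hb).symm
  intro b hb
  exact (mem_centralizer_iff.1 (this (s.B_le hij k hb)) x rfl).symm

/-- from any point to any other one by an element of some `B m` -/
theorem trans_B (i k : ι) : ∃ m, m ≠ i ∧ m ≠ k ∧ ∃ x ∈ B m, cj x (R i) = R k := by
  obtain ⟨m, hm1, hm2⟩ := s.third i k
  obtain ⟨w, hw, e⟩ := s.trans m i k (Ne.symm hm1) (Ne.symm hm2)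
  exact ⟨m, hm1, hm2, w, hw, e⟩

theorem B_le_ST (m : ι) : B m ≤ _root_.Cfsg.Agent.Omega.Mix.ST V R := fun g hg =>
  ⟨cj_eq_self_iff.2 (s.B_NV m hg), s.perm m g hg, s.perm m g⁻¹ (inv_mem hg)⟩

omit s in
/-- a family permuted by the stabiliser of the set of points -/
theorem normalizer_iInf {A : ι → Subgroup G} (h : ∀ g ∈ normalizer (V : Set G), ∀ i j, cj g (R i) = R j → cj g (A i) = A j) :
    _root_.Cfsg.Agent.Omega.Mix.ST V R ≤ normalizer ((⨅ i, A i : Subgroup G) : Set G) := by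
  have key : ∀ g ∈ _root_.Cfsg.Agent.Omega.Mix.ST V R, ∀ x ∈ (⨅ i, A i : Subgroup G), g * x * g⁻¹ ∈ (⨅ i, A i : Subgroup G) := by
    intro g hg x hx
    rw [mem_iInf] at hx ⊢
    intro k
    obtain ⟨j, hj⟩ := hg.2.2 k
    have hj' : cj g (R j) = R k := by rw [← hj, cj_cj_inv]
    rw [← h g (ST_le V R hg) j k hj']
    exact conj_mem_cj (hx j)
  intro g hg
  rw [mem_normalizer_iff]
  intro x
  refine ⟨key g hg x, fun hx => ?_⟩
  have := key g⁻¹ (inv_mem hg) _ hx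
  have e : g⁻¹ * (g * x * g⁻¹) * g⁻¹⁻¹ = x := by group
  rwa [e] at this

/-- an element of `A i` commuting with `X` lies in all the `A k` -/
theorem mem_iInf_of {A : ι → Subgroup G} (h : ∀ g ∈ normalizer (V : Set G), ∀ i j, cj g (R i) = R j → cj g (A i) = A j)
    {i : ι} {x : G} (hx : x ∈ A i) (hc : ∀ k, ∀ b ∈ B k, b * x = x * b) : x ∈ ⨅ k, A k := by
  rw [mem_iInf]
  intro k
  obtain ⟨m, -, -, w, hw, e⟩ := s.trans_B i k
  have e2 := h w (s.B_NV m hw) i k e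
  rw [← e2]
  have h3 := conj_mem_cj (g := w) hx
  rwa [hc m w hw, mul_inv_cancel_right] at h3

/-! ### `B₀ = ⨅ k, B k` -/

theorem mem_B0_of_comm {i j : ι} (hij : i ≠ j) {x : G} (hx : x ∈ B i) (hc : ∀ b ∈ B j, b * x = x * b) :
    x ∈ ⨅ k, B k :=
  s.mem_iInf_of (fun g _ i j e => s.cB g i j e) hx
    (fun k => s.comm_all hij (fun b hb => s.B_comm i b hb x hx) hc k)

theorem mem_B0 {i j : ι} (hij : i ≠ j) {x : G} (h1 : x ∈ B i) (h2 : x ∈ B j) : x ∈ ⨅ k, B k :=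
  s.mem_B0_of_comm hij h1 fun b hb => s.B_comm j b hb x h2

theorem B0_comm {x : G} (hx : x ∈ ⨅ k, B k) (i : ι) : ∀ b ∈ B i, b * x = x * b :=
  fun b hb => s.B_comm i b hb x (mem_iInf.1 hx i)

/-- `[C(V), B j] ≤ T j` -/
theorem comm_mem_T {g : G} (hg : ∀ v ∈ V, g * v = v * g) {j : ι} {b : G} (hb : b ∈ B j) :
    g * b * g⁻¹ * b⁻¹ ∈ TT V (B j) := by
  rw [mem_TT]
  refine ⟨mul_mem (conj_mem_of_normalizer (s.nB j (s.cV_le_NR hg j)) hb) (inv_mem hb), ?_⟩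
  have h1 : g ∈ centralizer (V : Set G) := mem_centralizer_iff.2 fun v hv => (hg v hv).symm
  have h2 : b * g⁻¹ * b⁻¹ ∈ centralizer (V : Set G) :=
    conj_mem_of_normalizer (normalizer_le_normalizer_centralizer V (s.B_NV j hb)) (inv_mem h1)
  have h3 : g * b * g⁻¹ * b⁻¹ ∈ centralizer (V : Set G) := by
    have e : g * b * g⁻¹ * b⁻¹ = g * (b * g⁻¹ * b⁻¹) := by group
    rw [e]; exact mul_mem h1 h2
  intro v hv
  exact (mem_centralizer_iff.1 h3 v hv).symm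

theorem comm_mem_T' {g : G} (hg : ∀ v ∈ V, g * v = v * g) {j : ι} {b : G} (hb : b ∈ B j) :
    b * g * b⁻¹ * g⁻¹ ∈ TT V (B j) := by
  have := inv_mem (s.comm_mem_T hg hb)
  have e : (g * b * g⁻¹ * b⁻¹)⁻¹ = b * g * b⁻¹ * g⁻¹ := by group
  rwa [e] at this

theorem exists_move {i j : ι} (hij : i ≠ j) : ∃ b ∈ B i, ¬ ∀ v ∈ V, b * v = v * b := by
  obtain ⟨k, hk1, hk2⟩ := s.third i j
  obtain ⟨b, hb, e⟩ := s.trans i j k (Ne.symm hij) hk1
  refine ⟨b, hb, fun hall => ?_⟩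
  have : cj b (R j) = R j := cj_eq_self_iff.2 (s.cV_le_NR hall j)
  rw [e] at this
  exact hk2 (s.R_index this)

theorem cj_T {g : G} (hg : g ∈ normalizer (V : Set G)) {i j : ι} (e : cj g (R i) = R j) :
    cj g (TT V (B i)) = TT V (B j) := cj_TT (cj_eq_self_iff.2 hg) (s.cB g i j e)

/-- for `b ∈ B i` outside `C(V)` : `t ∈ B j`, `[b, t] ∈ B₀` imply `t ∈ B₀` -/
theorem inj0 {i j : ι} (hij : i ≠ j) {b : G} (hb : b ∈ B i) (hbV : ¬ ∀ v ∈ V, b * v = v * b) {t : G}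
    (ht : t ∈ B j) (h : b * t * b⁻¹ * t⁻¹ ∈ ⨅ k, B k) : t ∈ ⨅ k, B k := by
  obtain ⟨k, hk⟩ := s.perm i b hb j
  have hkj : k ≠ j := by
    rintro rfl
    exact hbV (s.free i k (Ne.symm hij) b hb hk)
  have h1 : b * t * b⁻¹ ∈ B k := by
    rw [← s.cB b j k hk]
    exact conj_mem_cj (g := b) ht
  have h2 : b * t * b⁻¹ ∈ B j := by
    have := mul_mem (mem_iInf.1 h j) ht
    rwa [inv_mul_cancel_right] at this
  have h3 := s.mem_B0 hkj h1 h2
  have h4 : t = (b * t * b⁻¹ * t⁻¹)⁻¹ * (b * t * b⁻¹) := by group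
  rw [h4]
  exact mul_mem (inv_mem h) h3

theorem inj {i j : ι} (hij : i ≠ j) {b : G} (hb : b ∈ B i) (hbV : ¬ ∀ v ∈ V, b * v = v * b) {t : G}
    (ht : t ∈ B j) (h : b * t = t * b) : t ∈ ⨅ k, B k := by
  refine s.inj0 hij hb hbV ht ?_
  rw [eq_one_of_comm h]
  exact one_mem _

/-- `T k ≤ T i T j` -/
theorem T_sub {i j : ι} (hij : i ≠ j) (k : ι) {t : G} (ht : t ∈ TT V (B k)) :
    ∃ u ∈ TT V (B i), ∃ w ∈ TT V (B j), t = u * w := by
  by_cases hk : k = i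
  · subst hk; exact ⟨t, ht, 1, one_mem _, (mul_one t).symm⟩
  obtain ⟨b, hb, e⟩ := s.trans i j k (Ne.symm hij) hk
  rw [← s.cj_T (s.B_NV i hb) e] at ht
  obtain ⟨w, hw, rfl⟩ := ht
  change w ∈ TT V (B j) at hw
  refine ⟨b * w * b⁻¹ * w⁻¹, s.comm_mem_T' (mem_TT.1 hw).2 hb, w, hw, ?_⟩
  change b * w * b⁻¹ = _
  group

/-! ### (3) -/

theorem Y_V {i : ι} {y : G} (hy : y ∈ YY (B i) (C i)) : ∀ v ∈ V, y * v = v * y := fun v hv =>
  (mem_YY.1 hy).2 v (s.V_C i hv)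

theorem R_Y (i : ι) : R i ≤ YY (B i) (C i) := by
  intro r hr
  rw [mem_YY]
  exact ⟨fun b hb => s.B_comm i r (s.R_B i hr) b hb, fun c hc => s.C_comm i r (s.V_C i (s.R_V i hr)) c hc⟩

theorem nY (i : ι) : normalizer (R i : Set G) ≤ normalizer (YY (B i) (C i) : Set G) := by
  intro g hg
  rw [← cj_eq_self_iff]
  exact cj_YY (cj_eq_self_iff.2 (s.nB i hg)) (cj_eq_self_iff.2 (s.nC i hg))

theorem cY {g : G} {i j : ι} (e : cj g (R i) = R j) : cj g (YY (B i) (C i)) = YY (B j) (C j) :=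
  cj_YY (s.cB g i j e) (s.cC g i j e)

/-- `[Y i, T j] ≤ B₀` -/
theorem Y_T0 {i j : ι} {y t : G} (hy : y ∈ YY (B i) (C i)) (ht : t ∈ TT V (B j)) :
    y * t * y⁻¹ * t⁻¹ ∈ ⨅ k, B k := by
  by_cases hij : i = j
  · subst hij
    rw [eq_one_of_comm ((mem_YY.1 hy).1 t (TT_le _ _ ht))]
    exact one_mem _
  obtain ⟨b, hb, hbV⟩ := s.exists_move hij
  have hyN := s.nB j (s.cV_le_NR (s.Y_V hy) j)
  have h1 : y * t * y⁻¹ ∈ B j := conj_mem_of_normalizer hyN (TT_le _ _ ht)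
  have hbt := s.comm_mem_T' (mem_TT.1 ht).2 hb
  have hyb := (mem_YY.1 hy).1 b hb
  have hyc := (mem_YY.1 hy).1 _ (TT_le _ _ hbt)
  have hu : b * (t⁻¹ * (y * t * y⁻¹)) = t⁻¹ * (y * t * y⁻¹) * b := by
    apply comm_of_comm_eq
    have hyb' : y * b * y⁻¹ = b := by rw [hyb, mul_inv_cancel_right]
    calc b * (y * t * y⁻¹) * b⁻¹ * (y * t * y⁻¹)⁻¹
        = (y * b * y⁻¹) * (y * t * y⁻¹) * (y * b * y⁻¹)⁻¹ * (y * t * y⁻¹)⁻¹ := by rw [hyb']
      _ = y * (b * t * b⁻¹ * t⁻¹) * y⁻¹ := by group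
      _ = b * t * b⁻¹ * t⁻¹ := by rw [hyc, mul_inv_cancel_right]
  have h2 := s.inj hij hb hbV (mul_mem (inv_mem (TT_le _ _ ht)) h1) hu
  have h3 : y * t * y⁻¹ * t⁻¹ = t * (t⁻¹ * (y * t * y⁻¹)) * t⁻¹ := by group
  rw [h3, s.B0_comm h2 j t (TT_le _ _ ht), mul_inv_cancel_right]
  exact h2

omit s in
/-- elements of `Y i` commute with `B₀` -/
theorem Y_B0 {i : ι} {y x : G} (hy : y ∈ YY (B i) (C i)) (hx : x ∈ ⨅ k, B k) : y * x = x * y :=
  (mem_YY.1 hy).1 x (mem_iInf.1 hx i)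

/-- if `b ∈ B k`, then `x = t x'`, `t ∈ T k`, `x' = b x b⁻¹`, for `x ∈ C(V)` -/
theorem split {k : ι} {b x : G} (hb : b ∈ B k) (hx : ∀ v ∈ V, x * v = v * x) :
    ∃ t ∈ TT V (B k), x = t * (b * x * b⁻¹) := by
  refine ⟨(b * x * b⁻¹ * x⁻¹)⁻¹, inv_mem (s.comm_mem_T' hx hb), ?_⟩
  group

/-- `C j ≤ T k · C i` -/
theorem C_split (i j : ι) {c : G} (hc : c ∈ C j) : ∃ k, ∃ t ∈ TT V (B k), ∃ c' ∈ C i, c = t * c' := by
  obtain ⟨k, hkj, hki, b, hb, e⟩ := s.trans_B j i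
  obtain ⟨t, ht, h⟩ := s.split hb (s.C_V hc)
  refine ⟨k, t, ht, b * c * b⁻¹, ?_, h⟩
  rw [← s.cC b j i e]
  exact conj_mem_cj hc

/-- `[Y i, C j] ≤ B₀` -/
theorem Y_C0 {i j : ι} {y c : G} (hy : y ∈ YY (B i) (C i)) (hc : c ∈ C j) :
    y * c * y⁻¹ * c⁻¹ ∈ ⨅ k, B k := by
  obtain ⟨k, t, ht, c', hc', rfl⟩ := s.C_split i j hc
  have h1 := s.Y_T0 hy ht
  have h2 := (mem_YY.1 hy).2 _ hc'
  have e : y * (t * c') * y⁻¹ * (t * c')⁻¹ = y * t * y⁻¹ * t⁻¹ := by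
    calc y * (t * c') * y⁻¹ * (t * c')⁻¹ = y * t * (c' * y⁻¹) * c'⁻¹ * t⁻¹ := by group
      _ = y * t * (y⁻¹ * c') * c'⁻¹ * t⁻¹ := by
        have : c' * y⁻¹ = y⁻¹ * c' := by
          calc c' * y⁻¹ = y⁻¹ * (y * c') * y⁻¹ := by group
            _ = y⁻¹ * (c' * y) * y⁻¹ := by rw [h2]
            _ = y⁻¹ * c' := by group
        rw [this]
      _ = y * t * y⁻¹ * t⁻¹ := by group
  rw [e]
  exact h1

/-- elements of odd order of `Y i` are in `Y j` -/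
theorem odd_mem [Finite G] {i : ι} (j : ι) {y : G} (hy : y ∈ YY (B i) (C i)) (ho : Odd (orderOf y)) :
    y ∈ YY (B j) (C j) := by
  have hB : ∀ k, ∀ b ∈ B k, y * b = b * y := by
    intro k b hb
    have ht := s.comm_mem_T (s.Y_V hy) hb
    set t := y * b * y⁻¹ * b⁻¹ with ht'
    have hβ := s.Y_T0 hy ht
    set β := y * t * y⁻¹ * t⁻¹ with hβ'
    have hyβ := Y_B0 hy hβ
    have htt := s.B_sq k t (TT_le _ _ ht)
    have hββ := s.B_sq k β (mem_iInf.1 hβ k)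
    have h1 : y * b * y⁻¹ = t * b := by rw [ht']; group
    have h2 : y * t * y⁻¹ = β * t := by rw [hβ']; group
    have h3 : y * y * b * (y * y)⁻¹ = β * b := by
      calc y * y * b * (y * y)⁻¹ = y * (y * b * y⁻¹) * y⁻¹ := by group
        _ = y * (t * b) * y⁻¹ := by rw [h1]
        _ = (y * t * y⁻¹) * (y * b * y⁻¹) := by group
        _ = (β * t) * (t * b) := by rw [h1, h2]
        _ = β * (t * t) * b := by group
        _ = β * b := by rw [htt, mul_one]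
    have h4 : y * y * (y * y) * b * (y * y * (y * y))⁻¹ = b := by
      have hyyβ : y * y * β * (y * y)⁻¹ = β := by
        calc y * y * β * (y * y)⁻¹ = y * (y * β) * y⁻¹ * y⁻¹ := by group
          _ = y * (β * y) * y⁻¹ * y⁻¹ := by rw [hyβ]
          _ = (y * β) * y⁻¹ := by group
          _ = β := by rw [hyβ, mul_inv_cancel_right]
      calc y * y * (y * y) * b * (y * y * (y * y))⁻¹
          = y * y * (y * y * b * (y * y)⁻¹) * (y * y)⁻¹ := by group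
        _ = y * y * (β * b) * (y * y)⁻¹ := by rw [h3]
        _ = (y * y * β * (y * y)⁻¹) * (y * y * b * (y * y)⁻¹) := by group
        _ = β * (β * b) := by rw [hyyβ, h3]
        _ = β * β * b := by group
        _ = b := by rw [hββ, one_mul]
    have h5 : (y ^ 4) * b = b * y ^ 4 := by
      have e : y * y * (y * y) = y ^ 4 := by
        rw [show (4 : ℕ) = 2 + 2 from rfl, pow_add, pow_two]
      rw [e] at h4
      exact mul_inv_eq_iff_eq_mul.1 h4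
    have h6 : Commute (y ^ 4) b := h5
    have hcop : Nat.Coprime 4 (orderOf y) := by
      have : Nat.Coprime 2 (orderOf y) := (Nat.coprime_two_left).2 ho
      exact Nat.Coprime.pow_left 2 this
    obtain ⟨n, hn⟩ := exists_pow_eq_self_of_coprime hcop
    have h7 : Commute ((y ^ 4) ^ n) b := h6.pow_left n
    rw [hn] at h7
    exact h7
  rw [mem_YY]
  refine ⟨hB j, fun c hc => ?_⟩
  obtain ⟨k, t, ht, c', hc', rfl⟩ := s.C_split i j hc
  have h1 := hB k t (TT_le _ _ ht)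
  have h2 := (mem_YY.1 hy).2 _ hc'
  calc y * (t * c') = y * t * c' := by group
    _ = t * (y * c') := by rw [h1]; group
    _ = t * c' * y := by rw [h2]; group

theorem OD_eq [Finite G] (i j : ι) : OD (YY (B i) (C i)) = OD (YY (B j) (C j)) :=
  le_antisymm (OD_le_of_mem fun _ hy ho => s.odd_mem j hy ho) (OD_le_of_mem fun _ hy ho => s.odd_mem i hy ho)

/-- `OD Y` is normalised by the stabiliser of the set of points -/
theorem nOD [Finite G] (i : ι) : _root_.Cfsg.Agent.Omega.Mix.ST V R ≤ normalizer (OD (YY (B i) (C i)) : Set G) := by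
  intro g hg
  rw [← cj_eq_self_iff, cj_OD]
  obtain ⟨j, hj⟩ := hg.2.1 i
  rw [s.cY hj]
  exact s.OD_eq j i

/-! ### (4) -/

/-- an element of `C(B k)` for all `k` and of `C(C i)` lies in `D` -/
theorem mem_D {i : ι} {p : G} (hB : ∀ k, ∀ b ∈ B k, b * p = p * b) (hC : ∀ c ∈ C i, p * c = c * p) :
    p ∈ ⨅ k, YY (B k) (C k) := by
  rw [mem_iInf]
  intro k
  rw [mem_YY]
  refine ⟨fun b hb => (hB k b hb).symm, fun c hc => ?_⟩
  obtain ⟨m, t, ht, c', hc', rfl⟩ := s.C_split i k hc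
  have h1 := hB m t (TT_le _ _ ht)
  have h2 := hC _ hc'
  calc p * (t * c') = p * t * c' := by group
    _ = t * (p * c') := by rw [← h1]; group
    _ = t * c' * p := by rw [h2]; group

/-- `p ∈ Y i T i` -/
def InA (V : Subgroup G) (B C : ι → Subgroup G) (i : ι) (p : G) : Prop :=
  ∃ y ∈ YY (B i) (C i), ∃ t ∈ TT V (B i), p = y * t

omit s in
theorem InA.comm (s : SideW V R B C) {i : ι} {p : G} (h : InA V B C i p) : ∀ b ∈ B i, b * p = p * b := by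
  obtain ⟨y, hy, t, ht, rfl⟩ := h
  intro b hb
  have h1 := (mem_YY.1 hy).1 b hb
  have h2 := s.B_comm i b hb t (TT_le _ _ ht)
  calc b * (y * t) = b * y * t := by group
    _ = y * (b * t) := by rw [← h1]; group
    _ = y * t * b := by rw [h2]; group

omit s in
/-- `[p, C i] ≤ R i` -/
theorem InA.commC (s : SideW V R B C) {i : ι} {p : G} (h : InA V B C i p) :
    ∀ c ∈ C i, p * c * p⁻¹ * c⁻¹ ∈ R i := by
  obtain ⟨y, hy, t, ht, rfl⟩ := h
  intro c hc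
  have h1 := (mem_YY.1 hy).2 c hc
  have h2 := s.CB i c hc t (TT_le _ _ ht)
  have h3 : y * (t * c * t⁻¹ * c⁻¹) = t * c * t⁻¹ * c⁻¹ * y := by
    have h4 : t * c * t⁻¹ * c⁻¹ ∈ B i := by
      have := inv_mem (s.R_B i h2)
      have e : (c * t * c⁻¹ * t⁻¹)⁻¹ = t * c * t⁻¹ * c⁻¹ := by group
      rwa [e] at this
    exact (mem_YY.1 hy).1 _ h4
  have h5 : y * c * y⁻¹ = c := by rw [h1, mul_inv_cancel_right]
  have e : y * t * c * (y * t)⁻¹ * c⁻¹ = (c * t * c⁻¹ * t⁻¹)⁻¹ := by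
    calc y * t * c * (y * t)⁻¹ * c⁻¹ = y * (t * c * t⁻¹ * c⁻¹) * (c * y⁻¹ * c⁻¹) := by group
      _ = t * c * t⁻¹ * c⁻¹ * (y * c * y⁻¹) * c⁻¹ := by rw [h3]; group
      _ = t * c * t⁻¹ * c⁻¹ := by rw [h5]; group
      _ = (c * t * c⁻¹ * t⁻¹)⁻¹ := by group
  rw [e]
  exact inv_mem h2

/-- `Y i T i ∩ Y j T j ≤ D` -/
theorem inA_inf {i j : ι} (hij : i ≠ j) {p : G} (hi : InA V B C i p) (hj : InA V B C j p) :
    p ∈ ⨅ k, YY (B k) (C k) := by
  have hB : ∀ k, ∀ b ∈ B k, b * p = p * b := s.comm_all hij (hi.comm s) (hj.comm s)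
  refine s.mem_D hB (i := i) fun c hc => ?_
  have h1 := hi.commC s c hc
  obtain ⟨k, t, ht, c', hc', e⟩ := s.C_split j i hc
  have h2 := hj.commC s c' hc'
  have h3 : p * c * p⁻¹ * c⁻¹ ∈ R j := by
    have hpt := hB k t (TT_le _ _ ht)
    have hv := (mem_TT.1 ht).2 _ (s.R_V j h2)
    have e2 : p * c * p⁻¹ * c⁻¹ = p * c' * p⁻¹ * c'⁻¹ := by
      rw [e]
      calc p * (t * c') * p⁻¹ * (t * c')⁻¹ = p * t * c' * p⁻¹ * c'⁻¹ * t⁻¹ := by group
        _ = t * (p * c' * p⁻¹ * c'⁻¹) * t⁻¹ := by rw [← hpt]; group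
        _ = p * c' * p⁻¹ * c'⁻¹ := by rw [hv, mul_inv_cancel_right]
    rw [e2]
    exact h2
  have h4 : p * c * p⁻¹ * c⁻¹ ∈ R i ⊓ R j := ⟨h1, h3⟩
  rw [s.R_inf i j hij] at h4
  exact comm_of_eq_one (mem_bot.1 h4)

/-- **(4)** `Y i ≤ T i · D` -/
theorem exists_D {i : ι} {y : G} (hy : y ∈ YY (B i) (C i)) :
    ∃ u ∈ TT V (B i), u ∈ YY (B i) (C i) ∧ ∃ d ∈ ⨅ k, YY (B k) (C k), y = u * d := by
  obtain ⟨j, hj, -⟩ := s.third i i
  obtain ⟨k, hkj, hki, b, hb, e⟩ := s.trans_B i j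
  obtain ⟨t, ht, h⟩ := s.split hb (s.Y_V hy)
  have h1 : b * y * b⁻¹ ∈ YY (B j) (C j) := by
    rw [← s.cY e]
    exact conj_mem_cj hy
  set z := b * y * b⁻¹ with hz
  obtain ⟨u, hu, w, hw, htuw⟩ := s.T_sub (Ne.symm hj) k ht
  have h2 : u⁻¹ * y = w * z := by rw [h, htuw]; group
  have hA1 : InA V B C i (u⁻¹ * y) :=
    ⟨y, hy, u⁻¹, inv_mem hu, ((mem_YY.1 hy).1 u⁻¹ (inv_mem (TT_le _ _ hu))).symm⟩
  have hA2 : InA V B C j (u⁻¹ * y) := by
    rw [h2]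
    exact ⟨z, h1, w, hw, ((mem_YY.1 h1).1 w (TT_le _ _ hw)).symm⟩
  have h3 := s.inA_inf (Ne.symm hj) hA1 hA2
  refine ⟨u, hu, ?_, u⁻¹ * y, h3, by group⟩
  have h4 : u = y * (u⁻¹ * y)⁻¹ := by group
  rw [h4]
  exact mul_mem hy (inv_mem (mem_iInf.1 h3 i))

omit s in
/-- `D` commutes with the `B k` -/
theorem D_comm {d : G} (hd : d ∈ ⨅ k, YY (B k) (C k)) (k : ι) : ∀ b ∈ B k, d * b = b * d :=
  (mem_YY.1 (mem_iInf.1 hd k)).1

/-- `D` is normalised by the stabiliser of the set of points -/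
theorem nD : _root_.Cfsg.Agent.Omega.Mix.ST V R ≤ normalizer ((⨅ k, YY (B k) (C k) : Subgroup G) : Set G) :=
  normalizer_iInf (fun _ _ _ _ e => s.cY e)

/-- `D ∩ R i = 1` -/
theorem D_R {i : ι} {d : G} (hd : d ∈ ⨅ k, YY (B k) (C k)) (h : d ∈ R i) : d = 1 := by
  obtain ⟨j, hj, -⟩ := s.third i i
  have h1 : d ∈ R j := s.VB j d (s.R_V i h) fun b hb => (D_comm hd j b hb).symm
  have h2 : d ∈ R i ⊓ R j := ⟨h, h1⟩
  rw [s.R_inf i j (Ne.symm hj)] at h2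
  exact mem_bot.1 h2

/-- `B₀ ≤ D` -/
theorem B0_le_D : (⨅ k, B k) ≤ ⨅ k, YY (B k) (C k) := by
  intro x hx
  have hX : ∀ k, ∀ b ∈ B k, b * x = x * b := fun k => s.B0_comm hx k
  -- `x ∈ C(V)` : `x` permutes nothing, by `free`
  by_cases hne : Nonempty ι
  swap
  · rw [mem_iInf]
    intro k
    exact absurd ⟨k⟩ hne
  obtain ⟨i⟩ := hne
  obtain ⟨j, hj, -⟩ := s.third i i
  have hxN : cj x (R j) = R j := by
    have hxm : x ∈ normalizer (R j : Set G) := by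
      have h1 : R j ≤ B j := s.R_B j
      rw [mem_normalizer_iff]
      intro r
      constructor
      · intro hr
        rw [← s.B_comm j r (h1 hr) x (mem_iInf.1 hx j), mul_inv_cancel_right]
        exact hr
      · intro hr
        have h2 := s.B_comm j _ (h1 hr) x (mem_iInf.1 hx j)
        have h3 : x * r * x⁻¹ = r := by
          have h4 : x * (x * r * x⁻¹) * x⁻¹ = x * r * x⁻¹ := by rw [← h2, mul_inv_cancel_right]
          exact mul_left_cancel (mul_right_cancel h4)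
        rwa [h3] at hr
    exact cj_eq_self_iff.2 hxm
  have hxV : ∀ v ∈ V, x * v = v * x := s.free i j hj x (mem_iInf.1 hx i) hxN
  refine s.mem_D hX (i := i) fun c hc => ?_
  -- `[x, c] ∈ R i ∩ R j`
  have hCN : ∀ k, c ∈ normalizer (B k : Set G) := fun k => s.nB k (s.cV_le_NR (s.C_V hc) k)
  have h1 : c * x * c⁻¹ * x⁻¹ ∈ R i := s.CB i c hc x (mem_iInf.1 hx i)
  have h2 : c * x * c⁻¹ * x⁻¹ ∈ B j :=
    mul_mem (conj_mem_of_normalizer (hCN j) (mem_iInf.1 hx j)) (inv_mem (mem_iInf.1 hx j))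
  have h3 : c * x * c⁻¹ * x⁻¹ ∈ R j := s.VB j _ (s.R_V i h1) fun b hb => s.B_comm j b hb _ h2
  have h4 : c * x * c⁻¹ * x⁻¹ ∈ R i ⊓ R j := ⟨h1, h3⟩
  rw [s.R_inf i j (Ne.symm hj)] at h4
  exact (comm_of_eq_one (mem_bot.1 h4)).symm

/-- `[B i, Y j] ≤ Y i` -/
theorem comm_B_Y {i j : ι} {b y : G} (hb : b ∈ B i) (hy : y ∈ YY (B j) (C j)) :
    b * y * b⁻¹ * y⁻¹ ∈ YY (B i) (C i) := by
  have h1 := s.comm_mem_T' (s.Y_V hy) hb
  rw [mem_YY]
  refine ⟨fun b' hb' => s.B_comm i _ (TT_le _ _ h1) b' hb', fun c hc => ?_⟩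
  -- `c b c⁻¹ = ρ b`, `c y c⁻¹ = β y`
  have hρ := s.CB i c hc b hb
  set ρ := c * b * c⁻¹ * b⁻¹ with hρ'
  have hβ0 := s.Y_C0 hy hc
  have hβ : c * y * c⁻¹ * y⁻¹ ∈ ⨅ k, B k := by
    have h2 := inv_mem hβ0
    have e : (y * c * y⁻¹ * c⁻¹)⁻¹ = c * y * c⁻¹ * y⁻¹ := by group
    rwa [e] at h2
  set β := c * y * c⁻¹ * y⁻¹ with hβ'
  have e1 : c * b * c⁻¹ = ρ * b := by rw [hρ']; group
  have e2 : c * y * c⁻¹ = β * y := by rw [hβ']; group
  have hyβ : y * β = β * y := Y_B0 hy hβ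
  have hyρ : y * ρ = ρ * y := s.Y_V hy ρ (s.R_V i hρ)
  have hbβ : b * β = β * b := s.B0_comm hβ i b hb
  have hbρ : b * ρ = ρ * b := s.B_comm i b hb ρ (s.R_B i hρ)
  have hρβ : ρ * β = β * ρ := s.B0_comm hβ i ρ (s.R_B i hρ)
  have key : c * (b * y * b⁻¹ * y⁻¹) * c⁻¹ = b * y * b⁻¹ * y⁻¹ := by
    have cρb : Commute ρ b := hbρ.symm
    have cρy : Commute ρ y := hyρ.symm
    have cβb : Commute β b := hbβ.symm
    have cβy : Commute β y := hyβ.symm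
    have cρβ : Commute ρ β := hρβ
    calc c * (b * y * b⁻¹ * y⁻¹) * c⁻¹
        = (c * b * c⁻¹) * (c * y * c⁻¹) * (c * b * c⁻¹)⁻¹ * (c * y * c⁻¹)⁻¹ := by group
      _ = (ρ * b) * (β * y) * (ρ * b)⁻¹ * (β * y)⁻¹ := by rw [e1, e2]
      _ = (ρ * b) * ((β * y) * b⁻¹) * ρ⁻¹ * y⁻¹ * β⁻¹ := by group
      _ = ρ * (b * β) * y * b⁻¹ * ρ⁻¹ * y⁻¹ * β⁻¹ := by group
      _ = ρ * (β * b) * y * b⁻¹ * (ρ⁻¹ * y⁻¹) * β⁻¹ := by rw [hbβ]; group
      _ = ρ * β * (b * y * b⁻¹ * y⁻¹) * ρ⁻¹ * β⁻¹ := by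
        rw [(cρy.inv_left.inv_right).eq]; group
      _ = (ρ * β) * (b * y * b⁻¹ * y⁻¹) * (ρ * β)⁻¹ := by rw [hρβ]; group
      _ = b * y * b⁻¹ * y⁻¹ := by
        have hc : Commute (ρ * β) (b * y * b⁻¹ * y⁻¹) :=
          (((cρb.mul_left cβb).mul_right (cρy.mul_left cβy)).mul_right
            (cρb.mul_left cβb).inv_right).mul_right (cρy.mul_left cβy).inv_right
        rw [hc.eq, mul_inv_cancel_right]
  have h5 := mul_inv_eq_iff_eq_mul.1 key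
  exact h5.symm

theorem card_R [Finite G] (i j : ι) : Nat.card (R i) = Nat.card (R j) := by
  obtain ⟨m, -, -, x, hx, e⟩ := s.trans_B i j
  rw [← e, card_cj]

/-- for `b ∈ B i` outside `C(V)`, `t ∈ B j`, `[b, t] ∈ R i` : `t ∈ R j B₀` -/
theorem mem_R_of_comm [Finite G] {i j : ι} (hij : i ≠ j) {b : G} (hb : b ∈ B i)
    (hbV : ¬ ∀ v ∈ V, b * v = v * b) {t : G} (ht : t ∈ B j) (h : b * t * b⁻¹ * t⁻¹ ∈ R i) :
    ∃ r ∈ R j, ∃ x ∈ ⨅ k, B k, t = r * x := by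
  have key : ∀ r ∈ R j, b * r * b⁻¹ * r⁻¹ ∈ R i := by
    intro r hr
    have h1 := s.CB i r (s.V_C i (s.R_V j hr)) b hb
    have e : b * r * b⁻¹ * r⁻¹ = (r * b * r⁻¹ * b⁻¹)⁻¹ := by group
    rw [e]; exact inv_mem h1
  let f : R j → R i := fun r => ⟨b * (r : G) * b⁻¹ * (r : G)⁻¹, key r r.2⟩
  have hf : Function.Injective f := by
    intro x y hxy
    have h1 : b * (x : G) * b⁻¹ * (x : G)⁻¹ = b * (y : G) * b⁻¹ * (y : G)⁻¹ := congrArg Subtype.val hxy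
    have h2 : b * ((y : G)⁻¹ * x) = (y : G)⁻¹ * x * b := comm_of_comm_eq h1
    have h4 := s.inj hij hb hbV (mul_mem (inv_mem (s.R_B j y.2)) (s.R_B j x.2)) h2
    have h5 := s.D_R (i := j) (s.B0_le_D h4) (mul_mem (inv_mem y.2) x.2)
    exact Subtype.ext (inv_mul_eq_one.1 h5).symm
  have hfs : Function.Surjective f := (Nat.bijective_iff_injective_and_card f).2 ⟨hf, s.card_R j i⟩ |>.2
  obtain ⟨r, hr⟩ := hfs ⟨_, h⟩
  have h1 : b * (r : G) * b⁻¹ * (r : G)⁻¹ = b * t * b⁻¹ * t⁻¹ := congrArg Subtype.val hr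
  have h2 : b * ((r : G)⁻¹ * t) = (r : G)⁻¹ * t * b := comm_of_comm_eq h1.symm
  have h4 := s.inj hij hb hbV (mul_mem (inv_mem (s.R_B j r.2)) ht) h2
  exact ⟨r, r.2, _, h4, by group⟩

end SideW

end Cfsg.Agent.Omega.MixOne

end

section


/-!
# TEXT MIX without the fixed point hypothesis (bb OMEGA #13275, (3), (5) - (7)): the two sides together

`TwoW` : both sides (`SideW`), `C_V(B i) = R i`, a Sylow 2-subgroup `S` of `G` in `ST V₁ R₁`, `ST V₂ R₂`, `N(R)`, NL.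
`TwoW.Y_isPGroup` (3), `TwoW.Y_sq` (5), `TwoW.exists_RD` : `C_G(W₁ W₂) = R · D` (6) (these for all `q`);
`TwoW.YY_eq` : `C_G(W₁ W₂) = R` when both sides have a torus element without fixed points on `R` (`q ≥ 4`);
`TwoW.center_le` : `Z(S) ≤ R`;
`TwoW.side₁`, `TwoW.side₂` : `Mix.Side` holds, i.e. the fixed point hypothesis of TEXT MIX is a consequence.
-/

set_option autoImplicit false

namespace Cfsg.Agent.Omega.MixOne

open Subgroup Cfsg.Agent.Omega.BTwo Cfsg.Agent.Omega.Mix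

variable {G : Type*} [Group G] {ι κ : Type*}

theorem relIndex_sup_of_normalizes [Finite G] {S K : Subgroup G} (hK : S ≤ normalizer (K : Set G)) :
    S.relIndex K = S.relIndex (S ⊔ K) := by
  set J := S ⊔ K with hJ
  have hJN : J ≤ normalizer (K : Set G) := sup_le hK le_normalizer
  have : (K.subgroupOf J).Normal := normal_subgroupOf_of_le_normalizer hJN
  have hSJ : S ≤ J := le_sup_left
  have hKJ : K ≤ J := le_sup_right
  have h1 : (K.subgroupOf J).relIndex ((S.subgroupOf J) ⊔ (K.subgroupOf J)) =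
      (K.subgroupOf J).relIndex (S.subgroupOf J) := relIndex_sup_right _ _
  have h2 : (S.subgroupOf J) ⊔ (K.subgroupOf J) = ⊤ := by
    rw [← subgroupOf_sup hSJ hKJ, ← hJ, subgroupOf_self]
  rw [h2, relIndex_top_right, relIndex_subgroupOf hSJ] at h1
  have e1 : K.relIndex J = K.relIndex S := h1
  have c1 : Nat.card K * K.relIndex J = Nat.card J := by
    rw [← relIndex_bot_left, ← relIndex_bot_left]
    exact relIndex_mul_relIndex _ _ _ bot_le hKJ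
  have c2 : Nat.card S * S.relIndex J = Nat.card J := by
    rw [← relIndex_bot_left, ← relIndex_bot_left]
    exact relIndex_mul_relIndex _ _ _ bot_le hSJ
  have c3 : Nat.card (K ⊓ S : Subgroup G) * K.relIndex S = Nat.card S := by
    rw [← inf_relIndex_right, ← relIndex_bot_left, ← relIndex_bot_left]
    exact relIndex_mul_relIndex _ _ _ bot_le inf_le_right
  have c4 : Nat.card (K ⊓ S : Subgroup G) * S.relIndex K = Nat.card K := by
    rw [inf_comm, ← inf_relIndex_right, ← relIndex_bot_left, ← relIndex_bot_left]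
    exact relIndex_mul_relIndex _ _ _ bot_le inf_le_right
  have hpos : 0 < Nat.card (K ⊓ S : Subgroup G) := Nat.card_pos
  have hposS : 0 < Nat.card S := Nat.card_pos
  have hpos3 : 0 < K.relIndex S := by
    rcases Nat.eq_zero_or_pos (K.relIndex S) with h | h
    · rw [h, mul_zero] at c3; omega
    · exact h
  rw [e1, ← c2] at c1
  rw [← c4, ← c3] at c1
  have h5 : (Nat.card (K ⊓ S : Subgroup G) * K.relIndex S) * S.relIndex K =
      (Nat.card (K ⊓ S : Subgroup G) * K.relIndex S) * S.relIndex J := by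
    rw [← c1]; ring
  exact Nat.eq_of_mul_eq_mul_left (Nat.mul_pos hpos hpos3) h5

/-- `S` centralises a nontrivial element of each nontrivial 2-subgroup normalised by `S` -/
theorem exists_fixed [Finite G] (S : Sylow 2 G) {K : Subgroup G} (hK : IsPGroup 2 K)
    (hSK : (S : Subgroup G) ≤ normalizer (K : Set G)) (hne : K ≠ ⊥) :
    ∃ z : G, z ≠ 1 ∧ z ∈ K ∧ ∀ x ∈ (S : Subgroup G), z * x = x * z := by
  have : Fact (Nat.Prime 2) := ⟨Nat.prime_two⟩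
  let _inst : MulAction (S : Subgroup G) K :=
    { smul := fun x k => ⟨(x : G) * k * (x : G)⁻¹, conj_mem_of_normalizer (hSK x.2) k.2⟩
      one_smul := fun k => Subtype.ext (by
        change ((1 : (S : Subgroup G)) : G) * k * ((1 : (S : Subgroup G)) : G)⁻¹ = k
        simp only [_root_.OneMemClass.coe_one, _root_.one_mul, _root_.inv_one, _root_.mul_one])
      mul_smul := fun x y k => Subtype.ext (by
        change ((x * y : (S : Subgroup G)) : G) * k * ((x * y : (S : Subgroup G)) : G)⁻¹ =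
          (x : G) * ((y : G) * k * (y : G)⁻¹) * (x : G)⁻¹
        rw [Subgroup.coe_mul]
        group) }
  have hsmul : ∀ (x : (S : Subgroup G)) (k : K), ((x • k : K) : G) = (x : G) * k * (x : G)⁻¹ := fun _ _ => rfl
  have hS : IsPGroup 2 (S : Subgroup G) := S.isPGroup'
  have h2 : 2 ∣ Nat.card K := by
    obtain ⟨n, hn⟩ := (IsPGroup.iff_card).1 hK
    rw [hn]
    refine dvd_pow_self 2 fun h0 => hne ?_
    rw [h0, pow_zero] at hn
    exact eq_bot_of_card_eq K hn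
  have h1 : (1 : K) ∈ MulAction.fixedPoints (S : Subgroup G) K := by
    intro x
    apply Subtype.ext
    rw [hsmul]
    simp
  obtain ⟨z, hz, hz1⟩ := hS.exists_fixed_point_of_prime_dvd_card_of_fixed_point K h2 h1
  refine ⟨z, fun h => hz1 (Subtype.ext h.symm), z.2, fun x hx => ?_⟩
  have h3 := congrArg Subtype.val (hz ⟨x, hx⟩)
  rw [hsmul] at h3
  exact (mul_inv_eq_iff_eq_mul.1 h3).symm

/-- the two sides of a mixed mutual pair with `W₁`, `W₂` abelian (no hypothesis on `Z(S)`) -/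
structure TwoW (V₁ V₂ : Subgroup G) (R₁ B₁ C₁ : ι → Subgroup G) (R₂ B₂ C₂ : κ → Subgroup G) (i : ι) (j : κ)
    (S : Sylow 2 G) : Prop where
  s₁ : SideW V₁ R₁ B₁ C₁
  s₂ : SideW V₂ R₂ B₂ C₂
  hR : R₁ i = R₂ j
  hB : B₁ i = C₂ j
  hC : C₁ i = B₂ j
  ch : Char2 (normalizer (R₁ i : Set G))
  NL : ∀ K : Subgroup G, IsPGroup 2 K → _root_.Cfsg.Agent.Omega.Mix.ST V₁ R₁ ≤ normalizer (K : Set G) →
    _root_.Cfsg.Agent.Omega.Mix.ST V₂ R₂ ≤ normalizer (K : Set G) → normalizer (R₁ i : Set G) ≤ normalizer (K : Set G) → K = ⊥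
  SV₁ : (S : Subgroup G) ≤ ST V₁ R₁
  SV₂ : (S : Subgroup G) ≤ ST V₂ R₂
  SR : (S : Subgroup G) ≤ normalizer (R₁ i : Set G)
  gen₁ : ∀ K : Subgroup G, (∀ h ∈ normalizer (R₁ i : Set G), cj h V₁ ≤ K) → C₁ i ≤ K
  gen₂ : ∀ K : Subgroup G, (∀ h ∈ normalizer (R₁ i : Set G), cj h V₂ ≤ K) → B₁ i ≤ K

variable {V₁ V₂ : Subgroup G} {R₁ B₁ C₁ : ι → Subgroup G} {R₂ B₂ C₂ : κ → Subgroup G} {i : ι} {j : κ} {S : Sylow 2 G}

namespace TwoW

theorem symm (t : TwoW V₁ V₂ R₁ B₁ C₁ R₂ B₂ C₂ i j S) : TwoW V₂ V₁ R₂ B₂ C₂ R₁ B₁ C₁ j i S where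
  s₁ := t.s₂
  s₂ := t.s₁
  hR := t.hR.symm
  hB := t.hC.symm
  hC := t.hB.symm
  ch := by rw [← t.hR]; exact t.ch
  NL := by
    intro K hK h1 h2 h3
    rw [← t.hR] at h3
    exact t.NL K hK h2 h1 h3
  SV₁ := t.SV₂
  SV₂ := t.SV₁
  SR := by rw [← t.hR]; exact t.SR
  gen₁ := by
    intro K hK
    rw [← t.hR] at hK
    rw [← t.hB]
    exact t.gen₂ K hK
  gen₂ := by
    intro K hK
    rw [← t.hR] at hK
    rw [← t.hC]
    exact t.gen₁ K hK

variable (t : TwoW V₁ V₂ R₁ B₁ C₁ R₂ B₂ C₂ i j S)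
include t

theorem YY_eq_YY : YY (B₁ i) (C₁ i) = YY (B₂ j) (C₂ j) := by
  rw [YY, YY, t.hB, t.hC, sup_comm]

/-- **(3)** `C_G(W₁ W₂)` is a 2-group -/
theorem Y_isPGroup [Finite G] : IsPGroup 2 (YY (B₁ i) (C₁ i)) := by
  set D := OD (YY (B₁ i) (C₁ i)) with hD
  have h1 : _root_.Cfsg.Agent.Omega.Mix.ST V₁ R₁ ≤ normalizer (D : Set G) := t.s₁.nOD i
  have h2 : _root_.Cfsg.Agent.Omega.Mix.ST V₂ R₂ ≤ normalizer (D : Set G) := by
    rw [hD, t.YY_eq_YY]; exact t.s₂.nOD j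
  have h3 : normalizer (R₁ i : Set G) ≤ normalizer (D : Set G) := by
    intro g hg
    rw [← cj_eq_self_iff, hD, cj_OD, cj_eq_self_iff.2 (t.s₁.nY i hg)]
  have hN : normalizer (D : Set G) ≤ normalizer (O2 D : Set G) := by
    intro g hg
    rw [← cj_eq_self_iff, cj_O2, cj_eq_self_iff.2 hg]
  have h4 : O2 D = ⊥ := t.NL _ (O2_isPGroup D) (h1.trans hN) (h2.trans hN) (h3.trans hN)
  have hDR : D ≤ normalizer (R₁ i : Set G) := by
    intro x hx
    exact t.s₁.cV_le_NR (t.s₁.Y_V (OD_le _ hx)) i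
  set Q := O2 (normalizer (R₁ i : Set G)) with hQ
  have hQR : Q ≤ normalizer (R₁ i : Set G) := O2_le _
  have h5 : D ⊓ Q ≤ O2 D := by
    refine le_O2_of_normal inf_le_left ((O2_isPGroup _).to_le inf_le_right) ?_
    rintro g hg a ⟨haD, haQ⟩
    exact ⟨D.mul_mem (D.mul_mem hg haD) (D.inv_mem hg),
      conj_mem_of_normalizer (le_normalizer_O2 _ (hDR hg)) haQ⟩
  rw [h4] at h5
  have h6 : D ≤ Q := by
    intro d hd
    refine t.ch d (hDR hd) fun q hq => ?_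
    apply comm_of_eq_one
    have : d * q * d⁻¹ * q⁻¹ ∈ D ⊓ Q := by
      refine ⟨?_, Q.mul_mem (conj_mem_of_normalizer (le_normalizer_O2 _ (hDR hd)) hq) (Q.inv_mem hq)⟩
      have e : d * q * d⁻¹ * q⁻¹ = d * (q * d⁻¹ * q⁻¹) := by group
      rw [e]
      exact D.mul_mem hd (conj_mem_of_normalizer (h3 (hQR hq)) (D.inv_mem hd))
    exact mem_bot.1 (h5 this)
  have h7 : D = ⊥ := by
    rw [eq_bot_iff]
    exact fun d hd => h5 ⟨hd, h6 hd⟩
  exact isPGroup_of_OD h7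

/-- `⟨y² : y ∈ Y⟩` -/
def Sq (Y : Subgroup G) : Subgroup G := _root_.Subgroup.closure {x | ∃ y ∈ Y, x = y * y}

omit t in
theorem cj_Sq_le (g : G) (Y : Subgroup G) : cj g (Sq Y) ≤ Sq (cj g Y) := by
  rw [Sq, cj, MonoidHom.map_closure, closure_le]
  rintro _ ⟨_, ⟨y, hy, rfl⟩, rfl⟩
  refine subset_closure ⟨g * y * g⁻¹, conj_mem_cj hy, ?_⟩
  change g * (y * y) * g⁻¹ = _
  group

omit t in
theorem cj_Sq (g : G) (Y : Subgroup G) : cj g (Sq Y) = Sq (cj g Y) := by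
  refine le_antisymm (cj_Sq_le g Y) ?_
  have := cj_mono (g := g) (cj_Sq_le g⁻¹ (cj g Y))
  rwa [cj_cj_inv, cj_inv_cj] at this

omit t in
theorem Sq_eq {V : Subgroup G} {R B C : ι → Subgroup G} (s : SideW V R B C) (i : ι) :
    Sq (YY (B i) (C i)) = Sq (⨅ k, YY (B k) (C k)) := by
  have key : ∀ y ∈ YY (B i) (C i), ∃ d ∈ ⨅ k, YY (B k) (C k), y * y = d * d := by
    intro y hy
    obtain ⟨u, hu, -, d, hd, rfl⟩ := s.exists_D hy
    refine ⟨d, hd, ?_⟩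
    have h1 := SideW.D_comm hd i u (TT_le _ _ hu)
    calc u * d * (u * d) = u * (d * u) * d := by group
      _ = (u * u) * (d * d) := by rw [h1]; group
      _ = d * d := by rw [s.B_sq i u (TT_le _ _ hu), one_mul]
  apply le_antisymm
  · rw [Sq, closure_le]
    rintro _ ⟨y, hy, rfl⟩
    obtain ⟨d, hd, e⟩ := key y hy
    exact subset_closure ⟨d, hd, e⟩
  · rw [Sq, closure_le]
    rintro _ ⟨d, hd, rfl⟩
    exact subset_closure ⟨d, mem_iInf.1 hd i, rfl⟩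

/-- **(5)** `Y` has exponent 2 -/
theorem Y_sq [Finite G] {y : G} (hy : y ∈ YY (B₁ i) (C₁ i)) : y * y = 1 := by
  have h1 : _root_.Cfsg.Agent.Omega.Mix.ST V₁ R₁ ≤ normalizer (Sq (YY (B₁ i) (C₁ i)) : Set G) := by
    intro g hg
    rw [Sq_eq t.s₁ i, ← cj_eq_self_iff, cj_Sq, cj_eq_self_iff.2 (t.s₁.nD hg)]
  have h2 : _root_.Cfsg.Agent.Omega.Mix.ST V₂ R₂ ≤ normalizer (Sq (YY (B₁ i) (C₁ i)) : Set G) := by
    intro g hg
    rw [t.YY_eq_YY, Sq_eq t.s₂ j, ← cj_eq_self_iff, cj_Sq, cj_eq_self_iff.2 (t.s₂.nD hg)]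
  have h3 : normalizer (R₁ i : Set G) ≤ normalizer (Sq (YY (B₁ i) (C₁ i)) : Set G) := by
    intro g hg
    rw [← cj_eq_self_iff, cj_Sq, cj_eq_self_iff.2 (t.s₁.nY i hg)]
  have h4 : Sq (YY (B₁ i) (C₁ i)) ≤ YY (B₁ i) (C₁ i) := by
    rw [Sq, closure_le]
    rintro _ ⟨y, hy, rfl⟩
    exact mul_mem hy hy
  have h5 := t.NL _ (t.Y_isPGroup.to_le h4) h1 h2 h3
  have h6 : y * y ∈ Sq (YY (B₁ i) (C₁ i)) := subset_closure ⟨y, hy, rfl⟩
  rw [h5] at h6
  exact mem_bot.1 h6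

theorem Y_comm [Finite G] {x y : G} (hx : x ∈ YY (B₁ i) (C₁ i)) (hy : y ∈ YY (B₁ i) (C₁ i)) : x * y = y * x := by
  have h1 := t.Y_sq (mul_mem hx hy)
  have hx1 : x⁻¹ = x := inv_eq_of_mul_eq_one_left (t.Y_sq hx)
  have hy1 : y⁻¹ = y := inv_eq_of_mul_eq_one_left (t.Y_sq hy)
  have h2 : (x * y)⁻¹ = x * y := inv_eq_of_mul_eq_one_left h1
  rw [mul_inv_rev, hx1, hy1] at h2
  exact h2.symm

/-- `V₂ ∩ Y = R` -/
theorem V₂_Y {v : G} (hv : v ∈ V₂) (hy : v ∈ YY (B₁ i) (C₁ i)) : v ∈ R₁ i := by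
  rw [t.hR]
  refine t.s₂.VB j v hv fun b hb => ?_
  rw [← t.hC] at hb
  exact ((mem_YY.1 hy).2 b hb).symm

/-- the elements of `N(R)` which centralise `B i / (Y ∩ B i)` -/
def Oo (R B Y : Subgroup G) : Subgroup G where
  carrier := {g | g ∈ normalizer (R : Set G) ∧ g ∈ normalizer (B : Set G) ∧ g ∈ normalizer (Y : Set G) ∧
    ∀ b ∈ B, g * b * g⁻¹ * b⁻¹ ∈ Y}
  one_mem' := by
    refine ⟨one_mem _, one_mem _, one_mem _, fun b _ => ?_⟩
    have : 1 * b * 1⁻¹ * b⁻¹ = 1 := by group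
    rw [this]; exact one_mem _
  mul_mem' := by
    rintro g h ⟨g1, g2, g3, g4⟩ ⟨h1, h2, h3, h4⟩
    refine ⟨mul_mem g1 h1, mul_mem g2 h2, mul_mem g3 h3, fun b hb => ?_⟩
    have e : g * h * b * (g * h)⁻¹ * b⁻¹ = g * (h * b * h⁻¹ * b⁻¹) * g⁻¹ * (g * b * g⁻¹ * b⁻¹) := by group
    rw [e]; exact mul_mem (conj_mem_of_normalizer g3 (h4 b hb)) (g4 b hb)
  inv_mem' := by
    rintro g ⟨g1, g2, g3, g4⟩
    refine ⟨inv_mem g1, inv_mem g2, inv_mem g3, fun b hb => ?_⟩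
    have e : g⁻¹ * b * g⁻¹⁻¹ * b⁻¹ = g⁻¹ * (g * b * g⁻¹ * b⁻¹)⁻¹ * g := by group
    rw [e]; exact conj_inv_mem_of_normalizer g3 (inv_mem (g4 b hb))

omit t in
theorem mem_Oo {R B Y : Subgroup G} {g : G} : g ∈ Oo R B Y ↔ g ∈ normalizer (R : Set G) ∧
    g ∈ normalizer (B : Set G) ∧ g ∈ normalizer (Y : Set G) ∧ ∀ b ∈ B, g * b * g⁻¹ * b⁻¹ ∈ Y := Iff.rfl

omit t in
/-- a subgroup normalised by the Sylow subgroup `S` of `G` : `S ∩ K` has odd index in `K` -/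
theorem odd_relIndex [Finite G] (S : Sylow 2 G) {K : Subgroup G}
    (hK : (S : Subgroup G) ≤ normalizer (K : Set G)) : Odd (((S : Subgroup G) ⊓ K).relIndex K) := by
  have h1 : ((S : Subgroup G) ⊓ K).relIndex K = (S : Subgroup G).relIndex K := inf_relIndex_right _ _
  have h2 : (S : Subgroup G).relIndex K ∣ (S : Subgroup G).index := by
    rw [relIndex_sup_of_normalizes hK]
    exact relIndex_dvd_index_of_le le_sup_left
  have h4 : ¬ 2 ∣ (S : Subgroup G).index := Sylow.not_dvd_index S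
  rw [h1, ← Nat.not_even_iff_odd]
  intro he
  exact h4 ((even_iff_two_dvd.1 he).trans h2)

/-- the subgroup `C̃ = {x ∈ B i : [x, O] ≤ R}` -/
def Ct (R B O : Subgroup G) (hB : ∀ a ∈ B, ∀ b ∈ B, a * b = b * a) (hRB : R ≤ B) : Subgroup G where
  carrier := {x | x ∈ B ∧ ∀ g ∈ O, x⁻¹ * g * x * g⁻¹ ∈ R}
  one_mem' := ⟨one_mem _, fun g _ => by
    have e : (1 : G)⁻¹ * g * 1 * g⁻¹ = 1 := by group
    rw [e]; exact one_mem _⟩
  mul_mem' := by
    rintro x y ⟨hx, hx'⟩ ⟨hy, hy'⟩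
    refine ⟨mul_mem hx hy, fun g hg => ?_⟩
    have h1 := hx' g hg
    have e : (x * y)⁻¹ * g * (x * y) * g⁻¹ = y⁻¹ * (x⁻¹ * g * x * g⁻¹) * y * (y⁻¹ * g * y * g⁻¹) := by group
    have h2 : y⁻¹ * (x⁻¹ * g * x * g⁻¹) * y = x⁻¹ * g * x * g⁻¹ := by
      rw [mul_assoc, hB _ (hRB h1) y hy]; group
    rw [e, h2]
    exact mul_mem h1 (hy' g hg)
  inv_mem' := by
    rintro x ⟨hx, hx'⟩
    refine ⟨inv_mem hx, fun g hg => ?_⟩
    have h1 := hx' g hg
    have e : x⁻¹⁻¹ * g * x⁻¹ * g⁻¹ = x * (x⁻¹ * g * x * g⁻¹)⁻¹ * x⁻¹ := by group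
    rw [e, hB x hx _ (inv_mem (hRB h1)), mul_inv_cancel_right]
    exact inv_mem h1

omit t in
theorem mem_Ct {R B O : Subgroup G} {hB : ∀ a ∈ B, ∀ b ∈ B, a * b = b * a} {hRB : R ≤ B} {x : G} :
    x ∈ Ct R B O hB hRB ↔ x ∈ B ∧ ∀ g ∈ O, x⁻¹ * g * x * g⁻¹ ∈ R := Iff.rfl

/-- **(6)** `B i ≤ (Y ∩ B i) C̃` -/
theorem B_le [Finite G] : B₁ i ≤ (YY (B₁ i) (C₁ i) ⊓ B₁ i) ⊔
    Ct (R₁ i) (B₁ i) (Oo (R₁ i) (B₁ i) (YY (B₁ i) (C₁ i))) (t.s₁.B_comm i) (t.s₁.R_B i) := by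
  set Y := YY (B₁ i) (C₁ i) with hY
  set O := Oo (R₁ i) (B₁ i) Y with hO
  set N := normalizer (R₁ i : Set G) with hN
  have hNB : N ≤ normalizer (B₁ i : Set G) := t.s₁.nB i
  have hNY : N ≤ normalizer (Y : Set G) := t.s₁.nY i
  have hV₂B : V₂ ≤ B₁ i := by rw [t.hB]; exact t.s₂.V_C j
  -- `O` is normal in `N(R)`
  have hNO : ∀ n ∈ N, ∀ g ∈ O, n * g * n⁻¹ ∈ O := by
    rintro n hn g ⟨g1, g2, g3, g4⟩
    refine ⟨mul_mem (mul_mem hn g1) (inv_mem hn), mul_mem (mul_mem (hNB hn) g2) (inv_mem (hNB hn)),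
      mul_mem (mul_mem (hNY hn) g3) (inv_mem (hNY hn)), fun b hb => ?_⟩
    have h1 := g4 _ (conj_inv_mem_of_normalizer (hNB hn) hb)
    have e : n * g * n⁻¹ * b * (n * g * n⁻¹)⁻¹ * b⁻¹ =
        n * (g * (n⁻¹ * b * n) * g⁻¹ * (n⁻¹ * b * n)⁻¹) * n⁻¹ := by group
    rw [e]; exact conj_mem_of_normalizer (hNY hn) h1
  have hSO : (S : Subgroup G) ≤ normalizer (O : Set G) := by
    intro g hg
    exact mem_normalizer_of_conj fun x hx => hNO g (t.SR hg) x hx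
  -- averaging
  have key : ∀ w ∈ V₂, ∃ y ∈ Y ⊓ B₁ i, ∀ x ∈ O, (w * y)⁻¹ * x * (w * y) * x⁻¹ ∈ R₁ i := by
    intro w hw
    have hwB := hV₂B hw
    have hcomm : ∀ x ∈ O, w⁻¹ * x * w * x⁻¹ ∈ Y ⊓ B₁ i := by
      rintro x ⟨x1, x2, x3, x4⟩
      have h1 := x4 w hwB
      have h2 : x * w * x⁻¹ * w⁻¹ ∈ B₁ i := mul_mem (conj_mem_of_normalizer x2 hwB) (inv_mem hwB)
      have e : w⁻¹ * x * w * x⁻¹ = x * w * x⁻¹ * w⁻¹ := by
        calc w⁻¹ * x * w * x⁻¹ = w⁻¹ * (x * w * x⁻¹ * w⁻¹) * w := by group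
          _ = w⁻¹ * (w * (x * w * x⁻¹ * w⁻¹)) := by
            rw [mul_assoc, t.s₁.B_comm i _ h2 w hwB]
          _ = x * w * x⁻¹ * w⁻¹ := by group
      rw [e]
      exact ⟨h1, h2⟩
    refine Avg.avg (X := O) (P := (S : Subgroup G) ⊓ O) (Y := Y ⊓ B₁ i) (D := R₁ i) inf_le_right
      (odd_relIndex S hSO) (le_inf (t.s₁.R_Y i) (t.s₁.R_B i)) ?_ ?_ ?_ ?_ hcomm ?_
    · rintro x ⟨x1, x2, x3, x4⟩ y ⟨hy1, hy2⟩
      exact ⟨conj_mem_of_normalizer x3 hy1, conj_mem_of_normalizer x2 hy2⟩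
    · rintro x ⟨x1, x2, x3, x4⟩ y hy
      exact conj_mem_of_normalizer x1 hy
    · rintro x ⟨hx1, hx2⟩ y hy
      rw [t.s₁.B_comm i x hx2 y (t.s₁.R_B i hy), mul_inv_cancel_right]
      exact hy
    · rintro y ⟨hy1, hy2⟩
      rw [t.s₁.B_sq i y hy2]
      exact one_mem _
    · rintro x ⟨hxS, hxO⟩
      have h1 := (hcomm x hxO).1
      have h2 : w⁻¹ * x * w * x⁻¹ ∈ V₂ := by
        have h3 := conj_mem_of_normalizer (ST_le _ _ (t.SV₂ hxS)) hw
        have e : w⁻¹ * x * w * x⁻¹ = w⁻¹ * (x * w * x⁻¹) := by group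
        rw [e]
        exact mul_mem (inv_mem hw) h3
      exact t.V₂_Y h2 h1
  refine t.gen₂ _ fun h hh => ?_
  rw [cj_le_iff]
  intro w hw
  obtain ⟨y, hy, hwy⟩ := key w hw
  have e : h * w * h⁻¹ = (h * (w * y) * h⁻¹) * (h * y * h⁻¹)⁻¹ := by group
  rw [e]
  refine mul_mem ?_ (inv_mem ?_)
  · refine (le_sup_right : _ ≤ (Y ⊓ B₁ i) ⊔ _) ?_
    rw [mem_Ct]
    refine ⟨conj_mem_of_normalizer (hNB hh) (mul_mem (hV₂B hw) hy.2), fun g hg => ?_⟩
    have h1 : h⁻¹ * g * h ∈ O := by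
      have := hNO h⁻¹ (inv_mem hh) g hg
      simpa using this
    have h2 := conj_mem_of_normalizer hh (hwy _ h1)
    have e2 : h * ((w * y)⁻¹ * (h⁻¹ * g * h) * (w * y) * (h⁻¹ * g * h)⁻¹) * h⁻¹ =
        (h * (w * y) * h⁻¹)⁻¹ * g * (h * (w * y) * h⁻¹) * g⁻¹ := by group
    rwa [e2] at h2
  · exact (le_sup_left : Y ⊓ B₁ i ≤ _)
      ⟨conj_mem_of_normalizer (hNY hh) hy.1, conj_mem_of_normalizer (hNB hh) hy.2⟩

/-- **(6)** `Y ∩ T ≤ R B₀` at every point `k ≠ i` of `V₁` -/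
theorem mem_RB0 [Finite G] {k : ι} (hk : k ≠ i) {y : G} (hy : y ∈ YY (B₁ k) (C₁ k)) (hyB : y ∈ B₁ k) :
    ∃ r ∈ R₁ k, ∃ x ∈ ⨅ m, B₁ m, y = r * x := by
  -- an element `b ∈ C̃` outside `C(V₁)`
  obtain ⟨b, hb, hbV⟩ : ∃ b ∈ Ct (R₁ i) (B₁ i) (Oo (R₁ i) (B₁ i) (YY (B₁ i) (C₁ i)))
      (t.s₁.B_comm i) (t.s₁.R_B i), ¬ ∀ v ∈ V₁, b * v = v * b := by
    by_contra hn
    push Not at hn
    obtain ⟨b, hb, hbV⟩ := t.s₁.exists_move (Ne.symm hk)
    have h1 : B₁ i ≤ centralizer (V₁ : Set G) := by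
      refine t.B_le.trans (sup_le ?_ ?_)
      · rintro x ⟨hx, -⟩
        exact mem_centralizer_iff.2 fun v hv => (t.s₁.Y_V hx v hv).symm
      · intro x hx
        exact mem_centralizer_iff.2 fun v hv => (hn x hx v hv).symm
    exact hbV fun v hv => (mem_centralizer_iff.1 (h1 hb) v hv).symm
  have hbB := (mem_Ct.1 hb).1
  -- `y ∈ O`
  have hyN := t.s₁.cV_le_NR (t.s₁.Y_V hy) i
  have hyO : y ∈ Oo (R₁ i) (B₁ i) (YY (B₁ i) (C₁ i)) := by
    refine ⟨hyN, t.s₁.nB i hyN, t.s₁.nY i hyN, fun b' hb' => ?_⟩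
    have := inv_mem (t.s₁.comm_B_Y hb' hy)
    have e : (b' * y * b'⁻¹ * y⁻¹)⁻¹ = y * b' * y⁻¹ * b'⁻¹ := by group
    rwa [e] at this
  have h1 := (mem_Ct.1 hb).2 y hyO
  have h2 : b * y * b⁻¹ * y⁻¹ ∈ R₁ i := by
    have hbi : b⁻¹ = b := inv_eq_of_mul_eq_one_left (t.s₁.B_sq i b hbB)
    have e : b⁻¹ * y * b * y⁻¹ = b * y * b⁻¹ * y⁻¹ := by
      rw [hbi]
    rwa [e] at h1
  exact t.s₁.mem_R_of_comm (Ne.symm hk) hbB hbV hyB h2

/-- **(6)** `Y = R D` -/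
theorem exists_RD [Finite G] {y : G} (hy : y ∈ YY (B₁ i) (C₁ i)) :
    ∃ r ∈ R₁ i, ∃ d ∈ ⨅ m, YY (B₁ m) (C₁ m), y = r * d := by
  obtain ⟨k, hk, -⟩ := t.s₁.third i i
  obtain ⟨m, hmi, hmk, x, hx, e⟩ := t.s₁.trans_B i k
  have hxN := t.s₁.B_le_ST m hx
  have hy' : x * y * x⁻¹ ∈ YY (B₁ k) (C₁ k) := by
    rw [← t.s₁.cY e]; exact conj_mem_cj hy
  obtain ⟨u, hu, huY, d, hd, hud⟩ := t.s₁.exists_D hy'
  obtain ⟨r, hr, β, hβ, hrβ⟩ := t.mem_RB0 hk huY (TT_le _ _ hu)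
  have hβD := t.s₁.B0_le_D hβ
  have e' : cj x⁻¹ (R₁ k) = R₁ i := by rw [← e, cj_inv_cj]
  refine ⟨x⁻¹ * r * x, ?_, x⁻¹ * (β * d) * x, ?_, ?_⟩
  · rw [← e']
    have := conj_mem_cj (g := x⁻¹) hr
    simpa using this
  · have := conj_mem_of_normalizer (inv_mem (t.s₁.nD hxN)) (mul_mem hβD hd)
    simpa only [_root_.Subgroup.mem_iInf, _root_.inv_inv] using this
  · have h1 : x * y * x⁻¹ = r * (β * d) := by rw [hud, hrβ, mul_assoc]
    calc y = x⁻¹ * (x * y * x⁻¹) * x := by group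
      _ = x⁻¹ * (r * (β * d)) * x := by rw [h1]
      _ = x⁻¹ * r * x * (x⁻¹ * (β * d) * x) := by group

/-- the elements of `N(R)` centralising `Y / R` -/
def Kk (R Y : Subgroup G) : Subgroup G where
  carrier := {g | g ∈ normalizer (R : Set G) ∧ g ∈ normalizer (Y : Set G) ∧ ∀ y ∈ Y, g * y * g⁻¹ * y⁻¹ ∈ R}
  one_mem' := by
    refine ⟨one_mem _, one_mem _, fun b _ => ?_⟩
    have : 1 * b * 1⁻¹ * b⁻¹ = 1 := by group
    rw [this]; exact one_mem _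
  mul_mem' := by
    rintro g h ⟨g1, g3, g4⟩ ⟨h1, h3, h4⟩
    refine ⟨mul_mem g1 h1, mul_mem g3 h3, fun b hb => ?_⟩
    have e : g * h * b * (g * h)⁻¹ * b⁻¹ = g * (h * b * h⁻¹ * b⁻¹) * g⁻¹ * (g * b * g⁻¹ * b⁻¹) := by group
    rw [e]; exact mul_mem (conj_mem_of_normalizer g1 (h4 b hb)) (g4 b hb)
  inv_mem' := by
    rintro g ⟨g1, g3, g4⟩
    refine ⟨inv_mem g1, inv_mem g3, fun b hb => ?_⟩
    have e : g⁻¹ * b * g⁻¹⁻¹ * b⁻¹ = g⁻¹ * (g * b * g⁻¹ * b⁻¹)⁻¹ * g := by group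
    rw [e]; exact conj_inv_mem_of_normalizer g1 (inv_mem (g4 b hb))

/-- **(7)** `D = C_Y(K)`, `K = C_{N(R)}(Y/R)`, if some `τ ∈ X` normalises `R` without fixed points -/
theorem D_iff [Finite G] (τ : G) (hτ : τ ∈ ⨆ k, B₁ k) (hτN : τ ∈ normalizer (R₁ i : Set G))
    (hτR : ∀ r ∈ R₁ i, τ * r = r * τ → r = 1) {y : G} (hy : y ∈ YY (B₁ i) (C₁ i)) :
    y ∈ ⨅ m, YY (B₁ m) (C₁ m) ↔ ∀ g ∈ Kk (R₁ i) (YY (B₁ i) (C₁ i)), g * y = y * g := by
  set Y := YY (B₁ i) (C₁ i) with hY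
  have hτD : ∀ d ∈ ⨅ m, YY (B₁ m) (C₁ m), τ * d = d * τ := by
    intro d hd
    have h1 : (⨆ k, B₁ k) ≤ centralizer ({d} : Set G) := by
      refine iSup_le fun k b hb => ?_
      rw [mem_centralizer_iff]
      intro z hz
      rw [Set.mem_singleton_iff.1 hz]
      exact SideW.D_comm hd k b hb
    exact (mem_centralizer_iff.1 (h1 hτ) d rfl).symm
  have hτK : τ ∈ Kk (R₁ i) Y := by
    refine ⟨hτN, t.s₁.nY i hτN, fun z hz => ?_⟩
    obtain ⟨r, hr, d, hd, rfl⟩ := t.exists_RD hz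
    have h1 := hτD d hd
    have hr' := conj_mem_of_normalizer hτN hr
    have e : τ * (r * d) * τ⁻¹ * (r * d)⁻¹ = τ * r * τ⁻¹ * r⁻¹ := by
      have h2 : d * τ⁻¹ = τ⁻¹ * d := by
        calc d * τ⁻¹ = τ⁻¹ * (τ * d) * τ⁻¹ := by group
          _ = τ⁻¹ * (d * τ) * τ⁻¹ := by rw [h1]
          _ = τ⁻¹ * d := by group
      calc τ * (r * d) * τ⁻¹ * (r * d)⁻¹ = τ * r * (d * τ⁻¹) * d⁻¹ * r⁻¹ := by group
        _ = τ * r * (τ⁻¹ * d) * d⁻¹ * r⁻¹ := by rw [h2]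
        _ = τ * r * τ⁻¹ * r⁻¹ := by group
    rw [e]
    exact mul_mem hr' (inv_mem hr)
  constructor
  · intro hd
    -- averaging over `K / (S ∩ K)`
    have hNK : ∀ n ∈ normalizer (R₁ i : Set G), ∀ g ∈ Kk (R₁ i) Y, n * g * n⁻¹ ∈ Kk (R₁ i) Y := by
      rintro n hn g ⟨g1, g3, g4⟩
      have hnY := t.s₁.nY i hn
      refine ⟨mul_mem (mul_mem hn g1) (inv_mem hn), mul_mem (mul_mem hnY g3) (inv_mem hnY), fun b hb => ?_⟩
      have h1 := g4 _ (conj_inv_mem_of_normalizer hnY hb)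
      have e : n * g * n⁻¹ * b * (n * g * n⁻¹)⁻¹ * b⁻¹ =
          n * (g * (n⁻¹ * b * n) * g⁻¹ * (n⁻¹ * b * n)⁻¹) * n⁻¹ := by group
      rw [e]; exact conj_mem_of_normalizer hn h1
    have hSK : (S : Subgroup G) ≤ normalizer (Kk (R₁ i) Y : Set G) := by
      intro g hg
      exact mem_normalizer_of_conj fun x hx => hNK g (t.SR hg) x hx
    have hcomm : ∀ x ∈ Kk (R₁ i) Y, y⁻¹ * x * y * x⁻¹ ∈ R₁ i := by
      rintro x ⟨x1, x3, x4⟩
      have h1 := x4 y hy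
      have h2 : x * y * x⁻¹ ∈ Y := conj_mem_of_normalizer x3 hy
      have e : y⁻¹ * x * y * x⁻¹ = x * y * x⁻¹ * y⁻¹ := by
        calc y⁻¹ * x * y * x⁻¹ = y⁻¹ * (x * y * x⁻¹) := by group
          _ = x * y * x⁻¹ * y⁻¹ := t.Y_comm (inv_mem hy) h2
      rw [e]
      exact h1
    obtain ⟨ρ, hρ, hρK⟩ := Avg.avg (X := Kk (R₁ i) Y) (P := (S : Subgroup G) ⊓ Kk (R₁ i) Y) (Y := R₁ i)
      (D := ⊥) inf_le_right (odd_relIndex S hSK) bot_le
      (fun x hx r hr => conj_mem_of_normalizer hx.1 hr)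
      (fun x _ r hr => by rw [mem_bot.1 hr, mul_one, mul_inv_cancel]; exact one_mem _)
      (fun x _ r hr => by rw [mem_bot.1 hr, mul_one, mul_inv_cancel]; exact one_mem _)
      (fun r hr => by rw [t.s₁.B_sq i r (t.s₁.R_B i hr)]; exact one_mem _) (c := y) hcomm
      (by
        rintro x ⟨hxS, hxK⟩
        have h1 : y⁻¹ * x * y * x⁻¹ ∈ ⨅ m, YY (B₁ m) (C₁ m) := by
          have h2 := conj_mem_of_normalizer (t.s₁.nD (t.SV₁ hxS)) hd
          have e : y⁻¹ * x * y * x⁻¹ = y⁻¹ * (x * y * x⁻¹) := by group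
          rw [e]
          exact mul_mem (inv_mem hd) h2
        rw [t.s₁.D_R h1 (hcomm x hxK)]
        exact one_mem _)
    have hall : ∀ x ∈ Kk (R₁ i) Y, x * (y * ρ) = y * ρ * x := by
      intro x hx
      have h1 := mem_bot.1 (hρK x hx)
      have h2 : x * (y * ρ) * x⁻¹ = y * ρ := by
        have h3 : (y * ρ) * ((y * ρ)⁻¹ * x * (y * ρ) * x⁻¹) = y * ρ := by rw [h1, mul_one]
        calc x * (y * ρ) * x⁻¹ = (y * ρ) * ((y * ρ)⁻¹ * x * (y * ρ) * x⁻¹) := by group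
          _ = y * ρ := h3
      exact mul_inv_eq_iff_eq_mul.1 h2
    have hρ1 : ρ = 1 := by
      apply hτR ρ hρ
      have h1 := hall τ hτK
      have h2 := hτD y hd
      have h3 : y * (τ * ρ) = y * (ρ * τ) := by
        calc y * (τ * ρ) = (y * τ) * ρ := by group
          _ = τ * y * ρ := by rw [← h2]
          _ = τ * (y * ρ) := by group
          _ = y * ρ * τ := h1
          _ = y * (ρ * τ) := by group
      exact mul_left_cancel h3
    intro g hg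
    have := hall g hg
    rwa [hρ1, mul_one] at this
  · intro hall
    obtain ⟨r, hr, d, hd, e⟩ := t.exists_RD hy
    have h1 := hall τ hτK
    have h2 := hτD d hd
    have h3 : τ * r = r * τ := by
      rw [e] at h1
      have h4 : τ * r * d = r * τ * d := by
        calc τ * r * d = τ * (r * d) := by group
          _ = r * d * τ := h1
          _ = r * (d * τ) := by group
          _ = r * (τ * d) := by rw [h2]
          _ = r * τ * d := by group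
      exact mul_right_cancel h4
    rw [e, hτR r hr h3, one_mul]
    exact hd

/-- **(7)** the fixed point groups `D₁`, `D₂` are trivial (`q ≥ 4`) -/
theorem D_eq_bot [Finite G] (h₁ : ∃ τ ∈ ⨆ k, B₁ k, τ ∈ normalizer (R₁ i : Set G) ∧ ∀ r ∈ R₁ i, τ * r = r * τ → r = 1)
    (h₂ : ∃ τ ∈ ⨆ k, B₂ k, τ ∈ normalizer (R₂ j : Set G) ∧ ∀ r ∈ R₂ j, τ * r = r * τ → r = 1) :
    (⨅ m, YY (B₁ m) (C₁ m)) = ⊥ := by
  obtain ⟨τ₁, a1, a2, a3⟩ := h₁
  obtain ⟨τ₂, b1, b2, b3⟩ := h₂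
  have hD1 : ∀ y, y ∈ ⨅ m, YY (B₁ m) (C₁ m) ↔ y ∈ YY (B₁ i) (C₁ i) ∧
      ∀ g ∈ Kk (R₁ i) (YY (B₁ i) (C₁ i)), g * y = y * g := by
    intro y
    constructor
    · intro hd
      have hy := mem_iInf.1 hd i
      exact ⟨hy, (t.D_iff τ₁ a1 a2 a3 hy).1 hd⟩
    · rintro ⟨hy, h⟩
      exact (t.D_iff τ₁ a1 a2 a3 hy).2 h
  have hD2 : ∀ y, y ∈ ⨅ m, YY (B₂ m) (C₂ m) ↔ y ∈ YY (B₁ i) (C₁ i) ∧
      ∀ g ∈ Kk (R₁ i) (YY (B₁ i) (C₁ i)), g * y = y * g := by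
    intro y
    rw [t.YY_eq_YY, t.hR]
    constructor
    · intro hd
      have hy := mem_iInf.1 hd j
      exact ⟨hy, (t.symm.D_iff τ₂ b1 b2 b3 hy).1 hd⟩
    · rintro ⟨hy, h⟩
      exact (t.symm.D_iff τ₂ b1 b2 b3 hy).2 h
  have hE : (⨅ m, YY (B₁ m) (C₁ m)) = ⨅ m, YY (B₂ m) (C₂ m) := by
    ext y
    rw [hD1, hD2]
  have hle : (⨅ m, YY (B₁ m) (C₁ m)) ≤ YY (B₁ i) (C₁ i) := iInf_le _ i
  refine t.NL _ (t.Y_isPGroup.to_le hle) t.s₁.nD ?_ ?_
  · rw [hE]; exact t.s₂.nD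
  · intro n hn
    refine mem_normalizer_of_conj fun y hy => ?_
    obtain ⟨h1, h2⟩ := (hD1 y).1 hy
    refine (hD1 _).2 ⟨conj_mem_of_normalizer (t.s₁.nY i hn) h1, fun g hg => ?_⟩
    have h3 : n⁻¹ * g * n ∈ Kk (R₁ i) (YY (B₁ i) (C₁ i)) := by
      obtain ⟨g1, g3, g4⟩ := hg
      have hn' := inv_mem hn
      have hnY := t.s₁.nY i hn
      refine ⟨mul_mem (mul_mem hn' g1) hn, mul_mem (mul_mem (inv_mem hnY) g3) hnY, fun b hb => ?_⟩
      have h1 := g4 _ (conj_mem_of_normalizer hnY hb)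
      have e : n⁻¹ * g * n * b * (n⁻¹ * g * n)⁻¹ * b⁻¹ =
          n⁻¹ * (g * (n * b * n⁻¹) * g⁻¹ * (n * b * n⁻¹)⁻¹) * n := by group
      rw [e]; exact conj_inv_mem_of_normalizer hn h1
    have h4 := h2 _ h3
    calc g * (n * y * n⁻¹) = n * (n⁻¹ * g * n * y) * n⁻¹ := by group
      _ = n * (y * (n⁻¹ * g * n)) * n⁻¹ := by rw [h4]
      _ = n * y * n⁻¹ * g := by group

/-- **`C_G(W₁ W₂) = R`** without any hypothesis on `Z(S)` -/
theorem YY_eq [Finite G] (h₁ : ∃ τ ∈ ⨆ k, B₁ k, τ ∈ normalizer (R₁ i : Set G) ∧ ∀ r ∈ R₁ i, τ * r = r * τ → r = 1)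
    (h₂ : ∃ τ ∈ ⨆ k, B₂ k, τ ∈ normalizer (R₂ j : Set G) ∧ ∀ r ∈ R₂ j, τ * r = r * τ → r = 1) :
    YY (B₁ i) (C₁ i) = R₁ i := by
  refine le_antisymm (fun y hy => ?_) (t.s₁.R_Y i)
  obtain ⟨r, hr, d, hd, rfl⟩ := t.exists_RD hy
  rw [t.D_eq_bot h₁ h₂] at hd
  rw [mem_bot.1 hd, mul_one]
  exact hr

/-- the centre of the Sylow subgroup lies in `R` -/
theorem center_le [Finite G] (h₁ : ∃ τ ∈ ⨆ k, B₁ k, τ ∈ normalizer (R₁ i : Set G) ∧ ∀ r ∈ R₁ i, τ * r = r * τ → r = 1)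
    (h₂ : ∃ τ ∈ ⨆ k, B₂ k, τ ∈ normalizer (R₂ j : Set G) ∧ ∀ r ∈ R₂ j, τ * r = r * τ → r = 1)
    (hBS : B₁ i ≤ S) (hCS : C₁ i ≤ S) {z : G} (hz : ∀ x ∈ (S : Subgroup G), z * x = x * z) : z ∈ R₁ i := by
  rw [← t.YY_eq h₁ h₂, mem_YY]
  exact ⟨fun b hb => hz b (hBS hb), fun c hc => hz c (hCS hc)⟩

/-- the fixed point hypothesis of TEXT MIX -/
theorem fix [Finite G] (h₁ : ∃ τ ∈ ⨆ k, B₁ k, τ ∈ normalizer (R₁ i : Set G) ∧ ∀ r ∈ R₁ i, τ * r = r * τ → r = 1)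
    (h₂ : ∃ τ ∈ ⨆ k, B₂ k, τ ∈ normalizer (R₂ j : Set G) ∧ ∀ r ∈ R₂ j, τ * r = r * τ → r = 1)
    (hBS : B₁ i ≤ S) (hCS : C₁ i ≤ S) (K : Subgroup G) (hK : IsPGroup 2 K)
    (hKN : _root_.Cfsg.Agent.Omega.Mix.ST V₁ R₁ ≤ normalizer (K : Set G)) (a b : ι) (hab : a ≠ b)
    (ha : ∀ k ∈ K, ∀ x ∈ B₁ a, x * k = k * x) (hb : ∀ k ∈ K, ∀ x ∈ B₁ b, x * k = k * x) : K = ⊥ := by
  by_contra hne
  obtain ⟨z, hz1, hzK, hzS⟩ := exists_fixed S hK (t.SV₁.trans hKN) hne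
  have h1 := t.center_le h₁ h₂ hBS hCS hzS
  have hall := t.s₁.comm_all hab (ha z hzK) (hb z hzK)
  obtain ⟨k, hk, -⟩ := t.s₁.third i i
  have h2 : z ∈ R₁ k := t.s₁.VB k z (t.s₁.R_V i h1) (hall k)
  have h3 : z ∈ R₁ i ⊓ R₁ k := ⟨h1, h2⟩
  rw [t.s₁.R_inf i k (Ne.symm hk)] at h3
  exact hz1 (mem_bot.1 h3)

/-- **`Mix.Side` holds** : the hypothesis `C_V(E) = 1` of TEXT MIX is a consequence -/
theorem side₁ [Finite G] (h₁ : ∃ τ ∈ ⨆ k, B₁ k, τ ∈ normalizer (R₁ i : Set G) ∧ ∀ r ∈ R₁ i, τ * r = r * τ → r = 1)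
    (h₂ : ∃ τ ∈ ⨆ k, B₂ k, τ ∈ normalizer (R₂ j : Set G) ∧ ∀ r ∈ R₂ j, τ * r = r * τ → r = 1)
    (hBS : B₁ i ≤ S) (hCS : C₁ i ≤ S) : Side V₁ R₁ B₁ C₁ :=
  t.s₁.toSide (t.fix h₁ h₂ hBS hCS)

theorem side₂ [Finite G] (h₁ : ∃ τ ∈ ⨆ k, B₁ k, τ ∈ normalizer (R₁ i : Set G) ∧ ∀ r ∈ R₁ i, τ * r = r * τ → r = 1)
    (h₂ : ∃ τ ∈ ⨆ k, B₂ k, τ ∈ normalizer (R₂ j : Set G) ∧ ∀ r ∈ R₂ j, τ * r = r * τ → r = 1)
    (hBS : B₁ i ≤ S) (hCS : C₁ i ≤ S) : Side V₂ R₂ B₂ C₂ :=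
  t.symm.side₁ h₂ h₁ (by rw [← t.hC]; exact hCS) (by rw [← t.hB]; exact hBS)

end TwoW

end Cfsg.Agent.Omega.MixOne

end

section


/-!
# TEXT MIX over a 2-group `T` which is only a Sylow 2-subgroup of `N_G(R)` (WrMain4, section 3; helper441, helper330)

Adapted copy of `MixOne.TwoW` (helper176): the Sylow 2-subgroup `S` of `G` is replaced by a group `T ≤ N_G(R)` with
`|N_G(R) : T|` odd; NL is a field.

* `TwoT.YY_eq` : `C_G(W₁ W₂) = R` when both sides have a torus element without fixed points on `R` (`q ≥ 4`).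
-/

set_option autoImplicit false
set_option linter.unusedSectionVars false

namespace Cfsg.Agent.Omega.IId.M4

open Subgroup Cfsg.Agent.Omega.BTwo Cfsg.Agent.Omega.Mix Cfsg.Agent.Omega.MixOne
open Cfsg.Agent.Omega.MixOne.TwoW (Sq cj_Sq Sq_eq Oo mem_Oo Ct mem_Ct Kk)

variable {G : Type*} [Group G] {ι κ : Type*}

/-- a subgroup `K` of `H` normalised by `T`, `|H : T|` odd : `|K : T ∩ K|` is odd -/
theorem odd_rel [Finite G] {T H K : Subgroup G} (hTH : T ≤ H) (hodd : ¬ 2 ∣ T.relIndex H) (hKH : K ≤ H)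
    (hK : T ≤ normalizer (K : Set G)) : Odd ((T ⊓ K).relIndex K) := by
  have h1 : (T ⊓ K).relIndex K = T.relIndex K := inf_relIndex_right _ _
  have h2 : T.relIndex K ∣ T.relIndex H := by
    rw [relIndex_sup_of_normalizes hK]
    exact Dvd.intro _ (relIndex_mul_relIndex _ _ _ le_sup_left (sup_le hTH hKH))
  rw [h1, ← Nat.not_even_iff_odd]
  intro he
  exact hodd ((even_iff_two_dvd.1 he).trans h2)

/-- the two sides of a mixed mutual pair with `W₁`, `W₂` abelian (no hypothesis on `Z(S)`) -/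
structure TwoT (V₁ V₂ : Subgroup G) (R₁ B₁ C₁ : ι → Subgroup G) (R₂ B₂ C₂ : κ → Subgroup G) (i : ι) (j : κ)
    (T : Subgroup G) : Prop where
  s₁ : SideW V₁ R₁ B₁ C₁
  s₂ : SideW V₂ R₂ B₂ C₂
  hR : R₁ i = R₂ j
  hB : B₁ i = C₂ j
  hC : C₁ i = B₂ j
  ch : Char2 (normalizer (R₁ i : Set G))
  NL : ∀ K : Subgroup G, IsPGroup 2 K → _root_.Cfsg.Agent.Omega.Mix.ST V₁ R₁ ≤ normalizer (K : Set G) →
    _root_.Cfsg.Agent.Omega.Mix.ST V₂ R₂ ≤ normalizer (K : Set G) → normalizer (R₁ i : Set G) ≤ normalizer (K : Set G) → K = ⊥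
  SV₁ : T ≤ ST V₁ R₁
  SV₂ : T ≤ ST V₂ R₂
  SR : T ≤ normalizer (R₁ i : Set G)
  odd : ¬ 2 ∣ T.relIndex (normalizer (R₁ i : Set G))
  gen₁ : ∀ K : Subgroup G, (∀ h ∈ normalizer (R₁ i : Set G), cj h V₁ ≤ K) → C₁ i ≤ K
  gen₂ : ∀ K : Subgroup G, (∀ h ∈ normalizer (R₁ i : Set G), cj h V₂ ≤ K) → B₁ i ≤ K

variable {V₁ V₂ : Subgroup G} {R₁ B₁ C₁ : ι → Subgroup G} {R₂ B₂ C₂ : κ → Subgroup G} {i : ι} {j : κ} {T : Subgroup G}

namespace TwoT

theorem symm (t : TwoT V₁ V₂ R₁ B₁ C₁ R₂ B₂ C₂ i j T) : TwoT V₂ V₁ R₂ B₂ C₂ R₁ B₁ C₁ j i T where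
  s₁ := t.s₂
  s₂ := t.s₁
  hR := t.hR.symm
  hB := t.hC.symm
  hC := t.hB.symm
  ch := by rw [← t.hR]; exact t.ch
  NL := by
    intro K hK h1 h2 h3
    rw [← t.hR] at h3
    exact t.NL K hK h2 h1 h3
  SV₁ := t.SV₂
  SV₂ := t.SV₁
  SR := by rw [← t.hR]; exact t.SR
  odd := by rw [← t.hR]; exact t.odd
  gen₁ := by
    intro K hK
    rw [← t.hR] at hK
    rw [← t.hB]
    exact t.gen₂ K hK
  gen₂ := by
    intro K hK
    rw [← t.hR] at hK
    rw [← t.hC]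
    exact t.gen₁ K hK

variable (t : TwoT V₁ V₂ R₁ B₁ C₁ R₂ B₂ C₂ i j T)
include t

theorem YY_eq_YY : YY (B₁ i) (C₁ i) = YY (B₂ j) (C₂ j) := by
  rw [YY, YY, t.hB, t.hC, sup_comm]

/-- **(3)** `C_G(W₁ W₂)` is a 2-group -/
theorem Y_isPGroup [Finite G] : IsPGroup 2 (YY (B₁ i) (C₁ i)) := by
  set D := OD (YY (B₁ i) (C₁ i)) with hD
  have h1 : _root_.Cfsg.Agent.Omega.Mix.ST V₁ R₁ ≤ normalizer (D : Set G) := t.s₁.nOD i
  have h2 : _root_.Cfsg.Agent.Omega.Mix.ST V₂ R₂ ≤ normalizer (D : Set G) := by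
    rw [hD, t.YY_eq_YY]; exact t.s₂.nOD j
  have h3 : normalizer (R₁ i : Set G) ≤ normalizer (D : Set G) := by
    intro g hg
    rw [← cj_eq_self_iff, hD, cj_OD, cj_eq_self_iff.2 (t.s₁.nY i hg)]
  have hN : normalizer (D : Set G) ≤ normalizer (O2 D : Set G) := by
    intro g hg
    rw [← cj_eq_self_iff, cj_O2, cj_eq_self_iff.2 hg]
  have h4 : O2 D = ⊥ := t.NL _ (O2_isPGroup D) (h1.trans hN) (h2.trans hN) (h3.trans hN)
  have hDR : D ≤ normalizer (R₁ i : Set G) := by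
    intro x hx
    exact t.s₁.cV_le_NR (t.s₁.Y_V (OD_le _ hx)) i
  set Q := O2 (normalizer (R₁ i : Set G)) with hQ
  have hQR : Q ≤ normalizer (R₁ i : Set G) := O2_le _
  have h5 : D ⊓ Q ≤ O2 D := by
    refine le_O2_of_normal inf_le_left ((O2_isPGroup _).to_le inf_le_right) ?_
    rintro g hg a ⟨haD, haQ⟩
    exact ⟨D.mul_mem (D.mul_mem hg haD) (D.inv_mem hg),
      conj_mem_of_normalizer (le_normalizer_O2 _ (hDR hg)) haQ⟩
  rw [h4] at h5
  have h6 : D ≤ Q := by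
    intro d hd
    refine t.ch d (hDR hd) fun q hq => ?_
    apply comm_of_eq_one
    have : d * q * d⁻¹ * q⁻¹ ∈ D ⊓ Q := by
      refine ⟨?_, Q.mul_mem (conj_mem_of_normalizer (le_normalizer_O2 _ (hDR hd)) hq) (Q.inv_mem hq)⟩
      have e : d * q * d⁻¹ * q⁻¹ = d * (q * d⁻¹ * q⁻¹) := by group
      rw [e]
      exact D.mul_mem hd (conj_mem_of_normalizer (h3 (hQR hq)) (D.inv_mem hd))
    exact mem_bot.1 (h5 this)
  have h7 : D = ⊥ := by
    rw [eq_bot_iff]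
    exact fun d hd => h5 ⟨hd, h6 hd⟩
  exact isPGroup_of_OD h7

/-- **(5)** `Y` has exponent 2 -/
theorem Y_sq [Finite G] {y : G} (hy : y ∈ YY (B₁ i) (C₁ i)) : y * y = 1 := by
  have h1 : _root_.Cfsg.Agent.Omega.Mix.ST V₁ R₁ ≤ normalizer (Sq (YY (B₁ i) (C₁ i)) : Set G) := by
    intro g hg
    rw [Sq_eq t.s₁ i, ← cj_eq_self_iff, cj_Sq, cj_eq_self_iff.2 (t.s₁.nD hg)]
  have h2 : _root_.Cfsg.Agent.Omega.Mix.ST V₂ R₂ ≤ normalizer (Sq (YY (B₁ i) (C₁ i)) : Set G) := by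
    intro g hg
    rw [t.YY_eq_YY, Sq_eq t.s₂ j, ← cj_eq_self_iff, cj_Sq, cj_eq_self_iff.2 (t.s₂.nD hg)]
  have h3 : normalizer (R₁ i : Set G) ≤ normalizer (Sq (YY (B₁ i) (C₁ i)) : Set G) := by
    intro g hg
    rw [← cj_eq_self_iff, cj_Sq, cj_eq_self_iff.2 (t.s₁.nY i hg)]
  have h4 : Sq (YY (B₁ i) (C₁ i)) ≤ YY (B₁ i) (C₁ i) := by
    rw [Sq, closure_le]
    rintro _ ⟨y, hy, rfl⟩
    exact mul_mem hy hy
  have h5 := t.NL _ (t.Y_isPGroup.to_le h4) h1 h2 h3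
  have h6 : y * y ∈ Sq (YY (B₁ i) (C₁ i)) := subset_closure ⟨y, hy, rfl⟩
  rw [h5] at h6
  exact mem_bot.1 h6

theorem Y_comm [Finite G] {x y : G} (hx : x ∈ YY (B₁ i) (C₁ i)) (hy : y ∈ YY (B₁ i) (C₁ i)) : x * y = y * x := by
  have h1 := t.Y_sq (mul_mem hx hy)
  have hx1 : x⁻¹ = x := inv_eq_of_mul_eq_one_left (t.Y_sq hx)
  have hy1 : y⁻¹ = y := inv_eq_of_mul_eq_one_left (t.Y_sq hy)
  have h2 : (x * y)⁻¹ = x * y := inv_eq_of_mul_eq_one_left h1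
  rw [mul_inv_rev, hx1, hy1] at h2
  exact h2.symm

/-- `V₂ ∩ Y = R` -/
theorem V₂_Y {v : G} (hv : v ∈ V₂) (hy : v ∈ YY (B₁ i) (C₁ i)) : v ∈ R₁ i := by
  rw [t.hR]
  refine t.s₂.VB j v hv fun b hb => ?_
  rw [← t.hC] at hb
  exact ((mem_YY.1 hy).2 b hb).symm

/-- **(6)** `B i ≤ (Y ∩ B i) C̃` -/
theorem B_le [Finite G] : B₁ i ≤ (YY (B₁ i) (C₁ i) ⊓ B₁ i) ⊔
    Ct (R₁ i) (B₁ i) (Oo (R₁ i) (B₁ i) (YY (B₁ i) (C₁ i))) (t.s₁.B_comm i) (t.s₁.R_B i) := by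
  set Y := YY (B₁ i) (C₁ i) with hY
  set O := Oo (R₁ i) (B₁ i) Y with hO
  set N := normalizer (R₁ i : Set G) with hN
  have hNB : N ≤ normalizer (B₁ i : Set G) := t.s₁.nB i
  have hNY : N ≤ normalizer (Y : Set G) := t.s₁.nY i
  have hV₂B : V₂ ≤ B₁ i := by rw [t.hB]; exact t.s₂.V_C j
  -- `O` is normal in `N(R)`
  have hNO : ∀ n ∈ N, ∀ g ∈ O, n * g * n⁻¹ ∈ O := by
    rintro n hn g ⟨g1, g2, g3, g4⟩
    refine ⟨mul_mem (mul_mem hn g1) (inv_mem hn), mul_mem (mul_mem (hNB hn) g2) (inv_mem (hNB hn)),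
      mul_mem (mul_mem (hNY hn) g3) (inv_mem (hNY hn)), fun b hb => ?_⟩
    have h1 := g4 _ (conj_inv_mem_of_normalizer (hNB hn) hb)
    have e : n * g * n⁻¹ * b * (n * g * n⁻¹)⁻¹ * b⁻¹ =
        n * (g * (n⁻¹ * b * n) * g⁻¹ * (n⁻¹ * b * n)⁻¹) * n⁻¹ := by group
    rw [e]; exact conj_mem_of_normalizer (hNY hn) h1
  have hSO : T ≤ normalizer (O : Set G) := by
    intro g hg
    exact mem_normalizer_of_conj fun x hx => hNO g (t.SR hg) x hx
  -- averaging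
  have key : ∀ w ∈ V₂, ∃ y ∈ Y ⊓ B₁ i, ∀ x ∈ O, (w * y)⁻¹ * x * (w * y) * x⁻¹ ∈ R₁ i := by
    intro w hw
    have hwB := hV₂B hw
    have hcomm : ∀ x ∈ O, w⁻¹ * x * w * x⁻¹ ∈ Y ⊓ B₁ i := by
      rintro x ⟨x1, x2, x3, x4⟩
      have h1 := x4 w hwB
      have h2 : x * w * x⁻¹ * w⁻¹ ∈ B₁ i := mul_mem (conj_mem_of_normalizer x2 hwB) (inv_mem hwB)
      have e : w⁻¹ * x * w * x⁻¹ = x * w * x⁻¹ * w⁻¹ := by
        calc w⁻¹ * x * w * x⁻¹ = w⁻¹ * (x * w * x⁻¹ * w⁻¹) * w := by group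
          _ = w⁻¹ * (w * (x * w * x⁻¹ * w⁻¹)) := by
            rw [mul_assoc, t.s₁.B_comm i _ h2 w hwB]
          _ = x * w * x⁻¹ * w⁻¹ := by group
      rw [e]
      exact ⟨h1, h2⟩
    refine Avg.avg (X := O) (P := T ⊓ O) (Y := Y ⊓ B₁ i) (D := R₁ i) inf_le_right
      (odd_rel t.SR t.odd (fun x hx => hx.1) hSO) (le_inf (t.s₁.R_Y i) (t.s₁.R_B i)) ?_ ?_ ?_ ?_ hcomm ?_
    · rintro x ⟨x1, x2, x3, x4⟩ y ⟨hy1, hy2⟩
      exact ⟨conj_mem_of_normalizer x3 hy1, conj_mem_of_normalizer x2 hy2⟩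
    · rintro x ⟨x1, x2, x3, x4⟩ y hy
      exact conj_mem_of_normalizer x1 hy
    · rintro x ⟨hx1, hx2⟩ y hy
      rw [t.s₁.B_comm i x hx2 y (t.s₁.R_B i hy), mul_inv_cancel_right]
      exact hy
    · rintro y ⟨hy1, hy2⟩
      rw [t.s₁.B_sq i y hy2]
      exact one_mem _
    · rintro x ⟨hxS, hxO⟩
      have h1 := (hcomm x hxO).1
      have h2 : w⁻¹ * x * w * x⁻¹ ∈ V₂ := by
        have h3 := conj_mem_of_normalizer (ST_le _ _ (t.SV₂ hxS)) hw
        have e : w⁻¹ * x * w * x⁻¹ = w⁻¹ * (x * w * x⁻¹) := by group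
        rw [e]
        exact mul_mem (inv_mem hw) h3
      exact t.V₂_Y h2 h1
  refine t.gen₂ _ fun h hh => ?_
  rw [cj_le_iff]
  intro w hw
  obtain ⟨y, hy, hwy⟩ := key w hw
  have e : h * w * h⁻¹ = (h * (w * y) * h⁻¹) * (h * y * h⁻¹)⁻¹ := by group
  rw [e]
  refine mul_mem ?_ (inv_mem ?_)
  · refine (le_sup_right : _ ≤ (Y ⊓ B₁ i) ⊔ _) ?_
    rw [mem_Ct]
    refine ⟨conj_mem_of_normalizer (hNB hh) (mul_mem (hV₂B hw) hy.2), fun g hg => ?_⟩
    have h1 : h⁻¹ * g * h ∈ O := by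
      have := hNO h⁻¹ (inv_mem hh) g hg
      simpa using this
    have h2 := conj_mem_of_normalizer hh (hwy _ h1)
    have e2 : h * ((w * y)⁻¹ * (h⁻¹ * g * h) * (w * y) * (h⁻¹ * g * h)⁻¹) * h⁻¹ =
        (h * (w * y) * h⁻¹)⁻¹ * g * (h * (w * y) * h⁻¹) * g⁻¹ := by group
    rwa [e2] at h2
  · exact (le_sup_left : Y ⊓ B₁ i ≤ _)
      ⟨conj_mem_of_normalizer (hNY hh) hy.1, conj_mem_of_normalizer (hNB hh) hy.2⟩

/-- **(6)** `Y ∩ T ≤ R B₀` at every point `k ≠ i` of `V₁` -/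
theorem mem_RB0 [Finite G] {k : ι} (hk : k ≠ i) {y : G} (hy : y ∈ YY (B₁ k) (C₁ k)) (hyB : y ∈ B₁ k) :
    ∃ r ∈ R₁ k, ∃ x ∈ ⨅ m, B₁ m, y = r * x := by
  -- an element `b ∈ C̃` outside `C(V₁)`
  obtain ⟨b, hb, hbV⟩ : ∃ b ∈ Ct (R₁ i) (B₁ i) (Oo (R₁ i) (B₁ i) (YY (B₁ i) (C₁ i)))
      (t.s₁.B_comm i) (t.s₁.R_B i), ¬ ∀ v ∈ V₁, b * v = v * b := by
    by_contra hn
    push Not at hn
    obtain ⟨b, hb, hbV⟩ := t.s₁.exists_move (Ne.symm hk)
    have h1 : B₁ i ≤ centralizer (V₁ : Set G) := by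
      refine t.B_le.trans (sup_le ?_ ?_)
      · rintro x ⟨hx, -⟩
        exact mem_centralizer_iff.2 fun v hv => (t.s₁.Y_V hx v hv).symm
      · intro x hx
        exact mem_centralizer_iff.2 fun v hv => (hn x hx v hv).symm
    exact hbV fun v hv => (mem_centralizer_iff.1 (h1 hb) v hv).symm
  have hbB := (mem_Ct.1 hb).1
  -- `y ∈ O`
  have hyN := t.s₁.cV_le_NR (t.s₁.Y_V hy) i
  have hyO : y ∈ Oo (R₁ i) (B₁ i) (YY (B₁ i) (C₁ i)) := by
    refine ⟨hyN, t.s₁.nB i hyN, t.s₁.nY i hyN, fun b' hb' => ?_⟩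
    have := inv_mem (t.s₁.comm_B_Y hb' hy)
    have e : (b' * y * b'⁻¹ * y⁻¹)⁻¹ = y * b' * y⁻¹ * b'⁻¹ := by group
    rwa [e] at this
  have h1 := (mem_Ct.1 hb).2 y hyO
  have h2 : b * y * b⁻¹ * y⁻¹ ∈ R₁ i := by
    have hbi : b⁻¹ = b := inv_eq_of_mul_eq_one_left (t.s₁.B_sq i b hbB)
    have e : b⁻¹ * y * b * y⁻¹ = b * y * b⁻¹ * y⁻¹ := by
      rw [hbi]
    rwa [e] at h1
  exact t.s₁.mem_R_of_comm (Ne.symm hk) hbB hbV hyB h2

/-- **(6)** `Y = R D` -/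
theorem exists_RD [Finite G] {y : G} (hy : y ∈ YY (B₁ i) (C₁ i)) :
    ∃ r ∈ R₁ i, ∃ d ∈ ⨅ m, YY (B₁ m) (C₁ m), y = r * d := by
  obtain ⟨k, hk, -⟩ := t.s₁.third i i
  obtain ⟨m, hmi, hmk, x, hx, e⟩ := t.s₁.trans_B i k
  have hxN := t.s₁.B_le_ST m hx
  have hy' : x * y * x⁻¹ ∈ YY (B₁ k) (C₁ k) := by
    rw [← t.s₁.cY e]; exact conj_mem_cj hy
  obtain ⟨u, hu, huY, d, hd, hud⟩ := t.s₁.exists_D hy'
  obtain ⟨r, hr, β, hβ, hrβ⟩ := t.mem_RB0 hk huY (TT_le _ _ hu)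
  have hβD := t.s₁.B0_le_D hβ
  have e' : cj x⁻¹ (R₁ k) = R₁ i := by rw [← e, cj_inv_cj]
  refine ⟨x⁻¹ * r * x, ?_, x⁻¹ * (β * d) * x, ?_, ?_⟩
  · rw [← e']
    have := conj_mem_cj (g := x⁻¹) hr
    simpa using this
  · have := conj_mem_of_normalizer (inv_mem (t.s₁.nD hxN)) (mul_mem hβD hd)
    simpa only [_root_.Subgroup.mem_iInf, _root_.inv_inv] using this
  · have h1 : x * y * x⁻¹ = r * (β * d) := by rw [hud, hrβ, mul_assoc]
    calc y = x⁻¹ * (x * y * x⁻¹) * x := by group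
      _ = x⁻¹ * (r * (β * d)) * x := by rw [h1]
      _ = x⁻¹ * r * x * (x⁻¹ * (β * d) * x) := by group

/-- **(7)** `D = C_Y(K)`, `K = C_{N(R)}(Y/R)`, if some `τ ∈ X` normalises `R` without fixed points -/
theorem D_iff [Finite G] (τ : G) (hτ : τ ∈ ⨆ k, B₁ k) (hτN : τ ∈ normalizer (R₁ i : Set G))
    (hτR : ∀ r ∈ R₁ i, τ * r = r * τ → r = 1) {y : G} (hy : y ∈ YY (B₁ i) (C₁ i)) :
    y ∈ ⨅ m, YY (B₁ m) (C₁ m) ↔ ∀ g ∈ Kk (R₁ i) (YY (B₁ i) (C₁ i)), g * y = y * g := by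
  set Y := YY (B₁ i) (C₁ i) with hY
  have hτD : ∀ d ∈ ⨅ m, YY (B₁ m) (C₁ m), τ * d = d * τ := by
    intro d hd
    have h1 : (⨆ k, B₁ k) ≤ centralizer ({d} : Set G) := by
      refine iSup_le fun k b hb => ?_
      rw [mem_centralizer_iff]
      intro z hz
      rw [Set.mem_singleton_iff.1 hz]
      exact SideW.D_comm hd k b hb
    exact (mem_centralizer_iff.1 (h1 hτ) d rfl).symm
  have hτK : τ ∈ Kk (R₁ i) Y := by
    refine ⟨hτN, t.s₁.nY i hτN, fun z hz => ?_⟩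
    obtain ⟨r, hr, d, hd, rfl⟩ := t.exists_RD hz
    have h1 := hτD d hd
    have hr' := conj_mem_of_normalizer hτN hr
    have e : τ * (r * d) * τ⁻¹ * (r * d)⁻¹ = τ * r * τ⁻¹ * r⁻¹ := by
      have h2 : d * τ⁻¹ = τ⁻¹ * d := by
        calc d * τ⁻¹ = τ⁻¹ * (τ * d) * τ⁻¹ := by group
          _ = τ⁻¹ * (d * τ) * τ⁻¹ := by rw [h1]
          _ = τ⁻¹ * d := by group
      calc τ * (r * d) * τ⁻¹ * (r * d)⁻¹ = τ * r * (d * τ⁻¹) * d⁻¹ * r⁻¹ := by group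
        _ = τ * r * (τ⁻¹ * d) * d⁻¹ * r⁻¹ := by rw [h2]
        _ = τ * r * τ⁻¹ * r⁻¹ := by group
    rw [e]
    exact mul_mem hr' (inv_mem hr)
  constructor
  · intro hd
    -- averaging over `K / (T ∩ K)`
    have hNK : ∀ n ∈ normalizer (R₁ i : Set G), ∀ g ∈ Kk (R₁ i) Y, n * g * n⁻¹ ∈ Kk (R₁ i) Y := by
      rintro n hn g ⟨g1, g3, g4⟩
      have hnY := t.s₁.nY i hn
      refine ⟨mul_mem (mul_mem hn g1) (inv_mem hn), mul_mem (mul_mem hnY g3) (inv_mem hnY), fun b hb => ?_⟩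
      have h1 := g4 _ (conj_inv_mem_of_normalizer hnY hb)
      have e : n * g * n⁻¹ * b * (n * g * n⁻¹)⁻¹ * b⁻¹ =
          n * (g * (n⁻¹ * b * n) * g⁻¹ * (n⁻¹ * b * n)⁻¹) * n⁻¹ := by group
      rw [e]; exact conj_mem_of_normalizer hn h1
    have hSK : T ≤ normalizer (Kk (R₁ i) Y : Set G) := by
      intro g hg
      exact mem_normalizer_of_conj fun x hx => hNK g (t.SR hg) x hx
    have hcomm : ∀ x ∈ Kk (R₁ i) Y, y⁻¹ * x * y * x⁻¹ ∈ R₁ i := by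
      rintro x ⟨x1, x3, x4⟩
      have h1 := x4 y hy
      have h2 : x * y * x⁻¹ ∈ Y := conj_mem_of_normalizer x3 hy
      have e : y⁻¹ * x * y * x⁻¹ = x * y * x⁻¹ * y⁻¹ := by
        calc y⁻¹ * x * y * x⁻¹ = y⁻¹ * (x * y * x⁻¹) := by group
          _ = x * y * x⁻¹ * y⁻¹ := t.Y_comm (inv_mem hy) h2
      rw [e]
      exact h1
    obtain ⟨ρ, hρ, hρK⟩ := Avg.avg (X := Kk (R₁ i) Y) (P := T ⊓ Kk (R₁ i) Y) (Y := R₁ i)
      (D := ⊥) inf_le_right (odd_rel t.SR t.odd (fun x hx => hx.1) hSK) bot_le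
      (fun x hx r hr => conj_mem_of_normalizer hx.1 hr)
      (fun x _ r hr => by rw [mem_bot.1 hr, mul_one, mul_inv_cancel]; exact one_mem _)
      (fun x _ r hr => by rw [mem_bot.1 hr, mul_one, mul_inv_cancel]; exact one_mem _)
      (fun r hr => by rw [t.s₁.B_sq i r (t.s₁.R_B i hr)]; exact one_mem _) (c := y) hcomm
      (by
        rintro x ⟨hxS, hxK⟩
        have h1 : y⁻¹ * x * y * x⁻¹ ∈ ⨅ m, YY (B₁ m) (C₁ m) := by
          have h2 := conj_mem_of_normalizer (t.s₁.nD (t.SV₁ hxS)) hd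
          have e : y⁻¹ * x * y * x⁻¹ = y⁻¹ * (x * y * x⁻¹) := by group
          rw [e]
          exact mul_mem (inv_mem hd) h2
        rw [t.s₁.D_R h1 (hcomm x hxK)]
        exact one_mem _)
    have hall : ∀ x ∈ Kk (R₁ i) Y, x * (y * ρ) = y * ρ * x := by
      intro x hx
      have h1 := mem_bot.1 (hρK x hx)
      have h2 : x * (y * ρ) * x⁻¹ = y * ρ := by
        have h3 : (y * ρ) * ((y * ρ)⁻¹ * x * (y * ρ) * x⁻¹) = y * ρ := by rw [h1, mul_one]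
        calc x * (y * ρ) * x⁻¹ = (y * ρ) * ((y * ρ)⁻¹ * x * (y * ρ) * x⁻¹) := by group
          _ = y * ρ := h3
      exact mul_inv_eq_iff_eq_mul.1 h2
    have hρ1 : ρ = 1 := by
      apply hτR ρ hρ
      have h1 := hall τ hτK
      have h2 := hτD y hd
      have h3 : y * (τ * ρ) = y * (ρ * τ) := by
        calc y * (τ * ρ) = (y * τ) * ρ := by group
          _ = τ * y * ρ := by rw [← h2]
          _ = τ * (y * ρ) := by group
          _ = y * ρ * τ := h1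
          _ = y * (ρ * τ) := by group
      exact mul_left_cancel h3
    intro g hg
    have := hall g hg
    rwa [hρ1, mul_one] at this
  · intro hall
    obtain ⟨r, hr, d, hd, e⟩ := t.exists_RD hy
    have h1 := hall τ hτK
    have h2 := hτD d hd
    have h3 : τ * r = r * τ := by
      rw [e] at h1
      have h4 : τ * r * d = r * τ * d := by
        calc τ * r * d = τ * (r * d) := by group
          _ = r * d * τ := h1
          _ = r * (d * τ) := by group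
          _ = r * (τ * d) := by rw [h2]
          _ = r * τ * d := by group
      exact mul_right_cancel h4
    rw [e, hτR r hr h3, one_mul]
    exact hd

/-- **(7)** the fixed point groups `D₁`, `D₂` are trivial (`q ≥ 4`) -/
theorem D_eq_bot [Finite G] (h₁ : ∃ τ ∈ ⨆ k, B₁ k, τ ∈ normalizer (R₁ i : Set G) ∧ ∀ r ∈ R₁ i, τ * r = r * τ → r = 1)
    (h₂ : ∃ τ ∈ ⨆ k, B₂ k, τ ∈ normalizer (R₂ j : Set G) ∧ ∀ r ∈ R₂ j, τ * r = r * τ → r = 1) :
    (⨅ m, YY (B₁ m) (C₁ m)) = ⊥ := by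
  obtain ⟨τ₁, a1, a2, a3⟩ := h₁
  obtain ⟨τ₂, b1, b2, b3⟩ := h₂
  have hD1 : ∀ y, y ∈ ⨅ m, YY (B₁ m) (C₁ m) ↔ y ∈ YY (B₁ i) (C₁ i) ∧
      ∀ g ∈ Kk (R₁ i) (YY (B₁ i) (C₁ i)), g * y = y * g := by
    intro y
    constructor
    · intro hd
      have hy := mem_iInf.1 hd i
      exact ⟨hy, (t.D_iff τ₁ a1 a2 a3 hy).1 hd⟩
    · rintro ⟨hy, h⟩
      exact (t.D_iff τ₁ a1 a2 a3 hy).2 h
  have hD2 : ∀ y, y ∈ ⨅ m, YY (B₂ m) (C₂ m) ↔ y ∈ YY (B₁ i) (C₁ i) ∧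
      ∀ g ∈ Kk (R₁ i) (YY (B₁ i) (C₁ i)), g * y = y * g := by
    intro y
    rw [t.YY_eq_YY, t.hR]
    constructor
    · intro hd
      have hy := mem_iInf.1 hd j
      exact ⟨hy, (t.symm.D_iff τ₂ b1 b2 b3 hy).1 hd⟩
    · rintro ⟨hy, h⟩
      exact (t.symm.D_iff τ₂ b1 b2 b3 hy).2 h
  have hE : (⨅ m, YY (B₁ m) (C₁ m)) = ⨅ m, YY (B₂ m) (C₂ m) := by
    ext y
    rw [hD1, hD2]
  have hle : (⨅ m, YY (B₁ m) (C₁ m)) ≤ YY (B₁ i) (C₁ i) := iInf_le _ i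
  refine t.NL _ (t.Y_isPGroup.to_le hle) t.s₁.nD ?_ ?_
  · rw [hE]; exact t.s₂.nD
  · intro n hn
    refine mem_normalizer_of_conj fun y hy => ?_
    obtain ⟨h1, h2⟩ := (hD1 y).1 hy
    refine (hD1 _).2 ⟨conj_mem_of_normalizer (t.s₁.nY i hn) h1, fun g hg => ?_⟩
    have h3 : n⁻¹ * g * n ∈ Kk (R₁ i) (YY (B₁ i) (C₁ i)) := by
      obtain ⟨g1, g3, g4⟩ := hg
      have hn' := inv_mem hn
      have hnY := t.s₁.nY i hn
      refine ⟨mul_mem (mul_mem hn' g1) hn, mul_mem (mul_mem (inv_mem hnY) g3) hnY, fun b hb => ?_⟩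
      have h1 := g4 _ (conj_mem_of_normalizer hnY hb)
      have e : n⁻¹ * g * n * b * (n⁻¹ * g * n)⁻¹ * b⁻¹ =
          n⁻¹ * (g * (n * b * n⁻¹) * g⁻¹ * (n * b * n⁻¹)⁻¹) * n := by group
      rw [e]; exact conj_inv_mem_of_normalizer hn h1
    have h4 := h2 _ h3
    calc g * (n * y * n⁻¹) = n * (n⁻¹ * g * n * y) * n⁻¹ := by group
      _ = n * (y * (n⁻¹ * g * n)) * n⁻¹ := by rw [h4]
      _ = n * y * n⁻¹ * g := by group

/-- **`C_G(W₁ W₂) = R`** without any hypothesis on `Z(S)` -/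
theorem YY_eq [Finite G] (h₁ : ∃ τ ∈ ⨆ k, B₁ k, τ ∈ normalizer (R₁ i : Set G) ∧ ∀ r ∈ R₁ i, τ * r = r * τ → r = 1)
    (h₂ : ∃ τ ∈ ⨆ k, B₂ k, τ ∈ normalizer (R₂ j : Set G) ∧ ∀ r ∈ R₂ j, τ * r = r * τ → r = 1) :
    YY (B₁ i) (C₁ i) = R₁ i := by
  refine le_antisymm (fun y hy => ?_) (t.s₁.R_Y i)
  obtain ⟨r, hr, d, hd, rfl⟩ := t.exists_RD hy
  rw [t.D_eq_bot h₁ h₂] at hd
  rw [mem_bot.1 hd, mul_one]
  exact hr

end TwoT

end Cfsg.Agent.Omega.IId.M4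

end

section


/-!
# II.0h1, mixed pairs, `q = 2`: one side (`|V| = 4`)

* `SideW.dich` : for `w ∈ C i`, `k ≠ i` : `w ∈ V D` or `[w, u] ∈ ρ B₀` for some `u ∈ T k`, `R k = {1, ρ}`;
* `SideW.C_le` : `C i ≤ U Y` for a subgroup `U ≥ R i` invariant under `X` and `C(Y)`;
* `SideW.exists_three` : an element of order a power of 3 in `X`, permuting the points of `V` transitively.
-/

set_option autoImplicit false
set_option linter.unusedSectionVars false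

namespace Cfsg.Agent.Omega.MixOne

open Subgroup Cfsg.Agent.Omega.BTwo Cfsg.Agent.Omega.Mix

variable {G : Type*} [Group G] {ι : Type*}

/-- the elements of a four-group -/
theorem mem_four [Finite G] {V : Subgroup G} (hc : Nat.card V = 4) {ρ σ : G} (hρ : ρ ∈ V) (hσ : σ ∈ V) (h1 : ρ ≠ 1)
    (h2 : σ ≠ 1) (h3 : ρ ≠ σ) (hρρ : ρ * ρ = 1) : ∀ v ∈ V, v = 1 ∨ v = ρ ∨ v = σ ∨ v = ρ * σ := by
  classical
  have e1 : ρ * σ ≠ 1 := by
    intro h
    apply h3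
    calc ρ = ρ * (ρ * σ) := by rw [h, mul_one]
      _ = σ := by rw [← mul_assoc, hρρ, one_mul]
  have e2 : ρ * σ ≠ ρ := fun h => h2 (mul_eq_left.1 h)
  have e3 : ρ * σ ≠ σ := fun h => h1 (mul_eq_right.1 h)
  have h4 : ({1, ρ, σ, ρ * σ} : Finset G).card = 4 := by
    rw [Finset.card_insert_of_notMem, Finset.card_insert_of_notMem, Finset.card_insert_of_notMem,
      Finset.card_singleton]
    · simp only [Finset.mem_singleton]; exact e3.symm
    · simp only [Finset.mem_insert, Finset.mem_singleton, not_or]; exact ⟨h3, e2.symm⟩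
    · simp only [Finset.mem_insert, Finset.mem_singleton, not_or]
      exact ⟨h1.symm, h2.symm, e1.symm⟩
  have hs : ((({1, ρ, σ, ρ * σ} : Finset G) : Finset G) : Set G) ⊆ (V : Set G) := by
    intro x hx
    simp only [Finset.coe_insert, Finset.coe_singleton, Set.mem_insert_iff, Set.mem_singleton_iff] at hx
    rcases hx with rfl | rfl | rfl | rfl
    · exact one_mem _
    · exact hρ
    · exact hσ
    · exact V.mul_mem hρ hσ
  have h5 : (V : Set G).ncard = 4 := by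
    rw [← hc]; rfl
  have h6 := Set.eq_of_subset_of_ncard_le hs (by rw [h5, Set.ncard_coe_finset, h4]) (Set.toFinite _)
  intro v hv
  have h7 : v ∈ (V : Set G) := hv
  rw [← h6] at h7
  simpa only [_root_.Finset.coe_insert, _root_.Finset.coe_singleton, _root_.Set.mem_insert_iff, _root_.Set.mem_singleton_iff] using h7

/-- the normaliser of a group of order 2 -/
theorem normalizer_two {K : Subgroup G} {r : G} (h : ∀ g, g ∈ K ↔ g = 1 ∨ g = r) (hr : r ≠ 1) :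
    normalizer (K : Set G) = centralizer ({r} : Set G) := by
  ext g
  rw [mem_centralizer_singleton_iff]
  constructor
  · intro hg
    have h1 := conj_mem_of_normalizer hg ((h r).2 (Or.inr rfl))
    rcases (h _).1 h1 with h2 | h2
    · exfalso
      apply hr
      have e : r = g⁻¹ * (g * r * g⁻¹) * g := by group
      rw [e, h2]; group
    · exact mul_inv_eq_iff_eq_mul.1 h2
  · intro hg
    rw [mem_normalizer_iff]
    intro x
    rw [h, h]
    have e : g * r * g⁻¹ = r := by rw [hg, mul_inv_cancel_right]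
    constructor
    · rintro (rfl | rfl)
      · left; group
      · right; exact e
    · rintro (h1 | h1)
      · left
        have e2 : x = g⁻¹ * (g * x * g⁻¹) * g := by group
        rw [e2, h1]; group
      · right
        have e2 : x = g⁻¹ * (g * x * g⁻¹) * g := by group
        rw [e2, h1, mul_assoc, ← hg]; group

namespace SideW

variable {V : Subgroup G} {R B C : ι → Subgroup G} (s : SideW V R B C)
include s

/-- `[T m, T k] ≤ B₀` -/
theorem TT_B0 {m k : ι} (hmk : m ≠ k) {t u : G} (ht : t ∈ TT V (B m)) (hu : u ∈ TT V (B k)) :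
    t * u * t⁻¹ * u⁻¹ ∈ ⨅ l, B l := by
  refine s.mem_B0 hmk ?_ ?_
  · exact TT_le _ _ (s.comm_mem_T' (mem_TT.1 hu).2 (TT_le _ _ ht))
  · exact TT_le _ _ (s.comm_mem_T (mem_TT.1 ht).2 (TT_le _ _ hu))

/-- for `|V| = 4` : an element of `B k` commuting with an element of `V` outside `R k` commutes with `V` -/
theorem comm_of [Finite G] (hc : Nat.card V = 4) {k : ι} {ρ : G} (hρ1 : ρ ≠ 1) (hρ : ∀ g, g ∈ R k ↔ g = 1 ∨ g = ρ)
    {b v₀ : G} (hb : b ∈ B k) (hv₀ : v₀ ∈ V) (hv₁ : v₀ ∉ R k) (h : b * v₀ = v₀ * b) : ∀ v ∈ V, b * v = v * b := by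
  have hρR : ρ ∈ R k := (hρ ρ).2 (Or.inr rfl)
  have hρV := s.R_V k hρR
  have h1 : b * ρ = ρ * b := s.B_comm k b hb ρ (s.R_B k hρR)
  have h0 : v₀ ≠ 1 := fun h => hv₁ (by rw [h]; exact one_mem _)
  have h2 : ρ ≠ v₀ := fun h => hv₁ (by rw [← h]; exact hρR)
  intro v hv
  rcases mem_four hc hρV hv₀ hρ1 h0 h2 (s.B_sq k ρ (s.R_B k hρR)) v hv with rfl | rfl | rfl | rfl
  · rw [mul_one, one_mul]
  · exact h1
  · exact h
  · rw [← mul_assoc, h1, mul_assoc, h, mul_assoc]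

variable (hRD : ∀ k, ∀ y ∈ YY (B k) (C k), ∃ ρ ∈ R k, ∃ d ∈ ⨅ m, YY (B m) (C m), y = ρ * d)

include hRD in
/-- **the dichotomy** -/
theorem dich [Finite G] (hc : Nat.card V = 4) {i k : ι} (hki : k ≠ i) {ρ : G} (hρ1 : ρ ≠ 1)
    (hρ : ∀ g, g ∈ R k ↔ g = 1 ∨ g = ρ) {w : G} (hw : w ∈ C i) :
    (∃ v ∈ V, ∃ d ∈ ⨅ m, YY (B m) (C m), w = v * d) ∨
      ∃ u ∈ TT V (B k), ∃ β ∈ ⨅ m, B m, w * u * w⁻¹ * u⁻¹ = ρ * β := by
  obtain ⟨m, hmi, hmk, b, hb, e⟩ := s.trans_B i k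
  obtain ⟨t, ht, hwt⟩ := s.split hb (s.C_V hw)
  have hck : b * w * b⁻¹ ∈ C k := by rw [← s.cC b i k e]; exact conj_mem_cj hw
  set c := b * w * b⁻¹ with hcdef
  have htV := (mem_TT.1 ht).2
  have hρR : ρ ∈ R k := (hρ ρ).2 (Or.inr rfl)
  -- `[w, u] = [c, u] [t, u]`
  have hwu : ∀ u ∈ TT V (B k), w * u * w⁻¹ * u⁻¹ = (c * u * c⁻¹ * u⁻¹) * (t * u * t⁻¹ * u⁻¹) := by
    intro u hu
    have h1 := s.CB k c hck u (TT_le _ _ hu)
    have h2 := htV _ (s.R_V k h1)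
    rw [hwt]
    calc t * c * u * (t * c)⁻¹ * u⁻¹ = (t * (c * u * c⁻¹ * u⁻¹)) * (u * t⁻¹ * u⁻¹) := by group
      _ = ((c * u * c⁻¹ * u⁻¹) * t) * (u * t⁻¹ * u⁻¹) := by rw [h2]
      _ = (c * u * c⁻¹ * u⁻¹) * (t * u * t⁻¹ * u⁻¹) := by group
  by_cases hall : ∀ u ∈ TT V (B k), w * u * w⁻¹ * u⁻¹ ∈ ⨅ l, B l
  swap
  · right
    push Not at hall
    obtain ⟨u, hu, hn⟩ := hall
    have h1 := s.CB k c hck u (TT_le _ _ hu)
    have h2 := s.TT_B0 hmk ht hu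
    have h3 := hwu u hu
    rcases (hρ _).1 h1 with h4 | h4
    · rw [h4, one_mul] at h3
      rw [h3] at hn
      exact absurd h2 hn
    · exact ⟨u, hu, _, h2, by rw [h3, h4]⟩
  left
  -- `c` commutes with `T k`
  have hcT : ∀ u ∈ TT V (B k), c * u = u * c := by
    intro u hu
    have h1 := s.CB k c hck u (TT_le _ _ hu)
    have h2 := s.TT_B0 hmk ht hu
    have h3 : c * u * c⁻¹ * u⁻¹ ∈ ⨅ l, B l := by
      have h4 := mul_mem (hall u hu) (inv_mem h2)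
      rw [hwu u hu, mul_inv_cancel_right] at h4
      exact h4
    exact comm_of_eq_one (s.D_R (s.B0_le_D h3) h1)
  -- an element of `B k` moving `V`
  obtain ⟨b₀, hb₀, hbV⟩ := s.exists_move hki
  push Not at hbV
  obtain ⟨v₀, hv₀, hne⟩ := hbV
  have hv₀k : v₀ ∉ R k := fun h => hne (s.B_comm k b₀ hb₀ v₀ (s.R_B k h))
  have hvb : v₀ * b₀ * v₀⁻¹ * b₀⁻¹ = ρ := by
    rcases (hρ _).1 (s.CB k v₀ (s.V_C k hv₀) b₀ hb₀) with h | h
    · exact absurd (comm_of_eq_one h).symm hne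
    · exact h
  have hρρ : ρ * ρ = 1 := s.B_sq k ρ (s.R_B k hρR)
  have dec : ∀ b' ∈ B k, b' ∈ TT V (B k) ∨ b₀ * b' ∈ TT V (B k) := by
    intro b' hb'
    rcases (hρ _).1 (s.CB k v₀ (s.V_C k hv₀) b' hb') with h | h
    · left
      exact mem_TT.2 ⟨hb', s.comm_of hc hρ1 hρ hb' hv₀ hv₀k (comm_of_eq_one h).symm⟩
    · right
      refine mem_TT.2 ⟨mul_mem hb₀ hb', s.comm_of hc hρ1 hρ (mul_mem hb₀ hb') hv₀ hv₀k (comm_of_eq_one ?_).symm⟩
      have hb₀ρ : b₀ * ρ = ρ * b₀ := s.B_comm k b₀ hb₀ ρ (s.R_B k hρR)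
      calc v₀ * (b₀ * b') * v₀⁻¹ * (b₀ * b')⁻¹
          = (v₀ * b₀ * v₀⁻¹ * b₀⁻¹) * (b₀ * (v₀ * b' * v₀⁻¹ * b'⁻¹)) * b₀⁻¹ := by group
        _ = ρ * (ρ * b₀) * b₀⁻¹ := by rw [hvb, h, hb₀ρ]
        _ = ρ * ρ := by group
        _ = 1 := hρρ
  -- `c = v' d`
  have hY : ∀ c' ∈ C k, (∀ u ∈ TT V (B k), c' * u = u * c') → c' * b₀ = b₀ * c' → c' ∈ YY (B k) (C k) := by
    intro c' hc' h1 h2
    rw [mem_YY]
    refine ⟨fun b' hb' => ?_, fun a ha => s.C_comm k c' hc' a ha⟩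
    rcases dec b' hb' with h | h
    · exact h1 b' h
    · have h3 := h1 _ h
      have h4 : b₀ * (c' * b') = b₀ * (b' * c') := by
        calc b₀ * (c' * b') = (b₀ * c') * b' := by group
          _ = c' * (b₀ * b') := by rw [← h2]; group
          _ = b₀ * b' * c' := h3
          _ = b₀ * (b' * c') := by group
      exact mul_left_cancel h4
  obtain ⟨v', hv', d, hd, hcv⟩ : ∃ v' ∈ V, ∃ d ∈ ⨅ m, YY (B m) (C m), c = v' * d := by
    rcases (hρ _).1 (s.CB k c hck b₀ hb₀) with h | h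
    · obtain ⟨ρ', hρ', d, hd, h1⟩ := hRD k c (hY c hck hcT (comm_of_eq_one h))
      exact ⟨ρ', s.R_V k hρ', d, hd, h1⟩
    · have h1 : v₀ * c ∈ YY (B k) (C k) := by
        refine hY (v₀ * c) (mul_mem (s.V_C k hv₀) hck) (fun u hu => ?_) (comm_of_eq_one ?_)
        · have h2 := hcT u hu
          have h3 := (mem_TT.1 hu).2 v₀ hv₀
          calc v₀ * c * u = v₀ * (c * u) := by group
            _ = (v₀ * u) * c := by rw [h2]; group
            _ = u * (v₀ * c) := by rw [← h3]; group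
        · have hvρ : v₀ * ρ = ρ * v₀ := s.V_comm hv₀ (s.R_V k hρR) k
          calc v₀ * c * b₀ * (v₀ * c)⁻¹ * b₀⁻¹
              = v₀ * (c * b₀ * c⁻¹ * b₀⁻¹) * (b₀ * v₀⁻¹ * b₀⁻¹) := by group
            _ = (v₀ * ρ) * (b₀ * v₀⁻¹ * b₀⁻¹) := by rw [h]
            _ = ρ * (v₀ * b₀ * v₀⁻¹ * b₀⁻¹) := by rw [hvρ]; group
            _ = 1 := by rw [hvb, hρρ]
      obtain ⟨ρ', hρ', d, hd, h2⟩ := hRD k _ h1
      exact ⟨v₀⁻¹ * ρ', mul_mem (inv_mem hv₀) (s.R_V k hρ'), d, hd, by rw [mul_assoc, ← h2]; group⟩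
  -- `t ∈ Y m`
  have htY : t ∈ YY (B m) (C m) := by
    rw [mem_YY]
    refine ⟨fun b' hb' => s.B_comm m t (TT_le _ _ ht) b' hb', fun c₁ hc₁ => ?_⟩
    obtain ⟨b', hb', e'⟩ := s.trans k m i hmk (Ne.symm hki)
    obtain ⟨t', ht', hct⟩ := s.split hb' (s.C_V hc₁)
    have hc₂ : b' * c₁ * b'⁻¹ ∈ C i := by rw [← s.cC b' m i e']; exact conj_mem_cj hc₁
    set c₂ := b' * c₁ * b'⁻¹ with hc₂def
    -- `t` commutes with `c₂`
    have h1 : t * c₂ = c₂ * t := by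
      have hw2 : w * c₂ = c₂ * w := s.C_comm i w hw c₂ hc₂
      have hv2 : v' * c₂ = c₂ * v' := s.C_comm i v' (s.V_C i hv') c₂ hc₂
      have hd2 : d * c₂ = c₂ * d := (mem_YY.1 (mem_iInf.1 hd i)).2 c₂ hc₂
      have hc2 : c * c₂ = c₂ * c := by
        rw [hcv]
        calc v' * d * c₂ = v' * (d * c₂) := by group
          _ = (v' * c₂) * d := by rw [hd2]; group
          _ = c₂ * (v' * d) := by rw [hv2]; group
      have h3 : (t * c₂) * c = (c₂ * t) * c := by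
        calc (t * c₂) * c = t * (c₂ * c) := by group
          _ = (t * c) * c₂ := by rw [← hc2]; group
          _ = c₂ * (t * c) := by rw [← hwt, hw2]
          _ = (c₂ * t) * c := by group
      exact mul_right_cancel h3
    have h2 : t * c₁ * t⁻¹ * c₁⁻¹ ∈ ⨅ l, B l := by
      have h3 : t * c₁ * t⁻¹ * c₁⁻¹ = t * t' * t⁻¹ * t'⁻¹ := by
        rw [hct]
        calc t * (t' * c₂) * t⁻¹ * (t' * c₂)⁻¹ = t * t' * (c₂ * t⁻¹) * c₂⁻¹ * t'⁻¹ := by group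
          _ = t * t' * (t⁻¹ * c₂) * c₂⁻¹ * t'⁻¹ := by
            have h1' : c₂ * t⁻¹ = t⁻¹ * c₂ := by
              calc c₂ * t⁻¹ = t⁻¹ * (t * c₂) * t⁻¹ := by group
                _ = t⁻¹ * (c₂ * t) * t⁻¹ := by rw [h1]
                _ = t⁻¹ * c₂ := by group
            rw [h1']
          _ = t * t' * t⁻¹ * t'⁻¹ := by group
      rw [h3]
      exact s.TT_B0 hmk ht ht'
    have h3 : t * c₁ * t⁻¹ * c₁⁻¹ ∈ R m := by
      have h4 := inv_mem (s.CB m c₁ hc₁ t (TT_le _ _ ht))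
      have e3 : (c₁ * t * c₁⁻¹ * t⁻¹)⁻¹ = t * c₁ * t⁻¹ * c₁⁻¹ := by group
      rwa [e3] at h4
    exact comm_of_eq_one (s.D_R (s.B0_le_D h2) h3)
  obtain ⟨ρ'', hρ'', d'', hd'', h5⟩ := hRD m t htY
  refine ⟨ρ'' * v', mul_mem (s.R_V m hρ'') hv', d'' * d, mul_mem hd'' hd, ?_⟩
  have h6 : d'' * v' = v' * d'' := (mem_YY.1 (mem_iInf.1 hd'' m)).2 v' (s.V_C m hv')
  calc w = t * c := hwt
    _ = ρ'' * (d'' * v') * d := by rw [h5, hcv]; group
    _ = ρ'' * v' * (d'' * d) := by rw [h6]; group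

/-- a point `R k` has an element of order 2, if `R i` has order 2 -/
theorem exists_rho [Finite G] {i : ι} {r : G} (hr1 : r ≠ 1) (hr : ∀ g, g ∈ R i ↔ g = 1 ∨ g = r) (k : ι) :
    ∃ ρ, ρ ≠ 1 ∧ ∀ g, g ∈ R k ↔ g = 1 ∨ g = ρ := by
  obtain ⟨m, -, -, x, -, e⟩ := s.trans_B i k
  refine ⟨x * r * x⁻¹, fun h => hr1 ?_, fun g => ?_⟩
  · have e2 : r = x⁻¹ * (x * r * x⁻¹) * x := by group
    rw [e2, h]; group
  · rw [← e, mem_cj, hr]
    have e2 : g = x * (x⁻¹ * g * x) * x⁻¹ := by group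
    constructor
    · rintro (h | h)
      · left; rw [e2, h]; group
      · right; rw [e2, h]
    · rintro (rfl | rfl)
      · left; group
      · right; group

include hRD in
/-- `C i ≤ U Y i` -/
theorem C_le [Finite G] (hc : Nat.card V = 4) {i : ι} {r : G} (hr1 : r ≠ 1) (hr : ∀ g, g ∈ R i ↔ g = 1 ∨ g = r)
    {L U : Subgroup G} (hU : ∀ g ∈ L, ∀ u ∈ U, g * u * g⁻¹ ∈ U) (hX : ∀ k, B k ≤ L)
    (hK : centralizer (YY (B i) (C i) : Set G) ≤ L) (hrU : r ∈ U)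
    (gen : ∀ K : Subgroup G, (∀ h ∈ normalizer (R i : Set G), cj h V ≤ K) → C i ≤ K) :
    C i ≤ U ⊔ YY (B i) (C i) := by
  have hRU : ∀ k, R k ≤ U := by
    intro k
    obtain ⟨m, -, -, x, hx, e⟩ := s.trans_B i k
    rw [← e, cj_le_iff]
    intro g hg
    refine hU x (hX m hx) g ?_
    rcases (hr g).1 hg with rfl | rfl
    · exact one_mem _
    · exact hrU
  obtain ⟨k, hki, -⟩ := s.third i i
  obtain ⟨ρ, hρ1, hρ⟩ := s.exists_rho hr1 hr k
  have hrR : r ∈ R i := (hr r).2 (Or.inr rfl)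
  have hρR : ρ ∈ R k := (hρ ρ).2 (Or.inr rfl)
  have hrρ : r ≠ ρ := by
    intro h
    have h1 : r ∈ R i ⊓ R k := ⟨hrR, by rw [h]; exact hρR⟩
    rw [s.R_inf i k (Ne.symm hki)] at h1
    exact hr1 (mem_bot.1 h1)
  have hV4 := mem_four hc (s.R_V i hrR) (s.R_V k hρR) hr1 hρ1 hrρ (s.B_sq i r (s.R_B i hrR))
  have hYU : YY (B i) (C i) ≤ U ⊔ YY (B i) (C i) := le_sup_right
  have hUU : U ≤ U ⊔ YY (B i) (C i) := le_sup_left
  refine gen _ fun h hh => ?_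
  rw [cj_le_iff]
  have hhr : h * r * h⁻¹ ∈ U ⊔ YY (B i) (C i) := by
    have h1 := conj_mem_of_normalizer hh hrR
    exact hUU (hRU i h1)
  -- the element `ρ`
  have hhρ : h * ρ * h⁻¹ ∈ U ⊔ YY (B i) (C i) := by
    have hw : h⁻¹ * ρ * h ∈ C i := conj_inv_mem_of_normalizer (s.nC i hh) (s.V_C i (s.R_V k hρR))
    rcases s.dich hRD hc hki hρ1 hρ hw with ⟨v, hv, d, hd, h1⟩ | ⟨u, hu, β, hβ, h1⟩
    · have hdY : h * d * h⁻¹ ∈ YY (B i) (C i) := conj_mem_of_normalizer (s.nY i hh) (mem_iInf.1 hd i)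
      have h2 : ρ = (h * v * h⁻¹) * (h * d * h⁻¹) := by
        calc ρ = h * (h⁻¹ * ρ * h) * h⁻¹ := by group
          _ = h * (v * d) * h⁻¹ := by rw [h1]
          _ = (h * v * h⁻¹) * (h * d * h⁻¹) := by group
      have h3 : h * v * h⁻¹ = ρ * (h * d * h⁻¹)⁻¹ := by
        rw [eq_mul_inv_iff_mul_eq]; exact h2.symm
      have h4 : h * v * h⁻¹ ∈ U ⊔ YY (B i) (C i) := by
        rw [h3]
        exact mul_mem (hUU (hRU k hρR)) (inv_mem (hYU hdY))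
      have hno : v ∉ R i := by
        intro hv'
        have h5 : ρ ∈ YY (B i) (C i) := by
          rw [h2]
          exact mul_mem (s.R_Y i (conj_mem_of_normalizer hh hv')) hdY
        have h6 : ρ ∈ R i := s.VB i ρ (s.R_V k hρR) fun b hb => ((mem_YY.1 h5).1 b hb).symm
        rcases (hr ρ).1 h6 with h7 | h7
        · exact hρ1 h7
        · exact hrρ h7.symm
      rcases hV4 v hv with rfl | rfl | rfl | rfl
      · exact absurd (one_mem _) hno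
      · exact absurd hrR hno
      · exact h4
      · have e : h * ρ * h⁻¹ = (h * r * h⁻¹)⁻¹ * (h * (r * ρ) * h⁻¹) := by group
        rw [e]
        exact mul_mem (inv_mem hhr) h4
    · have huK : u ∈ centralizer (YY (B i) (C i) : Set G) := by
        rw [mem_centralizer_iff]
        intro y hy
        obtain ⟨ρ', hρ', d, hd, rfl⟩ := hRD i y hy
        have h2 := (mem_TT.1 hu).2 ρ' (s.R_V i hρ')
        have h3 := D_comm hd k u (TT_le _ _ hu)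
        calc ρ' * d * u = ρ' * (d * u) := by group
          _ = (ρ' * u) * d := by rw [h3]; group
          _ = u * (ρ' * d) := by rw [← h2]; group
      have hu' : h * u * h⁻¹ ∈ L := by
        refine hK (conj_mem_of_normalizer (normalizer_le_normalizer_centralizer _ (s.nY i hh)) huK)
      have hβ' : h * β * h⁻¹ ∈ YY (B i) (C i) :=
        conj_mem_of_normalizer (s.nY i hh) (mem_iInf.1 (s.B0_le_D hβ) i)
      have h2 : h * ρ * h⁻¹ = ρ * ((h * u * h⁻¹) * ρ⁻¹ * (h * u * h⁻¹)⁻¹) * (h * β * h⁻¹)⁻¹ := by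
        have e1 : ρ = (h⁻¹ * ρ * h) * u * (h⁻¹ * ρ * h)⁻¹ * u⁻¹ * β⁻¹ := by rw [h1, mul_inv_cancel_right]
        calc h * ρ * h⁻¹ = h * ((h⁻¹ * ρ * h) * u * (h⁻¹ * ρ * h)⁻¹ * u⁻¹ * β⁻¹) * h⁻¹ := by rw [← e1]
          _ = ρ * ((h * u * h⁻¹) * ρ⁻¹ * (h * u * h⁻¹)⁻¹) * (h * β * h⁻¹)⁻¹ := by group
      rw [h2]
      exact mul_mem (mul_mem (hUU (hRU k hρR)) (hUU (hU _ hu' _ (inv_mem (hRU k hρR))))) (inv_mem (hYU hβ'))
  intro v hv
  rcases hV4 v hv with rfl | rfl | rfl | rfl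
  · have e : h * 1 * h⁻¹ = 1 := by group
    rw [e]; exact one_mem _
  · exact hhr
  · exact hhρ
  · have e : h * (r * ρ) * h⁻¹ = (h * r * h⁻¹) * (h * ρ * h⁻¹) := by group
    rw [e]; exact mul_mem hhr hhρ

/-- an element of order a power of 3 of `X` -/
theorem exists_three [Finite G] (hc : Nat.card V = 4) {i : ι} {r : G} (hr1 : r ≠ 1)
    (hr : ∀ g, g ∈ R i ↔ g = 1 ∨ g = r) : ∃ k, k ≠ i ∧ ∃ ρ, ρ ≠ 1 ∧ (∀ g, g ∈ R k ↔ g = 1 ∨ g = ρ) ∧ r ≠ ρ ∧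
      ∃ x ∈ ⨆ k, B k, (∃ n : ℕ, x ^ 3 ^ n = 1) ∧ x * r * x⁻¹ = ρ ∧ x * ρ * x⁻¹ = r * ρ := by
  obtain ⟨k, hki, -⟩ := s.third i i
  obtain ⟨ρ, hρ1, hρ⟩ := s.exists_rho hr1 hr k
  have hrR : r ∈ R i := (hr r).2 (Or.inr rfl)
  have hρR : ρ ∈ R k := (hρ ρ).2 (Or.inr rfl)
  have hrρ : r ≠ ρ := by
    intro h
    have h1 : r ∈ R i ⊓ R k := ⟨hrR, by rw [h]; exact hρR⟩
    rw [s.R_inf i k (Ne.symm hki)] at h1
    exact hr1 (mem_bot.1 h1)
  have hrr := s.B_sq i r (s.R_B i hrR)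
  have hρρ := s.B_sq k ρ (s.R_B k hρR)
  have hV4 := mem_four hc (s.R_V i hrR) (s.R_V k hρR) hr1 hρ1 hrρ hrr
  have hrρc : r * ρ = ρ * r := s.V_comm (s.R_V i hrR) (s.R_V k hρR) i
  refine ⟨k, hki, ρ, hρ1, hρ, hrρ, ?_⟩
  obtain ⟨b, hb, hbV⟩ := s.exists_move (Ne.symm hki)
  obtain ⟨c, hcB, hcV⟩ := s.exists_move hki
  have hbr : b * r * b⁻¹ = r := by
    rw [s.B_comm i b hb r (s.R_B i hrR), mul_inv_cancel_right]
  have hcρ : c * ρ * c⁻¹ = ρ := by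
    rw [s.B_comm k c hcB ρ (s.R_B k hρR), mul_inv_cancel_right]
  have hback : ∀ g x y : G, g * x * g⁻¹ = y → x = g⁻¹ * y * g := by
    rintro g x _ rfl; group
  have hbρ : b * ρ * b⁻¹ = r * ρ := by
    rcases hV4 _ (conj_mem_of_normalizer (s.B_NV i hb) (s.R_V k hρR)) with h | h | h | h
    · exfalso; apply hρ1; rw [hback _ _ _ h]; group
    · exfalso
      apply hrρ
      have h1 := hback _ _ _ h
      have h2 := hback _ _ _ hbr
      rw [h1, ← h2]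
    · exfalso
      apply hbV
      exact s.comm_of hc hr1 hr hb (s.R_V k hρR) (fun h1 => by
        rcases (hr ρ).1 h1 with h2 | h2
        · exact hρ1 h2
        · exact hrρ h2.symm) (mul_inv_eq_iff_eq_mul.1 h)
    · exact h
  have hcr : c * r * c⁻¹ = r * ρ := by
    rcases hV4 _ (conj_mem_of_normalizer (s.B_NV k hcB) (s.R_V i hrR)) with h | h | h | h
    · exfalso; apply hr1; rw [hback _ _ _ h]; group
    · exfalso
      apply hcV
      exact s.comm_of hc hρ1 hρ hcB (s.R_V i hrR) (fun h1 => by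
        rcases (hρ r).1 h1 with h2 | h2
        · exact hr1 h2
        · exact hrρ h2) (mul_inv_eq_iff_eq_mul.1 h)
    · exfalso
      apply hrρ
      have h1 := hback _ _ _ h
      have h2 := hback _ _ _ hcρ
      rw [h1, ← h2]
    · exact h
  -- `g = b c`
  set g := b * c with hg
  have g1 : g * r * g⁻¹ = ρ := by
    calc g * r * g⁻¹ = b * (c * r * c⁻¹) * b⁻¹ := by rw [hg]; group
      _ = (b * r * b⁻¹) * (b * ρ * b⁻¹) := by rw [hcr]; group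
      _ = r * r * ρ := by rw [hbr, hbρ]; group
      _ = ρ := by rw [hrr, one_mul]
  have g2 : g * ρ * g⁻¹ = r * ρ := by
    calc g * ρ * g⁻¹ = b * (c * ρ * c⁻¹) * b⁻¹ := by rw [hg]; group
      _ = r * ρ := by rw [hcρ, hbρ]
  have g3 : g * (r * ρ) * g⁻¹ = r := by
    calc g * (r * ρ) * g⁻¹ = (g * r * g⁻¹) * (g * ρ * g⁻¹) := by group
      _ = ρ * (r * ρ) := by rw [g1, g2]
      _ = r * (ρ * ρ) := by rw [← mul_assoc, ← hrρc]; group
      _ = r := by rw [hρρ, mul_one]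
  have g3r : g ^ 3 * r * (g ^ 3)⁻¹ = r := by
    calc g ^ 3 * r * (g ^ 3)⁻¹ = g * (g * (g * r * g⁻¹) * g⁻¹) * g⁻¹ := by
          rw [pow_succ, pow_two]; group
      _ = r := by rw [g1, g2, g3]
  have g3ρ : g ^ 3 * ρ * (g ^ 3)⁻¹ = ρ := by
    calc g ^ 3 * ρ * (g ^ 3)⁻¹ = g * (g * (g * ρ * g⁻¹) * g⁻¹) * g⁻¹ := by
          rw [pow_succ, pow_two]; group
      _ = ρ := by rw [g2, g3, g1]
  have hgX : g ∈ ⨆ k, B k := mul_mem (mem_iSup_of_mem i hb) (mem_iSup_of_mem k hcB)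
  obtain ⟨a, m, hm, ho⟩ := Nat.exists_eq_pow_mul_and_not_dvd (n := orderOf g) (orderOf_pos g).ne' 3 (by norm_num)
  obtain ⟨q, hq⟩ : ∃ q, m * m = 3 * q + 1 := by
    have h1 : m % 3 = 1 ∨ m % 3 = 2 := by omega
    refine ⟨m * m / 3, ?_⟩
    have h2 : m * m % 3 = 1 := by
      rcases h1 with h1 | h1 <;> simp [Nat.mul_mod, h1]
    omega
  have hpow : g ^ (m * m) = (g ^ 3) ^ q * g := by
    rw [hq, pow_succ, pow_mul]
  have key : ∀ v : G, g ^ 3 * v * (g ^ 3)⁻¹ = v → (g ^ 3) ^ q * v * ((g ^ 3) ^ q)⁻¹ = v := by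
    intro v hv
    have h1 : Commute (g ^ 3) v := mul_inv_eq_iff_eq_mul.1 hv
    have h2 : (g ^ 3) ^ q * v = v * (g ^ 3) ^ q := (h1.pow_left q).eq
    rw [h2, mul_inv_cancel_right]
  refine ⟨g ^ (m * m), pow_mem hgX _, ⟨a, ?_⟩, ?_, ?_⟩
  · rw [← pow_mul]
    have e : m * m * 3 ^ a = orderOf g * m := by rw [ho]; ring
    rw [e, pow_mul, pow_orderOf_eq_one, one_pow]
  · rw [hpow]
    calc (g ^ 3) ^ q * g * r * ((g ^ 3) ^ q * g)⁻¹ = (g ^ 3) ^ q * (g * r * g⁻¹) * ((g ^ 3) ^ q)⁻¹ := by group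
      _ = ρ := by rw [g1, key ρ g3ρ]
  · rw [hpow]
    have h1 : (g ^ 3) ^ q * (r * ρ) * ((g ^ 3) ^ q)⁻¹ = r * ρ := by
      calc (g ^ 3) ^ q * (r * ρ) * ((g ^ 3) ^ q)⁻¹
          = ((g ^ 3) ^ q * r * ((g ^ 3) ^ q)⁻¹) * ((g ^ 3) ^ q * ρ * ((g ^ 3) ^ q)⁻¹) := by group
        _ = r * ρ := by rw [key r g3r, key ρ g3ρ]
    calc (g ^ 3) ^ q * g * ρ * ((g ^ 3) ^ q * g)⁻¹ = (g ^ 3) ^ q * (g * ρ * g⁻¹) * ((g ^ 3) ^ q)⁻¹ := by group
      _ = r * ρ := by rw [g2, h1]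

end SideW

end Cfsg.Agent.Omega.MixOne

end

section


/-!
# II.0h1, mixed pairs, `q = 2`: from the two sides (`TwoW`, `|V₁| = |V₂| = 4`, `R = {1, r}`, `Z(S) ≰ R`) to `QTwoKill.Sd`

`TwoQ.false` : `|S| ≤ 16`.
-/

set_option autoImplicit false
set_option linter.unusedSectionVars false

namespace Cfsg.Agent.Omega.MixOne

open Subgroup Cfsg.Agent.Omega.BTwo Cfsg.Agent.Omega.Mix
open Cfsg.Agent.Omega.MixOne.QTwoKill (Sd ce_one conj_of_comm comm_of_conj comm_conj comm_of_comm_conj comm_mul comm_inv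
  ce_conj)
open scoped commutatorElement

variable {G : Type*} [Group G] {ι κ : Type*}

/-- a 2-subgroup normalised by the Sylow subgroup `S` lies in `S` -/
theorem le_sylow [Finite G] (S : Sylow 2 G) {K : Subgroup G} (hK : IsPGroup 2 K)
    (hS : (S : Subgroup G) ≤ normalizer (K : Set G)) : K ≤ (S : Subgroup G) := by
  have : Fact (Nat.Prime 2) := ⟨Nat.prime_two⟩
  have h3 : IsPGroup 2 ((S : Subgroup G) ⊔ K : Subgroup G) := S.isPGroup'.to_sup_of_normal_right' hK hS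
  have h4 := S.is_maximal' h3 le_sup_left
  exact le_sup_right.trans_eq h4

/-- `⟨r^L⟩` -/
def UL (L : Subgroup G) (r : G) : Subgroup G := _root_.Subgroup.closure {g | ∃ l ∈ L, g = l * r * l⁻¹}

theorem mem_UL {L : Subgroup G} {r l : G} (hl : l ∈ L) : l * r * l⁻¹ ∈ UL L r := subset_closure ⟨l, hl, rfl⟩

theorem r_mem_UL (L : Subgroup G) (r : G) : r ∈ UL L r := by
  have := mem_UL (r := r) (one_mem L)
  rwa [one_mul, inv_one, mul_one] at this

theorem UL_conj {L : Subgroup G} {r g : G} (hg : g ∈ L) : ∀ u ∈ UL L r, g * u * g⁻¹ ∈ UL L r := by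
  intro u hu
  have h1 : UL L r ≤ (UL L r).comap (MulAut.conj g).toMonoidHom := by
    rw [UL, closure_le]
    rintro _ ⟨l, hl, rfl⟩
    have h2 : g * (l * r * l⁻¹) * g⁻¹ = (g * l) * r * (g * l)⁻¹ := by group
    change g * (l * r * l⁻¹) * g⁻¹ ∈ UL L r
    rw [h2]
    exact mem_UL (mul_mem hg hl)
  exact h1 hu

/-- `⟨r^L⟩ ≤ Z(O₂(L))` -/
theorem UL_center [Finite G] {S : Sylow 2 G} {L : Subgroup G} {r : G} (hL : (S : Subgroup G) ≤ L) (hch : Char2 L)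
    (hrL : r ∈ L) (hr : ∀ g ∈ (S : Subgroup G), g * r = r * g) :
    ∀ u ∈ UL L r, u ∈ O2 L ∧ ∀ q ∈ O2 L, u * q = q * u := by
  have hOS : O2 L ≤ (S : Subgroup G) := le_sylow S (O2_isPGroup L) (hL.trans (le_normalizer_O2 L))
  have hr1 : r ∈ O2 L ∧ ∀ q ∈ O2 L, r * q = q * r := by
    have h1 : ∀ q ∈ O2 L, r * q = q * r := fun q hq => (hr q (hOS hq)).symm
    exact ⟨hch r hrL h1, h1⟩
  let Zc : Subgroup G :=
    { carrier := {u | u ∈ O2 L ∧ ∀ q ∈ O2 L, u * q = q * u}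
      one_mem' := ⟨one_mem _, fun q _ => by rw [one_mul, mul_one]⟩
      mul_mem' := by
        rintro a b ⟨a1, a2⟩ ⟨b1, b2⟩
        exact ⟨mul_mem a1 b1, fun q hq => (comm_mul (a2 q hq).symm (b2 q hq).symm).symm⟩
      inv_mem' := by
        rintro a ⟨a1, a2⟩
        exact ⟨inv_mem a1, fun q hq => comm_inv (a2 q hq)⟩ }
  have h2 : UL L r ≤ Zc := by
    rw [UL, closure_le]
    rintro _ ⟨l, hl, rfl⟩
    have hlN := le_normalizer_O2 L hl
    refine ⟨conj_mem_of_normalizer hlN hr1.1, fun q hq => ?_⟩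
    have h3 := hr1.2 _ (conj_inv_mem_of_normalizer hlN hq)
    apply comm_of_comm_conj l⁻¹
    have e : l⁻¹ * (l * r * l⁻¹) * l⁻¹⁻¹ = r := by group
    rw [e, inv_inv]
    exact h3
  exact fun u hu => h2 hu

/-- the two sides for `q = 2`, with `Z(S) ≰ R` -/
structure TwoQ (V₁ V₂ : Subgroup G) (R₁ B₁ C₁ : ι → Subgroup G) (R₂ B₂ C₂ : κ → Subgroup G) (i : ι) (j : κ)
    (S : Sylow 2 G) (r : G) : Prop where
  t : TwoW V₁ V₂ R₁ B₁ C₁ R₂ B₂ C₂ i j S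
  char : ∀ K : Subgroup G, IsPGroup 2 K → K ≠ ⊥ → Char2 (normalizer (K : Set G))
  r1 : r ≠ 1
  mem_R : ∀ g, g ∈ R₁ i ↔ g = 1 ∨ g = r
  c₁ : Nat.card V₁ = 4
  c₂ : Nat.card V₂ = 4
  W₁Q : C₁ i ≤ O2 (normalizer (R₁ i : Set G))
  W₂Q : B₁ i ≤ O2 (normalizer (R₁ i : Set G))
  Q₁ : ∀ g ∈ O2 (normalizer (R₁ i : Set G)), ∀ b ∈ C₁ i, g * b * g⁻¹ * b⁻¹ ∈ R₁ i
  Q₂ : ∀ g ∈ O2 (normalizer (R₁ i : Set G)), ∀ b ∈ B₁ i, g * b * g⁻¹ * b⁻¹ ∈ R₁ i
  ext : ∃ z, z ∉ R₁ i ∧ ∀ s ∈ (S : Subgroup G), s * z = z * s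

variable {V₁ V₂ : Subgroup G} {R₁ B₁ C₁ : ι → Subgroup G} {R₂ B₂ C₂ : κ → Subgroup G} {i : ι} {j : κ} {S : Sylow 2 G}
  {r : G}

namespace TwoQ

theorem symm (q : TwoQ V₁ V₂ R₁ B₁ C₁ R₂ B₂ C₂ i j S r) : TwoQ V₂ V₁ R₂ B₂ C₂ R₁ B₁ C₁ j i S r where
  t := q.t.symm
  char := q.char
  r1 := q.r1
  mem_R := by rw [← q.t.hR]; exact q.mem_R
  c₁ := q.c₂
  c₂ := q.c₁
  W₁Q := by rw [← q.t.hR, ← q.t.hB]; exact q.W₂Q
  W₂Q := by rw [← q.t.hR, ← q.t.hC]; exact q.W₁Q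
  Q₁ := by rw [← q.t.hR, ← q.t.hB]; exact q.Q₂
  Q₂ := by rw [← q.t.hR, ← q.t.hC]; exact q.Q₁
  ext := by rw [← q.t.hR]; exact q.ext

variable [Finite G] (q : TwoQ V₁ V₂ R₁ B₁ C₁ R₂ B₂ C₂ i j S r)
include q

theorem rR : r ∈ R₁ i := (q.mem_R r).2 (Or.inr rfl)

theorem rr : r * r = 1 := q.t.s₁.B_sq i r (q.t.s₁.R_B i q.rR)

theorem N_eq : normalizer (R₁ i : Set G) = centralizer ({r} : Set G) := normalizer_two q.mem_R q.r1

theorem Sr {g : G} (hg : g ∈ (S : Subgroup G)) : g * r = r * g := by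
  have h1 := q.t.SR hg
  rw [q.N_eq] at h1
  exact mem_centralizer_singleton_iff.1 h1

theorem Q_le_S : O2 (normalizer (R₁ i : Set G)) ≤ (S : Subgroup G) :=
  le_sylow S (O2_isPGroup _) (q.t.SR.trans (le_normalizer_O2 _))

/-- `Y = R D₁` at all points -/
theorem hRD : ∀ k, ∀ y ∈ YY (B₁ k) (C₁ k), ∃ ρ ∈ R₁ k, ∃ d ∈ ⨅ m, YY (B₁ m) (C₁ m), y = ρ * d := by
  intro k y hy
  obtain ⟨m, -, -, x, hx, e⟩ := q.t.s₁.trans_B i k
  have hy' : x⁻¹ * y * x ∈ YY (B₁ i) (C₁ i) := by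
    rw [← q.t.s₁.cY e] at hy
    exact mem_cj.1 hy
  obtain ⟨ρ, hρ, d, hd, h⟩ := q.t.exists_RD hy'
  refine ⟨x * ρ * x⁻¹, by rw [← e]; exact conj_mem_cj hρ, x * d * x⁻¹,
    conj_mem_of_normalizer (q.t.s₁.nD (q.t.s₁.B_le_ST m hx)) hd, ?_⟩
  calc y = x * (x⁻¹ * y * x) * x⁻¹ := by group
    _ = x * (ρ * d) * x⁻¹ := by rw [h]
    _ = x * ρ * x⁻¹ * (x * d * x⁻¹) := by group

/-- **`D₁ ∩ D₂ = 1`** -/
theorem inf_D : (⨅ m, YY (B₁ m) (C₁ m)) ⊓ (⨅ m, YY (B₂ m) (C₂ m)) = ⊥ := by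
  by_contra hne
  have hle : (⨅ m, YY (B₁ m) (C₁ m)) ≤ YY (B₁ i) (C₁ i) := iInf_le _ i
  obtain ⟨z, hz1, ⟨hzD, hzD'⟩, hzS⟩ := exists_fixed S (q.t.Y_isPGroup.to_le (inf_le_left.trans hle))
    (by
      intro g hg
      rw [← cj_eq_self_iff, cj_inf, cj_eq_self_iff.2 (q.t.s₁.nD (q.t.SV₁ hg)),
        cj_eq_self_iff.2 (q.t.s₂.nD (q.t.SV₂ hg))]) hne
  have hzY := hle hzD
  have hzz : z * z = 1 := q.t.Y_sq hzY
  -- `L = C(z)`
  have hK : ∀ g, g ∈ zpowers z ↔ g = 1 ∨ g = z := by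
    intro g
    constructor
    · rintro ⟨m, rfl⟩
      have h2 : z ^ (2 : ℤ) = 1 := by rw [zpow_two, hzz]
      rcases Int.even_or_odd m with ⟨k, rfl⟩ | ⟨k, rfl⟩
      · left
        show z ^ (k + k) = 1
        rw [← two_mul, zpow_mul, h2, one_zpow]
      · right
        show z ^ (2 * k + 1) = z
        rw [zpow_add, zpow_mul, h2, one_zpow, one_mul, zpow_one]
    · rintro (rfl | rfl)
      · exact one_mem _
      · exact mem_zpowers _
  have hN := normalizer_two hK hz1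
  have hKp : IsPGroup 2 (zpowers z) := by
    rintro ⟨g, hg⟩
    refine ⟨1, Subtype.ext ?_⟩
    change g ^ 2 ^ 1 = 1
    rcases (hK g).1 hg with rfl | rfl
    · rw [one_pow]
    · rw [pow_one, pow_two, hzz]
  have hch := q.char _ hKp (fun h => hz1 (by rw [← mem_bot, ← h]; exact mem_zpowers z))
  rw [hN] at hch
  set L := centralizer ({z} : Set G) with hL
  have hmem : ∀ {g : G}, g ∈ L ↔ g * z = z * g := mem_centralizer_singleton_iff
  have hSL : (S : Subgroup G) ≤ L := fun g hg => hmem.2 (hzS g hg).symm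
  have hrL : r ∈ L := hmem.2 (q.t.Y_comm (q.t.s₁.R_Y i q.rR) hzY)
  have hU := UL_center hSL hch hrL fun g hg => q.Sr hg
  have hC : ∀ y ∈ YY (B₁ i) (C₁ i), (∀ c ∈ C₁ i, y * c = c * y) ∧ ∀ b ∈ B₁ i, y * b = b * y := fun y hy =>
    ⟨(mem_YY.1 hy).2, (mem_YY.1 hy).1⟩
  have h1 : C₁ i ≤ UL L r ⊔ YY (B₁ i) (C₁ i) := by
    refine q.t.s₁.C_le q.hRD q.c₁ q.r1 q.mem_R (fun g hg => UL_conj hg) (fun k b hb => ?_) (fun g hg => ?_)
      (r_mem_UL L r) q.t.gen₁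
    · exact hmem.2 (SideW.D_comm hzD k b hb).symm
    · exact hmem.2 (mem_centralizer_iff.1 hg z hzY).symm
  have h2 : C₂ j ≤ UL L r ⊔ YY (B₁ i) (C₁ i) := by
    rw [q.t.YY_eq_YY]
    refine q.symm.t.s₁.C_le q.symm.hRD q.c₂ q.r1 q.symm.mem_R (fun g hg => UL_conj hg) (fun k b hb => ?_)
      (fun g hg => ?_) (r_mem_UL L r) q.symm.t.gen₁
    · exact hmem.2 (SideW.D_comm hzD' k b hb).symm
    · refine hmem.2 (mem_centralizer_iff.1 hg z ?_).symm
      have h3 := hzY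
      rw [q.t.YY_eq_YY] at h3
      exact h3
  -- `W₁` and `W₂` commute
  have hYn : UL L r ≤ normalizer (YY (B₁ i) (C₁ i) : Set G) := by
    intro u hu
    apply q.t.s₁.nY i
    rw [q.N_eq, mem_centralizer_singleton_iff]
    have hr := hU r (r_mem_UL L r)
    exact (hr.2 u (hU u hu).1).symm
  have dec : ∀ x ∈ UL L r ⊔ YY (B₁ i) (C₁ i), ∃ u ∈ UL L r, ∃ y ∈ YY (B₁ i) (C₁ i), x = u * y := by
    intro x hx
    have h3 : x ∈ ((UL L r ⊔ YY (B₁ i) (C₁ i) : Subgroup G) : Set G) := hx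
    rw [coe_mul_of_left_le_normalizer_right _ _ hYn] at h3
    obtain ⟨u, hu, y, hy, rfl⟩ := h3
    exact ⟨u, hu, y, hy, rfl⟩
  obtain ⟨k, hk, -⟩ := q.t.s₁.third i i
  obtain ⟨b, hb, hbV⟩ := q.t.s₁.exists_move (Ne.symm hk)
  apply hbV
  intro v hv
  obtain ⟨u, hu, y, hy, e1⟩ := dec v (h1 (q.t.s₁.V_C i hv))
  have hb' : b ∈ C₂ j := by rw [← q.t.hB]; exact hb
  obtain ⟨u', hu', y', hy', e2⟩ := dec b (h2 hb')
  have a1 : y * b = b * y := (hC y hy).2 b hb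
  have a2 : y' * v = v * y' := (hC y' hy').1 v (q.t.s₁.V_C i hv)
  have a3 : y * y' = y' * y := q.t.Y_comm hy hy'
  have a4 : u * u' = u' * u := (hU u hu).2 u' (hU u' hu').1
  -- `u = v y⁻¹` commutes with `y'`, `u' = b y'⁻¹`
  have a5 : y' * u = u * y' := by
    have e : u = v * y⁻¹ := by rw [e1]; group
    rw [e]
    exact comm_mul a2 (comm_inv a3).symm
  have a6 : u * b = b * u := by
    rw [e2]
    exact comm_mul a4 a5.symm
  rw [e1]
  exact comm_mul a6.symm a1.symm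

/-- **`|D₁| = 2`** -/
theorem exists_d : ∃ d, d ≠ 1 ∧ ∀ g, g ∈ (⨅ m, YY (B₁ m) (C₁ m)) ↔ g = 1 ∨ g = d := by
  have hle : (⨅ m, YY (B₁ m) (C₁ m)) ≤ YY (B₁ i) (C₁ i) := iInf_le _ i
  obtain ⟨z, hzR, hzS⟩ := q.ext
  have hBS : B₁ i ≤ (S : Subgroup G) := q.W₂Q.trans q.Q_le_S
  have hCS : C₁ i ≤ (S : Subgroup G) := q.W₁Q.trans q.Q_le_S
  have hzY : z ∈ YY (B₁ i) (C₁ i) := by
    rw [mem_YY]
    exact ⟨fun b hb => (hzS b (hBS hb)).symm, fun c hc => (hzS c (hCS hc)).symm⟩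
  obtain ⟨ρ, hρ, d, hd, hz⟩ := q.hRD i z hzY
  have hd1 : d ≠ 1 := by
    rintro rfl
    apply hzR
    rw [hz, mul_one]; exact hρ
  refine ⟨d, hd1, fun g => ⟨fun hg => ?_, ?_⟩⟩
  swap
  · rintro (rfl | rfl)
    · exact one_mem _
    · exact hd
  by_cases hg1 : g = 1
  · exact Or.inl hg1
  right
  -- `r g`, `r d ∈ D₂`
  have key : ∀ g ∈ (⨅ m, YY (B₁ m) (C₁ m)), g ≠ 1 → r * g ∈ ⨅ m, YY (B₂ m) (C₂ m) := by
    intro g hg hg1
    have hgY : g ∈ YY (B₂ j) (C₂ j) := by rw [← q.t.YY_eq_YY]; exact hle hg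
    obtain ⟨ρ', hρ', e, he, h1⟩ := q.symm.hRD j g hgY
    rcases (q.symm.mem_R ρ').1 hρ' with rfl | rfl
    · exfalso
      rw [one_mul] at h1
      apply hg1
      have h2 : g ∈ (⨅ m, YY (B₁ m) (C₁ m)) ⊓ (⨅ m, YY (B₂ m) (C₂ m)) := ⟨hg, by rw [h1]; exact he⟩
      rw [q.inf_D] at h2
      exact mem_bot.1 h2
    · rw [h1, ← mul_assoc, q.rr, one_mul]
      exact he
  have h1 := key g hg hg1
  have h2 := key d hd hd1
  have h3 : g⁻¹ * d ∈ (⨅ m, YY (B₁ m) (C₁ m)) ⊓ (⨅ m, YY (B₂ m) (C₂ m)) := by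
    refine ⟨Subgroup.mul_mem _ (Subgroup.inv_mem _ hg) hd, ?_⟩
    have h4 := mul_mem (inv_mem h1) h2
    have e : (r * g)⁻¹ * (r * d) = g⁻¹ * d := by group
    rw [e] at h4
    exact h4
  rw [q.inf_D] at h3
  exact inv_mul_eq_one.1 (mem_bot.1 h3)

section withd

variable {d : G} (hd1 : d ≠ 1) (hd : ∀ g, g ∈ (⨅ m, YY (B₁ m) (C₁ m)) ↔ g = 1 ∨ g = d)
include hd1 hd

theorem dD : d ∈ ⨅ m, YY (B₁ m) (C₁ m) := (hd d).2 (Or.inr rfl)

theorem dY : d ∈ YY (B₁ i) (C₁ i) := mem_iInf.1 (q.dD hd1 hd) i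

theorem d_ne_r : d ≠ r := by
  intro h
  apply hd1
  exact q.t.s₁.D_R (q.dD hd1 hd) (by rw [h]; exact q.rR)

theorem Z_mem {z : G} (hz : z ∈ YY (B₁ i) (C₁ i)) : z = 1 ∨ z = r ∨ z = d ∨ z = r * d := by
  obtain ⟨ρ, hρ, e, he, rfl⟩ := q.hRD i z hz
  rcases (q.mem_R ρ).1 hρ with rfl | rfl <;> rcases (hd e).1 he with rfl | rfl
  · left; rw [one_mul]
  · right; right; left; rw [one_mul]
  · right; left; rw [mul_one]
  · right; right; right; rfl

theorem Sd_comm {g : G} (hg : g ∈ (S : Subgroup G)) : g * d = d * g := by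
  have h1 := conj_mem_of_normalizer (q.t.s₁.nD (q.t.SV₁ hg)) (q.dD hd1 hd)
  rcases (hd _).1 h1 with h2 | h2
  · exfalso
    apply hd1
    have e : d = g⁻¹ * (g * d * g⁻¹) * g := by group
    rw [e, h2]; group
  · exact comm_of_conj h2

/-- `C(r) ≤ C(Z)` -/
theorem Zc {h : G} (hh : h * r = r * h) {z : G} (hz : z ∈ YY (B₁ i) (C₁ i)) : h * z = z * h := by
  have hhN : h ∈ normalizer (R₁ i : Set G) := by rw [q.N_eq]; exact mem_centralizer_singleton_iff.2 hh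
  have hrd : r * d = d * r := q.t.Y_comm (q.t.s₁.R_Y i q.rR) (q.dY hd1 hd)
  have hrr := q.rr
  have cases_d : ∀ g, g * r = r * g → g * d * g⁻¹ = d ∨ g * d * g⁻¹ = r * d := by
    intro g hg
    have hgN : g ∈ normalizer (R₁ i : Set G) := by rw [q.N_eq]; exact mem_centralizer_singleton_iff.2 hg
    have h1 := conj_mem_of_normalizer (q.t.s₁.nY i hgN) (q.dY hd1 hd)
    have e : d = g⁻¹ * (g * d * g⁻¹) * g := by group
    rcases q.Z_mem hd1 hd h1 with h2 | h2 | h2 | h2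
    · exfalso; apply hd1; rw [e, h2]; group
    · exfalso
      apply q.d_ne_r hd1 hd
      rw [e, h2]
      have := conj_of_comm (comm_inv hg)
      rwa [inv_inv] at this
    · exact Or.inl h2
    · exact Or.inr h2
  let N : Subgroup G := normalizer (R₁ i : Set G)
  let K : Subgroup G := N ⊓ centralizer ({d} : Set G)
  have hKN : K ≤ N := inf_le_left
  have hNr : ∀ {g : G}, g ∈ N ↔ g * r = r * g := by
    intro g
    change g ∈ normalizer (R₁ i : Set G) ↔ _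
    rw [q.N_eq, mem_centralizer_singleton_iff]
  have hSK : (S : Subgroup G) ≤ K := fun g hg =>
    ⟨q.t.SR hg, mem_centralizer_singleton_iff.2 (q.Sd_comm hd1 hd hg)⟩
  have hodd : Odd (K.relIndex N) := by
    have h1 := TwoW.odd_relIndex S (K := N) (q.t.SR.trans le_normalizer)
    rw [inf_of_le_left (show (S : Subgroup G) ≤ N from q.t.SR)] at h1
    rw [← relIndex_mul_relIndex _ _ _ hSK hKN] at h1
    exact (Nat.odd_mul.1 h1).2
  have hn : (K.subgroupOf N).Normal := by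
    constructor
    rintro ⟨k, hkN⟩ hk ⟨g, hg⟩
    rw [mem_subgroupOf] at hk ⊢
    have hkd : k * d = d * k := mem_centralizer_singleton_iff.1 hk.2
    have hkr : k * r = r * k := hNr.1 hkN
    refine ⟨N.mul_mem (N.mul_mem hg hkN) (N.inv_mem hg), mem_centralizer_singleton_iff.2 ?_⟩
    change g * k * g⁻¹ * d = d * (g * k * g⁻¹)
    apply comm_of_comm_conj g⁻¹
    have e : g⁻¹ * (g * k * g⁻¹) * g⁻¹⁻¹ = k := by group
    rw [e]
    rcases cases_d g⁻¹ (comm_inv (hNr.1 hg)) with h1 | h1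
    · rw [h1]; exact hkd
    · rw [h1]; exact comm_mul hkr hkd
  have hh2 : h ^ 2 ∈ K := by
    refine ⟨pow_mem hhN 2, mem_centralizer_singleton_iff.2 ?_⟩
    apply comm_of_conj
    rcases cases_d h hh with h1 | h1
    · calc h ^ 2 * d * (h ^ 2)⁻¹ = h * (h * d * h⁻¹) * h⁻¹ := by rw [pow_two]; group
        _ = d := by rw [h1, h1]
    · calc h ^ 2 * d * (h ^ 2)⁻¹ = h * (h * d * h⁻¹) * h⁻¹ := by rw [pow_two]; group
        _ = h * (r * d) * h⁻¹ := by rw [h1]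
        _ = (h * r * h⁻¹) * (h * d * h⁻¹) := by group
        _ = (r * r) * d := by rw [h1, conj_of_comm hh]; group
        _ = d := by rw [hrr, one_mul]
  have hh3 : h ^ (K.relIndex N) ∈ K := by
    have h1 := Subgroup.pow_index_mem (K.subgroupOf N) ⟨h, hhN⟩
    exact h1
  have hhK : h ∈ K := by
    obtain ⟨m, hm⟩ := hodd
    rw [hm, pow_succ, pow_mul] at hh3
    have h1 := mul_mem (inv_mem (pow_mem hh2 m)) hh3
    rwa [← mul_assoc, inv_mul_cancel, one_mul] at h1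
  have hhd : h * d = d * h := mem_centralizer_singleton_iff.1 hhK.2
  rcases q.Z_mem hd1 hd hz with rfl | rfl | rfl | rfl
  · rw [mul_one, one_mul]
  · exact hh
  · exact hhd
  · exact comm_mul hh hhd

/-- the normaliser of `D₁` -/
theorem ND : normalizer ((⨅ m, YY (B₁ m) (C₁ m) : Subgroup G) : Set G) = centralizer ({d} : Set G) :=
  normalizer_two hd hd1

/-- the facts about `U₁ = ⟨r^M⟩`, `M = C(d)` -/
theorem U_facts : ∀ u ∈ UL (centralizer ({d} : Set G)) r, u ∈ O2 (centralizer ({d} : Set G)) ∧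
    ∀ q ∈ O2 (centralizer ({d} : Set G)), u * q = q * u := by
  have hle : (⨅ m, YY (B₁ m) (C₁ m)) ≤ YY (B₁ i) (C₁ i) := iInf_le _ i
  have hch := q.char _ (q.t.Y_isPGroup.to_le hle) (fun h => hd1 (by rw [← mem_bot, ← h]; exact q.dD hd1 hd))
  rw [q.ND hd1 hd] at hch
  have hrd : r * d = d * r := q.t.Y_comm (q.t.s₁.R_Y i q.rR) (q.dY hd1 hd)
  exact UL_center (fun g hg => mem_centralizer_singleton_iff.2 (q.Sd_comm hd1 hd hg)) hch
    (mem_centralizer_singleton_iff.2 hrd) fun g hg => q.Sr hg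

theorem X_le : (⨆ k, B₁ k) ≤ centralizer ({d} : Set G) := by
  refine iSup_le fun k b hb => mem_centralizer_singleton_iff.2 ?_
  exact (SideW.D_comm (q.dD hd1 hd) k b hb).symm

theorem N_le : normalizer (R₁ i : Set G) ≤ centralizer ({d} : Set G) := by
  intro h hh
  rw [q.N_eq] at hh
  exact mem_centralizer_singleton_iff.2 (q.Zc hd1 hd (mem_centralizer_singleton_iff.1 hh) (q.dY hd1 hd))

theorem O2_M_le : O2 (centralizer ({d} : Set G)) ≤ O2 (normalizer (R₁ i : Set G)) := by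
  have hU := q.U_facts hd1 hd
  have h1 : O2 (centralizer ({d} : Set G)) ≤ normalizer (R₁ i : Set G) := by
    intro x hx
    rw [q.N_eq, mem_centralizer_singleton_iff]
    exact ((hU r (r_mem_UL _ r)).2 x hx).symm
  refine le_O2_of_normal h1 (O2_isPGroup _) fun g hg a ha => ?_
  exact conj_mem_of_normalizer (le_normalizer_O2 _ (q.N_le hd1 hd hg)) ha

/-- `[U₁, W₂^x] ≤ R^x` for `x ∈ C(d)` -/
theorem U_W₂ {x u b : G} (hx : x ∈ centralizer ({d} : Set G)) (hu : u ∈ UL (centralizer ({d} : Set G)) r)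
    (hb : b ∈ B₁ i) : ⁅u, x * b * x⁻¹⁆ ∈ cj x (R₁ i) := by
  have h1 := UL_conj (inv_mem hx) u hu
  have h2 := q.Q₂ _ (q.O2_M_le hd1 hd (q.U_facts hd1 hd _ h1).1) b hb
  have h3 := conj_mem_cj (g := x) h2
  have e : x * (x⁻¹ * u * x⁻¹⁻¹ * b * (x⁻¹ * u * x⁻¹⁻¹)⁻¹ * b⁻¹) * x⁻¹ = ⁅u, x * b * x⁻¹⁆ := by
    rw [commutatorElement_def]; group
  rwa [e] at h3

/-- `V₁ ≤ U₁` -/
theorem V_le_U : V₁ ≤ UL (centralizer ({d} : Set G)) r := by
  obtain ⟨k, hki, ρ, hρ1, hρ, hrρ, x, hx, -, hxr, -⟩ := q.t.s₁.exists_three q.c₁ q.r1 q.mem_R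
  have hρR : ρ ∈ R₁ k := (hρ ρ).2 (Or.inr rfl)
  have h1 := mem_four q.c₁ (q.t.s₁.R_V i q.rR) (q.t.s₁.R_V k hρR) q.r1 hρ1 hrρ q.rr
  have h2 : ρ ∈ UL (centralizer ({d} : Set G)) r := by
    rw [← hxr]; exact mem_UL (q.X_le hd1 hd hx)
  intro v hv
  rcases h1 v hv with rfl | rfl | rfl | rfl
  · exact one_mem _
  · exact r_mem_UL _ _
  · exact h2
  · exact mul_mem (r_mem_UL _ _) h2

/-- `W₁ ≤ U₁` -/
theorem W_le_U : C₁ i ≤ UL (centralizer ({d} : Set G)) r := by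
  refine q.t.gen₁ _ fun h hh => cj_le_iff.2 fun v hv => ?_
  exact UL_conj (q.N_le hd1 hd hh) v (q.V_le_U hd1 hd hv)

/-- `[U₁, X₁] ≤ V₁` -/
theorem U_X {x u : G} (hx : x ∈ ⨆ k, B₁ k) (hu : u ∈ UL (centralizer ({d} : Set G)) r) : ⁅u, x⁆ ∈ V₁ := by
  let P : Subgroup G :=
    { carrier := {x | x ∈ normalizer (V₁ : Set G) ∧ ∀ u ∈ UL (centralizer ({d} : Set G)) r, ⁅u, x⁆ ∈ V₁}
      one_mem' := ⟨one_mem _, fun u _ => by rw [commutatorElement_one_right]; exact one_mem _⟩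
      mul_mem' := by
        rintro a b ⟨a1, a2⟩ ⟨b1, b2⟩
        refine ⟨mul_mem a1 b1, fun u hu => ?_⟩
        have e : ⁅u, a * b⁆ = ⁅u, a⁆ * (a * ⁅u, b⁆ * a⁻¹) := by simp only [commutatorElement_def]; group
        rw [e]
        exact mul_mem (a2 u hu) (conj_mem_of_normalizer a1 (b2 u hu))
      inv_mem' := by
        rintro a ⟨a1, a2⟩
        refine ⟨inv_mem a1, fun u hu => ?_⟩
        have e : ⁅u, a⁻¹⁆ = a⁻¹ * (⁅u, a⁆)⁻¹ * a := by simp only [commutatorElement_def]; group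
        rw [e]
        exact conj_inv_mem_of_normalizer a1 (inv_mem (a2 u hu)) }
  have h1 : (⨆ k, B₁ k) ≤ P := by
    refine iSup_le fun k b hb => ⟨q.t.s₁.B_NV k hb, fun u hu => ?_⟩
    obtain ⟨m, -, -, x, hx, e⟩ := q.t.s₁.trans_B i k
    have hb' : x⁻¹ * b * x ∈ B₁ i := by
      rw [← q.t.s₁.cB x i k e] at hb
      exact mem_cj.1 hb
    have hxX : x ∈ centralizer ({d} : Set G) := q.X_le hd1 hd (mem_iSup_of_mem m hx)
    have h2 := q.U_W₂ hd1 hd hxX hu hb'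
    have e2 : x * (x⁻¹ * b * x) * x⁻¹ = b := by group
    rw [e2, e] at h2
    exact q.t.s₁.R_V k h2
  exact (h1 hx).2 u hu

omit hd1 hd in
/-- `C_S(V₁)^x ≤ S` for `x ∈ X₁` -/
theorem conj_S {x c : G} (hx : x ∈ ⨆ k, B₁ k) (hc : c ∈ (S : Subgroup G)) (hcV : ∀ v ∈ V₁, c * v = v * c) :
    x * c * x⁻¹ ∈ (S : Subgroup G) := by
  set N₁ : Subgroup G := ⨆ k, TT V₁ (B₁ k) with hN₁
  -- `N₁ ≤ S`
  have h1 : N₁ ≤ (S : Subgroup G) := by
    have h2 : N₁ ≤ O2 (centralizer (V₁ : Set G)) := by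
      refine iSup_le fun k => le_O2_of_normal inf_le_right ?_ ?_
      · rintro ⟨g, hg⟩
        refine ⟨1, Subtype.ext ?_⟩
        change g ^ 2 ^ 1 = 1
        rw [pow_one, pow_two, q.t.s₁.B_sq k g (TT_le _ _ hg)]
      · intro g hg a ha
        have hg' : ∀ v ∈ V₁, g * v = v * g := fun v hv => (mem_centralizer_iff.1 hg v hv).symm
        refine ⟨conj_mem_of_normalizer (q.t.s₁.nB k (q.t.s₁.cV_le_NR hg' k)) ha.1, ?_⟩
        exact (centralizer (V₁ : Set G)).mul_mem ((centralizer (V₁ : Set G)).mul_mem hg ha.2)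
          ((centralizer (V₁ : Set G)).inv_mem hg)
    refine h2.trans (le_sylow S (O2_isPGroup _) ?_)
    intro g hg
    have h3 := normalizer_le_normalizer_centralizer V₁ (ST_le _ _ (q.t.SV₁ hg))
    rw [← cj_eq_self_iff, cj_O2, cj_eq_self_iff.2 h3]
  let P : Subgroup G :=
    { carrier := {x | x ∈ normalizer (V₁ : Set G) ∧ x ∈ normalizer (N₁ : Set G) ∧
        ∀ c, (∀ v ∈ V₁, c * v = v * c) → x * c * x⁻¹ * c⁻¹ ∈ N₁}
      one_mem' := ⟨one_mem _, one_mem _, fun c _ => by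
        have e : 1 * c * 1⁻¹ * c⁻¹ = 1 := by group
        rw [e]; exact one_mem _⟩
      mul_mem' := by
        rintro a b ⟨a1, a2, a3⟩ ⟨b1, b2, b3⟩
        refine ⟨mul_mem a1 b1, mul_mem a2 b2, fun c hc => ?_⟩
        have e : a * b * c * (a * b)⁻¹ * c⁻¹ = a * (b * c * b⁻¹ * c⁻¹) * a⁻¹ * (a * c * a⁻¹ * c⁻¹) := by group
        rw [e]
        exact mul_mem (conj_mem_of_normalizer a2 (b3 c hc)) (a3 c hc)
      inv_mem' := by
        rintro a ⟨a1, a2, a3⟩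
        refine ⟨inv_mem a1, inv_mem a2, fun c hc => ?_⟩
        have hc' : ∀ v ∈ V₁, a⁻¹ * c * a * v = v * (a⁻¹ * c * a) := by
          intro v hv
          have h4 := hc _ (conj_mem_of_normalizer a1 hv)
          apply comm_of_comm_conj a
          have e : a * (a⁻¹ * c * a) * a⁻¹ = c := by group
          rw [e]; exact h4
        have h5 := inv_mem (a3 _ hc')
        have e : (a * (a⁻¹ * c * a) * a⁻¹ * (a⁻¹ * c * a)⁻¹)⁻¹ = a⁻¹ * c * a⁻¹⁻¹ * c⁻¹ := by group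
        rwa [e] at h5 }
  have h2 : (⨆ k, B₁ k) ≤ P := by
    refine iSup_le fun k b hb => ⟨q.t.s₁.B_NV k hb, ?_, fun c hc => ?_⟩
    · apply mem_normalizer_of_conj
      rw [← cj_le_iff, hN₁, cj_iSup]
      refine iSup_le fun l => cj_le_iff.2 fun t ht => ?_
      have h3 := q.t.s₁.comm_mem_T' (mem_TT.1 ht).2 hb
      have e : b * t * b⁻¹ = (b * t * b⁻¹ * t⁻¹) * t := by group
      rw [e]
      exact mul_mem (mem_iSup_of_mem k h3) (mem_iSup_of_mem l ht)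
    · exact mem_iSup_of_mem k (q.t.s₁.comm_mem_T' hc hb)
  have h3 := h1 ((h2 hx).2.2 c hcV)
  have e : x * c * x⁻¹ = (x * c * x⁻¹ * c⁻¹) * c := by group
  rw [e]
  exact mul_mem h3 hc

/-- **the facts of `QTwoKill`** -/
theorem sd : ∃ s, Sd S r s d V₁ (C₁ i) (B₁ i) (YY (B₁ i) (C₁ i)) (⨆ k, B₁ k) := by
  obtain ⟨k, hki, ρ, hρ1, hρ, hrρ, x, hx, ⟨n, hn⟩, hxr, hxρ⟩ := q.t.s₁.exists_three q.c₁ q.r1 q.mem_R
  have hρR : ρ ∈ R₁ k := (hρ ρ).2 (Or.inr rfl)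
  have hXV : (⨆ k, B₁ k) ≤ normalizer (V₁ : Set G) := iSup_le fun k => q.t.s₁.B_NV k
  have hXST : (⨆ k, B₁ k) ≤ _root_.Cfsg.Agent.Omega.Mix.ST V₁ R₁ := iSup_le fun k => q.t.s₁.B_le_ST k
  have hNr : ∀ {h : G}, h * r = r * h → h ∈ normalizer (R₁ i : Set G) := fun {h} hh => by
    rw [q.N_eq]; exact mem_centralizer_singleton_iff.2 hh
  refine ⟨ρ, ?_⟩
  exact
    { r1 := q.r1
      rr := q.rr
      d1 := hd1
      dd := q.t.Y_sq (q.dY hd1 hd)
      dr := q.d_ne_r hd1 hd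
      rZ := q.t.s₁.R_Y i q.rR
      dZ := q.dY hd1 hd
      Z_iff := fun z => by rw [mem_YY]; exact And.comm
      Zc := fun h hh z hz => q.Zc hd1 hd hh hz
      Z_mem := fun z hz => q.Z_mem hd1 hd hz
      rV := q.t.s₁.R_V i q.rR
      sV := q.t.s₁.R_V k hρR
      V_mem := mem_four q.c₁ (q.t.s₁.R_V i q.rR) (q.t.s₁.R_V k hρR) q.r1 hρ1 hrρ q.rr
      VZ := fun v hv hvZ => (q.mem_R v).1 (q.t.s₁.VB i v hv fun b hb => ((mem_YY.1 hvZ).1 b hb).symm)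
      VW := q.t.s₁.V_C i
      WW := q.t.s₁.C_comm i
      sq := q.t.s₁.C_sq i
      nW := fun h hh w hw => conj_mem_of_normalizer (q.t.s₁.nC i (hNr hh)) hw
      cW := fun w hw u hu => by
        rw [commutatorElement_def]
        exact (q.mem_R _).1 (q.t.s₁.CB i w hw u hu)
      cQ := fun w hw g hg => by
        rw [← q.N_eq] at hg
        have h1 := (q.mem_R _).1 (inv_mem (q.Q₁ g hg w hw))
        have e : (g * w * g⁻¹ * w⁻¹)⁻¹ = ⁅w, g⁆ := by rw [commutatorElement_def]; group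
        rwa [e] at h1
      WS := q.W₁Q.trans q.Q_le_S
      SV := fun g hg v hv => conj_mem_of_normalizer (ST_le _ _ (q.t.SV₁ hg)) hv
      Sr := fun g hg => q.Sr hg
      XV := fun y hy v hv => conj_mem_of_normalizer (hXV hy) hv
      Xd := fun y hy => mem_centralizer_singleton_iff.1 (q.X_le hd1 hd hy)
      cX := fun w hw y hy => q.U_X hd1 hd hy (q.W_le_U hd1 hd hw)
      cU := fun y hy w hw u hu => by
        have h1 := q.U_W₂ hd1 hd (q.X_le hd1 hd hy) (q.W_le_U hd1 hd hw) hu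
        rw [mem_cj] at h1
        have e : ∀ c : G, c = y * (y⁻¹ * c * y) * y⁻¹ := fun c => by group
        rcases (q.mem_R _).1 h1 with h2 | h2
        · left; rw [e ⁅w, y * u * y⁻¹⁆, h2]; group
        · right; rw [e ⁅w, y * u * y⁻¹⁆, h2]
      TT := fun y hy a ha b hb haV hbV => by
        obtain ⟨l, hl⟩ := (hXST hy).2.1 i
        have hb' : y * b * y⁻¹ ∈ B₁ l := by
          rw [← q.t.s₁.cB y i l hl]; exact conj_mem_cj hb
        by_cases hli : l = i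
        · subst hli
          left
          exact ce_one.2 (q.t.s₁.B_comm l a ha _ hb')
        · have h1 : y * b * y⁻¹ ∈ TT V₁ (B₁ l) := by
            rw [mem_TT]
            refine ⟨hb', fun v hv => ?_⟩
            have h2 := hbV _ (conj_inv_mem_of_normalizer (hXV hy) hv)
            apply comm_of_comm_conj y⁻¹
            have e : y⁻¹ * (y * b * y⁻¹) * y⁻¹⁻¹ = b := by group
            rw [e, inv_inv]
            exact h2
          have h2 : a ∈ TT V₁ (B₁ i) := mem_TT.2 ⟨ha, haV⟩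
          have h3 := q.t.s₁.TT_B0 (Ne.symm hli) h2 h1
          rw [commutatorElement_def]
          exact (hd _).1 (q.t.s₁.B0_le_D h3)
      Cn := fun y hy c hc hcV => q.conj_S hy hc hcV
      three := ⟨x, hx, ⟨n, hn⟩, hxr, hxρ⟩ }

end withd

/-- **the situation does not occur if `|S| > 16`** -/
theorem false (hS : 16 < Nat.card S) : False := by
  obtain ⟨d, hd1, hd⟩ := q.exists_d
  obtain ⟨e, he1, he⟩ := q.symm.exists_d
  obtain ⟨s, k₁⟩ := q.sd hd1 hd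
  obtain ⟨t, k₂⟩ := q.symm.sd he1 he
  rw [← q.t.hC, ← q.t.hB] at k₂
  have e1 : YY (C₁ i) (B₁ i) = YY (B₁ i) (C₁ i) := by rw [YY, YY, sup_comm]
  rw [e1] at k₂
  refine QTwoKill.kill k₁ k₂ ?_ hS
  rintro rfl
  apply hd1
  have h1 : d ∈ (⨅ m, YY (B₁ m) (C₁ m)) ⊓ (⨅ m, YY (B₂ m) (C₂ m)) :=
    ⟨(hd d).2 (Or.inr rfl), (he d).2 (Or.inr rfl)⟩
  rw [q.inf_D] at h1
  exact mem_bot.1 h1

end TwoQ

end Cfsg.Agent.Omega.MixOne

end

private theorem dce_156d8ff001d9 : _root_.True := by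
  try have : _root_.True := by simp only [_root_.Cfsg.Agent.Omega.Mix.OD.eq_1]
  try have : _root_.True := by simp only [_root_.Cfsg.Agent.Omega.MixOne.TwoW.Ct.congr_simp]
  try have : _root_.True := by simp only [_root_.Cfsg.Agent.Omega.MixOne.TwoW.Sq.eq_1]
  try have : _root_.True := by simp only [_root_.Cfsg.Agent.Omega.Mix.LL.eq_1]
  try have : _root_.True := by simp only [_root_.Cfsg.Agent.Omega.MixOne.UL.eq_1]
  exact _root_.True.intro
end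
end
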