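import Cfsg.Agent.Mrg.Omega.BTwo.QuadGrp
import Cfsg.Agent.Mrg.Omega.BTwo.Entry
import Cfsg.Agent.Prune
set_option linter.all false
prune_inst 0x7f00000000000000000000000000000000000000000000000000000000000000000000000000000000000000000000000000000000000000000000000000000000000000000000000000000000000000003fffffffffffffffffffffffffffbeffbdffffffff
open scoped Cfsg.Agent.FastGrp

section


/-!
# SQ3, `b = 2`: the coordinates of a natural module

`exists_coord`: the hypotheses of `bt` (a mutual pair, `b = 2`) give `Coord V (pt M) i j (v a b = e (a w + b u)) w1 w2` for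
any two points `i ≠ j`.
-/

set_option autoImplicit false
set_option linter.unusedSectionVars false

namespace Cfsg.Agent.Omega.BTwo

open Subgroup Cfsg.Agent.Lib.SL2Mat Cfsg.Agent.Omega.NatPair

universe u v

variable {G : Type u} [Group G] {F : Type v} [Field F] {V : Subgroup G}

theorem dt_ap (B : Matrix.SpecialLinearGroup (Fin 2) F) (w x : Fin 2 → F) :
    dt (ap B w) (ap B x) = dt w x := by
  unfold dt
  rw [ap_zero', ap_zero', ap_one', ap_one']
  linear_combination (w 0 * x 1 - w 1 * x 0) * det_eq B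

section main

variable [Finite G] [Finite F] [CharP F 2] (M : NatMod F V) (S : Sylow 2 G)
  (hS : (S : Subgroup G) ≤ normalizer (V : Set G))

include hS in
theorem exists_at {g : G} (h : Mutual V (NatPair.cj g V)) (hQ : V ≤ QQ (V ⊓ NatPair.cj g V)) (i : Pt M) :
    ∃ h, At V (pt M i) h := by
  have _ := hS
  obtain ⟨-, w, w', hw, hw', hl, -⟩ := pair M (M.conj g) h
  obtain ⟨y, hy, hyV⟩ := exists_conj M h
  have a : At V (M.line w) y := by
    refine ⟨?_, ?_, ?_, ?_⟩
    · rw [← hl]; exact hy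
    · have h1 : BTwo.cj y V = NatPair.cj g V := hyV
      rw [h1]; exact h
    · have h1 : BTwo.cj y V = NatPair.cj g V := hyV
      rw [h1]; exact hl
    · rw [← hl]; exact hQ
  obtain ⟨_, u, hu, rfl⟩ := i
  obtain ⟨A, hA⟩ := exists_ap hw.ne hu
  obtain ⟨l, hlA⟩ := M.lift A
  have h1 : BTwo.cj l (M.line w) = M.line u := by
    have := M.cj_line_of_ind hlA w
    rw [hA] at this
    exact this
  have a' : At V (M.line u) (l * y * l⁻¹) := by
    rw [← h1]
    exact a.cj (M.mem_normalizer hlA)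
  exact ⟨_, a'⟩

theorem ap_comb (B : Matrix.SpecialLinearGroup (Fin 2) F) {w u : Fin 2 → F} (hB : ap B w = w) {t : F}
    (ht : ap B u = u + t • w) (a b : F) : ap B (a • w + b • u) = (a + t * b) • w + b • u := by
  rw [ap_add, ap_smul, ap_smul, hB, ht, smul_add, smul_smul, add_smul, mul_comm b t]
  abel

theorem exists_tv {w u : Fin 2 → F} (h : dt w u = 1) (t : F) :
    ∃ B : Matrix.SpecialLinearGroup (Fin 2) F, ap B w = w ∧ ap B u = u + t • w := by
  obtain ⟨D, h1, h2⟩ := exists_basis (w := w) (u := u) (by rw [h]; exact one_ne_zero)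
  rw [h, inv_one, one_smul] at h2
  refine ⟨D * up t * D⁻¹, ?_, ?_⟩
  · rw [ap_mul, ap_mul]
    nth_rewrite 1 [← h1]
    rw [ap_inv_ap, ap_up_e, h1]
  · rw [ap_mul, ap_mul]
    nth_rewrite 1 [← h2]
    rw [ap_inv_ap]
    have h3 : ap (up t) ![0, 1] = ![0, 1] + t • ![1, 0] := by
      apply ext2
      · rw [ap_zero']; simp
      · rw [ap_one']; simp
    rw [h3, ap_add, ap_smul, h1, h2]

theorem exists_tv' {w u : Fin 2 → F} (h : dt w u = 1) {B : Matrix.SpecialLinearGroup (Fin 2) F}
    (hB : ap B w = w) : ∃ t : F, ap B u = u + t • w := by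
  have hw : w ≠ 0 := by
    rintro rfl
    unfold dt at h
    simp at h
  have h1 : dt w (ap B u - u) = 0 := by
    have h2 := dt_ap B w u
    rw [hB] at h2
    unfold dt at h2 ⊢
    rw [Pi.sub_apply, Pi.sub_apply]
    linear_combination h2
  obtain ⟨t, ht⟩ := exists_smul_of_dt hw h1
  exact ⟨t, by rw [← ht]; abel⟩

include hS in
theorem half {w u : Fin 2 → F} (hdt : dt w u = 1) {h : G} (a : At V (M.line w) h)
    (hW : WW V (M.line w) ≤ QQ (M.line w)) :
    ∃ w1 : F → G, (∀ t, w1 t ∈ WW V (M.line w)) ∧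
      (∀ t b c, w1 t * M.e (b • w + c • u) * (w1 t)⁻¹ = M.e ((b + t * c) • w + c • u)) ∧
      ∀ x ∈ WW V (M.line w), ∃ t : F, ∀ b c, x * M.e (b • w + c • u) * x⁻¹ = M.e ((b + t * c) • w + c • u) := by
  obtain ⟨w', hw', hl, hU, hf, -⟩ := a.data M S hS
  have hw : w ≠ 0 := by
    rintro rfl
    unfold dt at hdt
    simp at hdt
  obtain ⟨k, hk⟩ := (M.line_eq_iff hw).1 hl
  obtain ⟨k', hk'⟩ := (M.line_eq_iff hw').1 hl.symm
  have h1 : ∀ t : F, ∃ x ∈ WW V (M.line w), ∀ b c : F,
      x * M.e (b • w + c • u) * x⁻¹ = M.e ((b + t * c) • w + c • u) := by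
    intro t
    obtain ⟨B, hB, hBu⟩ := exists_tv hdt t
    obtain ⟨x, hx, hxB⟩ := hf B (by rw [hk', ap_smul, hB])
    refine ⟨x, cj_le_WW a.norm hx, fun b c => ?_⟩
    rw [hxB, ap_comb B hB hBu]
  choose w1 hw1 hw1' using h1
  refine ⟨w1, hw1, hw1', fun x hx => ?_⟩
  obtain ⟨B, hB, hxB⟩ := hU (hW hx)
  have hBw : ap B w = w := by rw [hk, ap_smul, hB]
  obtain ⟨t, ht⟩ := exists_tv' hdt hBw
  refine ⟨t, fun b c => ?_⟩
  rw [hxB, ap_comb B hBw ht]

include hS in
theorem coord_of_at (b : BT V (pt M)) (hat : ∀ i : Pt M, ∃ h, At V (pt M i) h) {i j : Pt M} (hij : i ≠ j)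
    {w u : Fin 2 → F} (hdt : dt w u = 1) (hi : pt M i = M.line w) (hj : pt M j = M.line u) :
    ∃ w1 w2 : F → G, Coord V (pt M) i j (fun a b => M.e (a • w + b • u)) w1 w2 := by
  have hdt' : dt u w = 1 := by
    have h1 : dt u w = - dt w u := by unfold dt; ring
    rw [h1, hdt, CharTwo.neg_eq]
  obtain ⟨h, ha⟩ := hat i
  obtain ⟨h', ha'⟩ := hat j
  have hWi := b.W_le_Q i
  have hWj := b.W_le_Q j
  rw [hi] at ha hWi
  rw [hj] at ha' hWj
  obtain ⟨w1, hw1, hw1', hw1''⟩ := half M S hS hdt ha hWi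
  obtain ⟨w2, hw2, hw2', hw2''⟩ := half M S hS hdt' ha' hWj
  have hc : ∀ a b : F, a • w + b • u = b • u + a • w := fun a b => add_comm _ _
  refine ⟨w1, w2, ?_⟩
  exact
    { ne := hij
      v_add := fun b c b' c' => by
        rw [← M.e_add]
        congr 1
        rw [add_smul, add_smul]; abel
      v_one := fun b c h1 => by
        rw [M.e_eq_one] at h1
        constructor
        · have h2 := congrArg (dt u) h1
          rw [dt_add, dt_smul, dt_smul, dt_self, hdt', mul_zero, mul_one, add_zero] at h2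
          rw [h2]; unfold dt; simp
        · have h2 := congrArg (dt w) h1
          rw [dt_add, dt_smul, dt_smul, dt_self, hdt, mul_zero, mul_one, zero_add] at h2
          rw [h2]; unfold dt; simp
      mem_V := fun x => by
        rw [M.mem_iff]
        constructor
        · rintro ⟨y, rfl⟩
          obtain ⟨α, β, rfl⟩ := exists_comb (by rw [hdt]; exact one_ne_zero : dt w u ≠ 0) y
          exact ⟨α, β, rfl⟩
        · rintro ⟨α, β, rfl⟩
          exact ⟨_, rfl⟩
      mem_R1 := fun x => by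
        rw [hi, M.mem_line]
        simp only [zero_smul, add_zero]
      mem_R2 := fun x => by
        rw [hj, M.mem_line]
        simp only [zero_smul, zero_add]
      w1_mem := fun a => by rw [hi]; exact hw1 a
      w2_mem := fun a => by rw [hj]; exact hw2 a
      w1_act := hw1'
      w2_act := fun a b c => by
        have := hw2' a c b
        rw [hc, this, hc]
      W1_act := fun x hx => by
        rw [hi] at hx
        exact hw1'' x hx
      W2_act := fun x hx => by
        rw [hj] at hx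
        obtain ⟨a, ha⟩ := hw2'' x hx
        refine ⟨a, fun b c => ?_⟩
        rw [hc, ha, hc] }

include hS in
/-- **coordinates** for any two points -/
theorem exists_coord {g : G} (h : Mutual V (NatPair.cj g V)) (hQ : V ≤ QQ (V ⊓ NatPair.cj g V)) {i j : Pt M}
    (hij : i ≠ j) : ∃ w u : Fin 2 → F, dt w u = 1 ∧ pt M i = M.line w ∧ pt M j = M.line u ∧ ∃ w1 w2 : F → G,
      Coord V (pt M) i j (fun a b => M.e (a • w + b • u)) w1 w2 := by
  obtain ⟨Ri, w, hw, hi⟩ := i
  obtain ⟨Rj, u', hu', hj⟩ := j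
  have h1 : dt w u' ≠ 0 := by
    intro h1
    apply hij
    apply Subtype.ext
    show Ri = Rj
    rw [hi, hj]
    exact ((line_eq_iff_dt M hw hu').2 h1).symm
  have h2 : dt w ((dt w u')⁻¹ • u') = 1 := by rw [dt_smul, inv_mul_cancel₀ h1]
  have hj' : Rj = M.line ((dt w u')⁻¹ • u') := by rw [hj, M.line_smul (inv_ne_zero h1)]
  exact ⟨w, _, h2, hi, hj', coord_of_at M S hS (bt M S hS h hQ) (exists_at M S hS h hQ) hij h2 hi hj'⟩

end main

end Cfsg.Agent.Omega.BTwo

end

section


/-!
# NODE LIE: the torus on helper627's `Coord`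
-/

set_option autoImplicit false
set_option linter.unusedSectionVars false

namespace Cfsg.Agent.Omega.Lie

open Subgroup Cfsg.Agent.Omega.BTwo

universe u v w

variable {G : Type u} [Group G] {ι : Type w} {F : Type v} [Field F]
  {V : Subgroup G} {R : ι → Subgroup G} {i j : ι} {v : F → F → G} {w1 w2 : F → G}

theorem Crd.of_coord (c : Coord V R i j v w1 w2) : Crd V R i j v w1 w2 where
  ne := c.ne
  v_add := c.v_add
  v_inj := c.v_one
  v_mem := c.mem_V
  Ri := c.mem_R1
  Rj := c.mem_R2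
  W1 := c.w1_mem
  W2 := c.w2_mem
  a1 := c.w1_act
  a2 := c.w2_act
  f1 := c.W1_act
  f2 := c.W2_act

theorem Crd.to_coord (c : Crd V R i j v w1 w2) : Coord V R i j v w1 w2 where
  ne := c.ne
  v_add := c.v_add
  v_one := c.v_inj
  mem_V := c.v_mem
  mem_R1 := c.Ri
  mem_R2 := c.Rj
  w1_mem := c.W1
  w2_mem := c.W2
  w1_act := c.a1
  w2_act := c.a2
  W1_act := c.f1
  W2_act := c.f2

/-- **existence of the torus** from coordinates; `C(W i)` a 2-group (for `BTC`, `BTS`, `BTH`:
`cen_W_isPGroup`) -/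
theorem coord_exists_torD [Finite G] [Finite F] [CharP F 2] (b : BT V R) (c : Coord V R i j v w1 w2)
    (hp : IsPGroup 2 (centralizer (WW V (R i) : Set G))) : ∃ t : F → G, TorD V R i j v t := by
  obtain ⟨M, _, _, p1, p2, y⟩ := c.exists_yMod b
  exact exists_torD' b (Crd.of_coord c) y hp

/-- `C_X(V)` is a 2-group -/
theorem coord_cen_X_V_isPGroup [Finite G] [Finite F] [CharP F 2] (b : BT V R)
    (c : Coord V R i j v w1 w2) (hp : IsPGroup 2 (centralizer (WW V (R i) : Set G))) :
    IsPGroup 2 (XX V R ⊓ centralizer (V : Set G) : Subgroup G) := by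
  obtain ⟨M, _, _, p1, p2, y⟩ := c.exists_yMod b
  exact cen_X_V_isPGroup' b (Crd.of_coord c) y hp

end Cfsg.Agent.Omega.Lie

end

section


/-!
# SQ3 / NODE LIE: `Coord` (BTwo/Coord.lean) gives `Crd` (Lie/Torus.lean)
-/

set_option autoImplicit false

namespace Cfsg.Agent.Omega.Lie.CrdOf

open Subgroup Cfsg.Agent.Omega.BTwo Cfsg.Agent.Omega.NatPair

theorem crd {G : Type*} [Group G] {ι : Type*} {F : Type*} [Field F] {V : Subgroup G} {R : ι → Subgroup G} {i j : ι}
    {v : F → F → G} {w1 w2 : F → G} (c : Coord V R i j v w1 w2) : Crd V R i j v w1 w2 :=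
  ⟨c.ne, c.v_add, c.v_one, c.mem_V, c.mem_R1, c.mem_R2, c.w1_mem, c.w2_mem, c.w1_act, c.w2_act, c.W1_act, c.W2_act⟩

end Cfsg.Agent.Omega.Lie.CrdOf

end
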