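import Cfsg.Agent.Mrg.Omega.BTwo.CoordNat
import Cfsg.Agent.Mrg.Omega.Lie.TorD
import Cfsg.Agent.Mrg.Omega.Assembly
import Cfsg.Agent.Lib.NormalAbelian
import Mathlib
import Cfsg.Agent.Mrg.Omega.IId.Cv.TwoV_m3
import Cfsg.Agent.Solvable.Gaschutz
import Cfsg.Agent.Mrg.Omega.ThmC.TwoData_m3
import Cfsg.Agent.Solvable.Glauberman
import Cfsg.Agent.Mrg.ParSys.Core
import Cfsg.Agent.Mrg.Omega.HOne.TvTail_m3
import Cfsg.Agent.Mrg.ParSys.FreeTrans
import Cfsg.Agent.S1143
import Cfsg.Agent.TitsThree.SolvedFF_mg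
import Cfsg.Agent.TitsThree.SolvedSL_mg
import Cfsg.Agent.ChevalleyStructure.FieldIso
import Cfsg.Agent.FourTwo.Base
import Cfsg.Agent.F42.AllSys_m3
import Cfsg.Agent.FourTwo.CentAll
import Cfsg.Agent.FastGrp
import Cfsg.Agent.Prune
set_option linter.all false

section
prune_inst 0x7ff0ecf88bb8bddfdfff7e7fae9cddfc39901fffe6dffd43ffe063ff0bdf030609c523ad09e090fe0f96421410a87843f97ecfffea6bd87ffffd1ff45ffbee0ff5f7bd0851968c340fbc0ff703f0778a7f3fffffffffffffffffffffffffffbeffffffffffff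

-- part: Mrg/Omega/BTwo/EntryC
section
set_option linter.all false
open scoped Cfsg.Agent.FastGrp


/-!
# SQ3: the structure `BTC` from a mutual pair in a group of characteristic 2 type

`btc`: `G` of characteristic 2 type, `S ∈ Syl₂(G)`, `S ≤ N(V)`, `Ω₁(Z(S)) ≤ V`, `V` natural (`NatMod F V`), `(V, V^g)`
a mutual pair, `V ≤ O₂(N(V ∩ V^g))` (`b = 2`) ⇒ `BTC V (points of V)`.
-/

set_option autoImplicit false
set_option linter.unusedSectionVars false

namespace Cfsg.Agent.Omega.BTwo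

open Subgroup Cfsg Cfsg.Agent.Lib.SL2Mat Cfsg.Agent.Omega.NatPair Cfsg.Agent.Omega.MinPar Cfsg.Agent.ZN

universe u

variable {G : Type u} [Group G] {F : Type*} [Field F] {V : Subgroup G}

/-- a nontrivial subgroup of `S` normalised by `S` meets `Ω₁(Z(S))` -/
theorem exists_mem_zc [Finite G] {S T : Subgroup G} (hS : IsPGroup 2 S) (hT1 : T ≠ ⊥) (hTS : T ≤ S)
    (hn : S ≤ normalizer (T : Set G)) : ∃ y ∈ T, y ≠ 1 ∧ y ∈ zc S := by
  have hfact : Fact (Nat.Prime 2) := ⟨Nat.prime_two⟩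
  have hTn : (T.subgroupOf S).Normal := ⟨fun n hn' g => by
    rw [mem_subgroupOf] at hn' ⊢
    exact (mem_normalizer_iff.1 (hn g.2) _).1 hn'⟩
  have hTb : T.subgroupOf S ≠ ⊥ := by
    rw [Ne, subgroupOf_eq_bot]
    intro hd
    exact hT1 (le_bot_iff.1 (hd le_rfl hTS))
  have hnil : Group.IsNilpotent S := hS.isNilpotent
  have h1 := Cfsg.Agent.Lib.NormalAbelian.normal_inf_center_ne_bot (T.subgroupOf S) hTb
  obtain ⟨w, hw, hw1⟩ : ∃ w ∈ T.subgroupOf S ⊓ center S, w ≠ 1 := by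
    rcases bot_or_exists_ne_one (T.subgroupOf S ⊓ center S) with h | h
    · exact absurd h h1
    · exact h
  obtain ⟨k, hk⟩ := hS w
  have hex : ∃ j : ℕ, w ^ 2 ^ j = 1 := ⟨k, hk⟩
  classical
  have hj := Nat.find_spec hex
  rcases Nat.eq_zero_or_pos (Nat.find hex) with h0 | h0
  · rw [h0, pow_zero, pow_one] at hj
    exact absurd hj hw1
  · have h2 : w ^ 2 ^ (Nat.find hex - 1) ≠ 1 := Nat.find_min hex (by omega)
    have h3 : w ^ 2 ^ (Nat.find hex - 1) ∈ T.subgroupOf S ⊓ center S := pow_mem hw _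
    refine ⟨_, mem_subgroupOf.1 h3.1, fun h4 => h2 (Subtype.ext h4), ?_⟩
    rw [MinSimple.VModule.mem_zc]
    refine ⟨(w ^ 2 ^ (Nat.find hex - 1)).2, fun b hb => ?_, ?_⟩
    · have h4 := mem_center_iff.1 h3.2 ⟨b, hb⟩
      exact congrArg Subtype.val h4
    · have h4 : (w ^ 2 ^ (Nat.find hex - 1)) ^ 2 = 1 := by
        rw [← pow_mul, ← pow_succ, Nat.sub_add_cancel h0]
        exact hj
      have h5 := congrArg Subtype.val h4
      simpa using h5

section main

variable [Finite G] [Finite F] [CharP F 2] (M : NatMod F V) (S : Sylow 2 G)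
  (hS : (S : Subgroup G) ≤ normalizer (V : Set G))

end main

end Cfsg.Agent.Omega.BTwo
end

-- part: Mrg/Omega/NO1/B0/Seven
section
prune_inst 0x100304440000000000005042020000004000192000080000800054000080042008000400000010602080a0100000008100000000040000004000000000000000008000000000000000080000000400000000000000000000000000000000000000000000
set_option linter.all false
open scoped Cfsg.Agent.FastGrp

-- merged: Cfsg.Agent.Omega.NO1.B0.Pure
section

/-!
# N1, THEOREM B0 (bb OMEGA #18835, helper970), step (0)/(1): semilinear maps of `F²`, pure part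

`semi`: an additive injective map of `F²` mapping lines to lines and fixing `(1,0)` is
`(x, y) ↦ (α x + δ α y, β α y)` with `α` a ring homomorphism.
-/

set_option autoImplicit false
set_option linter.unusedSectionVars false
set_option linter.style.haveILetI false

namespace Cfsg.Agent.Omega.NO1.B0

variable {F : Type*} [Field F] [Finite F]

theorem vec_eq (v : Fin 2 → F) : v = ![v 0, v 1] := by
  ext i; fin_cases i <;> rfl

omit [Finite F] in
theorem smul_vec (k x y : F) : k • ![x, y] = ![k * x, k * y] := by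
  ext i; fin_cases i <;> rfl

omit [Finite F] in
theorem add_vec (x y x' y' : F) : ![x, y] + ![x', y'] = ![x + x', y + y'] := by
  ext i; fin_cases i <;> rfl

omit [Finite F] in
theorem vec_inj {x y x' y' : F} (h : ![x, y] = ![x', y']) : x = x' ∧ y = y' :=
  ⟨congrFun h 0, congrFun h 1⟩

theorem semi (g : (Fin 2 → F) →+ (Fin 2 → F)) (hinj : Function.Injective g)
    (hline : ∀ (v : Fin 2 → F) (k : F), ∃ k' : F, g (k • v) = k' • g v) (h1 : g ![1, 0] = ![1, 0]) :
    ∃ (α : F →+* F) (β δ : F), β ≠ 0 ∧ ∀ x y, g ![x, y] = ![α x + δ * α y, β * α y] := by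
  -- first coordinate
  have hx : ∀ x, g ![x, 0] = ![g ![x, 0] 0, 0] := by
    intro x
    obtain ⟨k, hk⟩ := hline ![1, 0] x
    rw [smul_vec, mul_one, mul_zero, h1, smul_vec, mul_one, mul_zero] at hk
    rw [hk]; rfl
  set δ := g ![0, 1] 0 with hδ
  set β := g ![0, 1] 1 with hβ
  have h01 : g ![0, 1] = ![δ, β] := vec_eq _
  have hαinj : Function.Injective (fun x : F => g ![x, 0] 0) := by
    intro x y hxy
    have h2 : g ![x, 0] = g ![y, 0] := by
      rw [hx x, hx y]; exact congrArg (fun c => ![c, 0]) hxy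
    exact (vec_inj (hinj h2)).1
  have hβ0 : β ≠ 0 := by
    intro h0
    obtain ⟨x, hx'⟩ := (Finite.injective_iff_surjective.1 hαinj) δ
    have h2 : g ![x, 0] = g ![0, 1] := by
      rw [hx x, h01, h0]; exact congrArg (fun c => ![c, 0]) hx'
    exact zero_ne_one (vec_inj (hinj h2)).2
  have hadd : ∀ x y : F, g ![x, y] = g ![x, 0] + g ![0, y] := by
    intro x y
    rw [← map_add, add_vec, add_zero, zero_add]
  have hy : ∀ y, g ![0, y] = ![δ * g ![y, 0] 0, β * g ![y, 0] 0] := by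
    intro y
    obtain ⟨k, hk⟩ := hline ![0, 1] y
    rw [smul_vec, mul_one, mul_zero, h01, smul_vec] at hk
    obtain ⟨k', hk'⟩ := hline ![1, 1] y
    rw [smul_vec, mul_one, hadd y y, hk, hadd 1 1, h1, h01, hx y, add_vec, add_vec, smul_vec] at hk'
    obtain ⟨e1, e2⟩ := vec_inj hk'
    rw [zero_add, zero_add] at e2
    have h2 : k = k' := mul_right_cancel₀ hβ0 e2
    subst h2
    have h3 : g ![y, 0] 0 = k := by
      have : g ![y, 0] 0 + k * δ = k + k * δ := by rw [e1]; ring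
      exact add_right_cancel this
    rw [hk, h3, mul_comm, mul_comm k β]
  have hα1 : g ![1, 0] 0 = 1 := by rw [h1]; rfl
  have hmul : ∀ m y : F, g ![y * m, 0] 0 = g ![y, 0] 0 * g ![m, 0] 0 := by
    intro m y
    obtain ⟨k, hk⟩ := hline ![m, 1] y
    rw [smul_vec, mul_one, hadd (y * m) y, hy y, hadd m 1, hy 1, hα1, hx (y * m), hx m, add_vec,
      add_vec, smul_vec] at hk
    obtain ⟨e1, e2⟩ := vec_inj hk
    rw [zero_add, zero_add, mul_one] at e2
    have h2 : g ![y, 0] 0 = k := by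
      have : β * g ![y, 0] 0 = β * k := by rw [e2]; ring
      exact mul_left_cancel₀ hβ0 this
    rw [← h2] at e1
    have : g ![y * m, 0] 0 + δ * g ![y, 0] 0 =
        g ![y, 0] 0 * g ![m, 0] 0 + δ * g ![y, 0] 0 := by rw [e1]; ring
    exact add_right_cancel this
  let α : F →+* F :=
    { toFun := fun x => g ![x, 0] 0
      map_one' := hα1
      map_mul' := fun x y => hmul y x
      map_zero' := by
        have : (![0, 0] : Fin 2 → F) = 0 := by ext i; fin_cases i <;> rfl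
        rw [this, map_zero]; rfl
      map_add' := fun x y => by
        have : ![x + y, 0] = ![x, 0] + ![y, (0 : F)] := by rw [add_vec, add_zero]
        rw [this, map_add]; rfl }
  refine ⟨α, β, δ, hβ0, fun x y => ?_⟩
  rw [hadd x y, hx x, hy y, add_vec, zero_add]; rfl

/-- the number of ring endomorphisms of order `≤ 2` is at most 2 -/
theorem card_inv_le [CharP F 2] (S : Set (F →+* F)) (hS : ∀ α ∈ S, ∀ x, α (α x) = x) :
    Nat.card S ≤ 2 := by
  classical
  letI : Algebra (ZMod 2) F := ZMod.algebra F 2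
  haveI : Fintype (F ≃ₐ[ZMod 2] F) := Fintype.ofFinite _
  let φ : S → (F ≃ₐ[ZMod 2] F) := fun α =>
    { toFun := α.1
      invFun := α.1
      left_inv := hS α.1 α.2
      right_inv := hS α.1 α.2
      map_mul' := map_mul α.1
      map_add' := map_add α.1
      commutes' := fun r => by
        change α.1 (algebraMap (ZMod 2) F r) = algebraMap (ZMod 2) F r
        exact congrFun (congrArg DFunLike.coe (RingHom.ext_zmod (α.1.comp (algebraMap (ZMod 2) F))
          (algebraMap (ZMod 2) F))) r }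
  have hφ : Function.Injective φ := by
    intro α β h
    apply Subtype.ext
    ext x
    exact DFunLike.congr_fun h x
  have h2 : ∀ α, (φ α) ^ 2 = 1 := by
    intro α
    ext x
    rw [pow_two]
    exact hS α.1 α.2 x
  have h3 := IsCyclic.card_pow_eq_one_le (α := F ≃ₐ[ZMod 2] F) (n := 2) (by norm_num)
  have h4 : Nat.card S ≤ Nat.card {a : F ≃ₐ[ZMod 2] F // a ∈ (Finset.univ.filter fun a => a ^ 2 = 1)} := by
    refine Nat.card_le_card_of_injective (fun α => ⟨φ α, by simp only [h2, _root_.Finset.mem_filter, _root_.Finset.mem_univ, _root_.and_self]⟩) ?_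
    intro α β h
    exact hφ (congrArg Subtype.val h)
  have h5 : Nat.card {a : F ≃ₐ[ZMod 2] F // a ∈ (Finset.univ.filter fun a => a ^ 2 = 1)} =
      (Finset.univ.filter fun a : F ≃ₐ[ZMod 2] F => a ^ 2 = 1).card := by
    rw [Nat.card_eq_fintype_card, Fintype.card_coe]
  rw [h5] at h4
  exact h4.trans h3

theorem exists_vec (v : Fin 2 → F) : ∃ x y, v = ![x, y] := ⟨v 0, v 1, vec_eq v⟩

/-- sets on which the quotients lie in `Fx` -/
theorem card_le_of_ratio {Fx D : Set F} (h0 : (0 : F) ∈ Fx)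
    (h : ∀ d ∈ D, ∀ d' ∈ D, d' ≠ 0 → d / d' ∈ Fx) : Nat.card D ≤ Nat.card Fx := by
  by_cases hD : ∃ d' ∈ D, d' ≠ 0
  · obtain ⟨d', hd', hne⟩ := hD
    refine Nat.card_le_card_of_injective (fun d : D => (⟨d.1 / d', h d.1 d.2 d' hd' hne⟩ : Fx)) ?_
    intro a b hab
    have := congrArg Subtype.val hab
    simp only at this
    exact Subtype.ext ((div_left_inj' hne).1 this)
  · push Not at hD
    refine Nat.card_le_card_of_injective (fun _ : D => (⟨0, h0⟩ : Fx)) ?_
    intro a b _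
    exact Subtype.ext ((hD a.1 a.2).trans (hD b.1 b.2).symm)

/-- **PL2** -/
theorem triv_of_mu [CharP F 2] {P : Type*} [Group P] [Finite P]
    (g : P → ((Fin 2 → F) →+ (Fin 2 → F))) (h1 : ∀ v, g 1 v = v)
    (hmul : ∀ p q v, g (p * q) v = g p (g q v)) (hsq : ∀ p : P, p * p = 1)
    (hform : ∀ p, ∃ (α : F →+* F) (β δ : F), β ≠ 0 ∧ ∀ x y, g p ![x, y] = ![α x + δ * α y, β * α y])
    (hmu : Nat.card {p : P | ∀ v, g p v = v} * Nat.card F ^ 2 ≤
      Nat.card P * Nat.card {v : Fin 2 → F | ∀ p, g p v = v}) (p : P) (x : F) :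
    g p ![x, 0] = ![x, 0] := by
  classical
  have hcomm : ∀ p q : P, p * q = q * p := by
    intro p q
    have hp : p⁻¹ = p := inv_eq_of_mul_eq_one_left (hsq p)
    have hq : q⁻¹ = q := inv_eq_of_mul_eq_one_left (hsq q)
    have hpq : (p * q)⁻¹ = p * q := inv_eq_of_mul_eq_one_left (hsq _)
    rw [← hpq, mul_inv_rev, hp, hq]
  have hinv : ∀ p v, g p (g p v) = v := fun p v => by rw [← hmul, hsq, h1]
  by_contra hne
  choose α β δ hβ hg using hform
  have hp0 : ∀ p x, g p ![x, 0] = ![α p x, 0] := by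
    intro p x; rw [hg, map_zero, mul_zero, mul_zero, add_zero]
  have hαα : ∀ p x, α p (α p x) = x := by
    intro p x
    have := hinv p ![x, 0]
    rw [hp0, hp0] at this
    exact (vec_inj this).1
  have hαmul : ∀ p q x, α (p * q) x = α p (α q x) := by
    intro p q x
    have := hmul p q ![x, 0]
    rw [hp0, hp0, hp0] at this
    exact (vec_inj this).1
  have hαne : ∃ x, α p x ≠ x := ⟨x, fun h => hne (by rw [hp0, h])⟩
  -- the kernel of `α`
  let P₀ : Set P := {q | ∀ x, α q x = x}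
  have c1 : Nat.card P ≤ 2 * Nat.card P₀ := by
    have h2 := card_inv_le (Set.range α) (by
      rintro _ ⟨q, rfl⟩ x
      exact hαα q x)
    have h3 : Nat.card P ≤ Nat.card (Set.range α × P₀) := by
      choose r hr using fun s : Set.range α => s.2
      refine Nat.card_le_card_of_injective (fun q : P =>
        ((⟨α q, q, rfl⟩ : Set.range α), (⟨r ⟨α q, q, rfl⟩ * q, fun x => by
          rw [hαmul, hr ⟨α q, q, rfl⟩]; exact hαα q x⟩ : P₀))) ?_
      intro q q' hqq
      have e1 := congrArg (fun s => s.1) hqq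
      have e2 := congrArg (fun s => s.2.1) hqq
      simp only at e1 e2
      rw [e1] at e2
      exact mul_left_cancel e2
    rw [Nat.card_prod] at h3
    calc Nat.card P ≤ _ := h3
      _ ≤ 2 * Nat.card P₀ := Nat.mul_le_mul_right _ h2
  -- the form on `P₀`
  have hP₀ : ∀ q ∈ P₀, ∀ x y, g q ![x, y] = ![x + δ q * y, y] := by
    intro q hq x y
    have h2 := hinv q ![0, 1]
    rw [hg, hg, hq, hq, hq] at h2
    have h3 := (vec_inj h2).2
    rw [hq] at h3
    have h4 : β q = 1 := by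
      have h5 : (β q - 1) ^ 2 = 0 := by
        have : (β q - 1) ^ 2 = β q ^ 2 - 1 := by
          have h2 : (2 : F) = 0 := by exact_mod_cast CharP.cast_eq_zero F 2
          linear_combination (-β q + 1) * h2
        rw [this]
        linear_combination h3
      exact sub_eq_zero.1 (pow_eq_zero_iff (two_ne_zero) |>.1 h5)
    rw [hg, hq, hq, h4, one_mul]
  have hcp : ∀ q ∈ P₀, α p (δ q) = δ q * β p := by
    intro q hq
    have h2 : g p (g q ![0, 1]) = g q (g p ![0, 1]) := by rw [← hmul, hcomm, hmul]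
    rw [hP₀ q hq, hg p, hg p, hP₀ q hq] at h2
    have h3 := (vec_inj h2).1
    simp only [zero_add, mul_one, map_zero, map_one] at h3
    have : α p (δ q) + δ p = δ q * β p + δ p := by rw [h3]; ring
    exact add_right_cancel this
  -- fixed field
  let Fx : AddSubgroup F := { carrier := {x | α p x = x}
                              zero_mem' := map_zero _
                              add_mem' := fun {a b} ha hb => by
                                change α p (a + b) = a + b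
                                rw [map_add]; exact congrArg₂ (· + ·) ha hb
                              neg_mem' := fun {a} ha => by
                                change α p (-a) = -a
                                rw [map_neg]; exact congrArg Neg.neg ha }
  have hFx0 : 0 < Nat.card Fx := Nat.card_pos
  have hr : 2 * Nat.card Fx ≤ Nat.card F := by
    have h2 := Fx.card_mul_index
    have h3 : Fx.index ≠ 1 := by
      intro h3
      rw [AddSubgroup.index_eq_one] at h3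
      obtain ⟨x, hx⟩ := hαne
      apply hx
      have : x ∈ Fx := h3 ▸ AddSubgroup.mem_top x
      exact this
    have h4 : Fx.index ≠ 0 := AddSubgroup.index_ne_zero_of_finite
    rw [← h2, mul_comm]
    exact Nat.mul_le_mul_left _ (by omega)
  let N₀ : Set P := {q | ∀ v, g q v = v}
  let Fix : Set (Fin 2 → F) := {v | ∀ q, g q v = v}
  have hmu' : Nat.card N₀ * Nat.card F ^ 2 ≤ Nat.card P * Nat.card Fix := hmu
  have hN₀pos : 0 < Nat.card N₀ := by
    have : Nonempty N₀ := ⟨⟨1, h1⟩⟩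
    exact Nat.card_pos
  have key : Nat.card F ^ 2 ≤ 2 * Nat.card Fx ^ 2 := by
    by_cases hδ : ∀ q ∈ P₀, δ q = 0
    · -- case A
      have h2 : Nat.card P₀ ≤ Nat.card N₀ := by
        refine Nat.card_le_card_of_injective (fun q : P₀ => (⟨q.1, fun v => by
          obtain ⟨x, y, rfl⟩ := exists_vec v
          rw [hP₀ q.1 q.2, hδ q.1 q.2, zero_mul, add_zero]⟩ : N₀)) ?_
        intro a b hab
        have h3 : a.1 = b.1 := congrArg (fun c : N₀ => c.1) hab
        exact Subtype.ext h3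
      have h3 : Nat.card Fix ≤ Nat.card Fx * Nat.card Fx := by
        let Ey : Set F := {y | β p * α p y = y}
        have h4 : Nat.card Ey ≤ Nat.card Fx := by
          refine card_le_of_ratio (Fx := (Fx : Set F)) Fx.zero_mem ?_
          intro d hd d' hd' hne'
          change α p (d / d') = d / d'
          rw [map_div₀]
          have e1 : α p d = (β p)⁻¹ * d := by
            have : β p * α p d = d := hd
            rw [← this, ← mul_assoc, inv_mul_cancel₀ (hβ p), one_mul, this]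
          have e2 : α p d' = (β p)⁻¹ * d' := by
            have : β p * α p d' = d' := hd'
            rw [← this, ← mul_assoc, inv_mul_cancel₀ (hβ p), one_mul, this]
          rw [e1, e2, mul_div_mul_left _ _ (inv_ne_zero (hβ p))]
        have h5 : Nat.card Fix ≤ Nat.card (Ey × Fx) := by
          have hmem : ∀ v : Fix, β p * α p (v.1 1) = v.1 1 ∧
              α p (v.1 0) + δ p * α p (v.1 1) = v.1 0 := by
            intro v
            have h6 := v.2 p
            obtain ⟨x, y, hxy⟩ := exists_vec v.1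
            rw [hxy, hg] at h6
            obtain ⟨e1, e2⟩ := vec_inj h6
            rw [hxy]
            exact ⟨e2, e1⟩
          -- representatives
          let rep : F → F := fun y => if hy : ∃ v : Fix, v.1 1 = y then hy.choose.1 0 else 0
          have hrep : ∀ v : Fix, α p (rep (v.1 1)) + δ p * α p (v.1 1) = rep (v.1 1) := by
            intro v
            have hy : ∃ v' : Fix, v'.1 1 = v.1 1 := ⟨v, rfl⟩
            have e : rep (v.1 1) = hy.choose.1 0 := by simp only [rep, hy, dite_true]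
            rw [e]
            have := (hmem hy.choose).2
            rw [hy.choose_spec] at this
            exact this
          refine Nat.card_le_card_of_injective (fun v : Fix =>
            ((⟨v.1 1, (hmem v).1⟩ : Ey), (⟨v.1 0 - rep (v.1 1), by
              change α p (v.1 0 - rep (v.1 1)) = v.1 0 - rep (v.1 1)
              rw [map_sub]
              have e1 := (hmem v).2
              have e2 := hrep v
              linear_combination e1 - e2⟩ : Fx))) ?_
          intro a b hab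
          have e1 := congrArg (fun s => s.1.1) hab
          have e2 := congrArg (fun s => s.2.1) hab
          simp only at e1 e2
          rw [e1] at e2
          have e3 := sub_left_injective e2
          apply Subtype.ext
          rw [vec_eq a.1, vec_eq b.1, e1, e3]
        rw [Nat.card_prod] at h5
        exact h5.trans (Nat.mul_le_mul_right _ h4)
      have h4 : Nat.card N₀ * Nat.card F ^ 2 ≤ Nat.card N₀ * (2 * Nat.card Fx ^ 2) := by
        calc Nat.card N₀ * Nat.card F ^ 2 ≤ Nat.card P * Nat.card Fix := hmu'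
          _ ≤ (2 * Nat.card N₀) * (Nat.card Fx * Nat.card Fx) :=
              Nat.mul_le_mul (c1.trans (Nat.mul_le_mul_left _ h2)) h3
          _ = Nat.card N₀ * (2 * Nat.card Fx ^ 2) := by ring
      exact Nat.le_of_mul_le_mul_left h4 hN₀pos
    · -- case B
      push Not at hδ
      obtain ⟨q, hq, hδq⟩ := hδ
      have h3 : Nat.card Fix ≤ Nat.card Fx := by
        have hmem : ∀ v : Fix, v.1 1 = 0 ∧ α p (v.1 0) = v.1 0 := by
          intro v
          obtain ⟨x, y, hxy⟩ := exists_vec v.1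
          have h6 := v.2 q
          have h7 := v.2 p
          rw [hxy] at h6 h7 ⊢
          rw [hP₀ q hq] at h6
          have e1 := (vec_inj h6).1
          have e2 : δ q * y = 0 := by linear_combination e1
          have e3 : y = 0 := (mul_eq_zero.1 e2).resolve_left hδq
          subst e3
          rw [hp0] at h7
          exact ⟨rfl, (vec_inj h7).1⟩
        refine Nat.card_le_card_of_injective (fun v : Fix => (⟨v.1 0, (hmem v).2⟩ : Fx)) ?_
        intro a b hab
        have e1 : a.1 0 = b.1 0 := congrArg Subtype.val hab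
        apply Subtype.ext
        rw [vec_eq a.1, vec_eq b.1, e1, (hmem a).1, (hmem b).1]
      let D : Set F := {d | α p d = d * β p}
      have h4 : Nat.card D ≤ Nat.card Fx := by
        refine card_le_of_ratio (Fx := (Fx : Set F)) Fx.zero_mem ?_
        intro d hd d' hd' hne'
        change α p (d / d') = d / d'
        rw [map_div₀, show α p d = d * β p from hd, show α p d' = d' * β p from hd',
          mul_div_mul_right _ _ (hβ p)]
      have h5 : Nat.card P₀ ≤ Nat.card D * Nat.card N₀ := by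
        rw [← Nat.card_prod]
        have hδm : ∀ a ∈ P₀, ∀ b ∈ P₀, ∀ x y, g (a * b) ![x, y] = ![x + (δ a + δ b) * y, y] := by
          intro a ha b hb x y
          rw [hmul, hP₀ b hb, hP₀ a ha]
          congr 1
          ring
        let r : D → P := fun d => if hd : ∃ a : P₀, δ a.1 = d.1 then hd.choose.1 else 1
        have hr1 : ∀ a : P₀, r ⟨δ a.1, hcp a.1 a.2⟩ ∈ P₀ ∧ δ (r ⟨δ a.1, hcp a.1 a.2⟩) = δ a.1 := by
          intro a
          have hd : ∃ a' : P₀, δ a'.1 = δ a.1 := ⟨a, rfl⟩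
          have e : r ⟨δ a.1, hcp a.1 a.2⟩ = hd.choose.1 := by simp only [r, hd, dite_true]
          rw [e]
          exact ⟨hd.choose.2, hd.choose_spec⟩
        refine Nat.card_le_card_of_injective (fun a : P₀ =>
          ((⟨δ a.1, hcp a.1 a.2⟩ : D), (⟨r ⟨δ a.1, hcp a.1 a.2⟩ * a.1, fun v => by
            obtain ⟨x, y, rfl⟩ := exists_vec v
            rw [hδm _ (hr1 a).1 _ a.2, (hr1 a).2]
            have : δ a.1 + δ a.1 = 0 := CharTwo.add_self_eq_zero _
            rw [this, zero_mul, add_zero]⟩ : N₀))) ?_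
        intro a b hab
        have e1 := congrArg (fun s => s.1) hab
        have e2 := congrArg (fun s => s.2.1) hab
        simp only at e1 e2
        rw [e1] at e2
        exact Subtype.ext (mul_left_cancel e2)
      have h6 : Nat.card N₀ * Nat.card F ^ 2 ≤ Nat.card N₀ * (2 * Nat.card Fx ^ 2) := by
        calc Nat.card N₀ * Nat.card F ^ 2 ≤ Nat.card P * Nat.card Fix := hmu'
          _ ≤ (2 * (Nat.card D * Nat.card N₀)) * Nat.card Fx :=
              Nat.mul_le_mul (c1.trans (Nat.mul_le_mul_left _ h5)) h3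
          _ ≤ (2 * (Nat.card Fx * Nat.card N₀)) * Nat.card Fx := by gcongr
          _ = Nat.card N₀ * (2 * Nat.card Fx ^ 2) := by ring
      exact Nat.le_of_mul_le_mul_left h6 hN₀pos
  nlinarith only [hFx0, hr, key]

end Cfsg.Agent.Omega.NO1.B0

end

-- merged: Cfsg.Agent.Mrg.Omega.NO1.B0.Fld
section

section


/-!
# THEOREM B0 (bb OMEGA 18835, helper970): coordinates on `X`

`Loc`, `Beta` with `C = C_V(L) = 0`: `L` acts on `X = C_V(Q)` as `SL₂(K)`, `|K| = |X₁|`, natural module,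
`X₁ = {(x,0)}`.
-/

set_option autoImplicit false
set_option linter.unusedSectionVars false
set_option linter.style.haveILetI false

namespace Cfsg.Agent.Omega.NO1.B0

open Subgroup Cfsg.Agent.Omega.NO1.AB
open scoped Pointwise MatrixGroups

universe u

variable {L : Type u} [Group L] {V : Type u} [AddCommGroup V] [DistribMulAction L V]

/-- the action on an invariant subgroup -/
@[reducible] def actX {X : AddSubgroup V} (hX : ∀ (l : L), ∀ x ∈ X, l • x ∈ X) : DistribMulAction L X where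
  smul l x := ⟨l • (x : V), hX l x x.2⟩
  one_smul x := Subtype.ext (one_smul L (x : V))
  mul_smul l m x := Subtype.ext (mul_smul l m (x : V))
  smul_zero l := Subtype.ext (smul_zero l)
  smul_add l x y := Subtype.ext (smul_add l (x : V) (y : V))

/-- the endomorphism of `X` -/
def endX {X : AddSubgroup V} (hX : ∀ (l : L), ∀ x ∈ X, l • x ∈ X) : L →* (AddMonoid.End X)ˣ :=
  letI := actX hX
  MonoidHom.toHomUnits (DistribMulAction.toAddMonoidEnd L X)

section

variable {A : Subgroup L} {E F : AddSubgroup V} {Q L₁ : Subgroup L} {R : Sylow 2 L} {z : V}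
  (h : Loc A E F Q L₁ R z) (hb : Beta A E F (fx V Q) Q L₁)
include h hb

theorem exists_out : ∃ g : L, g ∉ L₁ := by
  by_contra hc
  push Not at hc
  exact h.ne (eq_top_iff.2 fun g _ => hc g)

theorem X1_card_mul [Finite L] [Finite V] (hC : fx V (⊤ : Subgroup L) = ⊥) :
    Nat.card ↥(fx V Q ⊓ F) * Nat.card ↥(A ⊓ Q) = Nat.card A := by
  rw [hb.card, hC, AddSubgroup.card_bot, one_mul]

theorem inf_comp [Finite L] [Finite V] (hC : fx V (⊤ : Subgroup L) = ⊥) {g k : L} (hgk : g⁻¹ * k ∉ L₁) :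
    g • (fx V Q ⊓ F) ⊓ k • (fx V Q ⊓ F) = ⊥ := by
  rw [eq_bot_iff, ← hC]
  rintro v ⟨h1, h2⟩
  exact h.mem_C_of hgk h1 h2

theorem card_X [Finite L] [Finite V] (hC : fx V (⊤ : Subgroup L) = ⊥) :
    Nat.card ↥(fx V Q) = Nat.card ↥(fx V Q ⊓ F) ^ 2 := by
  obtain ⟨g, hg⟩ := exists_out h hb
  have h1 := card_sup_as (fx V Q ⊓ F) (g • (fx V Q ⊓ F))
  have h2 := inf_comp h hb hC (g := 1) (k := g) (by simpa using hg)
  rw [one_smul] at h2
  rw [h2, ← hb.sup g hg, AddSubgroup.card_bot, mul_one, card_smul_as] at h1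
  rw [h1, pow_two]

/-- the elements which act on `X` as an element of `A` -/
theorem conj_act [Finite L] [Finite V] (hC : fx V (⊤ : Subgroup L) = ⊥) {l : L} (hl : l ∈ L₁) {a : L}
    (ha : a ∈ A) : ∃ a' ∈ A, ∀ x ∈ fx V Q, (l * a * l⁻¹) • x = a' • x := by
  obtain ⟨g, hg⟩ := exists_out h hb
  set m := l * a * l⁻¹ with hm
  have hmL : m ∈ L₁ := mul_mem (mul_mem hl (h.A_le ha)) (inv_mem hl)
  have hmg : m * g ∉ L₁ := fun h1 => hg (by
    have := mul_mem (inv_mem hmL) h1
    rwa [inv_mul_cancel_left] at this)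
  obtain ⟨b, hb1, hb2⟩ := hb.tra g hg (m * g) hmg
  refine ⟨b, hb1, ?_⟩
  set X₁ := fx V Q ⊓ F with hX₁
  -- `m` is trivial on `X₁`
  have e1 : ∀ x ∈ X₁, m • x = x := by
    intro x hx
    have h1 : l⁻¹ • x ∈ X₁ := by
      have h2 := smul_mem_smul_as (g := l⁻¹) hx
      rwa [hb.inv l⁻¹ (inv_mem hl)] at h2
    rw [hm, mul_smul, mul_smul, h.mem.FB a ha _ h1.2, smul_inv_smul]
  have e2 : ∀ x ∈ fx V Q, m • x + x ∈ X₁ := by
    intro x hx
    have h1 : l⁻¹ • x ∈ fx V Q := h.smul_X _ hx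
    have h2 : a • (l⁻¹ • x) + l⁻¹ • x ∈ X₁ :=
      ⟨(fx V Q).add_mem (h.smul_X _ h1) h1, h.mem.EB a ha _ (hb.XE h1)⟩
    have h3 := smul_mem_smul_as (g := l) h2
    rw [hb.inv l hl] at h3
    have e : l • (a • (l⁻¹ • x) + l⁻¹ • x) = m • x + x := by
      rw [smul_add, smul_inv_smul, hm, mul_smul, mul_smul]
    rwa [e] at h3
  -- `k = b⁻¹ m`
  have hbb : b⁻¹ = b := inv_eq_of_mul_eq_one_left (h.mem.sq b hb1)
  have e3 : ∀ x ∈ g • X₁, (b⁻¹ * m) • x = x := by
    intro x hx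
    have hxX : x ∈ fx V Q := h.mem_X_of hx
    have h1 : (b⁻¹ * m) • x ∈ g • X₁ := by
      rw [mem_smul_as]
      have h2 := mem_smul_as.1 hx
      have h3 : g⁻¹ • (b⁻¹ * m) • x = ((b * g)⁻¹ * (m * g)) • (g⁻¹ • x) := by
        rw [← mul_smul, ← mul_smul]
        congr 1
        group
      have h4 := smul_mem_smul_as (g := (b * g)⁻¹ * (m * g)) h2
      rw [hb.inv _ hb2] at h4
      rwa [h3]
    have h2 : (b⁻¹ * m) • x + x ∈ X₁ := by
      have h3 : (b⁻¹ * m) • x + x = b⁻¹ • (m • x + x) + (b⁻¹ • x + x) := by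
        rw [smul_add, mul_smul]
        have : b⁻¹ • m • x + b⁻¹ • x + (b⁻¹ • x + x) = b⁻¹ • m • x + (b⁻¹ • x + b⁻¹ • x) + x := by abel
        rw [this, h.two, add_zero]
      rw [h3]
      refine X₁.add_mem ?_ ?_
      · have h4 := e2 x hxX
        rw [hbb, h.mem.FB b hb1 _ h4.2]
        exact h4
      · rw [hbb]
        exact ⟨(fx V Q).add_mem (h.smul_X _ hxX) hxX, h.mem.EB b hb1 _ (hb.XE hxX)⟩
    have h3 : (b⁻¹ * m) • x + x ∈ fx V (⊤ : Subgroup L) :=
      h.mem_C_of_F hg ((g • X₁).add_mem h1 hx) h2.2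
    rw [hC, AddSubgroup.mem_bot] at h3
    rw [← neg_eq_iff_add_eq_zero] at h3
    rw [← neg_eq_of_add_eq_zero_left (h.two ((b⁻¹ * m) • x)), h3]
  intro x hx
  rw [hb.sup g hg, AddSubgroup.mem_sup] at hx
  obtain ⟨y, hy, w, hw, rfl⟩ := hx
  have h1 : m • w = b • w := by
    have := e3 w hw
    rwa [mul_smul, inv_smul_eq_iff] at this
  rw [smul_add, smul_add, e1 y hy, h.mem.FB b hb1 y hy.2, h1]

/-- **Coordinates on `X`.** -/
theorem exists_coord [Finite L] [Finite V] (hC : fx V (⊤ : Subgroup L) = ⊥) :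
    ∃ (K : Type) (_ : Field K) (_ : Fintype K) (_ : CharP K 2) (e : ↥(fx V Q) ≃+ (Fin 2 → K)),
      Nat.card K = Nat.card ↥(fx V Q ⊓ F) ∧ (∀ v : ↥(fx V Q), (v : V) ∈ F ↔ e v 1 = 0) ∧
      (∀ l : L, ∃ s : Matrix.SpecialLinearGroup (Fin 2) K, ∀ v : ↥(fx V Q),
        e ⟨l • (v : V), h.smul_X l v.2⟩ = s.1.mulVec (e v)) ∧
      (∀ s : Matrix.SpecialLinearGroup (Fin 2) K, ∃ l : L, ∀ v : ↥(fx V Q),
        e ⟨l • (v : V), h.smul_X l v.2⟩ = s.1.mulVec (e v)) ∧
      (∀ a ∈ A, ∃ k : K, ∀ v : ↥(fx V Q),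
        e ⟨a • (v : V), h.smul_X a v.2⟩ = (!![1, k; 0, 1] : Matrix (Fin 2) (Fin 2) K).mulVec (e v)) := by
  set X := fx V Q with hX
  have hXi : ∀ (l : L), ∀ x ∈ X, l • x ∈ X := fun l x hx => h.smul_X l hx
  set ρ : L →* (AddMonoid.End X)ˣ := endX hXi with hρ
  obtain ⟨g₀, hg₀⟩ := exists_out h hb
  -- the group
  set T : Subgroup ρ.range := A.map ρ.rangeRestrict with hT
  set U : AddSubgroup X := F.addSubgroupOf X with hU
  have hTmem : ∀ {t : ρ.range}, t ∈ T ↔ ∃ a ∈ A, ρ.rangeRestrict a = t := fun {t} => Iff.rfl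
  have happ : ∀ (l : L) (x : X), ((ρ.rangeRestrict l • x : X) : V) = l • (x : V) := fun l x => rfl
  have htriv : ∀ l : L, (∀ x ∈ X, l • x = x) → ρ.rangeRestrict l = 1 := by
    intro l hl
    apply Subtype.ext
    apply Units.ext
    apply AddMonoidHom.ext
    intro x
    exact Subtype.ext (hl x x.2)
  have hext : ∀ l m : L, (∀ x ∈ X, l • x = m • x) → ρ.rangeRestrict l = ρ.rangeRestrict m := by
    intro l m hl
    apply Subtype.ext
    apply Units.ext
    apply AddMonoidHom.ext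
    intro x
    exact Subtype.ext (hl x x.2)
  have two : ∀ v : X, v + v = 0 := fun v => Subtype.ext (h.two v)
  have hout : ∃ x ∈ X, x ∉ F := by
    refine ⟨g₀ • z, h.smul_X _ h.z_mem.1, fun h1 => ?_⟩
    have h2 := h.mem_C_of_F hg₀ (smul_mem_smul_as h.z_mem) h1
    rw [hC, AddSubgroup.mem_bot] at h2
    apply h.z_not
    rw [hC, AddSubgroup.mem_bot]
    rwa [smul_eq_zero_iff_eq] at h2
  -- the kernel on `A`
  have hker : ∀ a ∈ A, ρ.rangeRestrict a = 1 → a ∈ Q := by
    intro a ha h1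
    obtain ⟨x, hx, hxF⟩ := hout
    apply hb.cen x hx hxF a ha
    have h2 := congrArg (fun t : ρ.range => ((t • (⟨x, hx⟩ : X) : X) : V)) h1
    simpa only [happ, _root_.one_smul] using h2
  have hcT : Nat.card T = Nat.card ↥(X ⊓ F) := by
    let f : A →* ρ.range := ρ.rangeRestrict.comp A.subtype
    have h1 : f.range = T := by
      rw [hT, MonoidHom.range_comp, Subgroup.range_subtype]
    have h2 : Nat.card f.ker = Nat.card ↥(A ⊓ Q) := by
      apply Nat.card_congr
      exact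
        { toFun := fun a => ⟨a.1.1, a.1.2, hker _ a.1.2 (MonoidHom.mem_ker.1 a.2)⟩
          invFun := fun a => ⟨⟨a.1, a.2.1⟩, MonoidHom.mem_ker.2 (htriv _ fun x hx => hx a a.2.2)⟩
          left_inv := fun a => rfl
          right_inv := fun a => rfl }
    have h3 := Subgroup.card_mul_index f.ker
    rw [Subgroup.index_ker, h1, h2, ← X1_card_mul h hb hC, mul_comm] at h3
    exact Nat.eq_of_mul_eq_mul_right Nat.card_pos h3
  have hX1 : 1 < Nat.card ↥(X ⊓ F) := by
    have h1 : z ≠ 0 := by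
      intro h1
      apply h.z_not
      rw [h1]; exact AddSubgroup.zero_mem _
    have : Nontrivial ↥(X ⊓ F) := ⟨⟨⟨z, h.z_mem⟩, 0, fun h2 => h1 (congrArg Subtype.val h2)⟩⟩
    exact Finite.one_lt_card
  have hcU : Nat.card U = Nat.card ↥(X ⊓ F) := by
    apply Nat.card_congr
    exact
      { toFun := fun v => ⟨v.1.1, v.1.2, AddSubgroup.mem_addSubgroupOf.1 v.2⟩
        invFun := fun v => ⟨⟨v.1, v.2.1⟩, AddSubgroup.mem_addSubgroupOf.2 v.2.2⟩
        left_inv := fun v => rfl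
        right_inv := fun v => rfl }
  haveI : Finite ρ.range := Finite.of_surjective ρ.rangeRestrict ρ.rangeRestrict_surjective
  obtain ⟨K, i1, i2, i3, φ, e, h1, h2, h3, h4, h5, h6, h7⟩ :=
    Cfsg.Agent.Omega.FF.SpreadEnd.exists_field_add (L := ρ.range) (V := X) T U ⊥ two (by
      rintro ⟨_, l, rfl⟩ hl
      exact htriv l fun x hx => congrArg Subtype.val (hl ⟨x, hx⟩)) (by
      intro v
      rw [AddSubgroup.mem_addSubgroupOf]
      constructor
      · rintro hv _ ⟨a, ha, rfl⟩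
        exact Subtype.ext (h.mem.FB a ha _ hv)
      · intro hv
        exact h.mem.CB _ fun a ha => congrArg Subtype.val (hv _ ⟨a, ha, rfl⟩)) (by
      intro v
      rw [AddSubgroup.mem_bot]
      constructor
      · rintro rfl x
        exact smul_zero x
      · intro hv
        have h1 : (v : V) ∈ fx V (⊤ : Subgroup L) := fun l _ => congrArg Subtype.val (hv (ρ.rangeRestrict l))
        rw [hC, AddSubgroup.mem_bot] at h1
        exact Subtype.ext h1) (by
      rintro _ ⟨a, ha, rfl⟩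
      change ρ.rangeRestrict a * ρ.rangeRestrict a = 1
      rw [← map_mul, h.mem.sq a ha, map_one]) (by
      rintro _ ⟨a, ha, rfl⟩ v
      rw [AddSubgroup.mem_addSubgroupOf]
      exact h.mem.EB a ha _ (hb.XE v.2)) (by
      rintro _ ⟨a, ha, rfl⟩ h1 v hv
      rw [AddSubgroup.mem_addSubgroupOf]
      by_contra hvF
      apply h1
      have h2 := hb.cen _ v.2 hvF a ha (congrArg Subtype.val hv)
      exact htriv a fun x hx => hx a h2) (by rw [hcT]; exact hX1) (by
      have h1 := AddSubgroup.card_mul_index U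
      rw [hcU, card_X h hb hC, pow_two] at h1
      rw [hcT]
      exact Nat.eq_of_mul_eq_mul_left Nat.card_pos h1) (by
      rw [AddSubgroup.relIndex_bot_left, hcU, hcT]) (by
      intro K hK
      have h1 : (⊤ : Subgroup L) ≤ K.comap ρ.rangeRestrict := by
        rw [← h.top_of hg₀]
        refine sup_le ?_ ?_
        · intro a ha
          have := hK 1 (ρ.rangeRestrict a) ⟨a, ha, rfl⟩
          simpa using this
        · intro a ha
          rw [mem_conj] at ha
          have := hK (ρ.rangeRestrict g₀) (ρ.rangeRestrict (g₀⁻¹ * a * g₀)) ⟨_, ha, rfl⟩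
          rw [← map_mul, ← map_inv, ← map_mul] at this
          have e : g₀ * (g₀⁻¹ * a * g₀) * g₀⁻¹ = a := by group
          rwa [e] at this
      rw [eq_top_iff]
      rintro ⟨_, l, rfl⟩ _
      exact h1 (mem_top l)) (by
      rintro ⟨_, l, rfl⟩ hl v hv hlv
      rw [AddSubgroup.mem_addSubgroupOf] at hv hlv
      rw [AddSubgroup.mem_bot]
      by_cases hlL : l ∈ L₁
      · exfalso
        apply hl
        have key : ∀ l ∈ L₁, ∀ t ∈ T, ρ.rangeRestrict l * t * (ρ.rangeRestrict l)⁻¹ ∈ T := by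
          rintro l hl _ ⟨a, ha, rfl⟩
          obtain ⟨a', ha', h1⟩ := conj_act h hb hC hl ha
          refine ⟨a', ha', ?_⟩
          change ρ.rangeRestrict a' = ρ.rangeRestrict l * ρ.rangeRestrict a * (ρ.rangeRestrict l)⁻¹
          rw [← map_mul, ← map_inv, ← map_mul]
          exact (hext _ _ h1).symm
        change ρ.rangeRestrict l ∈ _
        rw [mem_normalizer_iff]
        intro y
        constructor
        · exact key l hlL y
        · intro hy
          have h1 := key l⁻¹ (inv_mem hlL) _ hy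
          have e : ρ.rangeRestrict l⁻¹ * (ρ.rangeRestrict l * y * (ρ.rangeRestrict l)⁻¹) * (ρ.rangeRestrict l⁻¹)⁻¹
              = y := by rw [map_inv]; group
          rwa [e] at h1
      · have h1 : l • (v : V) ∈ fx V (⊤ : Subgroup L) :=
          h.mem_C_of_F hlL (smul_mem_smul_as ⟨v.2, hv⟩) hlv
        rw [hC, AddSubgroup.mem_bot] at h1
        exact Subtype.ext h1) (by
      rintro ⟨_, l, rfl⟩ _ hl
      by_contra hcon
      push Not at hcon
      apply hl
      apply htriv l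
      intro x hx
      have h1 := hcon ⟨x, hx⟩
      rw [AddSubgroup.mem_bot] at h1
      have h2 : l • x + x = 0 := congrArg Subtype.val h1
      have h3 := neg_eq_iff_add_eq_zero.2 h2
      rw [neg_eq_of_add_eq_zero_left (h.two (l • x))] at h3
      exact h3)
  have hinj : Function.Injective e := by
    intro v w hvw
    have h8 : e (v + w) = 0 := by
      rw [h2, hvw, ← h2, two, (h4 _).2 (AddSubgroup.zero_mem _)]
    rw [h4, AddSubgroup.mem_bot] at h8
    rw [← neg_eq_iff_add_eq_zero, neg_eq_of_add_eq_zero_left (two v)] at h8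
    exact h8
  let e' : X ≃+ (Fin 2 → K) := AddEquiv.ofBijective (AddMonoidHom.mk' e h2) ⟨hinj, h3⟩
  refine ⟨K, i1, i2, i3, e', by rw [h1, hcT], fun v => ?_, fun l => ⟨φ (ρ.rangeRestrict l), fun v => ?_⟩,
    fun s => ?_, fun a ha => ?_⟩
  · rw [← AddSubgroup.mem_addSubgroupOf (K := X)]
    exact h6 v
  · exact h5 (ρ.rangeRestrict l) v
  · obtain ⟨⟨_, l, rfl⟩, hl⟩ := φ.surjective s
    refine ⟨l, fun v => ?_⟩
    rw [← hl]
    exact h5 (ρ.rangeRestrict l) v
  · obtain ⟨k, hk⟩ := (h7 (ρ.rangeRestrict a)).1 ⟨a, ha, rfl⟩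
    refine ⟨k, fun v => ?_⟩
    rw [← hk]
    exact h5 (ρ.rangeRestrict a) v

end

end Cfsg.Agent.Omega.NO1.B0

end

section


/-!
# THEOREM B0 (bb OMEGA 18835, helper970): the hypotheses in `Y`, the components, the 2-element `t`
-/

set_option autoImplicit false
set_option linter.unusedSectionVars false
set_option linter.style.haveILetI false

namespace Cfsg.Agent.Omega.NO1.B0

open Subgroup Cfsg.Agent.Omega.NO1.AB
open scoped Pointwise MatrixGroups

universe u

section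

variable {L : Type u} [Group L] {V : Type u} [AddCommGroup V] [DistribMulAction L V]
  {A : Subgroup L} {E F : AddSubgroup V} {Q L₁ : Subgroup L} {R : Sylow 2 L} {z : V}
  (h : Loc A E F Q L₁ R z) (hb : Beta A E F (fx V Q) Q L₁)
include h hb

/-- Coordinates on `X` with `z = (1,0)`. -/
theorem exists_coord' [Finite L] [Finite V] (hC : fx V (⊤ : Subgroup L) = ⊥) :
    ∃ (K : Type) (_ : Field K) (_ : Fintype K) (_ : CharP K 2) (e : ↥(fx V Q) ≃+ (Fin 2 → K)),
      Nat.card K = Nat.card ↥(fx V Q ⊓ F) ∧ (∀ v : ↥(fx V Q), (v : V) ∈ F ↔ e v 1 = 0) ∧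
      (∀ l : L, ∃ s : Matrix.SpecialLinearGroup (Fin 2) K, ∀ v : ↥(fx V Q),
        e ⟨l • (v : V), h.smul_X l v.2⟩ = s.1.mulVec (e v)) ∧
      (∀ s : Matrix.SpecialLinearGroup (Fin 2) K, ∃ l : L, ∀ v : ↥(fx V Q),
        e ⟨l • (v : V), h.smul_X l v.2⟩ = s.1.mulVec (e v)) ∧
      e ⟨z, h.z_mem.1⟩ = ![1, 0] := by
  obtain ⟨K, i1, i2, i3, e, h1, h2, h3, h4, -⟩ := exists_coord h hb hC
  have hz1 : e ⟨z, h.z_mem.1⟩ 1 = 0 := (h2 _).1 h.z_mem.2
  have hz0 : e ⟨z, h.z_mem.1⟩ 0 ≠ 0 := by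
    intro h0
    have h5 : e ⟨z, h.z_mem.1⟩ = 0 := by
      ext i
      fin_cases i
      · exact h0
      · exact hz1
    rw [map_eq_zero_iff e e.injective] at h5
    apply h.z_not
    rw [hC, AddSubgroup.mem_bot]
    exact congrArg Subtype.val h5
  set c := e ⟨z, h.z_mem.1⟩ 0 with hc
  let sc : (Fin 2 → K) ≃+ (Fin 2 → K) :=
    { toFun := fun v => c⁻¹ • v
      invFun := fun v => c • v
      left_inv := fun v => by
        change c • c⁻¹ • v = v
        rw [smul_smul, mul_inv_cancel₀ hz0, one_smul]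
      right_inv := fun v => by
        change c⁻¹ • c • v = v
        rw [smul_smul, inv_mul_cancel₀ hz0, one_smul]
      map_add' := fun v w => smul_add _ _ _ }
  refine ⟨K, i1, i2, i3, e.trans sc, h1, fun v => ?_, fun l => ?_, fun s => ?_, ?_⟩
  · rw [h2]
    change _ ↔ c⁻¹ * e v 1 = 0
    rw [mul_eq_zero, inv_eq_zero]
    exact ⟨Or.inr, fun h6 => h6.resolve_left hz0⟩
  · obtain ⟨s, hs⟩ := h3 l
    refine ⟨s, fun v => ?_⟩
    change c⁻¹ • e _ = s.1.mulVec (c⁻¹ • e v)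
    rw [hs, Matrix.mulVec_smul]
  · obtain ⟨l, hs⟩ := h4 s
    refine ⟨l, fun v => ?_⟩
    change c⁻¹ • e _ = s.1.mulVec (c⁻¹ • e v)
    rw [hs, Matrix.mulVec_smul]
  · change c⁻¹ • e ⟨z, h.z_mem.1⟩ = ![1, 0]
    rw [vec_eq (e ⟨z, h.z_mem.1⟩), ← hc, hz1, smul_vec, inv_mul_cancel₀ hz0, mul_zero]

/-- `L` is transitive on `X#` -/
theorem trans_z [Finite L] [Finite V] (hC : fx V (⊤ : Subgroup L) = ⊥) {x : V} (hx : x ∈ fx V Q)
    (hx0 : x ≠ 0) : ∃ l : L, l • z = x := by
  obtain ⟨K, i1, i2, i3, e, h1, h2, h3, h4, h5⟩ := exists_coord' h hb hC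
  have key : ∃ s : Matrix.SpecialLinearGroup (Fin 2) K, s.1.mulVec ![1, 0] = e ⟨x, hx⟩ := by
    set a := e ⟨x, hx⟩ 0 with ha
    set b := e ⟨x, hx⟩ 1 with hb'
    have hv : e ⟨x, hx⟩ = ![a, b] := vec_eq _
    rw [hv]
    by_cases ha0 : a = 0
    · have hb0 : b ≠ 0 := by
        intro hb0
        rw [ha0, hb0] at hv
        have h6 : e ⟨x, hx⟩ = 0 := by
          rw [hv]
          ext i
          fin_cases i <;> rfl
        rw [map_eq_zero_iff e e.injective] at h6
        exact hx0 (congrArg Subtype.val h6)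
      refine ⟨⟨!![0, -b⁻¹; b, 0], by rw [Matrix.det_fin_two_of]; field_simp; ring⟩, ?_⟩
      ext i
      (revert i; simp only [Matrix.mulVec, dotProduct, Fin.sum_univ_two, ha0, _root_.Fin.forall_fin_succ, _root_.Matrix.of_apply, _root_.Matrix.cons_val', _root_.Matrix.cons_val_fin_one, Fin.isValue, _root_.Matrix.cons_val_zero, _root_.mul_one, _root_.Matrix.cons_val_one, _root_.MulZeroClass.mul_zero, _root_.add_zero, _root_.Nat.succ_eq_add_one, Nat.reduceAdd, _root_.Matrix.cons_val_succ, _root_.implies_true, _root_.and_self])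
    · refine ⟨⟨!![a, 0; b, a⁻¹], by rw [Matrix.det_fin_two_of]; field_simp; ring⟩, ?_⟩
      ext i
      (revert i; simp only [Matrix.mulVec, dotProduct, Fin.sum_univ_two, _root_.Fin.forall_fin_succ, _root_.Matrix.of_apply, _root_.Matrix.cons_val', _root_.Matrix.cons_val_fin_one, Fin.isValue, _root_.Matrix.cons_val_zero, _root_.mul_one, _root_.Matrix.cons_val_one, _root_.MulZeroClass.mul_zero, _root_.add_zero, _root_.Nat.succ_eq_add_one, Nat.reduceAdd, _root_.Matrix.cons_val_succ, _root_.implies_true, _root_.and_self])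
  obtain ⟨s, hs⟩ := key
  obtain ⟨l, hl⟩ := h4 s
  refine ⟨l, ?_⟩
  have h6 := hl ⟨z, h.z_mem.1⟩
  rw [h5, hs] at h6
  exact congrArg Subtype.val (e.injective h6)

end

variable {Y : Type u} [Group Y] {V : Type u} [AddCommGroup V] [DistribMulAction Y V]

/-- The hypotheses in `Y` (`X = C_V(Q)`, `C_V(L) = 0`). -/
structure Hyp0 (T : Sylow 2 Y) (M L : Subgroup Y) (A Q L₁ : Subgroup L) (R : Sylow 2 L) (E F : AddSubgroup V)
    (z : V) : Prop where
  loc : Loc A E F Q L₁ R z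
  beta : Beta A E F (fx V Q) Q L₁
  C0 : fx V (⊤ : Subgroup L) = ⊥
  faith : ∀ y : Y, (∀ v : V, y • v = v) → y = 1
  irr : ∀ W : AddSubgroup V, (∀ y : Y, ∀ w ∈ W, y • w ∈ W) → W ≤ E → W = ⊥
  off : ∀ B : Subgroup Y, (∀ b ∈ B, b * b = 1) → B ≠ ⊥ → Nat.card B * Nat.card ↥(fx V B) < Nat.card V
  TM : (T : Subgroup Y) ≤ M
  M_ne : M ≠ ⊤
  uniqM : ∀ H : Subgroup Y, (T : Subgroup Y) ≤ H → H ≠ ⊤ → H ≤ M
  L₁M : ∀ l : L, l ∈ L₁ → (l : Y) ∈ M
  LM : ¬ L ≤ M
  RT : ∀ r : L, r ∈ R → (r : Y) ∈ T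
  zT : ∀ t ∈ T, t • z = z

/-- `N_Y(X)` -/
def NX (L : Subgroup Y) (V : Type u) [AddCommGroup V] [DistribMulAction Y V] (Q : Subgroup L) : Subgroup Y :=
  MulAction.stabilizer Y (fx V Q : AddSubgroup V)

theorem mem_NX {L : Subgroup Y} {Q : Subgroup L} {y : Y} : y ∈ NX L V Q ↔ y • (fx V Q : AddSubgroup V) = fx V Q :=
  Iff.rfl

theorem NX_smul {L : Subgroup Y} {Q : Subgroup L} {y : Y} (hy : y ∈ NX L V Q) {x : V} (hx : x ∈ fx V Q) :
    y • x ∈ fx V Q := by
  rw [← mem_NX.1 hy]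
  exact smul_mem_smul_as hx

theorem mem_NX_of [Finite V] {L : Subgroup Y} {Q : Subgroup L} {y : Y} (hy : ∀ x ∈ fx V Q, y • x ∈ fx V Q) :
    y ∈ NX L V Q := by
  rw [mem_NX]
  apply eq_of_le_as
  · intro v hv
    have := hy _ (mem_smul_as.1 hv)
    rwa [smul_inv_smul] at this
  · exact (card_smul_as y _).ge

namespace Hyp0

variable {T : Sylow 2 Y} {M L : Subgroup Y} {A Q L₁ : Subgroup L} {R : Sylow 2 L} {E F : AddSubgroup V}
  {z : V} (h : Hyp0 T M L A Q L₁ R E F z)
include h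

theorem two (v : V) : v + v = 0 := h.loc.two v

theorem neg (v : V) : -v = v := neg_eq_of_add_eq_zero_left (h.two v)

theorem eq_of_add {v w : V} (hvw : v + w = 0) : v = w := by
  rw [← neg_eq_iff_add_eq_zero, h.neg] at hvw
  exact hvw

theorem z_ne : z ≠ 0 := by
  intro h1
  apply h.loc.z_not
  rw [h1]
  exact AddSubgroup.zero_mem _

theorem L_le_NX [Finite V] : L ≤ NX L V Q := by
  intro l hl
  apply mem_NX_of
  intro x hx
  exact h.loc.smul_X ⟨l, hl⟩ hx

theorem mem_L₁ {l : L} : l ∈ L₁ ↔ (l : Y) ∈ M := by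
  refine ⟨h.L₁M l, fun hl => ?_⟩
  have h1 := h.loc.uniq (M.subgroupOf L) (fun a ha => h.L₁M a (h.loc.A_le ha)) (by
    rw [Ne, subgroupOf_eq_top]
    exact h.LM)
  exact h1 hl

theorem stab_z : MulAction.stabilizer Y z ≤ M := by
  apply h.uniqM
  · intro t ht
    exact h.zT t ht
  · intro h1
    -- `z` fixed by `Y`
    obtain ⟨l, hl⟩ := h.loc.zL
    apply hl
    have : (l : Y) ∈ MulAction.stabilizer Y z := by rw [h1]; exact mem_top _
    exact this

theorem trans [Finite Y] [Finite V] {x : V} (hx : x ∈ fx V Q) (hx0 : x ≠ 0) : ∃ l : L, l • z = x :=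
  trans_z h.loc h.beta h.C0 hx hx0

/-- `N_Y(X)` permutes the components -/
theorem comp [Finite Y] [Finite V] {y : Y} (hy : y ∈ NX L V Q) (l : L) :
    ∃ m : L, ∀ x : V, l⁻¹ • x ∈ fx V Q ⊓ F → m⁻¹ • (y • x) ∈ fx V Q ⊓ F := by
  have hz : l • z ∈ fx V Q := h.loc.smul_X l h.loc.z_mem.1
  have hyz : y • (l • z) ∈ fx V Q := NX_smul hy hz
  obtain ⟨m, hm⟩ := h.trans hyz (by
    rw [Ne, smul_eq_zero_iff_eq, smul_eq_zero_iff_eq]
    exact h.z_ne)
  refine ⟨m, ?_⟩
  intro x hx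
  by_cases hx0 : x = 0
  · rw [hx0, smul_zero, smul_zero]; exact AddSubgroup.zero_mem _
  have hxX : x ∈ fx V Q := h.loc.mem_X_of (mem_smul_as.2 hx)
  obtain ⟨k, hk⟩ := h.trans hxX hx0
  have hk0 : k • z ∉ fx V (⊤ : Subgroup L) := by
    rw [hk, h.C0, AddSubgroup.mem_bot]; exact hx0
  -- `l⁻¹ k ∈ L₁`
  have h1 : l⁻¹ * k ∈ L₁ := by
    by_contra h2
    exact hk0 (h.loc.mem_C_of h2 (by rw [hk]; exact mem_smul_as.2 hx) (smul_mem_smul_as h.loc.z_mem))
  obtain ⟨n, hn⟩ := h.trans (NX_smul hy hxX) (by rwa [Ne, smul_eq_zero_iff_eq])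
  have h2 : ((m : Y)⁻¹ * y * l : Y) ∈ M := by
    apply h.stab_z
    rw [MulAction.mem_stabilizer_iff, mul_smul, mul_smul, inv_smul_eq_iff]
    exact hm.symm
  have h3 : ((n : Y)⁻¹ * y * k : Y) ∈ M := by
    apply h.stab_z
    rw [MulAction.mem_stabilizer_iff, mul_smul, mul_smul, inv_smul_eq_iff]
    have : (k : Y) • z = x := hk
    rw [this]
    exact hn.symm
  have h4 : m⁻¹ * n ∈ L₁ := by
    rw [h.mem_L₁]
    have e : ((m⁻¹ * n : L) : Y) = ((m : Y)⁻¹ * y * l) * ((l⁻¹ * k : L) : Y) * ((n : Y)⁻¹ * y * k)⁻¹ := by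
      rw [coe_mul, coe_mul, coe_inv, coe_inv]; group
    rw [e]
    exact mul_mem (mul_mem h2 (h.mem_L₁.1 h1)) (inv_mem h3)
  have h5 := smul_mem_smul_as (g := m⁻¹ * n) h.loc.z_mem
  rw [h.beta.inv _ h4, mul_smul] at h5
  rw [← hn]
  exact h5

theorem comp_z [Finite Y] [Finite V] {y : Y} (hy : y ∈ NX L V Q) (hyz : y • z = z) {x : V}
    (hx : x ∈ fx V Q ⊓ F) : y • x ∈ fx V Q ⊓ F := by
  obtain ⟨m, hm⟩ := h.comp hy 1
  have h1 := hm z (by rw [inv_one, one_smul]; exact h.loc.z_mem)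
  rw [hyz] at h1
  have h2 : m ∈ L₁ := by
    by_contra h3
    have h4 := h.loc.mem_C_of_F h3 (mem_smul_as.2 h1) h.loc.z_mem.2
    exact h.loc.z_not h4
  have h3 := smul_mem_smul_as (g := m) (hm x (by rw [inv_one, one_smul]; exact hx))
  rwa [h.beta.inv m h2, smul_inv_smul] at h3

end Hyp0

/-- ... and `N_T(X)` is Sylow in `N_Y(X)` -/
structure Hyp (T : Sylow 2 Y) (M L : Subgroup Y) (A Q L₁ : Subgroup L) (R : Sylow 2 L) (E F : AddSubgroup V)
    (z : V) : Prop extends Hyp0 T M L A Q L₁ R E F z where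
  max : ∀ P : Subgroup Y, IsPGroup 2 P → P ≤ NX L V Q → (T : Subgroup Y) ⊓ NX L V Q ≤ P → P ≤ T

theorem Hyp0.exists_hyp [Finite Y] [Finite V] {T : Sylow 2 Y} {M L : Subgroup Y} {A Q L₁ : Subgroup L}
    {R : Sylow 2 L} {E F : AddSubgroup V} {z : V} (h : Hyp0 T M L A Q L₁ R E F z) :
    ∃ (T' : Sylow 2 Y) (z' : V), Hyp T' M L A Q L₁ R E F z' := by
  have : Fact (Nat.Prime 2) := ⟨Nat.prime_two⟩
  set N := NX L V Q with hN
  set RY : Subgroup Y := (R : Subgroup L).map L.subtype with hRY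
  have hRN : RY ≤ N := by
    rintro _ ⟨r, hr, rfl⟩
    exact h.L_le_NX r.2
  have hR2 : IsPGroup 2 RY := R.2.map _
  have hRN2 : IsPGroup 2 (RY.subgroupOf N) := hR2.comap_of_injective N.subtype Subtype.coe_injective
  obtain ⟨P, hP⟩ := hRN2.exists_le_sylow
  have hP2 : IsPGroup 2 ((P : Subgroup N).map N.subtype) := P.2.map _
  obtain ⟨T', hT'⟩ := hP2.exists_le_sylow
  have hRT' : RY ≤ T' := by
    intro r hr
    exact hT' ⟨⟨r, hRN hr⟩, hP (mem_subgroupOf.2 hr), rfl⟩
  -- `T'` is a conjugate of `T`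
  obtain ⟨y, hy⟩ := MulAction.exists_smul_eq Y T T'
  set z' := y • z with hz'
  have hz'T : ∀ t ∈ T', t • z' = z' := by
    intro t ht
    rw [← hy, HE.mem_smul_sylow] at ht
    have h1 := h.zT _ ht
    rw [mul_smul, mul_smul, inv_smul_eq_iff] at h1
    exact h1
  have hz'0 : z' ≠ 0 := by
    rw [hz', Ne, smul_eq_zero_iff_eq]
    exact h.z_ne
  have hz'R : ∀ r ∈ R, (r : L) • z' = z' := fun r hr => hz'T _ (hRT' ⟨r, hr, rfl⟩)
  have hz'X : z' ∈ fx V Q ⊓ F :=
    ⟨fun q hq => hz'R q (h.loc.Q_le_R hq), h.loc.mem.CB z' fun b hb => hz'R b (h.loc.AR hb)⟩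
  obtain ⟨l, hl⟩ := h.trans hz'X.1 hz'0
  have hlL : l ∈ L₁ := by
    by_contra h1
    have h2 := h.loc.mem_C_of_F h1 (smul_mem_smul_as h.loc.z_mem) (by rw [hl]; exact hz'X.2)
    rw [hl, h.C0, AddSubgroup.mem_bot] at h2
    exact hz'0 h2
  -- `y ∈ M`
  have hyM : y ∈ M := by
    have h1 : (l : Y)⁻¹ * y ∈ M := by
      apply h.stab_z
      rw [MulAction.mem_stabilizer_iff, mul_smul, inv_smul_eq_iff]
      exact hl.symm
    have := mul_mem (h.L₁M l hlL) h1
    rwa [mul_inv_cancel_left] at this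
  have hT'M : (T' : Subgroup Y) ≤ M := by
    intro t ht
    have ht' : t ∈ T' := ht
    rw [← hy, HE.mem_smul_sylow] at ht'
    have := mul_mem (mul_mem hyM (h.TM ht')) (inv_mem hyM)
    have e : y * (y⁻¹ * t * y) * y⁻¹ = t := by group
    rwa [e] at this
  refine ⟨T', z', ?_⟩
  exact
    { loc := { h.loc with
        zR := hz'R
        zL := by
          by_contra hc
          push Not at hc
          apply hz'0
          have : z' ∈ fx V (⊤ : Subgroup L) := fun l _ => hc l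
          rwa [h.C0, AddSubgroup.mem_bot] at this }
      beta := h.beta
      C0 := h.C0
      faith := h.faith
      irr := h.irr
      off := h.off
      TM := hT'M
      M_ne := h.M_ne
      uniqM := by
        intro H hH hH1
        -- conjugate
        have h1 : (T : Subgroup Y) ≤ MulAut.conj y⁻¹ • H := by
          intro t ht
          rw [mem_conj, inv_inv]
          apply hH
          change y * t * y⁻¹ ∈ T'
          rw [← hy, HE.mem_smul_sylow]
          have e : y⁻¹ * (y * t * y⁻¹) * y = t := by group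
          rwa [e]
        have h2 := h.uniqM _ h1 fun h3 => hH1 (conj_eq_top h3)
        intro x hx
        have h3 : y⁻¹ * x * y ∈ MulAut.conj y⁻¹ • H := by
          rw [mem_conj]
          have e : y⁻¹⁻¹ * (y⁻¹ * x * y) * y⁻¹ = x := by group
          rwa [e]
        have := mul_mem (mul_mem hyM (h2 h3)) (inv_mem hyM)
        have e : y * (y⁻¹ * x * y) * y⁻¹ = x := by group
        rwa [e] at this
      L₁M := h.L₁M
      LM := h.LM
      RT := fun r hr => hRT' ⟨r, hr, rfl⟩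
      zT := hz'T
      max := by
        intro P' hP'2 hP'N hP'
        have h1 : IsPGroup 2 (P'.subgroupOf N) := hP'2.comap_of_injective N.subtype Subtype.coe_injective
        have h2 : (P : Subgroup N) ≤ P'.subgroupOf N := by
          intro p hp
          rw [mem_subgroupOf]
          exact hP' ⟨hT' ⟨p, hp, rfl⟩, p.2⟩
        have h3 := P.is_maximal' h1 h2
        intro p hp
        apply hT'
        have h4 : (⟨p, hP'N hp⟩ : N) ∈ (P : Subgroup N) := by
          rw [← h3]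
          exact mem_subgroupOf.2 hp
        exact ⟨⟨p, hP'N hp⟩, h4, rfl⟩ }

end Cfsg.Agent.Omega.NO1.B0

end

end

-- merged: Cfsg.Agent.Mrg.Omega.NO1.B0.Semi
section

section


/-!
# THEOREM B0 (bb OMEGA 18835, helper970): (S1), (S2), the 2-element `t`

`N_Y(X)` acts semilinearly on `X`; a member in `T_X = N_T(X)` centralises `X₁` (`s1`); a 2-element of `T_X` which
centralises `X₁` is a transvection (or 1) on `X` (`s2`, `s2'`).
-/

set_option autoImplicit false
set_option linter.unusedSectionVars false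
set_option linter.style.haveILetI false

namespace Cfsg.Agent.Omega.NO1.B0

open Subgroup Cfsg.Agent.Omega.NO1.AB
open scoped Pointwise MatrixGroups

universe u

/-- a proper subgroup of a 2-group -/
theorem exists_sq {P : Type*} [Group P] [Finite P] (hP : IsPGroup 2 P) (H : Subgroup P) (hH : H ≠ ⊤) :
    ∃ t, t ∉ H ∧ t * t ∈ H ∧ ∀ x, x ∈ H ↔ t * x * t⁻¹ ∈ H := by
  have : Fact (Nat.Prime 2) := ⟨Nat.prime_two⟩
  have : Group.IsNilpotent P := hP.isNilpotent
  have h1 := Group.normalizerCondition_of_isNilpotent H (lt_top_iff_ne_top.2 hH)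
  obtain ⟨t, ht1, ht2⟩ := Set.exists_of_ssubset h1
  have hex : ∃ n : ℕ, t ^ 2 ^ n ∈ H := by
    obtain ⟨n, hn⟩ := hP t
    exact ⟨n, by rw [hn]; exact one_mem _⟩
  classical
  set n := Nat.find hex with hn
  have h2 : t ^ 2 ^ n ∈ H := Nat.find_spec hex
  have h3 : n ≠ 0 := by
    intro h4
    rw [h4, pow_zero, pow_one] at h2
    exact ht2 h2
  obtain ⟨m, hm⟩ := Nat.exists_eq_succ_of_ne_zero h3
  refine ⟨t ^ 2 ^ m, ?_, ?_, ?_⟩
  · exact Nat.find_min hex (by rw [← hn, hm]; exact Nat.lt_succ_self m)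
  · rw [← pow_add]
    have e : 2 ^ m + 2 ^ m = 2 ^ n := by rw [hm, pow_succ]; ring
    rw [e]
    exact h2
  · have h4 : t ^ 2 ^ m ∈ normalizer (H : Set P) := pow_mem ht1 _
    exact mem_normalizer_iff.1 h4

variable {Y : Type u} [Group Y] {V : Type u} [AddCommGroup V] [DistribMulAction Y V]

/-- a member with (MU) -/
structure MemU (B : Subgroup Y) (E F : AddSubgroup V) : Prop extends Mem B E F where
  mu : ∀ B₀ ≤ B, Nat.card B₀ * Nat.card ↥(fx V B₀ ⊓ E) ≤ Nat.card E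

theorem MemU.conj {B : Subgroup Y} {E F : AddSubgroup V} (h : MemU B E F) (y : Y) :
    MemU (MulAut.conj y • B) (y • E) (y • F) := by
  have key : ∀ {b : Y}, b ∈ MulAut.conj y • B → ∃ c ∈ B, b = y * c * y⁻¹ := by
    intro b hb
    rw [mem_conj] at hb
    exact ⟨_, hb, by group⟩
  have hs : ∀ (c : Y) (v : V), y⁻¹ • (y * c * y⁻¹) • v = c • y⁻¹ • v := by
    intro c v
    rw [← mul_smul, ← mul_smul]
    congr 1
    group
  exact
    { comm := by
        intro b hb b' hb'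
        obtain ⟨c, hc, rfl⟩ := key hb
        obtain ⟨c', hc', rfl⟩ := key hb'
        have e1 : y * c * y⁻¹ * (y * c' * y⁻¹) = y * (c * c') * y⁻¹ := by group
        rw [e1, h.comm c hc c' hc']
        group
      sq := by
        intro b hb
        obtain ⟨c, hc, rfl⟩ := key hb
        have e1 : y * c * y⁻¹ * (y * c * y⁻¹) = y * (c * c) * y⁻¹ := by group
        rw [e1, h.sq c hc]
        group
      FE := by
        intro v hv
        rw [mem_smul_as] at hv ⊢
        exact h.FE hv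
      VB := by
        intro b hb v
        obtain ⟨c, hc, rfl⟩ := key hb
        rw [mem_smul_as, smul_add, hs]
        exact h.VB c hc _
      EB := by
        intro b hb e he
        obtain ⟨c, hc, rfl⟩ := key hb
        rw [mem_smul_as] at he ⊢
        rw [smul_add, hs]
        exact h.EB c hc _ he
      FB := by
        intro b hb f hf
        obtain ⟨c, hc, rfl⟩ := key hb
        rw [mem_smul_as] at hf
        have h1 := h.FB c hc _ hf
        rw [← hs, smul_left_cancel_iff] at h1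
        exact h1
      CB := by
        intro v hv
        rw [mem_smul_as]
        apply h.CB
        intro c hc
        rw [← hs, hv _ (conj_mem_conj hc)]
      inj := by
        intro w hw b hb hbw
        obtain ⟨c, hc, rfl⟩ := key hb
        rw [mem_smul_as] at hw hbw
        rw [smul_add, hs] at hbw
        rw [h.inj _ hw c hc hbw]
        group
      surj := by
        intro w hw e he
        rw [mem_smul_as] at hw he
        obtain ⟨c, hc, h1⟩ := h.surj _ hw _ he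
        refine ⟨_, conj_mem_conj hc, ?_⟩
        rw [mem_smul_as, smul_add, smul_add, hs]
        exact h1
      ne := by
        obtain ⟨v, hv⟩ := h.ne
        refine ⟨y • v, ?_⟩
        rwa [mem_smul_as, inv_smul_smul]
      mu := by
        intro B₀ hB₀
        have h1 := h.mu (MulAut.conj y⁻¹ • B₀) (by
          rw [conj_le_iff, inv_inv]
          exact hB₀)
        have h2 : Nat.card (MulAut.conj y⁻¹ • B₀ : Subgroup Y) = Nat.card B₀ :=
          (Nat.card_congr (Subgroup.equivSMul (MulAut.conj y⁻¹) B₀).toEquiv).symm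
        have h3 : Nat.card ↥(fx V (MulAut.conj y⁻¹ • B₀) ⊓ E) = Nat.card ↥(fx V B₀ ⊓ y • E) := by
          rw [← card_smul_as y (fx V (MulAut.conj y⁻¹ • B₀) ⊓ E)]
          congr 2
          ext v
          rw [mem_smul_as, AddSubgroup.mem_inf, AddSubgroup.mem_inf, mem_smul_as]
          refine and_congr_left fun _ => ?_
          constructor
          · intro hv b hb
            have h4 := hv (y⁻¹ * b * y⁻¹⁻¹) (conj_mem_conj hb)
            rw [inv_inv, mul_smul, mul_smul, smul_inv_smul, smul_left_cancel_iff] at h4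
            exact h4
          · intro hv b hb
            rw [mem_conj, inv_inv] at hb
            have h4 := hv _ hb
            rw [mul_smul, mul_smul] at h4
            rw [eq_inv_smul_iff]
            exact h4
        rw [h2, h3] at h1
        rwa [card_smul_as] }

/-- coordinates -/
structure Co {L : Subgroup Y} (Q : Subgroup L) (F : AddSubgroup V) (z : V) (K : Type) [Field K]
    (e : ↥(fx V Q) ≃+ (Fin 2 → K)) : Prop where
  card : Nat.card K = Nat.card ↥(fx V Q ⊓ F)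
  memF : ∀ v : ↥(fx V Q), (v : V) ∈ F ↔ e v 1 = 0
  act : ∀ l : L, ∃ s : Matrix (Fin 2) (Fin 2) K, ∀ v w : ↥(fx V Q), (w : V) = l • (v : V) → e w = s.mulVec (e v)
  ez : ∀ v : ↥(fx V Q), (v : V) = z → e v = ![1, 0]

/-- the action of `y ∈ N_Y(X)` on `X` -/
def gy {L : Subgroup Y} {Q : Subgroup L} {y : Y} (hy : y ∈ NX L V Q) : ↥(fx V Q) →+ ↥(fx V Q) where
  toFun v := ⟨y • (v : V), NX_smul hy v.2⟩
  map_zero' := Subtype.ext (smul_zero y)
  map_add' v w := Subtype.ext (smul_add y (v : V) (w : V))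

theorem gy_apply {L : Subgroup Y} {Q : Subgroup L} {y : Y} (hy : y ∈ NX L V Q) (v : ↥(fx V Q)) :
    (gy hy v : V) = y • (v : V) := rfl

/-- ... in coordinates -/
def ge {L : Subgroup Y} {Q : Subgroup L} {K : Type} [Field K] (e : ↥(fx V Q) ≃+ (Fin 2 → K)) {y : Y}
    (hy : y ∈ NX L V Q) : (Fin 2 → K) →+ (Fin 2 → K) :=
  (e.toAddMonoidHom.comp (gy hy)).comp e.symm.toAddMonoidHom

theorem ge_apply {L : Subgroup Y} {Q : Subgroup L} {K : Type} [Field K] (e : ↥(fx V Q) ≃+ (Fin 2 → K)) {y : Y}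
    (hy : y ∈ NX L V Q) (v : Fin 2 → K) : ge e hy v = e (gy hy (e.symm v)) := rfl

theorem ge_e {L : Subgroup Y} {Q : Subgroup L} {K : Type} [Field K] (e : ↥(fx V Q) ≃+ (Fin 2 → K)) {y : Y}
    (hy : y ∈ NX L V Q) (v : ↥(fx V Q)) : ge e hy (e v) = e (gy hy v) := by
  rw [ge_apply, AddEquiv.symm_apply_apply]

/-- `y` is trivial on `X` -/
theorem ge_triv {L : Subgroup Y} {Q : Subgroup L} {K : Type} [Field K] (e : ↥(fx V Q) ≃+ (Fin 2 → K)) {y : Y}
    (hy : y ∈ NX L V Q) : (∀ v, ge e hy v = v) ↔ ∀ x ∈ fx V Q, y • x = x := by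
  constructor
  · intro h1 x hx
    have h2 := h1 (e ⟨x, hx⟩)
    rw [ge_e] at h2
    exact congrArg Subtype.val (e.injective h2)
  · intro h1 v
    rw [ge_apply]
    have : gy hy (e.symm v) = e.symm v := Subtype.ext (h1 _ (e.symm v).2)
    rw [this, AddEquiv.apply_symm_apply]

namespace Hyp0

variable {T : Sylow 2 Y} {M L : Subgroup Y} {A Q L₁ : Subgroup L} {R : Sylow 2 L} {E F : AddSubgroup V}
  {z : V} (h : Hyp0 T M L A Q L₁ R E F z)
include h

theorem exists_co [Finite Y] [Finite V] :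
    ∃ (K : Type) (_ : Field K) (_ : Fintype K) (_ : CharP K 2) (e : ↥(fx V Q) ≃+ (Fin 2 → K)), Co Q F z K e := by
  obtain ⟨K, i1, i2, i3, e, h1, h2, h3, h4, h5⟩ := exists_coord' h.loc h.beta h.C0
  refine ⟨K, i1, i2, i3, e, h1, h2, fun l => ?_, fun v hv => ?_⟩
  · obtain ⟨s, hs⟩ := h3 l
    refine ⟨s.1, fun v w hw => ?_⟩
    rw [← hs v]
    congr 1
    exact Subtype.ext hw
  · rw [← h5]
    congr 1
    exact Subtype.ext hv

theorem line [Finite Y] [Finite V] {K : Type} [Field K] {e : ↥(fx V Q) ≃+ (Fin 2 → K)} (hc : Co Q F z K e)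
    {y : Y} (hy : y ∈ NX L V Q) (v : Fin 2 → K) (k : K) : ∃ k' : K, ge e hy (k • v) = k' • ge e hy v := by
  by_cases hv : v = 0
  · exact ⟨0, by rw [hv, smul_zero, zero_smul, map_zero]⟩
  set x := e.symm v with hx
  have hev : e x = v := e.apply_symm_apply v
  set x' := e.symm (k • v) with hx'
  have hev' : e x' = k • v := e.apply_symm_apply _
  have hx0 : (x : V) ≠ 0 := by
    intro h1
    apply hv
    have : x = 0 := Subtype.ext h1
    rw [← hev, this, map_zero]
  obtain ⟨l, hl⟩ := h.trans x.2 hx0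
  obtain ⟨s, hs⟩ := hc.act l⁻¹
  have hlx : l⁻¹ • (x : V) = z := by rw [← hl, inv_smul_smul]
  -- `l⁻¹ x' ∈ X₁`
  have h1 : e ⟨l⁻¹ • (x' : V), h.loc.smul_X _ x'.2⟩ = ![k, 0] := by
    rw [hs x' _ rfl, hev', Matrix.mulVec_smul, ← hev, ← hs x ⟨l⁻¹ • (x : V), h.loc.smul_X _ x.2⟩ rfl,
      hc.ez _ hlx, smul_vec, mul_one, mul_zero]
  have h2 : l⁻¹ • (x' : V) ∈ fx V Q ⊓ F :=
    ⟨h.loc.smul_X _ x'.2, (hc.memF ⟨l⁻¹ • (x' : V), h.loc.smul_X _ x'.2⟩).2 (by rw [h1]; rfl)⟩
  have h3 : l⁻¹ • (x : V) ∈ fx V Q ⊓ F := by rw [hlx]; exact h.loc.z_mem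
  obtain ⟨m, hm⟩ := h.comp hy l
  have h4 := hm _ h2
  have h5 := hm _ h3
  obtain ⟨sm, hsm⟩ := hc.act m
  set u : ↥(fx V Q) := ⟨m⁻¹ • (y • (x : V)), h5.1⟩ with hu
  set u' : ↥(fx V Q) := ⟨m⁻¹ • (y • (x' : V)), h4.1⟩ with hu'
  have h6 : e (gy hy x) = sm.mulVec (e u) := hsm u _ (by rw [gy_apply, hu, smul_inv_smul])
  have h7 : e (gy hy x') = sm.mulVec (e u') := hsm u' _ (by rw [gy_apply, hu', smul_inv_smul])
  have hu1 : e u 1 = 0 := (hc.memF u).1 h5.2
  have hu'1 : e u' 1 = 0 := (hc.memF u').1 h4.2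
  have hu0 : e u 0 ≠ 0 := by
    intro h8
    have h9 : e u = 0 := by
      ext i
      fin_cases i
      · exact h8
      · exact hu1
    rw [map_eq_zero_iff e e.injective] at h9
    have h10 : m⁻¹ • (y • (x : V)) = 0 := congrArg Subtype.val h9
    rw [smul_eq_zero_iff_eq, smul_eq_zero_iff_eq] at h10
    exact hx0 h10
  refine ⟨e u' 0 / e u 0, ?_⟩
  have h8 : e u' = (e u' 0 / e u 0) • e u := by
    ext i
    fin_cases i
    · change e u' 0 = e u' 0 / e u 0 * e u 0
      rw [div_mul_cancel₀ _ hu0]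
    · change e u' 1 = e u' 0 / e u 0 * e u 1
      rw [hu1, hu'1, mul_zero]
  rw [ge_apply, ge_apply, ← hx, ← hx', h6, h7, h8, Matrix.mulVec_smul, ← h8]

theorem semi [Finite Y] [Finite V] {K : Type} [Field K] {e : ↥(fx V Q) ≃+ (Fin 2 → K)} (hc : Co Q F z K e)
    {y : Y} (hy : y ∈ NX L V Q) (hyz : y • z = z) :
    ∃ (α : K →+* K) (β δ : K), β ≠ 0 ∧ ∀ x y', ge e hy ![x, y'] = ![α x + δ * α y', β * α y'] := by
  haveI : Finite K := by
    have : Finite (Fin 2 → K) := Finite.of_equiv _ e.toEquiv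
    exact Finite.of_injective (fun k : K => (fun _ : Fin 2 => k)) fun a b hab => congrFun hab 0
  apply B0.semi (ge e hy) _ (h.line hc hy)
  · have h1 : ![1, 0] = e ⟨z, h.loc.z_mem.1⟩ := (hc.ez _ rfl).symm
    rw [h1, ge_e]
    congr 1
    exact Subtype.ext hyz
  · intro v w hvw
    rw [ge_apply, ge_apply] at hvw
    have h1 := congrArg Subtype.val (e.injective hvw)
    rw [gy_apply, gy_apply, smul_left_cancel_iff] at h1
    exact e.symm.injective (Subtype.ext h1)

theorem fin_K [Finite V] {K : Type} [Field K] (e : ↥(fx V Q) ≃+ (Fin 2 → K)) : Finite K := by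
  have : Finite (Fin 2 → K) := Finite.of_equiv _ e.toEquiv
  exact Finite.of_injective (fun k : K => (fun _ : Fin 2 => k)) fun a b hab => congrFun hab 0

/-- **(S1)** -/
theorem s1 [Finite Y] [Finite V] {P : Subgroup Y} {E' F' : AddSubgroup V} (hm : MemU P E' F')
    (hP : ∀ p ∈ P, p ∈ NX L V Q ∧ p • z = z) (hcard : Nat.card ↥(fx V Q) ≤ Nat.card P) :
    ∀ p ∈ P, ∀ x ∈ fx V Q ⊓ F, p • x = x := by
  classical
  obtain ⟨K, i1, i2, i3, e, hc⟩ := h.exists_co
  haveI : Finite K := h.fin_K e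
  -- `X ≤ E'`
  have hXE : fx V Q ≤ E' := by
    intro x hx
    by_contra hxE
    let f : Option P → ↥(fx V Q) := fun p => p.elim 0 fun p => ⟨(p : Y) • x, NX_smul (hP p p.2).1 hx⟩
    have hx0 : x ≠ 0 := fun h1 => hxE (h1 ▸ E'.zero_mem)
    have hf : Function.Injective f := by
      rintro (_ | p) (_ | p') hpp
      · rfl
      · exfalso
        have h1 : (0 : V) = (p' : Y) • x := congrArg Subtype.val hpp
        rw [eq_comm, smul_eq_zero_iff_eq] at h1
        exact hx0 h1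
      · exfalso
        have h1 : (p : Y) • x = 0 := congrArg Subtype.val hpp
        rw [smul_eq_zero_iff_eq] at h1
        exact hx0 h1
      · have h1 : (p : Y) • x = (p' : Y) • x := congrArg Subtype.val hpp
        have h2 := hm.inj x hxE ((p' : Y)⁻¹ * p) (mul_mem (inv_mem p'.2) p.2) (by
          rw [mul_smul, h1, inv_smul_smul, h.two]
          exact F'.zero_mem)
        congr 1
        apply Subtype.ext
        rw [inv_mul_eq_one] at h2
        exact h2.symm
    have h1 := Nat.card_le_card_of_injective f hf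
    rw [Finite.card_option] at h1
    omega
  let g : P → ((Fin 2 → K) →+ (Fin 2 → K)) := fun p => ge e (hP p p.2).1
  have hg1 : ∀ v, g 1 v = v := by
    rw [ge_triv]
    intro x _
    exact one_smul Y x
  have hgm : ∀ p q v, g (p * q) v = g p (g q v) := by
    intro p q v
    change e (gy _ (e.symm v)) = e (gy _ (e.symm (e (gy _ (e.symm v)))))
    rw [e.symm_apply_apply]
    congr 1
    exact Subtype.ext (mul_smul (p : Y) (q : Y) _)
  have key := triv_of_mu g hg1 hgm (fun p => Subtype.ext (hm.sq p p.2))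
    (fun p => h.semi hc (hP p p.2).1 (hP p p.2).2) (by
      -- (MU)
      let P₀ : Subgroup Y :=
        { carrier := {p | p ∈ P ∧ ∀ x ∈ fx V Q, p • x = x}
          mul_mem' := fun {a b} ha hb => ⟨mul_mem ha.1 hb.1, fun x hx => by rw [mul_smul, hb.2 x hx, ha.2 x hx]⟩
          one_mem' := ⟨one_mem _, fun x _ => one_smul Y x⟩
          inv_mem' := fun {a} ha => ⟨inv_mem ha.1, fun x hx => by rw [inv_smul_eq_iff, ha.2 x hx]⟩ }
      have h1 := hm.mu P₀ (fun p hp => hp.1)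
      rw [hm.card_E h.two] at h1
      have h2 : fx V Q ⊔ F' ≤ fx V P₀ ⊓ E' := by
        refine sup_le (le_inf (fun x hx p hp => hp.2 x hx) hXE) (le_inf ?_ hm.FE)
        intro f hf p hp
        exact hm.FB p hp.1 f hf
      have h3 : Nat.card ↥(fx V Q ⊔ F') ≤ Nat.card ↥(fx V P₀ ⊓ E') :=
        Nat.card_le_card_of_injective _ (AddSubgroup.inclusion_injective h2)
      have h4 := card_sup_as (fx V Q) F'
      have h5 : Nat.card {p : P | ∀ v, g p v = v} = Nat.card P₀ := by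
        apply Nat.card_congr
        exact
          { toFun := fun p => ⟨p.1.1, p.1.2, (ge_triv e _).1 p.2⟩
            invFun := fun p => ⟨⟨p.1, p.2.1⟩, (ge_triv e _).2 p.2.2⟩
            left_inv := fun p => rfl
            right_inv := fun p => rfl }
      have h6 : Nat.card {v : Fin 2 → K | ∀ p, g p v = v} = Nat.card ↥(fx V Q ⊓ F') := by
        apply Nat.card_congr
        exact
          { toFun := fun v => ⟨(e.symm v.1 : V), (e.symm v.1).2, hm.CB _ fun p hp => by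
              have h7 := v.2 ⟨p, hp⟩
              have h8 : gy (hP p hp).1 (e.symm v.1) = e.symm v.1 := by
                apply e.injective
                rw [e.apply_symm_apply]
                exact h7
              exact congrArg Subtype.val h8⟩
            invFun := fun v => ⟨e ⟨v.1, v.2.1⟩, fun p => by
              change ge e _ _ = _
              rw [ge_e]
              congr 1
              exact Subtype.ext (hm.FB p p.2 _ v.2.2)⟩
            left_inv := fun v => Subtype.ext (e.apply_symm_apply v.1)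
            right_inv := fun v => Subtype.ext (by
              change ((e.symm (e ⟨v.1, v.2.1⟩) : ↥(fx V Q)) : V) = v.1
              rw [e.symm_apply_apply]) }
      have h7 : Nat.card K ^ 2 = Nat.card ↥(fx V Q) := by
        rw [Nat.card_congr e.toEquiv, Nat.card_fun, Nat.card_fin]
      rw [h5, h6, h7]
      have hF0 : 0 < Nat.card F' := Nat.card_pos
      apply Nat.le_of_mul_le_mul_left _ hF0
      calc Nat.card F' * (Nat.card P₀ * Nat.card ↥(fx V Q))
          = Nat.card P₀ * (Nat.card ↥(fx V Q ⊔ F') * Nat.card ↥(fx V Q ⊓ F')) := by rw [h4]; ring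
        _ ≤ Nat.card P₀ * (Nat.card ↥(fx V P₀ ⊓ E') * Nat.card ↥(fx V Q ⊓ F')) :=
          Nat.mul_le_mul_left _ (Nat.mul_le_mul_right _ h3)
        _ = Nat.card P₀ * Nat.card ↥(fx V P₀ ⊓ E') * Nat.card ↥(fx V Q ⊓ F') := by ring
        _ ≤ Nat.card F' * Nat.card P * Nat.card ↥(fx V Q ⊓ F') := Nat.mul_le_mul_right _ h1
        _ = _ := by ring)
  intro p hp x hx
  have h1 := key ⟨p, hp⟩ (e ⟨x, hx.1⟩ 0)
  have h2 : e ⟨x, hx.1⟩ = ![e ⟨x, hx.1⟩ 0, 0] := by
    have h3 := vec_eq (e ⟨x, hx.1⟩)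
    rw [(hc.memF ⟨x, hx.1⟩).1 hx.2] at h3
    exact h3
  rw [← h2] at h1
  change ge e _ (e ⟨x, hx.1⟩) = _ at h1
  rw [ge_e] at h1
  exact congrArg Subtype.val (e.injective h1)

/-- **(S2)** -/
theorem s2 [Finite Y] [Finite V] {p : Y} (hp : p ∈ T) (hpX : p ∈ NX L V Q)
    (hp1 : ∀ x ∈ fx V Q ⊓ F, p • x = x) :
    (∀ x ∈ fx V Q, p • x + x ∈ fx V Q ⊓ F) ∧
      ∀ v ∈ fx V Q, v ∉ F → p • v = v → ∀ x ∈ fx V Q, p • x = x := by
  obtain ⟨K, i1, i2, i3, e, hc⟩ := h.exists_co
  haveI : Finite K := h.fin_K e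
  obtain ⟨α, β, δ, hβ, hg⟩ := h.semi hc hpX (h.zT p hp)
  have hα : ∀ x, α x = x := by
    intro x
    have h1 : (e.symm ![x, 0] : V) ∈ F := (hc.memF _).2 (by rw [e.apply_symm_apply]; rfl)
    have h2 : gy hpX (e.symm ![x, 0]) = e.symm ![x, 0] := Subtype.ext (hp1 _ ⟨(e.symm ![x, 0]).2, h1⟩)
    have h3 := hg x 0
    rw [ge_apply, h2, e.apply_symm_apply] at h3
    have h4 := (vec_inj h3).1
    rw [map_zero, mul_zero, add_zero] at h4
    exact h4.symm
  -- `β = 1`
  have hβ1 : β = 1 := by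
    obtain ⟨n, hn⟩ := T.2 ⟨p, hp⟩
    have hn' : p ^ 2 ^ n = 1 := congrArg Subtype.val hn
    have hk : ∀ (k : ℕ) (w : ↥(fx V Q)), (w : V) = p ^ k • (e.symm ![0, 1] : V) → e w 1 = β ^ k := by
      intro k
      induction k with
      | zero =>
        intro w hw
        have : w = e.symm ![0, 1] := Subtype.ext (by rw [hw, pow_zero, one_smul])
        rw [this, e.apply_symm_apply, pow_zero]; rfl
      | succ k ih =>
        intro w hw
        have hw' : p ^ k • (e.symm ![0, 1] : V) ∈ fx V Q := NX_smul (pow_mem hpX k) (e.symm ![0, 1]).2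
        have h1 : w = gy hpX ⟨_, hw'⟩ := Subtype.ext (by rw [gy_apply, hw, pow_succ', mul_smul])
        rw [h1, ← ge_e, vec_eq (e ⟨_, hw'⟩), hg, pow_succ', hα, hα]
        change β * e ⟨_, hw'⟩ 1 = _
        rw [ih _ rfl]
    have h1 := hk (2 ^ n) (e.symm ![0, 1]) (by rw [hn', one_smul])
    rw [e.apply_symm_apply] at h1
    have h3 : β ^ 2 ^ n = 1 := h1.symm
    have h4 : (β - 1) ^ 2 ^ n = 0 := by
      rw [sub_pow_char_pow, one_pow, h3, sub_self]
    exact sub_eq_zero.1 (pow_eq_zero_iff (pow_ne_zero n two_ne_zero) |>.1 h4)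
  have hg' : ∀ x y, ge e hpX ![x, y] = ![x + δ * y, y] := by
    intro x y
    rw [hg, hα, hα, hβ1, one_mul]
  constructor
  · intro x hx
    refine ⟨(fx V Q).add_mem (NX_smul hpX hx) hx, ?_⟩
    have h1 := (hc.memF (gy hpX ⟨x, hx⟩ + ⟨x, hx⟩)).2 (by
      rw [map_add, ← ge_e, vec_eq (e ⟨x, hx⟩), hg', add_vec]
      change e ⟨x, hx⟩ 1 + e ⟨x, hx⟩ 1 = 0
      exact CharTwo.add_self_eq_zero _)
    exact h1
  · intro v hv hvF hpv
    have h1 : e ⟨v, hv⟩ 1 ≠ 0 := fun h2 => hvF ((hc.memF ⟨v, hv⟩).2 h2)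
    have h2 : gy hpX ⟨v, hv⟩ = ⟨v, hv⟩ := Subtype.ext hpv
    have h3 : ge e hpX (e ⟨v, hv⟩) = e ⟨v, hv⟩ := by rw [ge_e, h2]
    rw [vec_eq (e ⟨v, hv⟩), hg'] at h3
    have h4 := (vec_inj h3).1
    have h5 : δ = 0 := by
      have h6 : δ * e ⟨v, hv⟩ 1 = 0 := by
        have := h4
        rwa [add_eq_left] at this
      exact (mul_eq_zero.1 h6).resolve_right h1
    rw [← ge_triv e hpX]
    intro w
    rw [vec_eq w, hg', h5, zero_mul, add_zero]

end Hyp0

/-- the 2-element `t` -/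
structure Tk (T : Sylow 2 Y) (L : Subgroup Y) (V : Type u) [AddCommGroup V] [DistribMulAction Y V]
    (Q : Subgroup L) (t : Y) : Prop where
  tT : t ∈ T
  tX : t ∉ NX L V Q
  tt : t * t ∈ NX L V Q
  cj : ∀ p ∈ T, p ∈ NX L V Q → t * p * t⁻¹ ∈ NX L V Q
  cj' : ∀ p ∈ T, p ∈ NX L V Q → t⁻¹ * p * t ∈ NX L V Q

namespace Hyp0

variable {T : Sylow 2 Y} {M L : Subgroup Y} {A Q L₁ : Subgroup L} {R : Sylow 2 L} {E F : AddSubgroup V}
  {z : V} (h : Hyp0 T M L A Q L₁ R E F z)
include h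

theorem not_T_le [Finite Y] [Finite V] : ¬ (T : Subgroup Y) ≤ NX L V Q := by
  intro h1
  by_cases h2 : NX L V Q = ⊤
  · have h3 := h.irr (fx V Q) (fun y w hw => NX_smul (by rw [h2]; exact mem_top y) hw) h.beta.XE
    have h4 : z ∈ fx V Q := h.loc.z_mem.1
    rw [h3, AddSubgroup.mem_bot] at h4
    exact h.z_ne h4
  · exact h.LM (h.L_le_NX.trans (h.uniqM _ h1 h2))

theorem exists_t [Finite Y] [Finite V] : ∃ t, Tk T L V Q t := by
  obtain ⟨⟨t, ht⟩, h1, h2, h3⟩ := exists_sq T.2 ((NX L V Q).subgroupOf T) (by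
    rw [Ne, subgroupOf_eq_top]
    exact h.not_T_le)
  refine ⟨t, ht, fun h4 => h1 (mem_subgroupOf.2 h4), mem_subgroupOf.1 h2, ?_, ?_⟩
  · intro p hp hpX
    exact mem_subgroupOf.1 ((h3 ⟨p, hp⟩).1 (mem_subgroupOf.2 hpX))
  · intro p hp hpX
    have h5 : (⟨t, ht⟩ : (T : Subgroup Y)) * ⟨t⁻¹ * p * t, mul_mem (mul_mem (inv_mem ht) hp) ht⟩ * (⟨t, ht⟩)⁻¹ ∈
        (NX L V Q).subgroupOf T := by
      rw [mem_subgroupOf]
      change t * (t⁻¹ * p * t) * t⁻¹ ∈ _
      have e : t * (t⁻¹ * p * t) * t⁻¹ = p := by group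
      rwa [e]
    exact mem_subgroupOf.1 ((h3 _).2 h5)

end Hyp0

end Cfsg.Agent.Omega.NO1.B0

end

section


/-!
# THEOREM B0 (bb OMEGA 18835, helper970): the conclusions of (1)-(7)

`X = C_V(Q)`, `S = Q`, `a = |V/E|`.
-/

set_option autoImplicit false
set_option linter.unusedSectionVars false
set_option linter.style.haveILetI false

namespace Cfsg.Agent.Omega.NO1.B0

open Subgroup Cfsg.Agent.Omega.NO1.AB
open scoped Pointwise

universe u

variable {Y : Type u} [Group Y] {V : Type u} [AddCommGroup V] [DistribMulAction Y V]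

/-- The conclusions of (1)-(7) (`S = Q = B₁ = B₂ = D`, `K` = `SL₂(a)`). -/
structure Out (T : Sylow 2 Y) (M L : Subgroup Y) (A Q L₁ : Subgroup L) (R : Sylow 2 L) (E F : AddSubgroup V)
    (z : V) (t : Y) : Prop where
  hyp : Hyp T M L A Q L₁ R E F z
  tk : Tk T L V Q t
  QA : Q ≤ A
  cQ : Nat.card Q = E.index
  cA : Nat.card A = E.index ^ 2
  cF : Nat.card F = E.index
  cX : Nat.card ↥(fx V Q) = E.index ^ 2
  cV : Nat.card V = E.index ^ 4
  FX : F ≤ fx V Q
  supE : E = fx V Q ⊔ t • fx V Q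
  infF : fx V Q ⊓ t • fx V Q = F
  tF : t • F = F
  tE : t • E = E
  Qz : ∀ q ∈ Q, ∀ l : L, q * l = l * q
  /-- `C_V(q) = X` -/
  Qfix : ∀ q ∈ Q, q ≠ 1 → ∀ v : V, q • v = v → v ∈ fx V Q
  /-- `[V,q] = X` -/
  QV : ∀ q ∈ Q, ∀ v : V, q • v + v ∈ fx V Q
  Qsurj : ∀ q ∈ Q, q ≠ 1 → ∀ x ∈ fx V Q, ∃ v : V, q • v + v = x
  /-- `A = S × S^t = A^t` -/
  QtA : ∀ q ∈ Q, ∃ b ∈ A, (b : Y) = t * q * t⁻¹
  tA : ∀ b ∈ A, ∃ c ∈ A, (c : Y) = t * b * t⁻¹
  prod : ∀ b ∈ A, ∃ q ∈ Q, ∃ q' ∈ Q, (b : Y) = q * (t * q' * t⁻¹)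
  inf1 : ∀ q ∈ Q, ∀ q' ∈ Q, (q : Y) = t * q' * t⁻¹ → q = 1
  /-- `C_A(X') = S^t` -/
  CAX' : ∀ b ∈ A, (∀ x ∈ t • fx V Q, b • x = x) → ∃ q ∈ Q, (b : Y) = t * q * t⁻¹
  /-- `C_Y(X) ∩ C_Y(V/X) = S` -/
  DD : ∀ y : Y, (∀ x ∈ fx V Q, y • x = x) → (∀ v : V, y • v + v ∈ fx V Q) → ∃ q ∈ Q, (q : Y) = y
  /-- `C_L(X) = S` -/
  CL : ∀ l : L, (∀ x ∈ fx V Q, l • x = x) → l ∈ Q
  /-- `C_T(X) = S`, `C_T(A) = A` -/
  CTX : ∀ y ∈ T, (∀ x ∈ fx V Q, y • x = x) → ∃ q ∈ Q, (q : Y) = y
  CTA : ∀ y ∈ T, (∀ b ∈ A, y * (b : Y) = b * y) → ∃ b ∈ A, (b : Y) = y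

/-- Gaschütz: `L = S × K` -/
structure OutK {T : Sylow 2 Y} {M L : Subgroup Y} {A Q L₁ : Subgroup L} {R : Sylow 2 L} {E F : AddSubgroup V}
    {z : V} {t : Y} (_ : Out T M L A Q L₁ R E F z t) (K : Subgroup L) (𝕂 : Type) [Field 𝕂]
    (e : ↥(fx V Q) ≃+ (Fin 2 → 𝕂)) (φ : K ≃* Matrix.SpecialLinearGroup (Fin 2) 𝕂) : Prop where
  inf : K ⊓ Q = ⊥
  sup : K ⊔ Q = ⊤
  normal : K.Normal
  card : Nat.card 𝕂 = E.index
  act : ∀ (k : K) (v w : ↥(fx V Q)), (w : V) = (k : L) • (v : V) → e w = (φ k).1.mulVec (e v)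
  memF : ∀ v : ↥(fx V Q), (v : V) ∈ F ↔ e v 1 = 0

end Cfsg.Agent.Omega.NO1.B0

end

section


/-!
# THEOREM B0 (bb OMEGA 18835, helper970): (1)-(4)

`X = C_V(Q)`, `X₁ = X ∩ F`, `X' = t X`.  `t X₁ = X₁`, `X' ≤ E`, `[X', Q] ≤ X₁`, `|A ∩ Q| = |X₁| = |V/E|`, `|A| = |V/E|²`,
`V = X' + l E`, `X' ∩ l E = X₁` for `l ∉ L₁`.
-/

set_option autoImplicit false
set_option linter.unusedSectionVars false
set_option linter.style.haveILetI false

namespace Cfsg.Agent.Omega.NO1.B0

open Subgroup Cfsg.Agent.Omega.NO1.AB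
open scoped Pointwise

universe u

variable {Y : Type u} [Group Y] {V : Type u} [AddCommGroup V] [DistribMulAction Y V]

theorem card_mono_as [Finite V] {W₁ W₂ : AddSubgroup V} (h : W₁ ≤ W₂) : Nat.card W₁ ≤ Nat.card W₂ :=
  Nat.card_le_card_of_injective _ (AddSubgroup.inclusion_injective h)

/-- `|C_A(p)| ≥ |V/E|` for `p ∈ E - F` -/
theorem card_CA [Finite Y] [Finite V] {B : Subgroup Y} {E F : AddSubgroup V} (h2 : ∀ v : V, v + v = 0)
    (h : Mem B E F) {p : V} (hp : p ∈ E) (hpF : p ∉ F) :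
    E.index ≤ Nat.card ↥(B ⊓ MulAction.stabilizer Y p) := by
  classical
  have hex : ∀ w : V, w ∉ E → ∃ b : ↥(B ⊓ MulAction.stabilizer Y p), (b : Y) • w + w + p ∈ F := by
    intro w hw
    obtain ⟨b, hb, h1⟩ := h.surj w hw p hp
    refine ⟨⟨b, hb, ?_⟩, h1⟩
    change b • p = p
    have h3 := h.FB b hb _ h1
    rw [smul_add, smul_add, ← mul_smul, h.sq b hb, one_smul, add_comm w (b • w)] at h3
    exact add_left_cancel h3
  choose f hf using hex
  let g : V ⧸ E → ↥(B ⊓ MulAction.stabilizer Y p) := fun q =>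
    if hq : q.out ∈ E then 1 else f q.out hq
  have hne1 : ∀ w hw, f w hw ≠ 1 := by
    intro w hw h1
    have h3 := hf w hw
    rw [h1, coe_one, one_smul, h2, zero_add] at h3
    exact hpF h3
  have hg : Function.Injective g := by
    intro q q' hqq
    have hout : ∀ q : V ⧸ E, q.out ∈ E → q = 0 := by
      intro q hq
      rw [← QuotientAddGroup.out_eq' q]
      exact (QuotientAddGroup.eq_zero_iff _).2 hq
    by_cases h1 : q.out ∈ E <;> by_cases h3 : q'.out ∈ E
    · rw [hout q h1, hout q' h3]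
    · exfalso
      have h4 : g q = 1 := dif_pos h1
      have h5 : g q' = f q'.out h3 := dif_neg h3
      exact hne1 _ h3 (by rw [← h5, ← hqq, h4])
    · exfalso
      have h4 : g q' = 1 := dif_pos h3
      have h5 : g q = f q.out h1 := dif_neg h1
      exact hne1 _ h1 (by rw [← h5, hqq, h4])
    · have h4 : g q = f q.out h1 := dif_neg h1
      have h5 : g q' = f q'.out h3 := dif_neg h3
      have h6 : q.out + q'.out ∈ E := by
        by_contra h7
        have h8 := hf _ h1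
        have h9 := hf _ h3
        rw [← h5, ← hqq, h4] at h9
        have h10 := h.inj _ h7 _ (f q.out h1).2.1 (by
          have h11 := F.add_mem h8 h9
          rw [smul_add]
          have e : ((f q.out h1 : ↥(B ⊓ MulAction.stabilizer Y p)) : Y) • q.out + q.out + p +
              (((f q.out h1 : ↥(B ⊓ MulAction.stabilizer Y p)) : Y) • q'.out + q'.out + p) =
              ((f q.out h1 : ↥(B ⊓ MulAction.stabilizer Y p)) : Y) • q.out +
              ((f q.out h1 : ↥(B ⊓ MulAction.stabilizer Y p)) : Y) • q'.out + (q.out + q'.out) + (p + p) := by abel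
          rwa [e, h2 p, add_zero] at h11)
        exact hne1 _ h1 (Subtype.ext h10)
      rw [← QuotientAddGroup.out_eq' q, ← QuotientAddGroup.out_eq' q', QuotientAddGroup.eq]
      have h7 : -q.out = q.out := neg_eq_of_add_eq_zero_left (h2 _)
      rwa [h7]
  exact Nat.card_le_card_of_injective g hg

namespace Hyp0

variable {T : Sylow 2 Y} {M L : Subgroup Y} {A Q L₁ : Subgroup L} {R : Sylow 2 L} {E F : AddSubgroup V}
  {z : V} (h : Hyp0 T M L A Q L₁ R E F z)
include h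

theorem AT {a : L} (ha : a ∈ A) : (a : Y) ∈ T := h.RT a (h.loc.AR ha)

theorem AN [Finite V] (a : L) : (a : Y) ∈ NX L V Q := h.L_le_NX a.2

theorem QT [Finite Y] {q : L} (hq : q ∈ Q) : (q : Y) ∈ T := h.RT q (h.loc.Q_le_R hq)

theorem two_le_c [Finite Y] [Finite V] : 1 < Nat.card ↥(fx V Q ⊓ F) := by
  have : Nontrivial ↥(fx V Q ⊓ F) :=
    ⟨⟨⟨z, h.loc.z_mem⟩, 0, fun h2 => h.z_ne (congrArg Subtype.val h2)⟩⟩
  exact Finite.one_lt_card

theorem cX [Finite Y] [Finite V] : Nat.card ↥(fx V Q) = Nat.card ↥(fx V Q ⊓ F) ^ 2 := card_X h.loc h.beta h.C0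

theorem cA [Finite Y] [Finite V] : Nat.card ↥(fx V Q ⊓ F) * Nat.card ↥(A ⊓ Q) = Nat.card A :=
  X1_card_mul h.loc h.beta h.C0

/-- `c ≤ |A ∩ Q|` -/
theorem c_le_B [Finite Y] [Finite V] : Nat.card ↥(fx V Q ⊓ F) ≤ Nat.card ↥(A ⊓ Q) := by
  obtain ⟨w, hw⟩ := h.loc.mem.ne
  have hex : ∀ v : ↥(fx V Q ⊔ F), ∃ b : ↥(A ⊓ Q), (b : L) • w + w + (v : V) ∈ F := by
    intro v
    have hvE : (v : V) ∈ E := (sup_le h.beta.XE h.loc.mem.FE) v.2
    obtain ⟨b, hb, h1⟩ := h.loc.mem.surj w hw _ hvE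
    refine ⟨⟨b, hb, ?_⟩, h1⟩
    apply h.beta.perp_mem h.loc.mem le_rfl hw hb
    have e : b • w + w = (v : V) + (b • w + w + v) := by
      rw [add_comm (b • w + w) (v : V), ← add_assoc, h.two, zero_add]
    rw [e]
    exact AddSubgroup.add_mem _ v.2 (AddSubgroup.mem_sup_right h1)
  choose f hf using hex
  let g : ↥(fx V Q ⊔ F) → ↥(A ⊓ Q) × F := fun v => (f v, ⟨_, hf v⟩)
  have hg : Function.Injective g := by
    intro v v' hvv
    have h1 : f v = f v' := congrArg Prod.fst hvv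
    have h2 : (f v : L) • w + w + (v : V) = (f v' : L) • w + w + (v' : V) :=
      congrArg (fun q : ↥(A ⊓ Q) × F => (q.2 : V)) hvv
    rw [h1] at h2
    exact Subtype.ext (add_left_cancel h2)
  have h1 := Nat.card_le_card_of_injective g hg
  rw [Nat.card_prod] at h1
  have h2 := card_sup_as (fx V Q) F
  rw [h.cX] at h2
  have hF0 : 0 < Nat.card F := Nat.card_pos
  have hc0 : 0 < Nat.card ↥(fx V Q ⊓ F) := Nat.card_pos
  apply Nat.le_of_mul_le_mul_right _ hF0
  apply Nat.le_of_mul_le_mul_left _ hc0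
  calc Nat.card ↥(fx V Q ⊓ F) * (Nat.card ↥(fx V Q ⊓ F) * Nat.card F)
      = Nat.card ↥(fx V Q ⊓ F) ^ 2 * Nat.card F := by ring
    _ = Nat.card ↥(fx V Q ⊓ F) * Nat.card ↥(fx V Q ⊔ F) := by rw [← h2]; ring
    _ ≤ _ := Nat.mul_le_mul_left _ h1

theorem cX_le [Finite Y] [Finite V] : Nat.card ↥(fx V Q) ≤ Nat.card A := by
  rw [h.cX, ← h.cA, pow_two]
  exact Nat.mul_le_mul_left _ h.c_le_B

/-- `A` in `Y` -/
theorem memU [Finite V] : MemU (A.map L.subtype) E F where
  comm := by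
    rintro _ ⟨b, hb, rfl⟩ _ ⟨c, hc, rfl⟩
    exact congrArg Subtype.val (h.loc.mem.comm b hb c hc)
  sq := by
    rintro _ ⟨b, hb, rfl⟩
    exact congrArg Subtype.val (h.loc.mem.sq b hb)
  FE := h.loc.mem.FE
  VB := by
    rintro _ ⟨b, hb, rfl⟩ v
    exact h.loc.mem.VB b hb v
  EB := by
    rintro _ ⟨b, hb, rfl⟩ v
    exact h.loc.mem.EB b hb v
  FB := by
    rintro _ ⟨b, hb, rfl⟩ v
    exact h.loc.mem.FB b hb v
  CB := fun v hv => h.loc.mem.CB v fun b hb => hv _ ⟨b, hb, rfl⟩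
  inj := by
    rintro w hw _ ⟨b, hb, rfl⟩ h1
    exact congrArg Subtype.val (h.loc.mem.inj w hw b hb h1)
  surj := by
    intro w hw e he
    obtain ⟨b, hb, h1⟩ := h.loc.mem.surj w hw e he
    exact ⟨_, ⟨b, hb, rfl⟩, h1⟩
  ne := h.loc.mem.ne
  mu := by
    intro B₀ hB₀
    have hB₀L : B₀ ≤ L := hB₀.trans (map_subtype_le A)
    have h1 := h.loc.mu (B₀.subgroupOf L) (by
      intro b hb
      obtain ⟨a, ha, h2⟩ := hB₀ (mem_subgroupOf.1 hb)
      have : a = b := Subtype.ext h2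
      rwa [← this])
    have h2 : Nat.card ↥(B₀.subgroupOf L) = Nat.card B₀ := Nat.card_congr (subgroupOfEquivOfLe hB₀L).toEquiv
    have h3 : fx V (B₀.subgroupOf L) = fx V B₀ := by
      ext v
      constructor
      · intro hv b hb
        exact hv ⟨b, hB₀L hb⟩ (mem_subgroupOf.2 hb)
      · intro hv b hb
        exact hv b (mem_subgroupOf.1 hb)
    rw [h2, h3] at h1
    exact h1

/-- `v ∈ F`, `l⁻¹ v ∈ X + F` ⟹ `v ∈ X₁` (`l ∉ L₁`) -/
theorem F_inf [Finite Y] [Finite V] {l : L} (hl : l ∉ L₁) {x : V} (hx : x ∈ F) (hlx : l⁻¹ • x ∈ fx V Q ⊔ F) :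
    x ∈ fx V Q ⊓ F := by
  rw [AddSubgroup.mem_sup] at hlx
  obtain ⟨y, hy, f, hf, he⟩ := hlx
  have h1 : l • y ∈ fx V Q := h.loc.smul_X l hy
  have h2 := h1
  rw [h.beta.sup l hl, AddSubgroup.mem_sup] at h2
  obtain ⟨u, hu, v, hv, huv⟩ := h2
  have hx' : x = u + (v + l • f) := by
    rw [← add_assoc, huv, ← smul_add, he, smul_inv_smul]
  have h3 : x + u = v + l • f := by
    rw [hx', add_comm u, add_assoc, h.two, add_zero]
  have h4 : v + l • f ∈ fx V (⊤ : Subgroup L) := by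
    apply h.loc.fix_all (x := 1) (y := l) (by simpa using hl)
    · rw [inv_one, one_smul, ← h3]
      exact F.add_mem hx hu.2
    · rw [smul_add, inv_smul_smul]
      exact F.add_mem (mem_smul_as.1 hv).2 hf
  rw [h.C0, AddSubgroup.mem_bot] at h4
  rw [hx', h4, add_zero]
  exact hu

theorem FF [Finite Y] [Finite V] {l : L} (hl : l ∉ L₁) {x : V} (hx : x ∈ F) (hlx : l⁻¹ • x ∈ F) : x = 0 := by
  have h4 : x ∈ fx V (⊤ : Subgroup L) :=
    h.loc.fix_all (x := 1) (y := l) (by simpa using hl) (by rwa [inv_one, one_smul]) hlx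
  rwa [h.C0, AddSubgroup.mem_bot] at h4

theorem inv_nmem {l : L} (hl : l ∉ L₁) : l⁻¹ ∉ L₁ := fun h1 => hl (by simpa using inv_mem h1)

theorem Xmem {l : L} {x : V} (hx : x ∈ fx V Q) : l • x ∈ fx V Q := h.loc.smul_X l hx

section t

variable {t : Y} (k : Tk T L V Q t)
include k

theorem tz : t⁻¹ • z = z := by rw [inv_smul_eq_iff, h.zT t k.tT]

theorem zt [Finite Y] : z ∈ t • (fx V Q ⊓ F) := by
  rw [mem_smul_as, h.tz k]
  exact h.loc.z_mem

theorem cjT {p : Y} (hp : p ∈ T) : t⁻¹ * p * t ∈ T := mul_mem (mul_mem (inv_mem k.tT) hp) k.tT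

/-- the action of `T ∩ N_Y(X)` on `X' = t X` -/
theorem actX' {p : Y} (hp : p ∈ T) (hpX : p ∈ NX L V Q) {x : V} (hx : x ∈ t • (fx V Q : AddSubgroup V)) :
    p • x ∈ t • (fx V Q : AddSubgroup V) := by
  rw [mem_smul_as] at hx ⊢
  have h1 := NX_smul (k.cj' p hp hpX) hx
  rw [mul_smul, mul_smul, smul_inv_smul] at h1
  exact h1

theorem actX1' [Finite Y] [Finite V] {p : Y} (hp : p ∈ T) (hpX : p ∈ NX L V Q) {x : V}
    (hx : x ∈ t • (fx V Q ⊓ F)) : p • x ∈ t • (fx V Q ⊓ F) := by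
  rw [mem_smul_as] at hx ⊢
  have h1 := h.comp_z (k.cj' p hp hpX) (h.zT _ (h.cjT k hp)) hx
  rw [mul_smul, mul_smul, smul_inv_smul] at h1
  exact h1

/-- **(S2)** for `X' = t X` -/
theorem s2' [Finite Y] [Finite V] {p : Y} (hp : p ∈ T) (hpX : p ∈ NX L V Q)
    (hp1 : ∀ x ∈ t • (fx V Q ⊓ F), p • x = x) :
    (∀ x ∈ t • (fx V Q : AddSubgroup V), p • x + x ∈ t • (fx V Q ⊓ F)) ∧
      ∀ v ∈ t • (fx V Q : AddSubgroup V), v ∉ t • (fx V Q ⊓ F) → p • v = v →
        ∀ x ∈ t • (fx V Q : AddSubgroup V), p • x = x := by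
  have hs : ∀ x : V, (t⁻¹ * p * t) • (t⁻¹ • x) = t⁻¹ • (p • x) := by
    intro x
    rw [mul_smul, mul_smul, smul_inv_smul]
  obtain ⟨h1, h2⟩ := h.s2 (h.cjT k hp) (k.cj' p hp hpX) (by
    intro x hx
    have h1 := hs (t • x)
    rw [inv_smul_smul, hp1 _ (smul_mem_smul_as hx), inv_smul_smul] at h1
    exact h1)
  constructor
  · intro x hx
    rw [mem_smul_as] at hx ⊢
    have h3 := h1 _ hx
    rw [hs, ← smul_add] at h3
    exact h3
  · intro v hv hv1 hpv x hx
    rw [mem_smul_as] at hv hv1 hx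
    have h3 := h2 _ hv (fun h4 => hv1 ⟨hv, h4⟩) (by rw [hs, hpv]) _ hx
    rw [hs] at h3
    exact smul_left_cancel _ h3

/-- **(1)** `A` centralises `t X₁` -/
theorem one_A [Finite Y] [Finite V] {a : L} (ha : a ∈ A) {x : V} (hx : x ∈ t • (fx V Q ⊓ F)) : a • x = x := by
  have hU := (h.memU).conj t⁻¹
  have h1 := h.s1 hU (by
    intro p hp
    rw [mem_conj, inv_inv] at hp
    obtain ⟨b, hb, hbp⟩ := hp
    have hbp' : (b : Y) = t * p * t⁻¹ := hbp
    have e : p = t⁻¹ * (b : Y) * t := by rw [hbp']; group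
    rw [e]
    exact ⟨k.cj' _ (h.AT hb) (h.AN b), h.zT _ (h.cjT k (h.AT hb))⟩) (by
    have h2 : Nat.card (MulAut.conj t⁻¹ • A.map L.subtype : Subgroup Y) = Nat.card A := by
      rw [← Nat.card_congr (Subgroup.equivSMul (MulAut.conj t⁻¹) (A.map L.subtype)).toEquiv]
      exact (Nat.card_congr (A.equivMapOfInjective _ L.subtype_injective).toEquiv).symm
    rw [h2]
    exact h.cX_le) (t⁻¹ * (a : Y) * t) (by
      rw [mem_conj, inv_inv]
      exact ⟨a, ha, by
        change (a : Y) = _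
        group⟩) _ (mem_smul_as.1 hx)
  rw [mul_smul, mul_smul, smul_inv_smul] at h1
  exact smul_left_cancel _ h1

theorem tX1_le_F [Finite Y] [Finite V] {x : V} (hx : x ∈ t • (fx V Q ⊓ F)) : x ∈ F :=
  h.loc.mem.CB x fun _ ha => h.one_A k ha hx

theorem A_ne [Finite Y] [Finite V] : ∃ a ∈ A ⊓ Q, a ≠ 1 := by
  by_contra hc
  push Not at hc
  apply h.beta.ne
  rw [eq_bot_iff]
  intro b hb
  exact hc b hb

theorem X'_le_E [Finite Y] [Finite V] {x : V} (hx : x ∈ t • (fx V Q : AddSubgroup V)) : x ∈ E := by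
  by_contra hxE
  obtain ⟨a, ha, ha1⟩ := h.A_ne k
  apply ha1
  apply h.loc.mem.inj x hxE a ha.1
  exact h.tX1_le_F k ((h.s2' k (h.AT ha.1) (h.AN a) fun x hx => h.one_A k ha.1 hx).1 x hx)

theorem card_tX1 [Finite V] : Nat.card ↥(t • (fx V Q ⊓ F)) = Nat.card ↥(fx V Q ⊓ F) := card_smul_as t _

/-- conjugates of `A ∩ Q` -/
theorem conjB {l b : L} (hb : b ∈ A ⊓ Q) : l * b * l⁻¹ ∈ Q := h.loc.Qn.conj_mem b hb.2 l

theorem conj_smul_add {l b : L} (x : V) : l⁻¹ • ((l * b * l⁻¹) • x + x) = b • (l⁻¹ • x) + l⁻¹ • x := by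
  rw [smul_add, mul_smul, mul_smul, inv_smul_smul]

/-- **(2a)** `t X₁ ≤ l E` -/
theorem two_a [Finite Y] [Finite V] (l : L) {x : V} (hx : x ∈ t • (fx V Q ⊓ F)) : l⁻¹ • x ∈ E := by
  by_contra hxE
  -- the elements `(l b l⁻¹) x + x`
  have hmem : ∀ b : ↥(A ⊓ Q), (l * (b : L) * l⁻¹) • x + x ∈ t • (fx V Q ⊓ F) := by
    intro b
    have hq := h.conjB k (l := l) b.2
    exact (t • (fx V Q ⊓ F)).add_mem (h.actX1' k (h.QT hq) (h.AN _) hx) hx
  let f : Option ↥(A ⊓ Q) → ↥(t • (fx V Q ⊓ F)) := fun b => b.elim ⟨x, hx⟩ fun b => ⟨_, hmem b⟩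
  have hf : Function.Injective f := by
    have hE : ∀ b : ↥(A ⊓ Q), l⁻¹ • ((l * (b : L) * l⁻¹) • x + x) ∈ E := by
      intro b
      rw [h.conj_smul_add k]
      exact h.loc.mem.VB b b.2.1 _
    rintro (_ | b) (_ | b') hbb
    · rfl
    · exfalso
      have h1 : x = (l * (b' : L) * l⁻¹) • x + x := congrArg Subtype.val hbb
      apply hxE
      rw [h1]
      exact hE b'
    · exfalso
      have h1 : (l * (b : L) * l⁻¹) • x + x = x := congrArg Subtype.val hbb
      apply hxE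
      rw [← h1]
      exact hE b
    · have h1 : (l * (b : L) * l⁻¹) • x + x = (l * (b' : L) * l⁻¹) • x + x := congrArg Subtype.val hbb
      have h2 : (b : L) • (l⁻¹ • x) + l⁻¹ • x = (b' : L) • (l⁻¹ • x) + l⁻¹ • x := by
        rw [← h.conj_smul_add k, h1, h.conj_smul_add k]
      have h3 : (b : L) • (l⁻¹ • x) = (b' : L) • (l⁻¹ • x) := add_right_cancel h2
      have h4 := h.loc.mem.inj _ hxE ((b' : L)⁻¹ * b) (mul_mem (inv_mem b'.2.1) b.2.1) (by
        rw [mul_smul, h3, inv_smul_smul, h.two]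
        exact F.zero_mem)
      rw [inv_mul_eq_one] at h4
      congr 1
      exact Subtype.ext h4.symm
  have h1 := Nat.card_le_card_of_injective f hf
  rw [Finite.card_option, h.card_tX1 k] at h1
  have h2 := h.c_le_B
  omega

/-- `[y, B_l] = 0` for `y ∈ l E`, `[y, B_l] ≤ F` (`l ∉ L₁`) -/
theorem fix_of [Finite Y] [Finite V] {l : L} (hl : l ∉ L₁) {y : V} (hy : l⁻¹ • y ∈ E)
    (hyF : ∀ b ∈ A ⊓ Q, (l * b * l⁻¹) • y + y ∈ F) : l⁻¹ • y ∈ fx V Q ⊔ F := by
  rw [← h.beta.CVB]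
  intro b hb
  have h1 : (l * b * l⁻¹) • y + y = 0 := by
    apply h.FF hl (hyF b hb)
    rw [h.conj_smul_add k]
    exact h.loc.mem.EB b hb.1 _ hy
  have h2 : b • (l⁻¹ • y) + l⁻¹ • y = 0 := by
    rw [← h.conj_smul_add k, h1, smul_zero]
  exact h.eq_of_add h2

/-- **(2)** `t X₁ = X₁` -/
theorem tX1 [Finite Y] [Finite V] : t • (fx V Q ⊓ F) = fx V Q ⊓ F := by
  obtain ⟨l, hl⟩ := exists_out h.loc h.beta
  apply eq_of_le_as
  · intro x hx
    apply h.F_inf hl (h.tX1_le_F k hx)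
    apply h.fix_of k hl (h.two_a k l hx)
    intro b hb
    have hq := h.conjB k (l := l) hb
    exact h.tX1_le_F k ((t • (fx V Q ⊓ F)).add_mem (h.actX1' k (h.QT hq) (h.AN _) hx) hx)
  · exact (h.card_tX1 k).ge

theorem X1_le_X' [Finite Y] [Finite V] {x : V} (hx : x ∈ fx V Q ⊓ F) : x ∈ t • (fx V Q : AddSubgroup V) := by
  rw [← h.tX1 k] at hx
  rw [mem_smul_as] at hx ⊢
  exact hx.1

/-- (S2) for the elements which centralise `X₁ = t X₁` -/
theorem s3 [Finite Y] [Finite V] {p : Y} (hp : p ∈ T) (hpX : p ∈ NX L V Q)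
    (hp1 : ∀ x ∈ fx V Q ⊓ F, p • x = x) :
    (∀ x ∈ t • (fx V Q : AddSubgroup V), p • x + x ∈ fx V Q ⊓ F) ∧
      ∀ v ∈ t • (fx V Q : AddSubgroup V), v ∉ fx V Q ⊓ F → p • v = v →
        ∀ x ∈ t • (fx V Q : AddSubgroup V), p • x = x := by
  have h1 := h.s2' k hp hpX (by rw [h.tX1 k]; exact hp1)
  rwa [h.tX1 k] at h1

theorem s3Q [Finite Y] [Finite V] {q : L} (hq : q ∈ Q) :
    (∀ x ∈ t • (fx V Q : AddSubgroup V), q • x + x ∈ fx V Q ⊓ F) ∧
      ∀ v ∈ t • (fx V Q : AddSubgroup V), v ∉ fx V Q ⊓ F → q • v = v →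
        ∀ x ∈ t • (fx V Q : AddSubgroup V), q • x = x :=
  h.s3 k (h.QT hq) (h.AN q) fun _ hx => hx.1 q hq

theorem X'_not_le [Finite Y] [Finite V] : ∃ x ∈ t • (fx V Q : AddSubgroup V), x ∉ fx V Q := by
  by_contra hc
  push Not at hc
  apply k.tX
  rw [mem_NX]
  exact eq_of_le_as hc (card_smul_as t _).ge

theorem tX_card [Finite Y] [Finite V] : Nat.card ↥(t • (fx V Q : AddSubgroup V)) =
    Nat.card ↥(fx V Q ⊓ F) ^ 2 := by
  rw [card_smul_as, h.cX]

/-- there is a second point `a l` over `A` -/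
theorem second [Finite Y] [Finite V] {l : L} (hl : l ∉ L₁) : ∃ a ∈ A, a * l ∉ L₁ ∧ l⁻¹ * (a * l) ∉ L₁ := by
  obtain ⟨a, ha, haQ⟩ := Set.not_subset.1 h.loc.not_A_le
  refine ⟨a, ha, ?_, ?_⟩
  · intro h1
    apply hl
    have := mul_mem (inv_mem (h.loc.A_le ha)) h1
    rwa [inv_mul_cancel_left] at this
  · intro h1
    apply haQ
    apply h.beta.cap l hl a ha
    rw [mem_conj, mul_assoc]
    exact h1

/-- **(3)** `X' ≰ l E` -/
theorem three [Finite Y] [Finite V] {l : L} (hl : l ∉ L₁) :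
    ∃ x ∈ t • (fx V Q : AddSubgroup V), l⁻¹ • x ∉ E := by
  by_contra hc
  push Not at hc
  obtain ⟨x, hx, hxX⟩ := h.X'_not_le k
  apply hxX
  -- `X' ≤ X + l F`
  have key : ∀ y ∈ t • (fx V Q : AddSubgroup V), l⁻¹ • y ∈ fx V Q ⊔ F := by
    intro y hy
    apply h.fix_of k hl (hc y hy)
    intro b hb
    exact ((h.s3Q k (h.conjB k (l := l) hb)).1 y hy).2
  obtain ⟨a, ha, -, hal⟩ := h.second k hl
  have h1 := key x hx
  have h2 := key (a⁻¹ • x) (h.actX' k (h.AT (inv_mem ha)) (h.AN a⁻¹) hx)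
  rw [AddSubgroup.mem_sup] at h1 h2
  obtain ⟨y, hy, f, hf, h1⟩ := h1
  obtain ⟨y', hy', f', hf', h2⟩ := h2
  have hx1 : x = l • y + l • f := by rw [← smul_add, h1, smul_inv_smul]
  have hx2 : x = (a * l) • y' + (a * l) • f' := by
    rw [← smul_add, h2, mul_smul, smul_inv_smul, smul_inv_smul]
  have h3 : f ∈ fx V Q ⊓ F := by
    apply h.F_inf hal hf
    have e : (l⁻¹ * (a * l))⁻¹ • f = (a * l)⁻¹ • (l • f) := by
      rw [← mul_smul]; congr 1; group
    rw [e]
    have e2 : l • f = (l • y + (a * l) • y') + (a * l) • f' := by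
      have h4 : l • y + l • f = (a * l) • y' + (a * l) • f' := by rw [← hx1, ← hx2]
      have h5 : l • f = l • y + (l • y + l • f) := by rw [← add_assoc, h.two, zero_add]
      rw [h5, h4, add_assoc]
    rw [e2, smul_add, inv_smul_smul]
    exact AddSubgroup.add_mem _ (AddSubgroup.mem_sup_left (h.Xmem ((fx V Q).add_mem (h.Xmem hy) (h.Xmem hy'))))
      (AddSubgroup.mem_sup_right hf')
  rw [hx1]
  exact (fx V Q).add_mem (h.Xmem hy) (h.Xmem h3.1)

/-- `|A ∩ Q| = c` -/
theorem cB [Finite Y] [Finite V] : Nat.card ↥(A ⊓ Q) = Nat.card ↥(fx V Q ⊓ F) := by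
  apply le_antisymm _ h.c_le_B
  obtain ⟨l, hl⟩ := exists_out h.loc h.beta
  obtain ⟨x, hx, hxE⟩ := h.three k hl
  let f : ↥(A ⊓ Q) → ↥(fx V Q ⊓ F) := fun b => ⟨_, (h.s3Q k (h.conjB k (l := l) b.2)).1 x hx⟩
  apply Nat.card_le_card_of_injective f
  intro b b' hbb
  have h1 : (l * (b : L) * l⁻¹) • x + x = (l * (b' : L) * l⁻¹) • x + x := congrArg Subtype.val hbb
  have h2 : (b : L) • (l⁻¹ • x) + l⁻¹ • x = (b' : L) • (l⁻¹ • x) + l⁻¹ • x := by
    rw [← h.conj_smul_add k, h1, h.conj_smul_add k]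
  have h3 : (b : L) • (l⁻¹ • x) = (b' : L) • (l⁻¹ • x) := add_right_cancel h2
  have h4 := h.loc.mem.inj _ hxE ((b' : L)⁻¹ * b) (mul_mem (inv_mem b'.2.1) b.2.1) (by
    rw [mul_smul, h3, inv_smul_smul, h.two]
    exact F.zero_mem)
  rw [inv_mul_eq_one] at h4
  exact Subtype.ext h4.symm

theorem cA2 [Finite Y] [Finite V] : Nat.card A = Nat.card ↥(fx V Q ⊓ F) ^ 2 := by
  rw [← h.cA, h.cB k, pow_two]

/-- a subgroup of `T ∩ N_Y(X)` which centralises `X₁`: `|P| ≤ c |C_P(X')|` -/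
theorem count_X' [Finite Y] [Finite V] {P : Subgroup Y} (hP : ∀ p ∈ P, p ∈ T ∧ p ∈ NX L V Q)
    (hP1 : ∀ p ∈ P, ∀ x ∈ fx V Q ⊓ F, p • x = x) :
    ∃ P₀ : Subgroup Y, (∀ p, p ∈ P₀ ↔ p ∈ P ∧ ∀ x ∈ t • (fx V Q : AddSubgroup V), p • x = x) ∧
      Nat.card P ≤ Nat.card ↥(fx V Q ⊓ F) * Nat.card P₀ := by
  obtain ⟨v, hv, hvX⟩ := h.X'_not_le k
  have hv1 : v ∉ fx V Q ⊓ F := fun h1 => hvX h1.1
  have hs := fun p (hp : p ∈ P) => h.s3 k (hP p hp).1 (hP p hp).2 (hP1 p hp)
  let φ : P →* Multiplicative ↥(fx V Q ⊓ F) :=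
    { toFun := fun p => Multiplicative.ofAdd ⟨(p : Y) • v + v, (hs p p.2).1 v hv⟩
      map_one' := by
        apply congrArg Multiplicative.ofAdd
        apply Subtype.ext
        change (1 : Y) • v + v = 0
        rw [one_smul, h.two]
      map_mul' := fun p p' => by
        apply congrArg Multiplicative.ofAdd
        apply Subtype.ext
        change ((p : Y) * p') • v + v = ((p : Y) • v + v) + ((p' : Y) • v + v)
        have h1 : (p : Y) • ((p' : Y) • v + v) = (p' : Y) • v + v := hP1 p p.2 _ ((hs p' p'.2).1 v hv)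
        rw [mul_smul]
        have h2 : (p : Y) • (p' : Y) • v = (p' : Y) • v + v + (p : Y) • v := by
          rw [smul_add] at h1
          rw [← h1, add_assoc, h.two, add_zero]
        rw [h2]
        abel }
  refine ⟨φ.ker.map P.subtype, ?_, ?_⟩
  · intro p
    constructor
    · rintro ⟨p', hp', rfl⟩
      refine ⟨p'.2, ?_⟩
      have h1 : (p' : Y) • v + v = 0 := congrArg (fun u : Multiplicative ↥(fx V Q ⊓ F) => ((u.toAdd : ↥(fx V Q ⊓ F)) : V)) hp'
      exact (hs p' p'.2).2 v hv hv1 (h.eq_of_add h1)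
    · rintro ⟨hp, hp1⟩
      refine ⟨⟨p, hp⟩, ?_, rfl⟩
      apply congrArg Multiplicative.ofAdd
      apply Subtype.ext
      change p • v + v = 0
      rw [hp1 v hv, h.two]
  · have h1 := Subgroup.card_mul_index φ.ker
    rw [Subgroup.index_ker] at h1
    have h2 : Nat.card φ.range ≤ Nat.card ↥(fx V Q ⊓ F) :=
      Nat.card_le_card_of_injective (fun u : φ.range => (u.1.toAdd : ↥(fx V Q ⊓ F))) fun u u' huu => Subtype.ext huu
    have h3 : Nat.card (φ.ker.map P.subtype) = Nat.card φ.ker :=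
      Nat.card_congr (φ.ker.equivMapOfInjective _ P.subtype_injective).symm.toEquiv
    rw [h3, ← h1, mul_comm]
    exact Nat.mul_le_mul_right _ h2

/-- **(4)** `X' ∩ l E = X₁` -/
theorem four [Finite Y] [Finite V] {l : L} (hl : l ∉ L₁) {y : V} (hy : y ∈ t • (fx V Q : AddSubgroup V))
    (hyE : l⁻¹ • y ∈ E) : y ∈ fx V Q ⊓ F := by
  have h1 := h.fix_of k hl hyE fun b hb => ((h.s3Q k (h.conjB k (l := l) hb)).1 y hy).2
  rw [AddSubgroup.mem_sup] at h1
  obtain ⟨w, hw, f, hf, h1⟩ := h1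
  have hlw : l • w ∈ fx V Q := h.Xmem hw
  rw [h.beta.sup l hl, AddSubgroup.mem_sup] at hlw
  obtain ⟨u, hu, v, hv, huv⟩ := hlw
  -- `y = u + g`, `g = v + l f ∈ X' ∩ l F`
  set g := v + l • f with hg
  have hyu : y = u + g := by
    rw [hg, ← add_assoc, huv, ← smul_add, h1, smul_inv_smul]
  have hgF : l⁻¹ • g ∈ F := by
    rw [hg, smul_add, inv_smul_smul]
    exact F.add_mem (mem_smul_as.1 hv).2 hf
  have hgX : g ∈ t • (fx V Q : AddSubgroup V) := by
    have : g = y + u := by rw [hyu, add_comm u g, add_assoc, h.two, add_zero]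
    rw [this]
    exact AddSubgroup.add_mem _ hy (h.X1_le_X' k hu)
  by_cases hg0 : g = 0
  · rw [hyu, hg0, add_zero]; exact hu
  exfalso
  have hgC : g ∉ fx V (⊤ : Subgroup L) := by rwa [h.C0, AddSubgroup.mem_bot]
  have hst := h.loc.stab_le hgF hgC
  -- `C_A(X')`
  obtain ⟨P₀, hP₀, hcard⟩ := h.count_X' k (P := A.map L.subtype) (by
    rintro _ ⟨a, ha, rfl⟩
    exact ⟨h.AT ha, h.AN a⟩) (by
    rintro _ ⟨a, ha, rfl⟩ x hx
    exact h.loc.mem.FB a ha x hx.2)
  have hA : Nat.card (A.map L.subtype) = Nat.card A :=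
    Nat.card_congr (A.equivMapOfInjective _ L.subtype_injective).symm.toEquiv
  rw [hA, h.cA2 k, pow_two] at hcard
  have hc0 : 0 < Nat.card ↥(fx V Q ⊓ F) := Nat.card_pos
  have hcard' := Nat.le_of_mul_le_mul_left hcard hc0
  have hP₀B : P₀ ≤ (A ⊓ Q).map L.subtype := by
    intro p hp
    obtain ⟨⟨a, ha, rfl⟩, hp1⟩ := (hP₀ p).1 hp
    refine ⟨a, ⟨ha, ?_⟩, rfl⟩
    exact h.beta.cap l hl a ha (hst (hp1 g hgX))
  have hB : Nat.card ((A ⊓ Q).map L.subtype) = Nat.card ↥(A ⊓ Q) :=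
    Nat.card_congr ((A ⊓ Q).equivMapOfInjective _ L.subtype_injective).symm.toEquiv
  have heq : P₀ = (A ⊓ Q).map L.subtype := by
    apply eq_of_le_of_card_ge hP₀B
    rw [hB, h.cB k]
    exact hcard'
  have h2 : g ∈ fx V Q ⊔ F := by
    rw [← h.beta.CVB]
    intro b hb
    have h3 : (b : Y) ∈ P₀ := by rw [heq]; exact ⟨b, hb, rfl⟩
    exact ((hP₀ _).1 h3).2 g hgX
  have h3 : l⁻¹ • g ∈ fx V Q ⊓ F := by
    apply h.F_inf (h.inv_nmem hl) hgF
    rw [inv_inv, smul_inv_smul]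
    exact h2
  have h4 : g ∈ fx V Q := by
    have := h.Xmem (l := l) h3.1
    rwa [smul_inv_smul] at this
  have h5 : g ∉ fx V Q ⊓ F := fun h6 => hg0 (h.FF hl h6.2 hgF)
  obtain ⟨x, hx, hxX⟩ := h.X'_not_le k
  apply hxX
  intro q hq
  exact (h.s3Q k hq).2 g hgX h5 (h4 q hq) x hx

/-- `c = |V/E|` -/
theorem ca [Finite Y] [Finite V] : Nat.card ↥(fx V Q ⊓ F) = E.index := by
  obtain ⟨l, hl⟩ := exists_out h.loc h.beta
  have hEi : 0 < E.index := Nat.pos_of_ne_zero AddSubgroup.index_ne_zero_of_finite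
  apply le_antisymm
  · -- `X' / X₁` embeds in `V / l E`
    set X' := t • (fx V Q : AddSubgroup V) with hX'
    have h1 : X' ⊓ (l : Y) • E = fx V Q ⊓ F := by
      apply le_antisymm
      · rintro y ⟨hy, hyE⟩
        exact h.four k hl hy (mem_smul_as.1 hyE)
      · intro y hy
        have hy' := hy
        rw [← h.tX1 k] at hy'
        exact ⟨h.X1_le_X' k hy, mem_smul_as.2 (h.two_a k l hy')⟩
    have h2 := card_sup_as X' ((l : Y) • E)
    rw [h1, h.tX_card k, card_smul_as] at h2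
    have h3 := AddSubgroup.card_mul_index E
    have h4 : Nat.card ↥(X' ⊔ (l : Y) • E) ≤ Nat.card V := Nat.card_le_card_of_injective _ Subtype.val_injective
    have hc0 : 0 < Nat.card ↥(fx V Q ⊓ F) := Nat.card_pos
    have hE0 : 0 < Nat.card E := Nat.card_pos
    apply Nat.le_of_mul_le_mul_left _ (Nat.mul_pos hE0 hc0)
    calc Nat.card E * Nat.card ↥(fx V Q ⊓ F) * Nat.card ↥(fx V Q ⊓ F)
        = Nat.card ↥(fx V Q ⊓ F) ^ 2 * Nat.card E := by ring
      _ = Nat.card ↥(X' ⊔ (l : Y) • E) * Nat.card ↥(fx V Q ⊓ F) := h2.symm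
      _ ≤ Nat.card V * Nat.card ↥(fx V Q ⊓ F) := Nat.mul_le_mul_right _ h4
      _ = Nat.card E * Nat.card ↥(fx V Q ⊓ F) * E.index := by rw [← h3]; ring
  · have h1 := pf_le h.loc.mem h.two (by
      intro h2
      apply h.beta.ne
      rw [h2, bot_inf_eq])
    rw [h.cA2 k] at h1
    exact (Nat.pow_le_pow_iff_left two_ne_zero).1 h1

/-- `V = X' + l E` -/
theorem sup_top [Finite Y] [Finite V] {l : L} (hl : l ∉ L₁) (v : V) :
    ∃ x ∈ t • (fx V Q : AddSubgroup V), l⁻¹ • (v + x) ∈ E := by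
  set X' := t • (fx V Q : AddSubgroup V) with hX'
  have h1 : X' ⊓ (l : Y) • E = fx V Q ⊓ F := by
    apply le_antisymm
    · rintro y ⟨hy, hyE⟩
      exact h.four k hl hy (mem_smul_as.1 hyE)
    · intro y hy
      have hy' := hy
      rw [← h.tX1 k] at hy'
      exact ⟨h.X1_le_X' k hy, mem_smul_as.2 (h.two_a k l hy')⟩
  have h2 := card_sup_as X' ((l : Y) • E)
  rw [h1, h.tX_card k, card_smul_as] at h2
  have h3 := AddSubgroup.card_mul_index E
  have hc0 : 0 < Nat.card ↥(fx V Q ⊓ F) := Nat.card_pos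
  have h5 : Nat.card ↥(X' ⊔ (l : Y) • E) = Nat.card V := by
    apply Nat.eq_of_mul_eq_mul_right hc0
    rw [h2, ← h3, ← h.ca k]
    ring
  have h6 : X' ⊔ (l : Y) • E = ⊤ := by
    apply AddSubgroup.eq_top_of_card_eq
    exact h5
  have h7 : v ∈ X' ⊔ (l : Y) • E := by rw [h6]; trivial
  rw [AddSubgroup.mem_sup] at h7
  obtain ⟨x, hx, e, he, rfl⟩ := h7
  refine ⟨x, hx, ?_⟩
  have e1 : x + e + x = e := by
    rw [add_comm x e, add_assoc, h.two, add_zero]
  rw [e1]
  exact mem_smul_as.1 he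

end t

end Hyp0

end Cfsg.Agent.Omega.NO1.B0

end

section


/-!
# THEOREM B0 (bb OMEGA 18835, helper970): (5), (6)

`[V, A ∩ Q] ≤ X`, `[E, A] = X₁`, `E ∩ l F ≤ X`; `F ≤ X`, `|V| = |V/E|⁴`.
-/

set_option autoImplicit false
set_option linter.unusedSectionVars false
set_option linter.style.haveILetI false

namespace Cfsg.Agent.Omega.NO1.B0

open Subgroup Cfsg.Agent.Omega.NO1.AB
open scoped Pointwise

universe u

variable {Y : Type u} [Group Y] {V : Type u} [AddCommGroup V] [DistribMulAction Y V]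

/-- `C_Y(W) ∩ C_Y(V/W)` -/
def Dx (Y : Type u) [Group Y] {V : Type u} [AddCommGroup V] [DistribMulAction Y V] (h2 : ∀ v : V, v + v = 0)
    (W : AddSubgroup V) : Subgroup Y where
  carrier := {y | (∀ x ∈ W, y • x = x) ∧ ∀ v : V, y • v + v ∈ W}
  mul_mem' := fun {a b} ha hb => by
    refine ⟨fun x hx => by rw [mul_smul, hb.1 x hx, ha.1 x hx], fun v => ?_⟩
    have h3 : a • (b • v) + v = (b • v + v) + (a • v + v) := by
      have h4 := ha.1 _ (hb.2 v)
      rw [smul_add] at h4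
      have h5 : a • b • v = b • v + v + a • v := by rw [← h4, add_assoc, h2, add_zero]
      rw [h5]
      abel
    rw [mul_smul, h3]
    exact W.add_mem (hb.2 v) (ha.2 v)
  one_mem' := ⟨fun x _ => one_smul Y x, fun v => by rw [one_smul, h2]; exact W.zero_mem⟩
  inv_mem' := fun {a} ha => by
    refine ⟨fun x hx => by rw [inv_smul_eq_iff, ha.1 x hx], fun v => ?_⟩
    have h4 := ha.1 _ (ha.2 (a⁻¹ • v))
    rw [smul_inv_smul] at h4
    have h5 := ha.2 (a⁻¹ • v)
    rw [smul_inv_smul] at h5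
    rwa [add_comm]

theorem Dx_sq (faith : ∀ y : Y, (∀ v : V, y • v = v) → y = 1) {h2 : ∀ v : V, v + v = 0} {W : AddSubgroup V} {y : Y}
    (hy : y ∈ Dx Y h2 W) : y * y = 1 := by
  apply faith
  intro v
  have h1 := hy.1 _ (hy.2 v)
  rw [smul_add, ← mul_smul, add_comm (y • v) v] at h1
  exact add_right_cancel h1

theorem Dx_two (faith : ∀ y : Y, (∀ v : V, y • v = v) → y = 1) {h2 : ∀ v : V, v + v = 0} {W : AddSubgroup V} :
    IsPGroup 2 (Dx Y h2 W) := by
  rintro ⟨y, hy⟩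
  refine ⟨1, Subtype.ext ?_⟩
  rw [pow_one]
  change y ^ 2 = 1
  rw [pow_two, Dx_sq faith hy]

theorem Dx_conj {h2 : ∀ v : V, v + v = 0} {W W' : AddSubgroup V} {y g : Y} (hy : y ∈ Dx Y h2 W)
    (hg : ∀ x, x ∈ W' ↔ g⁻¹ • x ∈ W) : g * y * g⁻¹ ∈ Dx Y h2 W' := by
  refine ⟨fun x hx => ?_, fun v => ?_⟩
  · rw [mul_smul, mul_smul, hy.1 _ ((hg x).1 hx), smul_inv_smul]
  · rw [hg, smul_add, mul_smul, mul_smul, inv_smul_smul]
    exact hy.2 _

namespace Hyp0

variable {T : Sylow 2 Y} {M L : Subgroup Y} {A Q L₁ : Subgroup L} {R : Sylow 2 L} {E F : AddSubgroup V}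
  {z : V} (h : Hyp0 T M L A Q L₁ R E F z)
include h

section t

variable {t : Y} (k : Tk T L V Q t)
include k

/-- **(5a)** `E ∩ l F ≤ X` -/
theorem five_a [Finite Y] [Finite V] {l : L} (hl : l ∉ L₁) {p : V} (hp : p ∈ E) (hlp : l⁻¹ • p ∈ F) :
    l⁻¹ • p ∈ fx V Q ⊓ F := by
  by_cases hp0 : p = 0
  · rw [hp0, smul_zero]; exact AddSubgroup.zero_mem _
  have hpF : p ∉ F := fun h1 => hp0 (h.FF hl h1 hlp)
  have hst := h.loc.stab_le hlp (by rwa [h.C0, AddSubgroup.mem_bot])
  have h1 := card_CA h.two h.loc.mem hp hpF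
  have h2 : A ⊓ MulAction.stabilizer L p ≤ A ⊓ Q := by
    rintro a ⟨ha, ha1⟩
    exact ⟨ha, h.beta.cap l hl a ha (hst ha1)⟩
  have h3 : A ⊓ MulAction.stabilizer L p = A ⊓ Q := by
    apply eq_of_le_of_card_ge h2
    rw [h.cB k, h.ca k]
    exact h1
  have h4 : p ∈ fx V Q ⊔ F := by
    rw [← h.beta.CVB]
    intro b hb
    rw [← h3] at hb
    exact hb.2
  apply h.F_inf (h.inv_nmem hl) hlp
  rw [inv_inv, smul_inv_smul]
  exact h4

/-- `[[v, a], b] = [[v, b], a]` -/
theorem comm_comm {a b : L} (ha : a ∈ A) (hb : b ∈ A) (v : V) :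
    b • (a • v + v) + (a • v + v) = a • (b • v + v) + (b • v + v) := by
  simp only [smul_add]
  rw [← mul_smul, ← mul_smul, h.loc.mem.comm a ha b hb]
  abel

/-- **(5b)** `[E, A ∩ Q] ≤ X₁` -/
theorem five_b [Finite Y] [Finite V] {e : V} (he : e ∈ E) {b : L} (hb : b ∈ A ⊓ Q) : b • e + e ∈ fx V Q ⊓ F := by
  obtain ⟨l, hl⟩ := exists_out h.loc h.beta
  obtain ⟨x, hx, hxE⟩ := h.three k hl
  obtain ⟨s, hs, h1⟩ := h.loc.mem.surj _ hxE e he
  -- `[e, b] = [[x₀, s], b]`
  set x₀ := l⁻¹ • x with hx₀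
  have h2 : b • e + e = b • (s • x₀ + x₀) + (s • x₀ + x₀) := by
    have h3 := h.loc.mem.FB b hb.1 _ h1
    rw [smul_add] at h3
    have h4 : b • e = b • (s • x₀ + x₀) + (s • x₀ + x₀ + e) := by
      have h5 : b • (s • x₀ + x₀) + (b • (s • x₀ + x₀) + b • e) = b • e := by
        rw [← add_assoc, h.two, zero_add]
      rw [← h5, h3]
    rw [h4]
    have h5 : b • (s • x₀ + x₀) + (s • x₀ + x₀ + e) + e = b • (s • x₀ + x₀) + (s • x₀ + x₀) + (e + e) := by abel
    rw [h5, h.two, add_zero]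
  rw [h2, h.comm_comm k hs hb.1]
  have h3 : b • x₀ + x₀ ∈ fx V Q := by
    have h4 := h.conj_smul_add k (l := l) (b := b) x
    rw [← hx₀] at h4
    rw [← h4]
    exact h.Xmem ((h.s3Q k (h.conjB k (l := l) hb)).1 x hx).1
  exact ⟨(fx V Q).add_mem (h.Xmem h3) h3, h.loc.mem.EB s hs _ (h.beta.XE h3)⟩

/-- **(5c)** `[V, A ∩ Q] ≤ X` -/
theorem five_c [Finite Y] [Finite V] (v : V) {b : L} (hb : b ∈ A ⊓ Q) : b • v + v ∈ fx V Q := by
  obtain ⟨l, hl⟩ := exists_out h.loc h.beta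
  -- `l v = x + e`
  obtain ⟨x, hx, he⟩ := h.sup_top k hl (l • v)
  have h1 : b • (l⁻¹ • x) + l⁻¹ • x ∈ fx V Q := by
    rw [← h.conj_smul_add k]
    exact h.Xmem ((h.s3Q k (h.conjB k (l := l) hb)).1 x hx).1
  have h2 := (h.five_b k he hb).1
  have e1 : l⁻¹ • (l • v + x) = v + l⁻¹ • x := by rw [smul_add, inv_smul_smul]
  rw [e1] at h2
  have h3 : b • v + v = (b • (v + l⁻¹ • x) + (v + l⁻¹ • x)) + (b • (l⁻¹ • x) + l⁻¹ • x) := by
    rw [smul_add]
    have : b • v + b • l⁻¹ • x + (v + l⁻¹ • x) + (b • l⁻¹ • x + l⁻¹ • x) =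
      b • v + v + (b • l⁻¹ • x + b • l⁻¹ • x) + (l⁻¹ • x + l⁻¹ • x) := by abel
    rw [this, h.two, h.two, add_zero, add_zero]
  rw [h3]
  exact (fx V Q).add_mem h2 h1

/-- **(5d)** `C_E(b) ≤ X + F` for `b ∈ (A ∩ Q)#` -/
theorem five_d [Finite Y] [Finite V] {b : L} (hb : b ∈ A ⊓ Q) (hb1 : b ≠ 1) {e : V} (he : e ∈ E)
    (hbe : b • e = e) : e ∈ fx V Q ⊔ F := by
  obtain ⟨w, hw⟩ := h.loc.mem.ne
  obtain ⟨a, ha, h1⟩ := h.loc.mem.surj w hw e he
  have hbw := h.five_c k w hb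
  have hbwF : b • w + w ∉ F := fun h2 => hb1 (h.loc.mem.inj w hw b hb.1 h2)
  have h2 : a • (b • w + w) = b • w + w := by
    have h3 := h.loc.mem.FB b hb.1 _ h1
    rw [smul_add, hbe] at h3
    have h4 : b • (a • w + w) = a • w + w := add_right_cancel h3
    have h5 := h.comm_comm k ha hb.1 w
    rw [h4, h.two] at h5
    exact h.eq_of_add h5.symm
  have h3 := h.beta.cen _ hbw hbwF a ha h2
  have h4 := h.five_c k w ⟨ha, h3⟩
  have h5 : e = (a • w + w) + (a • w + w + e) := by rw [← add_assoc, h.two, zero_add]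
  rw [h5]
  exact AddSubgroup.add_mem _ (AddSubgroup.mem_sup_left h4) (AddSubgroup.mem_sup_right h1)

/-- `A ∩ Q ≤ D`, and its conjugates -/
theorem B_le_D [Finite Y] [Finite V] {b : L} (hb : b ∈ A ⊓ Q) (l : L) :
    ((l * b * l⁻¹ : L) : Y) ∈ Dx Y h.two (fx V Q : AddSubgroup V) := by
  refine ⟨fun x hx => hx _ (h.conjB k hb), fun v => ?_⟩
  have h1 := h.five_c k (l⁻¹ • v) hb
  rw [← h.conj_smul_add k] at h1
  have := h.Xmem (l := l) h1
  rwa [smul_inv_smul] at this

/-- `φ_v` is onto `X₁` on `A ∩ Q`, `v ∈ E - (X + F)` -/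
theorem onto [Finite Y] [Finite V] {v : V} (hv : v ∈ E) (hvX : v ∉ fx V Q ⊔ F) {x : V} (hx : x ∈ fx V Q ⊓ F) :
    ∃ b ∈ A ⊓ Q, b • v + v = x := by
  let f : ↥(A ⊓ Q) → ↥(fx V Q ⊓ F) := fun b => ⟨_, h.five_b k hv b.2⟩
  have hf : Function.Injective f := by
    intro b b' hbb
    have h1 : (b : L) • v + v = (b' : L) • v + v := congrArg Subtype.val hbb
    have h3 : (b : L) • v = (b' : L) • v := add_right_cancel h1
    by_contra hne
    apply hvX
    apply h.five_d k (b := (b' : L)⁻¹ * b) (mul_mem (inv_mem b'.2) b.2) _ hv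
    · rw [mul_smul, h3, inv_smul_smul]
    · rw [Ne, inv_mul_eq_one]
      exact fun h4 => hne (Subtype.ext h4.symm)
  have hs : Function.Surjective f := (Nat.bijective_iff_injective_and_card f).2 ⟨hf, h.cB k⟩ |>.2
  obtain ⟨b, hb⟩ := hs ⟨x, hx⟩
  exact ⟨b, b.2, congrArg Subtype.val hb⟩

end t

end Hyp0

theorem card_mul_le {G : Type*} [Group G] [Finite G] {H K W : Subgroup G} (hH : H ≤ W) (hK : K ≤ W) :
    Nat.card H * Nat.card K ≤ Nat.card W * Nat.card ↥(H ⊓ K) := by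
  have h1 := relIndex_mul_relIndex ⊥ (H ⊓ K) H bot_le inf_le_left
  have h2 := relIndex_mul_relIndex ⊥ K W bot_le hK
  rw [relIndex_bot_left, relIndex_bot_left, inf_comm, inf_relIndex_right] at h1
  rw [relIndex_bot_left, relIndex_bot_left] at h2
  have h3 : K.relIndex H ≤ K.relIndex W := relIndex_le_of_le_right hH index_ne_zero_of_finite
  rw [← h1, ← h2, inf_comm H K]
  calc Nat.card ↥(K ⊓ H) * K.relIndex H * Nat.card K
      ≤ Nat.card ↥(K ⊓ H) * K.relIndex W * Nat.card K := Nat.mul_le_mul_right _ (Nat.mul_le_mul_left _ h3)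
    _ = _ := by ring

/-- `φ_v : D → X` -/
def phi (h2 : ∀ v : V, v + v = 0) (W : AddSubgroup V) (v : V) : Dx Y h2 W →* Multiplicative W where
  toFun d := Multiplicative.ofAdd ⟨(d : Y) • v + v, d.2.2 v⟩
  map_one' := by
    apply congrArg Multiplicative.ofAdd
    apply Subtype.ext
    change (1 : Y) • v + v = 0
    rw [one_smul, h2]
  map_mul' d d' := by
    apply congrArg Multiplicative.ofAdd
    apply Subtype.ext
    change ((d : Y) * d') • v + v = ((d : Y) • v + v) + ((d' : Y) • v + v)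
    have h1 : (d : Y) • ((d' : Y) • v + v) = (d' : Y) • v + v := d.2.1 _ (d'.2.2 v)
    rw [mul_smul]
    have h3 : (d : Y) • (d' : Y) • v = (d' : Y) • v + v + (d : Y) • v := by
      rw [smul_add] at h1
      rw [← h1, add_assoc, h2, add_zero]
    rw [h3]
    abel

theorem phi_eq {h2 : ∀ v : V, v + v = 0} {W : AddSubgroup V} {v x : V} (hx : x ∈ W) (d : Dx Y h2 W) :
    phi h2 W v d = Multiplicative.ofAdd ⟨x, hx⟩ ↔ (d : Y) • v + v = x :=
  ⟨fun h => congrArg (fun u : Multiplicative W => ((u.toAdd : W) : V)) h, fun h =>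
    congrArg Multiplicative.ofAdd (Subtype.ext h)⟩

namespace Hyp

variable {T : Sylow 2 Y} {M L : Subgroup Y} {A Q L₁ : Subgroup L} {R : Sylow 2 L} {E F : AddSubgroup V}
  {z : V} (h : Hyp T M L A Q L₁ R E F z)
include h

theorem D_le_NX [Finite V] : Dx Y h.two (fx V Q : AddSubgroup V) ≤ NX L V Q := by
  intro d hd
  apply mem_NX_of
  intro x hx
  rw [hd.1 x hx]
  exact hx

theorem D_conj [Finite V] {n d : Y} (hn : n ∈ NX L V Q) (hd : d ∈ Dx Y h.two (fx V Q : AddSubgroup V)) :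
    n * d * n⁻¹ ∈ Dx Y h.two (fx V Q : AddSubgroup V) := by
  apply Dx_conj hd
  intro x
  constructor
  · exact fun hx => NX_smul (inv_mem hn) hx
  · intro hx
    have := NX_smul hn hx
    rwa [smul_inv_smul] at this

/-- `D ≤ T` -/
theorem D_le_T [Finite V] : Dx Y h.two (fx V Q : AddSubgroup V) ≤ T := by
  have h1 : IsPGroup 2 (((T : Subgroup Y) ⊓ NX L V Q) ⊔ Dx Y h.two (fx V Q : AddSubgroup V) : Subgroup Y) := by
    apply IsPGroup.to_sup_of_normal_right' (T.2.to_le inf_le_left) (Dx_two h.faith)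
    intro n hn
    rw [mem_normalizer_iff]
    intro y
    constructor
    · exact fun hy => h.D_conj hn.2 hy
    · intro hy
      have h2 := h.D_conj (inv_mem hn.2) hy
      have e : n⁻¹ * (n * y * n⁻¹) * n⁻¹⁻¹ = y := by group
      rwa [e] at h2
  exact le_sup_right.trans (h.max _ h1 (sup_le inf_le_right h.D_le_NX) le_sup_left)

theorem inf_X' [Finite Y] [Finite V] {t : Y} (k : Tk T L V Q t) {x : V} (hx : x ∈ fx V Q)
    (hx' : x ∈ t • (fx V Q : AddSubgroup V)) : x ∈ fx V Q ⊓ F := by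
  by_contra h1
  obtain ⟨y, hy, hyX⟩ := h.X'_not_le k
  apply hyX
  intro q hq
  exact (h.s3Q k hq).2 x hx' h1 (hx q hq) y hy

theorem cE [Finite Y] [Finite V] {t : Y} (k : Tk T L V Q t) :
    Nat.card E = Nat.card F * Nat.card ↥(fx V Q ⊓ F) ^ 2 := by
  rw [h.loc.mem.card_E h.two, h.cA2 k]

theorem cV [Finite Y] [Finite V] {t : Y} (k : Tk T L V Q t) :
    Nat.card V = Nat.card F * Nat.card ↥(fx V Q ⊓ F) ^ 3 := by
  rw [← AddSubgroup.card_mul_index E, h.cE k, ← h.ca k]
  ring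

/-- `|X + X'| = a³` -/
theorem cU [Finite Y] [Finite V] {t : Y} (k : Tk T L V Q t) :
    Nat.card ↥(fx V Q ⊔ t • (fx V Q : AddSubgroup V)) = Nat.card ↥(fx V Q ⊓ F) ^ 3 := by
  have h1 := card_sup_as (fx V Q : AddSubgroup V) (t • (fx V Q : AddSubgroup V))
  have h2 : (fx V Q : AddSubgroup V) ⊓ t • (fx V Q : AddSubgroup V) = fx V Q ⊓ F := by
    apply le_antisymm
    · rintro x ⟨hx, hx'⟩
      exact h.inf_X' k hx hx'
    · intro x hx
      exact ⟨hx.1, h.X1_le_X' k hx⟩
  rw [h2, h.tX_card k, h.cX] at h1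
  have hc0 : 0 < Nat.card ↥(fx V Q ⊓ F) := Nat.card_pos
  apply Nat.eq_of_mul_eq_mul_right hc0
  rw [h1]
  ring

theorem ttX [Finite V] {t : Y} (k : Tk T L V Q t) {x : V} (hx : x ∈ fx V Q) :
    t⁻¹ • x ∈ t • (fx V Q : AddSubgroup V) := by
  rw [mem_smul_as, ← mul_smul, ← mul_inv_rev]
  exact NX_smul (inv_mem k.tt) hx

/-- **(6)** `F ≤ X` -/
theorem six [Finite Y] [Finite V] {t : Y} (k : Tk T L V Q t) : F ≤ fx V Q := by
  by_contra hF
  obtain ⟨l, hl⟩ := exists_out h.loc h.beta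
  set c := Nat.card ↥(fx V Q ⊓ F) with hc
  have hc1 : 1 < c := h.two_le_c
  have hc0 : 0 < c := by omega
  -- `|F| > c`
  have hFc : c < Nat.card F := by
    by_contra h1
    push Not at h1
    apply hF
    have h2 := eq_of_le_as (W₁ := fx V Q ⊓ F) (W₂ := F) inf_le_right h1
    rw [← h2]
    exact inf_le_left
  set lE : AddSubgroup V := (l : Y) • E with hlE
  have hmE : ∀ {x : V}, x ∈ lE ↔ l⁻¹ • x ∈ E := fun {x} => mem_smul_as
  have hcE := h.cE k
  have hcV := h.cV k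
  have hclE : Nat.card lE = Nat.card E := card_smul_as _ _
  -- `V_E`
  have hVE : Nat.card ↥(E ⊓ lE) = Nat.card F * c := by
    have h1 := card_sup_as E lE
    have h2 : E ⊔ lE = ⊤ := by
      rw [eq_top_iff]
      intro v _
      obtain ⟨x, hx, he⟩ := h.sup_top k hl v
      have e : v = x + (v + x) := by
        rw [add_comm v x, ← add_assoc, h.two, zero_add]
      rw [e]
      exact AddSubgroup.add_mem _ (AddSubgroup.mem_sup_left (h.X'_le_E k hx))
        (AddSubgroup.mem_sup_right (hmE.2 he))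
    rw [h2, AddSubgroup.card_top, hclE, hcE, hcV] at h1
    have hp : 0 < Nat.card F * c ^ 3 := Nat.mul_pos Nat.card_pos (pow_pos hc0 3)
    apply Nat.eq_of_mul_eq_mul_left hp
    rw [h1]
    ring
  have hFE : F ⊓ lE ≤ fx V Q ⊓ F := by
    rintro p ⟨hp, hpE⟩
    have h1 := h.five_a k (h.inv_nmem hl) (p := l⁻¹ • p) (hmE.1 hpE) (by rwa [inv_inv, smul_inv_smul])
    rwa [inv_inv, smul_inv_smul] at h1
  have hFa : Nat.card F ≤ c ^ 2 := by
    have h1 := card_sup_as F lE
    have h2 : Nat.card ↥(F ⊔ lE) ≤ Nat.card V := Nat.card_le_card_of_injective _ Subtype.val_injective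
    have h3 := card_mono_as hFE
    rw [hclE, hcE] at h1
    rw [hcV] at h2
    have hp : 0 < Nat.card F * c ^ 2 := Nat.mul_pos Nat.card_pos (pow_pos hc0 2)
    apply Nat.le_of_mul_le_mul_right _ hp
    calc Nat.card F * (Nat.card F * c ^ 2) = Nat.card ↥(F ⊔ lE) * Nat.card ↥(F ⊓ lE) := h1.symm
      _ ≤ (Nat.card F * c ^ 3) * c := Nat.mul_le_mul h2 h3
      _ = c ^ 2 * (Nat.card F * c ^ 2) := by ring
  -- `v`
  obtain ⟨v, ⟨hvE, hvlE⟩, hvX⟩ : ∃ v ∈ E ⊓ lE, v ∉ fx V Q := by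
    by_contra h1
    push Not at h1
    have h2 := card_mono_as (W₁ := E ⊓ lE) (W₂ := fx V Q) h1
    rw [hVE, h.cX] at h2
    have h3 : c * c < Nat.card F * c := Nat.mul_lt_mul_of_pos_right hFc hc0
    rw [← pow_two] at h3
    exact absurd h2 (not_le_of_gt h3)
  have hvlE' := hmE.1 hvlE
  have hvF : v ∉ fx V Q ⊔ F := by
    intro h1
    rw [AddSubgroup.mem_sup] at h1
    obtain ⟨x, hx, f, hf, rfl⟩ := h1
    apply hvX
    have h2 : f ∈ F ⊓ lE := by
      refine ⟨hf, hmE.2 ?_⟩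
      rw [smul_add] at hvlE'
      exact (AddSubgroup.add_mem_cancel_left E (h.beta.XE (h.Xmem hx))).1 hvlE'
    exact (fx V Q).add_mem hx (hFE h2).1
  have hv'F : l⁻¹ • v ∉ fx V Q ⊔ F := by
    intro h1
    rw [AddSubgroup.mem_sup] at h1
    obtain ⟨x, hx, f, hf, he⟩ := h1
    apply hvX
    have hv : v = l • x + l • f := by rw [← smul_add, he, smul_inv_smul]
    have h2 : l • f ∈ E := by
      rw [hv] at hvE
      exact (AddSubgroup.add_mem_cancel_left E (h.beta.XE (h.Xmem hx))).1 hvE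
    have h3 := h.five_a k hl h2 (by rwa [inv_smul_smul])
    rw [inv_smul_smul] at h3
    rw [hv]
    exact (fx V Q).add_mem (h.Xmem hx) (h.Xmem h3.1)
  -- `φ_v` is onto
  set D := Dx Y h.two (fx V Q : AddSubgroup V) with hD
  set φ := phi (Y := Y) h.two (fx V Q : AddSubgroup V) v with hφ
  have hB1 : ∀ b ∈ A ⊓ Q, (b : Y) ∈ D := by
    intro b hb
    have := h.B_le_D k hb 1
    rwa [one_mul, inv_one, mul_one] at this
  have hsurj : Function.Surjective φ := by
    intro x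
    obtain ⟨x, rfl⟩ := Multiplicative.ofAdd.surjective x
    obtain ⟨x, hx⟩ := x
    have hx' := hx
    rw [h.beta.sup l hl, AddSubgroup.mem_sup] at hx'
    obtain ⟨x₁, hx₁, x₂, hx₂, he⟩ := hx'
    obtain ⟨b₁, hb₁, h1⟩ := h.onto k hvE hvF hx₁
    obtain ⟨b₂, hb₂, h2⟩ := h.onto k hvlE' hv'F (mem_smul_as.1 hx₂)
    have hd : (b₁ : Y) * ((l * b₂ * l⁻¹ : L) : Y) ∈ D := mul_mem (hB1 b₁ hb₁) (h.B_le_D k hb₂ l)
    refine ⟨⟨_, hd⟩, ?_⟩
    have h3 : φ ⟨_, hd⟩ = φ ⟨_, hB1 b₁ hb₁⟩ * φ ⟨_, h.B_le_D k hb₂ l⟩ := by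
      rw [← map_mul]; rfl
    have h4 : (l * b₂ * l⁻¹) • v + v = x₂ := by
      rw [← h.conj_smul_add k (l := l) (b := b₂) v] at h2
      exact smul_left_cancel _ h2
    have hx₂X : x₂ ∈ fx V Q := h.loc.mem_X_of hx₂
    have h5 : φ ⟨_, hB1 b₁ hb₁⟩ = Multiplicative.ofAdd ⟨x₁, hx₁.1⟩ := (phi_eq _ _).2 h1
    have h6 : φ ⟨_, h.B_le_D k hb₂ l⟩ = Multiplicative.ofAdd ⟨x₂, hx₂X⟩ := (phi_eq _ _).2 h4
    rw [h3, h5, h6]
    apply congrArg Multiplicative.ofAdd
    exact Subtype.ext he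
  -- cardinalities
  set κ := Nat.card φ.ker with hκ
  have hκ0 : 0 < κ := Nat.card_pos
  have hcD : Nat.card D = c ^ 2 * κ := by
    have h1 := Subgroup.card_mul_index φ.ker
    rw [Subgroup.index_ker, MonoidHom.range_eq_top.2 hsurj, Subgroup.card_top] at h1
    have h2 : Nat.card (Multiplicative ↥(fx V Q : AddSubgroup V)) = c ^ 2 := h.cX
    rw [← h1, h2]
    ring
  -- `D₁ = φ⁻¹(X₁)`
  let X₁' : Subgroup (Multiplicative ↥(fx V Q : AddSubgroup V)) := AddSubgroup.toSubgroup (F.addSubgroupOf (fx V Q))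
  have hX₁' : X₁'.index = c := by
    have h1 : X₁'.index = (F.addSubgroupOf (fx V Q)).index := rfl
    have h2 := AddSubgroup.card_mul_index (F.addSubgroupOf (fx V Q))
    have h3 : Nat.card ↥(F.addSubgroupOf (fx V Q)) = c := by
      apply Nat.card_congr
      exact
        { toFun := fun v => ⟨v.1.1, v.1.2, AddSubgroup.mem_addSubgroupOf.1 v.2⟩
          invFun := fun v => ⟨⟨v.1, v.2.1⟩, AddSubgroup.mem_addSubgroupOf.2 v.2.2⟩
          left_inv := fun v => rfl
          right_inv := fun v => rfl }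
    rw [h3, h.cX, pow_two] at h2
    rw [h1]
    exact Nat.eq_of_mul_eq_mul_left hc0 h2
  set D₁ : Subgroup Y := (X₁'.comap φ).map D.subtype with hD₁
  have hmD₁ : ∀ {d : Y}, d ∈ D₁ ↔ d ∈ D ∧ d • v + v ∈ F := by
    intro d
    constructor
    · rintro ⟨d', hd', rfl⟩
      exact ⟨d'.2, AddSubgroup.mem_addSubgroupOf.1 hd'⟩
    · rintro ⟨hd, hdF⟩
      exact ⟨⟨d, hd⟩, AddSubgroup.mem_addSubgroupOf.2 hdF, rfl⟩
  have hcD₁ : Nat.card D₁ = c * κ := by
    have h1 : Nat.card D₁ = Nat.card (X₁'.comap φ) :=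
      Nat.card_congr ((X₁'.comap φ).equivMapOfInjective _ D.subtype_injective).symm.toEquiv
    have h2 := Subgroup.card_mul_index (X₁'.comap φ)
    rw [Subgroup.index_comap_of_surjective _ hsurj, hX₁', hcD] at h2
    rw [h1]
    apply Nat.eq_of_mul_eq_mul_right hc0
    rw [h2]
    ring
  -- `D₀`
  obtain ⟨D₀, hD₀, hcD₀⟩ := h.count_X' k (P := D) (fun p hp => ⟨h.D_le_T hp, h.D_le_NX hp⟩)
    (fun p hp x hx => hp.1 x hx.1)
  rw [hcD] at hcD₀
  have hcD₀' : c * κ ≤ Nat.card D₀ := by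
    apply Nat.le_of_mul_le_mul_left _ hc0
    calc c * (c * κ) = c ^ 2 * κ := by ring
      _ ≤ _ := hcD₀
  set X' : AddSubgroup V := t • (fx V Q : AddSubgroup V) with hX'
  set U := (fx V Q : AddSubgroup V) ⊔ X' with hU
  have hUX : (fx V Q : AddSubgroup V) ≤ U := le_sup_left
  have hUX' : X' ≤ U := le_sup_right
  set W := Dx Y h.two U with hW
  have htriv : ∀ d : Y, (∀ x ∈ fx V Q, d • x = x) → (∀ x ∈ X', d • x = x) → ∀ x ∈ U, d • x = x := by
    intro d h1 h2 x hx
    rw [hU, AddSubgroup.mem_sup] at hx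
    obtain ⟨y, hy, w, hw, rfl⟩ := hx
    rw [smul_add, h1 y hy, h2 w hw]
  have hD₀W : D₀ ≤ W := by
    intro d hd
    obtain ⟨hd1, hd2⟩ := (hD₀ d).1 hd
    exact ⟨htriv d hd1.1 hd2, fun v => hUX (hd1.2 v)⟩
  set D₀t : Subgroup Y := MulAut.conj t • D₀ with hD₀t
  have hD₀tmem : ∀ {d : Y}, d ∈ D₀t → (∀ x ∈ fx V Q, d • x = x) ∧ (∀ x ∈ X', d • x = x) ∧ ∀ v : V, d • v + v ∈ X' := by
    intro d hd
    rw [hD₀t, mem_conj] at hd
    obtain ⟨hd1, hd2⟩ := (hD₀ _).1 hd
    have hs : ∀ x : V, t • ((t⁻¹ * d * t) • (t⁻¹ • x)) = d • x := by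
      intro x
      rw [← mul_smul, ← mul_smul]
      congr 1
      group
    refine ⟨fun x hx => ?_, fun x hx => ?_, fun v => ?_⟩
    · rw [← hs, hd2 _ (h.ttX k hx), smul_inv_smul]
    · rw [← hs, hd1.1 _ (mem_smul_as.1 hx), smul_inv_smul]
    · rw [hX', mem_smul_as, smul_add, ← hs v, inv_smul_smul]
      exact hd1.2 _
  have hD₀tW : D₀t ≤ W := by
    intro d hd
    obtain ⟨h1, h2, h3⟩ := hD₀tmem hd
    exact ⟨htriv d h1 h2, fun v => hUX' (h3 v)⟩
  have hcD₀t : Nat.card D₀t = Nat.card D₀ :=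
    (Nat.card_congr (Subgroup.equivSMul (MulAut.conj t) D₀).toEquiv).symm
  have h1 := card_mul_le hD₀W hD₀tW
  rw [hcD₀t] at h1
  -- `I`
  have hI : Nat.card ↥(D₀ ⊓ D₀t) ≤ κ := by
    have h2 : D₀ ⊓ D₀t ≤ D₁ := by
      rintro d ⟨hd1, hd2⟩
      have h3 := ((hD₀ d).1 hd1).1
      refine hmD₁.2 ⟨h3, ?_⟩
      exact (h.inf_X' k (h3.2 v) ((hD₀tmem hd2).2.2 v)).2
    have h3 : (A ⊓ Q).map L.subtype ≤ D₁ := by
      rintro _ ⟨b, hb, rfl⟩
      exact hmD₁.2 ⟨hB1 b hb, h.loc.mem.EB b hb.1 v hvE⟩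
    have h4 := card_mul_le h2 h3
    have h5 : (D₀ ⊓ D₀t) ⊓ (A ⊓ Q).map L.subtype = ⊥ := by
      rw [eq_bot_iff]
      rintro _ ⟨⟨hd1, hd2⟩, ⟨b, hb, rfl⟩⟩
      rw [mem_bot]
      obtain ⟨w, hw⟩ := h.loc.mem.ne
      have h6 : b • w + w ∈ F :=
        (h.inf_X' k (((hD₀ _).1 hd1).1.2 w) ((hD₀tmem hd2).2.2 w)).2
      rw [h.loc.mem.inj w hw b hb.1 h6]
      rfl
    have h6 : Nat.card ↥((A ⊓ Q).map L.subtype) = c := by
      rw [hc, ← h.cB k]
      exact Nat.card_congr ((A ⊓ Q).equivMapOfInjective _ L.subtype_injective).symm.toEquiv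
    rw [h5, Subgroup.card_bot, mul_one, hcD₁, h6] at h4
    apply Nat.le_of_mul_le_mul_right _ hc0
    calc Nat.card ↥(D₀ ⊓ D₀t) * c ≤ c * κ := h4
      _ = κ * c := by ring
  -- no offender
  have hWne : W ≠ ⊥ := by
    intro h2
    have h3 : D₀ = ⊥ := by rw [eq_bot_iff, ← h2]; exact hD₀W
    rw [h3, Subgroup.card_bot] at hcD₀'
    have : c * 1 ≤ c * κ := Nat.mul_le_mul_left _ hκ0
    omega
  have h2 := h.off W (fun b hb => Dx_sq h.faith hb) hWne
  have h3 : U ≤ fx V W := fun x hx d hd => hd.1 x hx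
  have h4 := card_mono_as h3
  have hcU : Nat.card U = c ^ 3 := h.cU k
  rw [hcU] at h4
  rw [hcV] at h2
  have h5 : Nat.card W < Nat.card F := by
    apply Nat.lt_of_mul_lt_mul_right (a := c ^ 3)
    exact lt_of_le_of_lt (Nat.mul_le_mul_left _ h4) h2
  -- end
  have h6 : c * κ * (c * κ) ≤ Nat.card W * κ := by
    calc c * κ * (c * κ) ≤ Nat.card D₀ * Nat.card D₀ := Nat.mul_le_mul hcD₀' hcD₀'
      _ ≤ _ := h1
      _ ≤ _ := Nat.mul_le_mul_left _ hI
  have h7 : c ^ 2 * κ ≤ Nat.card W := by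
    apply Nat.le_of_mul_le_mul_right _ hκ0
    calc c ^ 2 * κ * κ = c * κ * (c * κ) := by ring
      _ ≤ _ := h6
  have h8 : c ^ 2 ≤ c ^ 2 * κ := Nat.le_mul_of_pos_right _ hκ0
  omega

end Hyp

end Cfsg.Agent.Omega.NO1.B0

end

end

-- merged: Cfsg.Agent.Mrg.Omega.NO1.B0.Seven
section

section


/-!
# THEOREM B0 (bb OMEGA 18835, helper970): (7)
-/

set_option autoImplicit false
set_option linter.unusedSectionVars false
set_option linter.style.haveILetI false

namespace Cfsg.Agent.Omega.NO1.B0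

open Subgroup Cfsg.Agent.Omega.NO1.AB
open scoped Pointwise

universe u

variable {Y : Type u} [Group Y] {V : Type u} [AddCommGroup V] [DistribMulAction Y V]

namespace Hyp

variable {T : Sylow 2 Y} {M L : Subgroup Y} {A Q L₁ : Subgroup L} {R : Sylow 2 L} {E F : AddSubgroup V}
  {z : V} (h : Hyp T M L A Q L₁ R E F z)
include h

section t

variable {t : Y} (k : Tk T L V Q t)
include k

theorem X1 [Finite Y] [Finite V] : (fx V Q : AddSubgroup V) ⊓ F = F := inf_eq_right.2 (h.six k)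

theorem cF' [Finite Y] [Finite V] : Nat.card F = E.index := by
  rw [← h.ca k, h.X1 k]

theorem tF' [Finite Y] [Finite V] : t • F = F := by
  have := h.tX1 k
  rwa [h.X1 k] at this

theorem cE' [Finite Y] [Finite V] : Nat.card E = E.index ^ 3 := by
  rw [h.cE k, h.cF' k, h.ca k]; ring

theorem cV' [Finite Y] [Finite V] : Nat.card V = E.index ^ 4 := by
  rw [h.cV k, h.cF' k, h.ca k]; ring

theorem supE' [Finite Y] [Finite V] : E = (fx V Q : AddSubgroup V) ⊔ t • (fx V Q : AddSubgroup V) := by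
  symm
  apply eq_of_le_as
  · exact sup_le h.beta.XE fun x hx => h.X'_le_E k hx
  · rw [h.cU k, h.cE' k, h.ca k]

theorem tE' [Finite Y] [Finite V] : t • E = E := by
  apply eq_of_le_as
  · intro x hx
    rw [mem_smul_as, h.supE' k, AddSubgroup.mem_sup] at hx
    obtain ⟨y, hy, w, hw, he⟩ := hx
    have hx' : x = t • y + t • w := by rw [← smul_add, he, smul_inv_smul]
    rw [hx', h.supE' k]
    refine AddSubgroup.add_mem _ (AddSubgroup.mem_sup_right (smul_mem_smul_as hy)) (AddSubgroup.mem_sup_left ?_)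
    rw [mem_smul_as] at hw
    have h1 := NX_smul k.tt hw
    rwa [mul_smul, smul_inv_smul] at h1
  · exact (card_smul_as t E).ge

/-- `C_D(X') = 1` -/
theorem D0 [Finite Y] [Finite V] {d : Y} (hd : d ∈ Dx Y h.two (fx V Q : AddSubgroup V))
    (hdX : ∀ x ∈ t • (fx V Q : AddSubgroup V), d • x = x) : d = 1 := by
  have hdE : ∀ x ∈ E, d • x = x := by
    intro x hx
    rw [h.supE' k, AddSubgroup.mem_sup] at hx
    obtain ⟨y, hy, w, hw, rfl⟩ := hx
    rw [smul_add, hd.1 y hy, hdX w hw]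
  have key : ∀ l : L, l ∉ L₁ → ∀ v : V, l⁻¹ • (d • v + v) ∈ fx V Q ⊓ F := by
    intro l hl v
    -- `l⁻¹ v = x + e`, `x ∈ X'`, `l e ∈ E`
    obtain ⟨x, hx, he⟩ := h.sup_top k (h.inv_nmem hl) (l⁻¹ • v)
    rw [inv_inv, smul_add, smul_inv_smul] at he
    have h1 : d • v + v = d • (l • x) + l • x := by
      have h2 := hdE _ he
      rw [smul_add] at h2
      have h3 : d • v + v + (d • (l • x) + l • x) = (d • v + d • (l • x)) + (v + l • x) := by abel
      rw [h2, h.two] at h3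
      exact h.eq_of_add h3
    have hc : (l : Y)⁻¹ * d * (l : Y) ∈ Dx Y h.two (fx V Q : AddSubgroup V) := by
      have := h.D_conj (n := (l : Y)⁻¹) (inv_mem (h.AN l)) hd
      rwa [inv_inv] at this
    have h4 := (h.s3 k (h.D_le_T hc) (h.D_le_NX hc) fun x hx => hc.1 x hx.1).1 x hx
    have h5 : l⁻¹ • (d • (l • x) + l • x) = ((l : Y)⁻¹ * d * (l : Y)) • x + x := by
      rw [smul_add, inv_smul_smul, mul_smul, mul_smul]
      rfl
    rw [h1, h5]
    exact h4
  apply h.faith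
  intro v
  obtain ⟨l, hl⟩ := exists_out h.loc h.beta
  obtain ⟨a, ha, hal, hal'⟩ := h.second k hl
  have h1 := key l hl v
  have h2 := key (a * l) hal v
  have h3 : d • v + v ∈ fx V (⊤ : Subgroup L) := h.loc.fix_all hal' h1.2 h2.2
  rw [h.C0, AddSubgroup.mem_bot] at h3
  exact h.eq_of_add h3

theorem cardD [Finite Y] [Finite V] : Nat.card (Dx Y h.two (fx V Q : AddSubgroup V)) ≤ E.index := by
  obtain ⟨D₀, hD₀, hc⟩ := h.count_X' k (P := Dx Y h.two (fx V Q : AddSubgroup V))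
    (fun p hp => ⟨h.D_le_T hp, h.D_le_NX hp⟩) (fun p hp x hx => hp.1 x hx.1)
  have h1 : D₀ = ⊥ := by
    rw [eq_bot_iff]
    intro d hd
    rw [mem_bot]
    exact h.D0 k ((hD₀ d).1 hd).1 ((hD₀ d).1 hd).2
  rwa [h1, Subgroup.card_bot, mul_one, h.ca k] at hc

/-- `Q ≤ D` -/
theorem Q_le_D [Finite Y] [Finite V] {q : L} (hq : q ∈ Q) : (q : Y) ∈ Dx Y h.two (fx V Q : AddSubgroup V) := by
  refine ⟨fun x hx => hx q hq, fun v => ?_⟩
  obtain ⟨l, hl⟩ := exists_out h.loc h.beta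
  have h1 : ∀ l : L, ∀ x ∈ t • (fx V Q : AddSubgroup V), q • (l • x) + l • x ∈ fx V Q := by
    intro l x hx
    have hq' : l⁻¹ * q * l ∈ Q := by simpa only [_root_.inv_inv] using h.loc.Qn.conj_mem q hq l⁻¹
    have h2 := ((h.s3Q k hq').1 x hx).1
    have h3 := h.Xmem (l := l) h2
    rw [smul_add, ← mul_smul] at h3
    have e : l * (l⁻¹ * q * l) = q * l := by group
    rwa [e, mul_smul] at h3
  have hE : ∀ e ∈ E, q • e + e ∈ fx V Q := by
    intro e he
    rw [h.supE' k, AddSubgroup.mem_sup] at he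
    obtain ⟨y, hy, w, hw, rfl⟩ := he
    have e1 : q • (y + w) + (y + w) = (q • y + y) + (q • w + w) := by rw [smul_add]; abel
    rw [e1, hy q hq, h.two, zero_add]
    have := h1 1 w hw
    rwa [one_smul] at this
  obtain ⟨x, hx, he⟩ := h.sup_top k (h.inv_nmem hl) (l⁻¹ • v)
  rw [inv_inv, smul_add, smul_inv_smul] at he
  have h2 := hE _ he
  have h3 := h1 l x hx
  have e1 : q • v + v = (q • (v + l • x) + (v + l • x)) + (q • (l • x) + l • x) := by
    rw [smul_add]
    have : q • v + q • l • x + (v + l • x) + (q • l • x + l • x) =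
      q • v + v + (q • l • x + q • l • x) + (l • x + l • x) := by abel
    rw [this, h.two, h.two, add_zero, add_zero]
  change q • v + v ∈ fx V Q
  rw [e1]
  exact (fx V Q).add_mem h2 h3

theorem Dcard_B [Finite Y] [Finite V] : (A ⊓ Q).map L.subtype = Dx Y h.two (fx V Q : AddSubgroup V) := by
  apply eq_of_le_of_card_ge
  · rintro _ ⟨b, hb, rfl⟩
    exact h.Q_le_D k hb.2
  · have h1 : Nat.card ↥((A ⊓ Q).map L.subtype) = Nat.card ↥(A ⊓ Q) :=
      Nat.card_congr ((A ⊓ Q).equivMapOfInjective _ L.subtype_injective).symm.toEquiv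
    rw [h1, h.cB k, h.ca k]
    exact h.cardD k

theorem DD' [Finite Y] [Finite V] {y : Y} (hy : y ∈ Dx Y h.two (fx V Q : AddSubgroup V)) :
    ∃ q ∈ A ⊓ Q, (q : Y) = y := by
  rw [← h.Dcard_B k] at hy
  obtain ⟨b, hb, h1⟩ := hy
  exact ⟨b, hb, h1⟩

theorem QA' [Finite Y] [Finite V] : Q ≤ A := by
  intro q hq
  obtain ⟨b, hb, h1⟩ := h.DD' k (h.Q_le_D k hq)
  have : b = q := Subtype.ext h1
  rw [← this]
  exact hb.1

theorem AQ [Finite Y] [Finite V] : A ⊓ Q = Q := inf_eq_right.2 (h.QA' k)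

theorem cQ' [Finite Y] [Finite V] : Nat.card Q = E.index := by
  rw [← h.AQ k, h.cB k, h.ca k]

theorem Qz' [Finite Y] [Finite V] {q : L} (hq : q ∈ Q) (l : L) : q * l = l * q := by
  obtain ⟨g, hg⟩ := exists_out h.loc h.beta
  have h1 : (⊤ : Subgroup L) ≤ centralizer {q} := by
    rw [← h.loc.top_of hg]
    refine sup_le ?_ ?_
    · intro a ha
      rw [mem_centralizer_singleton_iff]
      exact h.loc.mem.comm a ha q (h.QA' k hq)
    · intro a ha
      rw [mem_conj] at ha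
      rw [mem_centralizer_singleton_iff]
      have hq' : g⁻¹ * q * g ∈ A := h.QA' k (by simpa only [_root_.inv_inv] using h.loc.Qn.conj_mem q hq g⁻¹)
      have h2 := h.loc.mem.comm _ ha _ hq'
      have h3 : g * (g⁻¹ * a * g * (g⁻¹ * q * g)) * g⁻¹ = g * (g⁻¹ * q * g * (g⁻¹ * a * g)) * g⁻¹ := by rw [h2]
      have e1 : g * (g⁻¹ * a * g * (g⁻¹ * q * g)) * g⁻¹ = a * q := by group
      have e2 : g * (g⁻¹ * q * g * (g⁻¹ * a * g)) * g⁻¹ = q * a := by group
      rwa [e1, e2] at h3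
  have h2 := mem_centralizer_singleton_iff.1 (h1 (mem_top l))
  exact h2.symm

theorem Qfix' [Finite Y] [Finite V] {q : L} (hq : q ∈ Q) (hq1 : q ≠ 1) {v : V} (hv : q • v = v) :
    v ∈ fx V Q := by
  have hqA : q ∈ A ⊓ Q := ⟨h.QA' k hq, hq⟩
  have hvE : v ∈ E := by
    by_contra hvE
    exact hq1 (h.loc.mem.inj v hvE q hqA.1 (by rw [hv, h.two]; exact F.zero_mem))
  have h1 := h.five_d k hqA hq1 hvE hv
  exact (sup_le le_rfl (h.six k)) h1

theorem QV' [Finite Y] [Finite V] {q : L} (hq : q ∈ Q) (v : V) : q • v + v ∈ fx V Q :=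
  (h.Q_le_D k hq).2 v

/-- a subgroup and the image of `v ↦ [v, y]` -/
theorem surj_of [Finite V] {y : Y} {W : AddSubgroup V} (h1 : ∀ v : V, y • v = v → v ∈ W) (h2 : ∀ v : V, y • v + v ∈ W)
    (h3 : Nat.card W * Nat.card W ≤ Nat.card V) {x : V} (hx : x ∈ W) : ∃ v : V, y • v + v = x := by
  have h4 := AddSubgroup.card_mul_index (HE.dl (V := V) y).ker
  rw [AddSubgroup.index_ker] at h4
  have h5 : (HE.dl (V := V) y).ker ≤ W := fun v hv => h1 v (h.eq_of_add hv)
  have h6 : (HE.dl (V := V) y).range ≤ W := by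
    rintro _ ⟨v, rfl⟩
    exact h2 v
  have h7 := card_mono_as h5
  have h8 : (HE.dl (V := V) y).range = W := by
    apply eq_of_le_as h6
    have h9 : 0 < Nat.card W := Nat.card_pos
    apply Nat.le_of_mul_le_mul_left _ h9
    calc Nat.card W * Nat.card W ≤ Nat.card V := h3
      _ = Nat.card (HE.dl (V := V) y).ker * Nat.card (HE.dl (V := V) y).range := h4.symm
      _ ≤ _ := Nat.mul_le_mul_right _ h7
  rw [← h8] at hx
  exact hx

theorem cX' [Finite Y] [Finite V] : Nat.card ↥(fx V Q : AddSubgroup V) = E.index ^ 2 := by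
  rw [h.cX, h.ca k]

theorem Qsurj' [Finite Y] [Finite V] {q : L} (hq : q ∈ Q) (hq1 : q ≠ 1) {x : V} (hx : x ∈ fx V Q) :
    ∃ v : V, q • v + v = x := by
  apply h.surj_of k (y := (q : Y)) (fun v hv => h.Qfix' k hq hq1 hv) (fun v => h.QV' k hq v) _ hx
  rw [h.cX' k, h.cV' k]
  apply le_of_eq
  ring

theorem supXF [Finite Y] [Finite V] : (fx V Q : AddSubgroup V) ⊔ F = fx V Q := sup_eq_left.2 (h.six k)

theorem exists_q [Finite Y] [Finite V] : ∃ q ∈ Q, q ≠ 1 := by
  obtain ⟨q, hq, hq1⟩ := h.A_ne k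
  exact ⟨q, hq.2, hq1⟩

theorem exists_v [Finite Y] [Finite V] : ∃ v ∈ t • (fx V Q : AddSubgroup V), v ∈ E ∧ v ∉ fx V Q := by
  obtain ⟨v, hv, hvX⟩ := h.X'_not_le k
  exact ⟨v, hv, h.X'_le_E k hv, hvX⟩

/-- `[v, Q] = F` for `v ∈ E - X` -/
theorem onto' [Finite Y] [Finite V] {v : V} (hv : v ∈ E) (hvX : v ∉ fx V Q) {x : V} (hx : x ∈ F) :
    ∃ b ∈ Q, b • v + v = x := by
  obtain ⟨b, hb, h1⟩ := h.onto k hv (by rwa [h.supXF k]) (x := x) (by rw [h.X1 k]; exact hx)
  exact ⟨b, hb.2, h1⟩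

/-- `C_A(X') ≤ S^t` -/
theorem CAX [Finite Y] [Finite V] {s : L} (hs : s ∈ A) (hsX : ∀ x ∈ t • (fx V Q : AddSubgroup V), s • x = x) :
    ∃ q ∈ Q, (s : Y) = t * q * t⁻¹ := by
  by_cases hs1 : s = 1
  · exact ⟨1, one_mem _, by rw [hs1]; simp⟩
  -- `[E, s] = F`
  obtain ⟨v₀, -, hv₀E, hv₀X⟩ := h.exists_v k
  have h1 : ∀ x ∈ F, ∃ e ∈ E, s • e + e = x := by
    intro x hx
    obtain ⟨b, hb, h2⟩ := h.onto' k hv₀E hv₀X hx
    obtain ⟨e', he', h3⟩ := pf_eq h.loc.mem h.two (by rw [h.cA2 k, h.ca k]) hs hs1 (h.QA' k hb) hv₀E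
    exact ⟨e', he', by rw [← h3, h2]⟩
  -- `|C_E(s)| = a²`
  let ψ : E →+ V := (HE.dl (V := V) s).comp E.subtype
  have hψr : F ≤ ψ.range := by
    intro x hx
    obtain ⟨e, he, h2⟩ := h1 x hx
    exact ⟨⟨e, he⟩, h2⟩
  have h2 := AddSubgroup.card_mul_index ψ.ker
  rw [AddSubgroup.index_ker, h.cE' k] at h2
  have h3 := card_mono_as hψr
  rw [h.cF' k] at h3
  have ha0 : 0 < E.index := Nat.pos_of_ne_zero AddSubgroup.index_ne_zero_of_finite
  have h4 : Nat.card ψ.ker ≤ E.index ^ 2 := by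
    apply Nat.le_of_mul_le_mul_right _ ha0
    calc Nat.card ψ.ker * E.index ≤ Nat.card ψ.ker * Nat.card ψ.range := Nat.mul_le_mul_left _ h3
      _ = E.index ^ 3 := h2
      _ = E.index ^ 2 * E.index := by ring
  have h5 : t • (fx V Q : AddSubgroup V) = ψ.ker.map E.subtype := by
    apply eq_of_le_as
    · intro x hx
      refine ⟨⟨x, h.X'_le_E k hx⟩, ?_, rfl⟩
      change s • x + x = 0
      rw [hsX x hx, h.two]
    · rw [card_smul_as, h.cX' k]
      have : Nat.card (ψ.ker.map E.subtype) = Nat.card ψ.ker :=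
        Nat.card_congr (ψ.ker.equivMapOfInjective _ E.subtype_injective).symm.toEquiv
      rw [this]
      exact h4
  have h6 : ∀ v : V, s • v = v → v ∈ t • (fx V Q : AddSubgroup V) := by
    intro v hv
    have hvE : v ∈ E := by
      by_contra hvE
      exact hs1 (h.loc.mem.inj v hvE s hs (by rw [hv, h.two]; exact F.zero_mem))
    rw [h5]
    refine ⟨⟨v, hvE⟩, ?_, rfl⟩
    change s • v + v = 0
    rw [hv, h.two]
  have h7 : t⁻¹ * (s : Y) * t ∈ Dx Y h.two (fx V Q : AddSubgroup V) := by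
    have h8 : ∀ v : V, t • ((t⁻¹ * (s : Y) * t) • v) = s • (t • v) := by
      intro v
      rw [mul_smul, mul_smul, smul_inv_smul]
      rfl
    refine ⟨fun x hx => ?_, fun v => ?_⟩
    · have h9 := h8 x
      rw [hsX _ (smul_mem_smul_as hx)] at h9
      exact smul_left_cancel _ h9
    · have h9 := h6 (s • (t • v) + t • v) (by
        rw [smul_add, ← mul_smul, h.loc.mem.sq s hs, one_smul, add_comm])
      rw [mem_smul_as, ← h8, ← smul_add, inv_smul_smul] at h9
      exact h9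
  obtain ⟨q, hq, h8⟩ := h.DD' k h7
  refine ⟨q, hq.2, ?_⟩
  rw [h8]; group

/-- `S^t ≤ A` -/
theorem QtA' [Finite Y] [Finite V] {q : L} (hq : q ∈ Q) :
    ∃ b ∈ A, (b : Y) = t * q * t⁻¹ ∧ ∀ x ∈ t • (fx V Q : AddSubgroup V), b • x = x := by
  obtain ⟨P₀, hP₀, hcard⟩ := h.count_X' k (P := A.map L.subtype) (by
    rintro _ ⟨a, ha, rfl⟩
    exact ⟨h.AT ha, h.AN a⟩) (by
    rintro _ ⟨a, ha, rfl⟩ x hx
    exact h.loc.mem.FB a ha x hx.2)
  have hA : Nat.card (A.map L.subtype) = Nat.card A :=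
    Nat.card_congr (A.equivMapOfInjective _ L.subtype_injective).symm.toEquiv
  rw [hA, h.cA2 k, h.ca k, pow_two] at hcard
  have ha0 : 0 < E.index := Nat.pos_of_ne_zero AddSubgroup.index_ne_zero_of_finite
  have hcard' := Nat.le_of_mul_le_mul_left hcard ha0
  have h1 : P₀ ≤ MulAut.conj t • Q.map L.subtype := by
    intro p hp
    obtain ⟨⟨a, ha, rfl⟩, hp1⟩ := (hP₀ p).1 hp
    obtain ⟨q, hq, h2⟩ := h.CAX k ha hp1
    change (a : Y) ∈ _
    rw [h2]
    exact conj_mem_conj ⟨q, hq, rfl⟩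
  have h2 : P₀ = MulAut.conj t • Q.map L.subtype := by
    apply eq_of_le_of_card_ge h1
    have h3 : Nat.card (MulAut.conj t • Q.map L.subtype : Subgroup Y) = Nat.card Q := by
      rw [← Nat.card_congr (Subgroup.equivSMul (MulAut.conj t) (Q.map L.subtype)).toEquiv]
      exact (Nat.card_congr (Q.equivMapOfInjective _ L.subtype_injective).toEquiv).symm
    rw [h3, h.cQ' k]
    exact hcard'
  have h3 : t * (q : Y) * t⁻¹ ∈ P₀ := by
    rw [h2]
    exact conj_mem_conj ⟨q, hq, rfl⟩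
  obtain ⟨⟨b, hb, h4⟩, h5⟩ := (hP₀ _).1 h3
  refine ⟨b, hb, h4, fun x hx => ?_⟩
  have h6 := h5 x hx
  rw [← h4] at h6
  exact h6

theorem inf1' [Finite Y] [Finite V] {q q' : L} (hq : q ∈ Q) (hq' : q' ∈ Q) (he : (q : Y) = t * q' * t⁻¹) : q = 1 := by
  by_contra hq1
  obtain ⟨v, hv, -, hvX⟩ := h.exists_v k
  apply hvX
  apply h.Qfix' k hq hq1
  obtain ⟨b, hb, h1, h2⟩ := h.QtA' k hq'
  have h3 : b = q := Subtype.ext (h1.trans he.symm)
  rw [← h3]
  exact h2 v hv

theorem prod' [Finite Y] [Finite V] {b : L} (hb : b ∈ A) : ∃ q ∈ Q, ∃ q' ∈ Q, (b : Y) = q * (t * q' * t⁻¹) := by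
  have hex : ∀ q : Q, ∃ b ∈ A, (b : Y) = t * ((q : L) : Y) * t⁻¹ := by
    intro q
    obtain ⟨b, hb, h1, -⟩ := h.QtA' k q.2
    exact ⟨b, hb, h1⟩
  choose g hg1 hg2 using hex
  let f : Q × Q → A := fun p => ⟨p.1 * g p.2, mul_mem (h.QA' k p.1.2) (hg1 p.2)⟩
  have hf : Function.Injective f := by
    rintro ⟨q₁, q₂⟩ ⟨q₃, q₄⟩ hqq
    have h1 : ((q₁ : L) : Y) * (t * ((q₂ : L) : Y) * t⁻¹) = ((q₃ : L) : Y) * (t * ((q₄ : L) : Y) * t⁻¹) := by
      have := congrArg (fun a : A => ((a : L) : Y)) hqq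
      change ((q₁ : L) : Y) * (g q₂ : Y) = ((q₃ : L) : Y) * (g q₄ : Y) at this
      rwa [hg2, hg2] at this
    have h2 : (((q₃ : L)⁻¹ * q₁ : L) : Y) = t * (((q₄ : L) * (q₂ : L)⁻¹ : L) : Y) * t⁻¹ := by
      rw [coe_mul, coe_mul, coe_inv, coe_inv]
      have h3 : ((q₁ : L) : Y) = ((q₃ : L) : Y) * (t * ((q₄ : L) : Y) * t⁻¹) * (t * ((q₂ : L) : Y) * t⁻¹)⁻¹ := by
        rw [← h1]; group
      rw [h3]; group
    have h3 := h.inf1' k (mul_mem (inv_mem q₃.2) q₁.2) (mul_mem q₄.2 (inv_mem q₂.2)) h2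
    have h4 : q₁ = q₃ := Subtype.ext (by rw [inv_mul_eq_one] at h3; exact h3.symm)
    subst h4
    have h5 := mul_left_cancel h1
    have h6 : ((q₂ : L) : Y) = ((q₄ : L) : Y) := mul_left_cancel (mul_right_cancel h5)
    have h7 : q₂ = q₄ := Subtype.ext (Subtype.ext h6)
    rw [h7]
  have hs : Function.Surjective f := ((Nat.bijective_iff_injective_and_card f).2 ⟨hf, by
    rw [Nat.card_prod, h.cQ' k, h.cA2 k, h.ca k, pow_two]⟩).2
  obtain ⟨⟨q, q'⟩, h1⟩ := hs ⟨b, hb⟩
  refine ⟨q, q.2, q', q'.2, ?_⟩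
  have h2 := congrArg (fun a : A => ((a : L) : Y)) h1
  change ((q : L) : Y) * (g q' : Y) = b at h2
  rw [← h2, hg2]

theorem tA' [Finite Y] [Finite V] {b : L} (hb : b ∈ A) : ∃ c ∈ A, (c : Y) = t * b * t⁻¹ := by
  obtain ⟨q, hq, q', hq', h1⟩ := h.prod' k hb
  obtain ⟨c, hc, h2, -⟩ := h.QtA' k hq
  have h3 := h.D_conj k.tt (h.Q_le_D k hq')
  obtain ⟨q'', hq'', h4⟩ := h.DD' k h3
  refine ⟨c * q'', mul_mem hc hq''.1, ?_⟩
  rw [coe_mul, h2, h4, h1]
  group

/-- `C_Y(E) ∩ C_Y(V/E) = 1` -/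
theorem N0 [Finite Y] [Finite V] {n : Y} (hn : n ∈ Dx Y h.two E) : n = 1 := by
  -- `n` commutes with `A`
  have hcomm : ∀ a ∈ A, (a : Y) * n = n * a := by
    intro a ha
    have hc : (a : Y) * n * (n * a)⁻¹ ∈ Dx Y h.two (fx V Q : AddSubgroup V) := by
      have key : ∀ v : V, ((a : Y) * n * (n * a)⁻¹) • v + v ∈ F := by
        intro v
        obtain ⟨w, rfl⟩ : ∃ w : V, v = (n * (a : Y)) • w := ⟨(n * (a : Y))⁻¹ • v, by rw [smul_inv_smul]⟩
        have e1 : ((a : Y) * n * (n * a)⁻¹) • (n * (a : Y)) • w = ((a : Y) * n) • w := by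
          rw [← mul_smul]; congr 1; group
        rw [e1, mul_smul, mul_smul]
        have h1 := hn.1 _ (h.loc.mem.VB a ha w)
        change n • ((a : Y) • w + w) = (a : Y) • w + w at h1
        rw [smul_add] at h1
        have h2 : (a : Y) • n • w + n • (a : Y) • w = (a : Y) • (n • w + w) + (n • w + w) := by
          have h3 : n • (a : Y) • w = (a : Y) • w + w + n • w := by
            rw [← h1, add_assoc, h.two, add_zero]
          rw [h3, smul_add]
          abel
        rw [h2]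
        exact h.loc.mem.EB a ha _ (hn.2 w)
      refine ⟨fun x hx => ?_, fun v => h.six k (key v)⟩
      have hx' : (a : Y)⁻¹ • x ∈ E := h.beta.XE (h.Xmem (l := a⁻¹) hx)
      rw [mul_inv_rev, mul_smul, mul_smul, mul_smul]
      have hxE : n⁻¹ • x = x := by rw [inv_smul_eq_iff, hn.1 x (h.beta.XE hx)]
      rw [hxE, hn.1 _ hx', smul_inv_smul]
    have h1 := h.D0 k hc (by
      intro x hx
      have hxE := h.X'_le_E k hx
      have hx' : (a : Y)⁻¹ • x ∈ E := by
        have h2 := h.loc.mem.VB a⁻¹ (inv_mem ha) x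
        exact (AddSubgroup.add_mem_cancel_right E hxE).1 h2
      rw [mul_inv_rev, mul_smul, mul_smul, mul_smul]
      have hxE' : n⁻¹ • x = x := by rw [inv_smul_eq_iff, hn.1 x hxE]
      rw [hxE', hn.1 _ hx', smul_inv_smul])
    exact mul_inv_eq_one.1 h1
  apply h.D0 k
  · refine ⟨fun x hx => hn.1 x (h.beta.XE hx), fun v => h.six k ?_⟩
    apply h.loc.mem.CB
    intro a ha
    have h1 := hn.1 _ (h.loc.mem.VB a ha v)
    change n • ((a : Y) • v + v) = (a : Y) • v + v at h1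
    change (a : Y) • (n • v + v) = n • v + v
    apply h.eq_of_add
    have h2 : (a : Y) • (n • v + v) + (n • v + v) = n • ((a : Y) • v + v) + ((a : Y) • v + v) := by
      rw [smul_add, smul_add, ← mul_smul, ← mul_smul, hcomm a ha]
      abel
    rw [h2, h1, h.two]
  · intro x hx
    exact hn.1 x (h.X'_le_E k hx)

/-- `C_Y(E) = 1` -/
theorem CYE [Finite Y] [Finite V] {y : Y} (hy : ∀ x ∈ E, y • x = x) : y = 1 := by
  have hcomm : ∀ a ∈ A, (a : Y) * y = y * a := by
    intro a ha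
    apply mul_inv_eq_one.1
    apply h.N0 k
    have hE : ∀ x ∈ E, (a : Y)⁻¹ • x ∈ E := by
      intro x hx
      have h2 := h.loc.mem.VB a⁻¹ (inv_mem ha) x
      exact (AddSubgroup.add_mem_cancel_right E hx).1 h2
    refine ⟨fun x hx => ?_, fun v => ?_⟩
    · rw [mul_inv_rev, mul_smul, mul_smul, mul_smul]
      have hxE : y⁻¹ • x = x := by rw [inv_smul_eq_iff, hy x hx]
      rw [hxE, hy _ (hE x hx), smul_inv_smul]
    · obtain ⟨w, rfl⟩ : ∃ w : V, v = (y * (a : Y)) • w := ⟨(y * (a : Y))⁻¹ • v, by rw [smul_inv_smul]⟩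
      have e1 : ((a : Y) * y * (y * a)⁻¹) • (y * (a : Y)) • w = ((a : Y) * y) • w := by
        rw [← mul_smul]; congr 1; group
      rw [e1, mul_smul, mul_smul]
      have h1 := hy _ (h.loc.mem.VB a ha w)
      change y • ((a : Y) • w + w) = (a : Y) • w + w at h1
      rw [smul_add] at h1
      have h2 : (a : Y) • y • w + y • (a : Y) • w = ((a : Y) • (y • w) + y • w) + ((a : Y) • w + w) := by
        have h3 : y • (a : Y) • w = (a : Y) • w + w + y • w := by
          rw [← h1, add_assoc, h.two, add_zero]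
        rw [h3]
        abel
      rw [h2]
      exact E.add_mem (h.loc.mem.VB a ha _) (h.loc.mem.VB a ha _)
  apply h.D0 k
  · refine ⟨fun x hx => hy x (h.beta.XE hx), fun v => h.six k ?_⟩
    apply h.loc.mem.CB
    intro a ha
    have h1 := hy _ (h.loc.mem.VB a ha v)
    change y • ((a : Y) • v + v) = (a : Y) • v + v at h1
    change (a : Y) • (y • v + v) = y • v + v
    apply h.eq_of_add
    have h2 : (a : Y) • (y • v + v) + (y • v + v) = y • ((a : Y) • v + v) + ((a : Y) • v + v) := by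
      rw [smul_add, smul_add, ← mul_smul, ← mul_smul, hcomm a ha]
      abel
    rw [h2, h1, h.two]
  · intro x hx
    exact hy x (h.X'_le_E k hx)

/-- `C_T(X) = S` -/
theorem CTX' [Finite Y] [Finite V] {y : Y} (hyT : y ∈ T) (hy : ∀ x ∈ fx V Q, y • x = x) :
    ∃ q ∈ Q, (q : Y) = y := by
  have hyN : y ∈ NX L V Q := mem_NX_of fun x hx => by rw [hy x hx]; exact hx
  obtain ⟨v, hv, hvE, hvX⟩ := h.exists_v k
  have h1 := (h.s3 k hyT hyN fun x hx => hy x hx.1).1 v hv
  obtain ⟨q, hq, h2⟩ := h.onto' k hvE hvX h1.2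
  have h3 : (q : Y) • v = y • v := add_right_cancel h2
  refine ⟨q, hq, ?_⟩
  have h4 : (q : Y)⁻¹ * y = 1 := by
    apply h.CYE k
    have hqT : (q : Y) ∈ T := h.QT hq
    have h5 : (q : Y)⁻¹ * y ∈ T := mul_mem (inv_mem hqT) hyT
    have hqN : (q : Y) ∈ NX L V Q := h.AN q
    have h6 : ∀ x ∈ fx V Q, ((q : Y)⁻¹ * y) • x = x := by
      intro x hx
      rw [mul_smul, hy x hx, inv_smul_eq_iff]
      exact (hx q hq).symm
    have h7 := (h.s3 k h5 (mul_mem (inv_mem hqN) hyN) fun x hx => h6 x hx.1).2 v hv (fun h8 => hvX h8.1) (by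
      rw [mul_smul, ← h3, inv_smul_smul])
    intro x hx
    rw [h.supE' k, AddSubgroup.mem_sup] at hx
    obtain ⟨x₁, hx₁, x₂, hx₂, rfl⟩ := hx
    rw [smul_add, h6 x₁ hx₁, h7 x₂ hx₂]
  exact inv_mul_eq_one.1 h4

/-- `C_T(A) = A` -/
theorem CTA' [Finite Y] [Finite V] {y : Y} (hyT : y ∈ T) (hyA : ∀ b ∈ A, y * (b : Y) = b * y) :
    ∃ b ∈ A, (b : Y) = y := by
  let N : Subgroup Y := (T : Subgroup Y) ⊓ centralizer (A.map L.subtype : Set Y)
  have hN : ∀ {n : Y}, n ∈ N ↔ n ∈ T ∧ ∀ b ∈ A, n * (b : Y) = b * n := by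
    intro n
    constructor
    · rintro ⟨h1, h2⟩
      refine ⟨h1, fun b hb => ?_⟩
      exact ((mem_centralizer_iff.1 h2) _ ⟨b, hb, rfl⟩).symm
    · rintro ⟨h1, h2⟩
      refine ⟨h1, mem_centralizer_iff.2 ?_⟩
      rintro _ ⟨b, hb, rfl⟩
      exact (h2 b hb).symm
  have hcom : ∀ {n : Y}, n ∈ N → ∀ a ∈ A, ∀ v : V, a • (n • v) + n • v = n • (a • v + v) := by
    intro n hn a ha v
    have h1 := (hN.1 hn).2 a ha
    rw [smul_add]
    congr 1
    change (a : Y) • (n • v) = n • ((a : Y) • v)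
    rw [← mul_smul, ← mul_smul, h1]
  have hNF : ∀ {n : Y}, n ∈ N → ∀ f ∈ F, n • f ∈ F := by
    intro n hn f hf
    apply h.loc.mem.CB
    intro a ha
    apply h.eq_of_add
    rw [hcom hn a ha, h.loc.mem.FB a ha f hf, h.two, smul_zero]
  obtain ⟨q₀, hq₀, hq₀1⟩ := h.exists_q k
  have hq₀A := h.QA' k hq₀
  have hEof : ∀ v : V, q₀ • v + v ∈ F → v ∈ E := by
    intro v hv
    by_contra h1
    exact hq₀1 (h.loc.mem.inj v h1 q₀ hq₀A hv)
  have hNE : ∀ {n : Y}, n ∈ N → ∀ e ∈ E, n • e ∈ E := by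
    intro n hn e he
    apply hEof
    rw [hcom hn q₀ hq₀A]
    exact hNF hn _ (h.loc.mem.EB q₀ hq₀A e he)
  have hyN : y ∈ N := hN.2 ⟨hyT, hyA⟩
  -- a fixed point on `V/E`
  obtain ⟨v, -, hvE, hvfix⟩ := exists_fixed_mod h.two (R := N) (T.2.to_le inf_le_left) ⊤ E
    (fun _ _ _ _ => trivial) (fun r hr w hw => hNE hr w hw) (by
      obtain ⟨w, hw⟩ := h.loc.mem.ne
      exact ⟨w, trivial, hw⟩)
  have hu := hvfix y hyN
  -- trivial on `E/F`
  have h1 : ∀ e ∈ E, y • e + e ∈ F := by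
    intro e he
    obtain ⟨a, ha, hf⟩ := h.loc.mem.surj v hvE e he
    have h2 : y • (a • v + v) + (a • v + v) = a • (y • v + v) + (y • v + v) := by
      rw [← hcom hyN a ha, smul_add]
      abel
    have h3 : y • (a • v + v) + (a • v + v) ∈ F := by
      rw [h2]; exact h.loc.mem.EB a ha _ hu
    have h4 : y • e + e = (y • (a • v + v) + (a • v + v)) + (y • (a • v + v + e) + (a • v + v + e)) := by
      rw [smul_add y (a • v + v) e]
      have : y • (a • v + v) + (a • v + v) + (y • (a • v + v) + y • e + (a • v + v + e)) =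
        (y • (a • v + v) + y • (a • v + v)) + ((a • v + v) + (a • v + v)) + (y • e + e) := by abel
      rw [this, h.two, h.two, zero_add, zero_add]
    rw [h4]
    exact F.add_mem h3 (F.add_mem (hNF hyN _ hf) hf)
  -- trivial on `F`
  have h2 : ∀ f ∈ F, y • f = f := by
    intro f hf
    obtain ⟨v₀, -, hv₀E, hv₀X⟩ := h.exists_v k
    obtain ⟨b, hb, rfl⟩ := h.onto' k hv₀E hv₀X hf
    have hbA := h.QA' k hb
    rw [← hcom hyN b hbA]
    have h3 := h.loc.mem.FB b hbA _ (h1 v₀ hv₀E)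
    rw [smul_add] at h3
    have h4 : b • y • v₀ + y • v₀ = (b • y • v₀ + b • v₀) + (y • v₀ + b • v₀) := by
      have : b • y • v₀ + b • v₀ + (y • v₀ + b • v₀) = b • y • v₀ + y • v₀ + (b • v₀ + b • v₀) := by abel
      rw [this, h.two, add_zero]
    rw [h4, h3]
    have : y • v₀ + v₀ + (y • v₀ + b • v₀) = (y • v₀ + y • v₀) + (b • v₀ + v₀) := by abel
    rw [this, h.two, zero_add]
  have hyX : y ∈ NX L V Q := by
    apply mem_NX_of
    intro x hx
    exact (AddSubgroup.add_mem_cancel_right _ hx).1 (h.six k (h1 x (h.beta.XE hx)))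
  -- subtract an element of `A`
  obtain ⟨x, hx, hxF⟩ : ∃ x ∈ fx V Q, x ∉ F := by
    obtain ⟨l, hl⟩ := exists_out h.loc h.beta
    refine ⟨l • z, h.Xmem h.loc.z_mem.1, fun h3 => ?_⟩
    exact h.loc.z_not (by
      have h4 := h.loc.mem_C_of_F hl (smul_mem_smul_as h.loc.z_mem) h3
      rw [h.C0, AddSubgroup.mem_bot, smul_eq_zero_iff_eq] at h4
      exact absurd h4 h.z_ne)
  obtain ⟨a, ha, c, hc, h3⟩ := h.beta.full x hx hxF (y • x + x) ⟨h.six k (h1 x (h.beta.XE hx)), h1 x (h.beta.XE hx)⟩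
  rw [h.C0, AddSubgroup.mem_bot] at hc
  rw [hc, add_zero] at h3
  have h4 : (a : Y) • x = y • x := add_right_cancel h3
  have h5 : (a : Y)⁻¹ * y ∈ T := mul_mem (inv_mem (h.AT ha)) hyT
  have h6 : (a : Y)⁻¹ * y ∈ NX L V Q := mul_mem (inv_mem (h.AN a)) hyX
  have h7 := (h.s2 h5 h6 (by
    intro f hf
    rw [mul_smul, h2 f hf.2, inv_smul_eq_iff]
    exact (h.loc.mem.FB a ha f hf.2).symm)).2 x hx hxF (by rw [mul_smul, ← h4, inv_smul_smul])
  obtain ⟨q, hq, h8⟩ := h.CTX' k h5 h7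
  refine ⟨a * q, mul_mem ha (h.QA' k hq), ?_⟩
  rw [coe_mul, h8]
  group

theorem CL' [Finite Y] [Finite V] {l : L} (hl : ∀ x ∈ fx V Q, l • x = x) : l ∈ Q := by
  obtain ⟨q, hq, hq1⟩ := h.exists_q k
  have h1 : (l : Y) ∈ Dx Y h.two (fx V Q : AddSubgroup V) := by
    refine ⟨hl, fun v => ?_⟩
    apply h.Qfix' k hq hq1
    apply h.eq_of_add
    have h2 : q • (l • v + v) + (l • v + v) = l • (q • v + v) + (q • v + v) := by
      rw [smul_add, smul_add, ← mul_smul, ← mul_smul, h.Qz' k hq l]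
      abel
    have h3 := hl _ (h.QV' k hq v)
    rw [h3, h.two] at h2
    exact h2
  obtain ⟨b, hb, h2⟩ := h.DD' k h1
  have : b = l := Subtype.ext h2
  rw [← this]
  exact hb.2

/-- **THEOREM B0 (1)-(7)** -/
theorem out [Finite Y] [Finite V] : Out T M L A Q L₁ R E F z t where
  hyp := h
  tk := k
  QA := h.QA' k
  cQ := h.cQ' k
  cA := by rw [h.cA2 k, h.ca k]
  cF := h.cF' k
  cX := h.cX' k
  cV := h.cV' k
  FX := h.six k
  supE := h.supE' k
  infF := by
    apply le_antisymm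
    · rintro x ⟨hx, hx'⟩
      exact (h.inf_X' k hx hx').2
    · intro x hx
      exact ⟨h.six k hx, h.X1_le_X' k ⟨h.six k hx, hx⟩⟩
  tF := h.tF' k
  tE := h.tE' k
  Qz := fun _ hq l => h.Qz' k hq l
  Qfix := fun _ hq hq1 _ hv => h.Qfix' k hq hq1 hv
  QV := fun _ hq v => h.QV' k hq v
  Qsurj := fun _ hq hq1 _ hx => h.Qsurj' k hq hq1 hx
  QtA := fun _ hq => by
    obtain ⟨b, hb, h1, -⟩ := h.QtA' k hq
    exact ⟨b, hb, h1⟩
  tA := fun _ hb => h.tA' k hb
  prod := fun _ hb => h.prod' k hb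
  inf1 := fun _ hq _ hq' he => h.inf1' k hq hq' he
  CAX' := fun _ hb hbX => h.CAX k hb hbX
  DD := fun y h1 h2 => by
    obtain ⟨q, hq, h3⟩ := h.DD' k (y := y) ⟨h1, h2⟩
    exact ⟨q, hq.2, h3⟩
  CL := fun _ hl => h.CL' k hl
  CTX := fun _ hy h1 => h.CTX' k hy h1
  CTA := fun _ hy h1 => h.CTA' k hy h1

end t

end Hyp

end Cfsg.Agent.Omega.NO1.B0

end

section


/-!
# THEOREM B0 (bb OMEGA 18835, helper970): `L = S × K`, `K ≅ SL₂(a)` (Gaschütz)
-/

set_option autoImplicit false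
set_option linter.unusedSectionVars false
set_option linter.style.haveILetI false

namespace Cfsg.Agent.Omega.NO1.B0

open Subgroup Cfsg.Agent.Omega.NO1.AB
open scoped Pointwise

universe u

variable {Y : Type u} [Group Y] {V : Type u} [AddCommGroup V] [DistribMulAction Y V]

namespace Out

variable {T : Sylow 2 Y} {M L : Subgroup Y} {A Q L₁ : Subgroup L} {R : Sylow 2 L} {E F : AddSubgroup V}
  {z : V} {t : Y} (o : Out T M L A Q L₁ R E F z t)
include o

/-- `R = A` -/
theorem R_eq [Finite Y] [Finite V] : (R : Subgroup L) = A := by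
  have h := o.hyp
  apply le_antisymm _ h.loc.AR
  intro r hr
  obtain ⟨K, i1, i2, i3, e, hc⟩ := h.exists_co
  have hrz : r • z = z := h.loc.zR r hr
  have hrT : (r : Y) ∈ T := h.RT r hr
  have hrN : (r : Y) ∈ NX L V Q := h.AN r
  obtain ⟨s, hs⟩ := hc.act r
  have hs1 : s.mulVec ![1, 0] = ![1, 0] := by
    have h1 := hs ⟨z, h.loc.z_mem.1⟩ ⟨z, h.loc.z_mem.1⟩ hrz.symm
    rw [hc.ez _ rfl] at h1
    exact h1.symm
  have h1 : ∀ x ∈ fx V Q ⊓ F, (r : Y) • x = x := by
    intro x hx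
    have h2 := hs ⟨x, hx.1⟩ ⟨r • x, h.Xmem hx.1⟩ rfl
    have h3 : e ⟨x, hx.1⟩ = e ⟨x, hx.1⟩ 0 • ![1, 0] := by
      rw [smul_vec, mul_one, mul_zero]
      have h4 := vec_eq (e ⟨x, hx.1⟩)
      rwa [(hc.memF ⟨x, hx.1⟩).1 hx.2] at h4
    rw [h3, Matrix.mulVec_smul, hs1, ← h3] at h2
    exact congrArg Subtype.val (e.injective h2)
  obtain ⟨x, hx, hxF⟩ : ∃ x ∈ fx V Q, x ∉ F := by
    obtain ⟨l, hl⟩ := exists_out h.loc h.beta
    refine ⟨l • z, h.Xmem h.loc.z_mem.1, fun h3 => ?_⟩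
    have h4 := h.loc.mem_C_of_F hl (smul_mem_smul_as h.loc.z_mem) h3
    rw [h.C0, AddSubgroup.mem_bot, smul_eq_zero_iff_eq] at h4
    exact h.z_ne h4
  have h2 := (h.s2 hrT hrN h1).1 x hx
  obtain ⟨a, ha, c, hc', h3⟩ := h.beta.full x hx hxF _ h2
  rw [h.C0, AddSubgroup.mem_bot] at hc'
  rw [hc', add_zero] at h3
  have h4 : (a : Y) • x = (r : Y) • x := add_right_cancel h3
  have h7 := (h.s2 (p := (a : Y)⁻¹ * r) (mul_mem (inv_mem (h.AT ha)) hrT) (mul_mem (inv_mem (h.AN a)) hrN) (by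
    intro f hf
    rw [mul_smul, h1 f hf, inv_smul_eq_iff]
    exact (h.loc.mem.FB a ha f hf.2).symm)).2 x hx hxF (by rw [mul_smul, ← h4, inv_smul_smul])
  have h8 : a⁻¹ * r ∈ Q := o.CL _ h7
  have h9 := mul_mem ha (o.QA h8)
  rwa [mul_inv_cancel_left] at h9

/-- `L = S × K` -/
theorem exists_compl [Finite Y] [Finite V] : ∃ K : Subgroup L, K ⊓ Q = ⊥ ∧ K ⊔ Q = ⊤ ∧ K.Normal := by
  have : Fact (Nat.Prime 2) := ⟨Nat.prime_two⟩
  have h := o.hyp
  haveI := h.loc.Qn
  haveI : IsMulCommutative Q := ⟨⟨fun a b => Subtype.ext (o.Qz a a.2 b)⟩⟩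
  have hb : Function.Bijective fun k : Q => k ^ A.index := by
    have hcop : (Nat.card Q).Coprime A.index := by
      obtain ⟨n, hn⟩ := IsPGroup.iff_card.1 h.loc.Q2
      rw [hn]
      apply Nat.Coprime.pow_left
      rw [Nat.prime_two.coprime_iff_not_dvd, ← o.R_eq]
      exact R.not_dvd_index
    exact hcop.pow_left_bijective
  -- the complement `S^t` in `A`
  let B : Subgroup L :=
    { carrier := {b | ∃ q ∈ Q, (b : Y) = t * q * t⁻¹}
      mul_mem' := by
        rintro a b ⟨q, hq, h1⟩ ⟨q', hq', h2⟩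
        refine ⟨q * q', mul_mem hq hq', ?_⟩
        rw [coe_mul, coe_mul, h1, h2]; group
      one_mem' := ⟨1, one_mem _, by simp only [_root_.OneMemClass.coe_one, _root_.mul_one, _root_.mul_inv_cancel]⟩
      inv_mem' := by
        rintro a ⟨q, hq, h1⟩
        refine ⟨q⁻¹, inv_mem hq, ?_⟩
        rw [coe_inv, coe_inv, h1]; group }
  have hB1 : B ⊓ Q = ⊥ := by
    rw [eq_bot_iff]
    rintro b ⟨⟨q, hq, h1⟩, hb⟩
    rw [mem_bot]
    exact o.inf1 b hb q hq h1
  have hB2 : Q ⊔ B = A := by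
    apply le_antisymm
    · refine sup_le o.QA ?_
      rintro b ⟨q, hq, h1⟩
      obtain ⟨c, hc, h2⟩ := o.QtA q hq
      have : b = c := Subtype.ext (h1.trans h2.symm)
      rwa [this]
    · intro b hb
      obtain ⟨q, hq, q', hq', h1⟩ := o.prod b hb
      obtain ⟨c, hc, h2⟩ := o.QtA q' hq'
      have h3 : b = q * c := Subtype.ext (by rw [coe_mul, h2, h1])
      rw [h3]
      exact mul_mem (mem_sup_left hq) (mem_sup_right ⟨q', hq', h2⟩)
  obtain ⟨K, hK⟩ := Cfsg.Agent.Solvable.Gaschutz.exists_complement Q A hb B hB1 hB2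
  have hsup : K ⊔ Q = ⊤ := by rw [sup_comm]; exact hK.sup_eq_top
  refine ⟨K, by rw [inf_comm]; exact hK.disjoint.eq_bot, hsup, ?_⟩
  rw [← normalizer_eq_top_iff, eq_top_iff, ← hsup]
  refine sup_le le_normalizer ?_
  intro q hq
  rw [mem_normalizer_iff]
  intro x
  rw [o.Qz q hq x, mul_inv_cancel_right]

/-- **`K ≅ SL₂(a)`** -/
theorem exists_K [Finite Y] [Finite V] :
    ∃ (𝕂 : Type) (_ : Field 𝕂) (_ : Fintype 𝕂) (_ : CharP 𝕂 2) (e : ↥(fx V Q) ≃+ (Fin 2 → 𝕂)) (K : Subgroup L)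
      (φ : K ≃* Matrix.SpecialLinearGroup (Fin 2) 𝕂), OutK o K 𝕂 e φ ∧ ∀ v : ↥(fx V Q), (v : V) = z → e v = ![1, 0] := by
  have h := o.hyp
  obtain ⟨𝕂, i1, i2, i3, e, h1, h2, h3, h4, h5⟩ := exists_coord' h.loc h.beta h.C0
  obtain ⟨K, hK1, hK2, hK3⟩ := o.exists_compl
  choose f hf using h3
  have huniq : ∀ s s' : Matrix.SpecialLinearGroup (Fin 2) 𝕂, (∀ v : ↥(fx V Q), s.1.mulVec (e v) = s'.1.mulVec (e v)) →
      s = s' := by
    intro s s' hss
    apply Subtype.ext
    apply Matrix.mulVec_injective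
    funext w
    have := hss (e.symm w)
    rwa [e.apply_symm_apply] at this
  let ψ : L →* Matrix.SpecialLinearGroup (Fin 2) 𝕂 := MonoidHom.mk' f (by
    intro a b
    apply huniq
    intro v
    rw [← hf, Matrix.SpecialLinearGroup.coe_mul, ← Matrix.mulVec_mulVec, ← hf b v, ← hf a]
    congr 1
    exact Subtype.ext (mul_smul a b (v : V)))
  have hker : ∀ l, ψ l = 1 ↔ l ∈ Q := by
    intro l
    constructor
    · intro hl
      apply o.CL
      intro x hx
      have h6 := hf l ⟨x, hx⟩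
      have h7 : f l = 1 := hl
      rw [h7, Matrix.SpecialLinearGroup.coe_one, Matrix.one_mulVec] at h6
      exact congrArg Subtype.val (e.injective h6)
    · intro hl
      apply huniq
      intro v
      change (f l).1.mulVec (e v) = _
      rw [← hf, Matrix.SpecialLinearGroup.coe_one, Matrix.one_mulVec]
      congr 1
      exact Subtype.ext (v.2 l hl)
  have hsurj : ∀ s, ∃ l, ψ l = s := by
    intro s
    obtain ⟨l, hl⟩ := h4 s
    refine ⟨l, huniq _ _ fun v => ?_⟩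
    rw [← hl v]
    exact (hf l v).symm
  let φ₀ : K →* Matrix.SpecialLinearGroup (Fin 2) 𝕂 := ψ.comp K.subtype
  have hφ₀ : Function.Bijective φ₀ := by
    constructor
    · rw [injective_iff_map_eq_one]
      intro k hk
      have h6 : (k : L) ∈ K ⊓ Q := ⟨k.2, (hker _).1 hk⟩
      rw [hK1, mem_bot] at h6
      exact Subtype.ext h6
    · intro s
      obtain ⟨l, hl⟩ := hsurj s
      have h6 : l ∈ K ⊔ Q := by rw [hK2]; exact mem_top l
      haveI := h.loc.Qn
      obtain ⟨k, hk, q, hq, rfl⟩ := mem_sup_of_normal_right.1 h6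
      refine ⟨⟨k, hk⟩, ?_⟩
      rw [map_mul, (hker q).2 hq, mul_one] at hl
      exact hl
  refine ⟨𝕂, i1, i2, i3, e, K, MulEquiv.ofBijective φ₀ hφ₀, ?_, ?_⟩
  · exact
      { inf := hK1
        sup := hK2
        normal := hK3
        card := by
          rw [h1, inf_eq_right.2 o.FX, o.cF]
        act := by
          intro k v w hw
          change _ = (f k).1.mulVec (e v)
          rw [← hf]
          congr 1
          exact Subtype.ext hw
        memF := h2 }
  · intro v hv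
    rw [← h5]
    congr 1
    exact Subtype.ext hv

end Out

end Cfsg.Agent.Omega.NO1.B0

end

section


/-!
# FIN-BETA ⟹ the hypotheses of THEOREM B0 (bb OMEGA 20935 (C2), 21423 (D4))

`hyp0_of` : the data of `Fin (BETA)` give `Hyp0`; `exists_out_of` : ... and `Out`.
-/

set_option autoImplicit false
set_option linter.unusedSectionVars false
set_option linter.style.haveILetI false

namespace Cfsg.Agent.Omega.NO1.B0

open Subgroup Cfsg.Agent.Omega.NO1.AB
open scoped Pointwise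

universe u

variable {Y : Type u} [Group Y] {V : Type u} [AddCommGroup V] [DistribMulAction Y V]

/-- `Fin (BETA)` ⟹ `Hyp0` -/
theorem hyp0_of [Finite Y] [Finite V] {T : Sylow 2 Y} {M L A : Subgroup Y} {Q : Subgroup L} {R : Sylow 2 L}
    (hLM : ¬ L ≤ M) (hRT : (R : Subgroup L).map L.subtype ≤ (T : Subgroup Y))
    (h0 : Loc0 (A.subgroupOf L) (Ee V A) (fx V A) Q (M.subgroupOf L) R) (hC : fx V L = ⊥)
    (hne : A.subgroupOf L ⊓ Q ≠ ⊥) (faith : ∀ y : Y, (∀ v : V, y • v = v) → y = 1)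
    (irr : ∀ W : AddSubgroup V, (∀ y : Y, ∀ w ∈ W, y • w ∈ W) → W ≤ Ee V A → W = ⊥)
    (off : ∀ B : Subgroup Y, (∀ b ∈ B, b * b = 1) → B ≠ ⊥ → Nat.card B * Nat.card ↥(fx V B) < Nat.card V)
    (TM : (T : Subgroup Y) ≤ M) (Mne : M ≠ ⊤) (max : ∀ K : Subgroup Y, (T : Subgroup Y) ≤ K → K ≠ ⊤ → K ≤ M) :
    ∃ z, Hyp0 T M L (A.subgroupOf L) Q (M.subgroupOf L) R (Ee V A) (fx V A) z := by
  -- a fixed vector of `T`
  obtain ⟨z, -, hz0, hzT⟩ := exists_fixed_mod h0.two (R := (T : Subgroup Y)) T.2 ⊤ ⊥ (fun _ _ _ _ => trivial)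
    (fun r _ w hw => by
      rw [AddSubgroup.mem_bot] at hw ⊢
      rw [hw, smul_zero]) (by
      obtain ⟨v, hv⟩ := h0.mem.ne
      refine ⟨v, trivial, fun h1 => hv ?_⟩
      rw [AddSubgroup.mem_bot] at h1
      rw [h1]; exact AddSubgroup.zero_mem _)
  rw [AddSubgroup.mem_bot] at hz0
  have hzT' : ∀ r ∈ (T : Subgroup Y), r • z = z := by
    intro r hr
    have h1 := hzT r hr
    rw [AddSubgroup.mem_bot, ← neg_eq_iff_add_eq_zero,
      neg_eq_of_add_eq_zero_left (h0.two (r • z))] at h1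
    exact h1
  have hC' : fx V (⊤ : Subgroup L) = ⊥ := by
    rw [← hC]
    ext v
    constructor
    · intro h l hl
      exact h ⟨l, hl⟩ (mem_top _)
    · intro h l _
      exact h l l.2
  have hloc : Loc (A.subgroupOf L) (Ee V A) (fx V A) Q (M.subgroupOf L) R z :=
    { h0 with
      zR := fun r hr => hzT' _ (hRT ⟨r, hr, rfl⟩)
      zL := by
        by_contra hc
        push Not at hc
        have h1 : z ∈ fx V (⊤ : Subgroup L) := fun l _ => hc l
        rw [hC', AddSubgroup.mem_bot] at h1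
        exact hz0 h1 }
  refine ⟨z, ?_⟩
  exact
    { loc := hloc
      beta := hloc.beta (by
        intro g _ x hx
        by_contra h1
        apply hne
        rw [eq_bot_iff]
        intro b hb
        rw [mem_bot]
        apply h0.mem.inj _ h1 b hb.1
        have h2 : g • x ∈ fx V Q := hloc.smul_X g hx.1
        rw [h2 b hb.2, h0.two]
        exact AddSubgroup.zero_mem _)
      C0 := hC'
      faith := faith
      irr := irr
      off := off
      TM := TM
      M_ne := Mne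
      uniqM := max
      L₁M := fun l hl => mem_subgroupOf.1 hl
      LM := hLM
      RT := fun r hr => hRT ⟨r, hr, rfl⟩
      zT := hzT' }

/-- `Fin (BETA)` ⟹ all conclusions of THEOREM B0 (1)-(7) -/
theorem exists_out_of [Finite Y] [Finite V] {T : Sylow 2 Y} {M L A : Subgroup Y} {Q : Subgroup L} {R : Sylow 2 L}
    (hLM : ¬ L ≤ M) (hRT : (R : Subgroup L).map L.subtype ≤ (T : Subgroup Y))
    (h0 : Loc0 (A.subgroupOf L) (Ee V A) (fx V A) Q (M.subgroupOf L) R) (hC : fx V L = ⊥)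
    (hne : A.subgroupOf L ⊓ Q ≠ ⊥) (faith : ∀ y : Y, (∀ v : V, y • v = v) → y = 1)
    (irr : ∀ W : AddSubgroup V, (∀ y : Y, ∀ w ∈ W, y • w ∈ W) → W ≤ Ee V A → W = ⊥)
    (off : ∀ B : Subgroup Y, (∀ b ∈ B, b * b = 1) → B ≠ ⊥ → Nat.card B * Nat.card ↥(fx V B) < Nat.card V)
    (TM : (T : Subgroup Y) ≤ M) (Mne : M ≠ ⊤) (max : ∀ K : Subgroup Y, (T : Subgroup Y) ≤ K → K ≠ ⊤ → K ≤ M) :
    ∃ (T' : Sylow 2 Y) (z : V) (t : Y), Out T' M L (A.subgroupOf L) Q (M.subgroupOf L) R (Ee V A) (fx V A) z t := by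
  obtain ⟨z, hz⟩ := hyp0_of hLM hRT h0 hC hne faith irr off TM Mne max
  obtain ⟨T', z', h⟩ := hz.exists_hyp
  obtain ⟨t, k⟩ := h.exists_t
  exact ⟨T', z', t, h.out k⟩

end Cfsg.Agent.Omega.NO1.B0

end

section


/-!
# THEOREM B0 (bb OMEGA 18835, helper970), (8): coordinates (shortcut, helper321)

`ê : V → 𝕂²` extends the coordinates on `X`; `Q` acts through `𝕂`-scalars `V/X ≅ X`, `Q^t` through `𝕂`-scalars
`V/X' ≅ X'`; the two `𝕂`-structures agree on `F` (after a field automorphism).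
-/

set_option autoImplicit false
set_option linter.unusedSectionVars false
set_option linter.style.haveILetI false

namespace Cfsg.Agent.Omega.NO1.B0

open Subgroup Cfsg.Agent.Omega.NO1.AB
open scoped Pointwise

universe u

/-- Schur: an additive map commuting with `SL₂(k)` is a scalar -/
theorem schur {k : Type*} [Field k] (f : (Fin 2 → k) →+ (Fin 2 → k))
    (hf : ∀ (s : Matrix.SpecialLinearGroup (Fin 2) k) v, f (s.1.mulVec v) = s.1.mulVec (f v)) :
    ∃ c : k, ∀ v, f v = c • v := by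
  -- `f (1,0) = (c,0)`
  have h1 : f ![1, 0] 1 = 0 := by
    have h2 := hf ⟨!![1, 1; 0, 1], by simp⟩ ![1, 0]
    have h3 : (!![1, 1; 0, 1] : Matrix (Fin 2) (Fin 2) k).mulVec ![1, 0] = ![1, 0] := by
      ext i; (revert i; simp only [Matrix.mulVec, dotProduct, Fin.sum_univ_two, _root_.Fin.forall_fin_succ, _root_.Matrix.of_apply, _root_.Matrix.cons_val', _root_.Matrix.cons_val_fin_one, Fin.isValue, _root_.Matrix.cons_val_zero, _root_.mul_one, _root_.Matrix.cons_val_one, _root_.MulZeroClass.mul_zero, _root_.add_zero, _root_.Nat.succ_eq_add_one, Nat.reduceAdd, _root_.Matrix.cons_val_succ, _root_.implies_true, _root_.and_self])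
    change f ((!![1, 1; 0, 1] : Matrix (Fin 2) (Fin 2) k).mulVec ![1, 0]) = _ at h2
    rw [h3] at h2
    have h4 := congrFun h2 0
    simp [Matrix.mulVec, dotProduct, Fin.sum_univ_two] at h4
    exact h4
  set c := f ![1, 0] 0 with hc
  have h2 : f ![1, 0] = ![c, 0] := by
    ext i; fin_cases i
    · rfl
    · exact h1
  have h3 : ∀ x, f ![x, 0] = ![c * x, 0] := by
    intro x
    by_cases hx : x = 0
    · have : (![x, 0] : Fin 2 → k) = 0 := by
        ext i; fin_cases i <;> simp [hx]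
      rw [this, map_zero, hx, mul_zero]
      ext i; fin_cases i <;> rfl
    · have h4 := hf ⟨!![x, 0; 0, x⁻¹], by rw [Matrix.det_fin_two_of]; field_simp; ring⟩ ![1, 0]
      have h5 : (!![x, 0; 0, x⁻¹] : Matrix (Fin 2) (Fin 2) k).mulVec ![1, 0] = ![x, 0] := by
        ext i; (revert i; simp only [Matrix.mulVec, dotProduct, Fin.sum_univ_two, _root_.Fin.forall_fin_succ, _root_.Matrix.of_apply, _root_.Matrix.cons_val', _root_.Matrix.cons_val_fin_one, Fin.isValue, _root_.Matrix.cons_val_zero, _root_.mul_one, _root_.Matrix.cons_val_one, _root_.MulZeroClass.mul_zero, _root_.add_zero, _root_.Nat.succ_eq_add_one, Nat.reduceAdd, _root_.Matrix.cons_val_succ, _root_.implies_true, _root_.and_self])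
      have h6 : (!![x, 0; 0, x⁻¹] : Matrix (Fin 2) (Fin 2) k).mulVec ![c, 0] = ![c * x, 0] := by
        ext i; (revert i; simp only [Matrix.mulVec, dotProduct, Fin.sum_univ_two, mul_comm, _root_.Fin.forall_fin_succ, _root_.Matrix.of_apply, _root_.Matrix.cons_val', _root_.Matrix.cons_val_fin_one, Fin.isValue, _root_.Matrix.cons_val_zero, _root_.Matrix.cons_val_one, _root_.MulZeroClass.zero_mul, _root_.add_zero, _root_.Nat.succ_eq_add_one, Nat.reduceAdd, _root_.Matrix.cons_val_succ, _root_.implies_true, _root_.and_self])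
      change f ((!![x, 0; 0, x⁻¹] : Matrix (Fin 2) (Fin 2) k).mulVec ![1, 0]) =
        (!![x, 0; 0, x⁻¹] : Matrix (Fin 2) (Fin 2) k).mulVec (f ![1, 0]) at h4
      rw [h5, h2, h6] at h4
      exact h4
  have h7 : ∀ y, f ![0, y] = ![0, c * y] := by
    intro y
    have h4 := hf ⟨!![0, -1; 1, 0], by rw [Matrix.det_fin_two_of]; ring⟩ ![y, 0]
    have h5 : (!![0, -1; 1, 0] : Matrix (Fin 2) (Fin 2) k).mulVec ![y, 0] = ![0, y] := by
      ext i; (revert i; simp only [Matrix.mulVec, dotProduct, Fin.sum_univ_two, _root_.Fin.forall_fin_succ, _root_.Matrix.of_apply, _root_.Matrix.cons_val', _root_.Matrix.cons_val_fin_one, Fin.isValue, _root_.Matrix.cons_val_zero, _root_.Matrix.cons_val_one, _root_.MulZeroClass.mul_zero, _root_.add_zero, _root_.Nat.succ_eq_add_one, Nat.reduceAdd, _root_.MulZeroClass.zero_mul, _root_.Matrix.cons_val_succ, _root_.one_mul, _root_.implies_true, _root_.and_self])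
    have h6 : (!![0, -1; 1, 0] : Matrix (Fin 2) (Fin 2) k).mulVec ![c * y, 0] = ![0, c * y] := by
      ext i; (revert i; simp only [Matrix.mulVec, dotProduct, Fin.sum_univ_two, _root_.Fin.forall_fin_succ, _root_.Matrix.of_apply, _root_.Matrix.cons_val', _root_.Matrix.cons_val_fin_one, Fin.isValue, _root_.Matrix.cons_val_zero, _root_.Matrix.cons_val_one, _root_.MulZeroClass.mul_zero, _root_.add_zero, _root_.Nat.succ_eq_add_one, Nat.reduceAdd, _root_.MulZeroClass.zero_mul, _root_.Matrix.cons_val_succ, _root_.one_mul, _root_.implies_true, _root_.and_self])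
    change f ((!![0, -1; 1, 0] : Matrix (Fin 2) (Fin 2) k).mulVec ![y, 0]) =
      (!![0, -1; 1, 0] : Matrix (Fin 2) (Fin 2) k).mulVec (f ![y, 0]) at h4
    rw [h5, h3, h6] at h4
    exact h4
  refine ⟨c, fun v => ?_⟩
  have h8 : v = ![v 0, 0] + ![0, v 1] := by
    ext i; fin_cases i <;> simp
  rw [h8, map_add, h3, h7, smul_add]
  ext i; (revert i; simp [_root_.Fin.forall_fin_succ])

variable {Y : Type u} [Group Y] {V : Type u} [AddCommGroup V] [DistribMulAction Y V]

/-- an additive map extends -/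
theorem exists_ext (h2 : ∀ v : V, v + v = 0) {X : AddSubgroup V} {W : Type*} [AddCommGroup W]
    (hW : ∀ w : W, w + w = 0) (e : X →+ W) : ∃ f : V →+ W, ∀ x : X, f x = e x := by
  letI : Module (ZMod 2) V := AddCommGroup.zmodModule (n := 2) fun v => by rw [two_nsmul]; exact h2 v
  letI : Module (ZMod 2) W := AddCommGroup.zmodModule (n := 2) fun v => by rw [two_nsmul]; exact hW v
  let X' : Submodule (ZMod 2) V := AddSubgroup.toZModSubmodule 2 X
  let e' : X' →ₗ[ZMod 2] W := AddMonoidHom.toZModLinearMap 2 (e : X' →+ W)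
  obtain ⟨g, hg⟩ := LinearMap.exists_extend e'
  refine ⟨g.toAddMonoidHom, fun x => ?_⟩
  exact congrArg (fun f : X' →ₗ[ZMod 2] W => f x) hg

/-- the coordinates on `X`, extended to `V` -/
structure Crd {L : Subgroup Y} (Q : Subgroup L) (F : AddSubgroup V) (K : Subgroup L) (k : Type) [Field k]
    (g : V →+ (Fin 2 → k)) : Prop where
  inj : ∀ x ∈ fx V Q, g x = 0 → x = 0
  surj : ∀ w, ∃ x ∈ fx V Q, g x = w
  memF : ∀ x ∈ fx V Q, (x ∈ F ↔ g x 1 = 0)
  act : ∀ l : L, ∃ s : Matrix.SpecialLinearGroup (Fin 2) k, ∀ x ∈ fx V Q, g (l • x) = s.1.mulVec (g x)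
  act' : ∀ s : Matrix.SpecialLinearGroup (Fin 2) k, ∃ l ∈ K, ∀ x ∈ fx V Q, g (l • x) = s.1.mulVec (g x)

namespace Out

variable {T : Sylow 2 Y} {M L : Subgroup Y} {A Q L₁ : Subgroup L} {R : Sylow 2 L} {E F : AddSubgroup V}
  {z : V} {t : Y} (o : Out T M L A Q L₁ R E F z t)
include o

theorem two (v : V) : v + v = 0 := o.hyp.two v

theorem exists_crd [Finite Y] [Finite V] {K : Subgroup L} {k : Type} [Field k] [CharP k 2]
    {e : ↥(fx V Q) ≃+ (Fin 2 → k)} {φ : K ≃* Matrix.SpecialLinearGroup (Fin 2) k} (ok : OutK o K k e φ) :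
    ∃ g : V →+ (Fin 2 → k), Crd Q F K k g ∧ ∀ x : ↥(fx V Q), g x = e x := by
  obtain ⟨g, hg⟩ := exists_ext o.two (fun w => by
    ext i
    exact CharTwo.add_self_eq_zero _) e.toAddMonoidHom
  have hg' : ∀ x : ↥(fx V Q), g x = e x := hg
  have hK : ∀ (κ : K) (x : V), x ∈ fx V Q → g ((κ : L) • x) = (φ κ).1.mulVec (g x) := by
    intro κ x hx
    have h1 := ok.act κ ⟨x, hx⟩ ⟨(κ : L) • x, o.hyp.Xmem hx⟩ rfl
    rw [← hg', ← hg'] at h1
    exact h1
  refine ⟨g, ?_, hg'⟩
  exact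
    { inj := by
        intro x hx h1
        have h2 := hg' ⟨x, hx⟩
        change g x = _ at h2
        rw [h1, eq_comm, map_eq_zero_iff e e.injective] at h2
        exact congrArg Subtype.val h2
      surj := by
        intro w
        refine ⟨e.symm w, (e.symm w).2, ?_⟩
        rw [hg', e.apply_symm_apply]
      memF := by
        intro x hx
        rw [show g x = e ⟨x, hx⟩ from hg' ⟨x, hx⟩]
        exact ok.memF ⟨x, hx⟩
      act := by
        intro l
        haveI := o.hyp.loc.Qn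
        have h1 : l ∈ K ⊔ Q := by rw [ok.sup]; exact mem_top l
        obtain ⟨κ, hκ, q, hq, rfl⟩ := mem_sup_of_normal_right.1 h1
        refine ⟨φ ⟨κ, hκ⟩, fun x hx => ?_⟩
        rw [mul_smul, hx q hq]
        exact hK ⟨κ, hκ⟩ x hx
      act' := by
        intro s
        refine ⟨(φ.symm s : K), (φ.symm s).2, fun x hx => ?_⟩
        rw [hK _ x hx, φ.apply_symm_apply] }

theorem act_eq_one {y : Y} (hy : ∀ v : V, y • v + v = 0) : y = 1 :=
  o.hyp.faith y fun v => o.hyp.eq_of_add (hy v)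

/-- `Q` acts by `𝕂`-scalars `V/X ≅ X` -/
theorem exists_c [Finite Y] [Finite V] {K : Subgroup L} {k : Type} [Field k] [Finite k]
    {g : V →+ (Fin 2 → k)} (hg : Crd Q F K k g) (hcard : Nat.card k = E.index) {q₀ : L} (hq₀ : q₀ ∈ Q)
    (hq₀1 : q₀ ≠ 1) :
    ∃ c : L → k, (∀ q ∈ Q, ∀ v : V, g (q • v + v) = c q • g (q₀ • v + v)) ∧
      (∀ d : k, ∃ q ∈ Q, c q = d) ∧ (∀ q ∈ Q, q ≠ 1 → c q ≠ 0) := by
  classical
  let N : V →+ (Fin 2 → k) := g.comp (HE.dl (V := V) q₀)
  have hNs : Function.Surjective N := by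
    intro w
    obtain ⟨x, hx, hxw⟩ := hg.surj w
    obtain ⟨v, hv⟩ := o.Qsurj q₀ hq₀ hq₀1 x hx
    refine ⟨v, ?_⟩
    change g (q₀ • v + v) = w
    rw [hv, hxw]
  have hNk : ∀ v, N v = 0 → v ∈ fx V Q := by
    intro v hv
    apply o.Qfix q₀ hq₀ hq₀1
    exact o.hyp.eq_of_add (hg.inj _ (o.QV q₀ hq₀ v) hv)
  have key : ∀ q ∈ Q, ∃ c : k, ∀ v : V, g (q • v + v) = c • g (q₀ • v + v) := by
    intro q hq
    let Mq : V →+ (Fin 2 → k) := g.comp (HE.dl (V := V) q)
    have hker : N.ker ≤ Mq.ker := by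
      intro v hv
      have h1 := hNk v hv
      change g (q • v + v) = 0
      rw [h1 q hq, o.two, map_zero]
    let f : (Fin 2 → k) →+ (Fin 2 → k) :=
      N.liftOfRightInverse (Function.surjInv hNs) (Function.rightInverse_surjInv hNs) ⟨Mq, hker⟩
    have hf : ∀ v, f (N v) = Mq v := fun v => AddMonoidHom.liftOfRightInverse_comp_apply _ _ _ _ v
    obtain ⟨c, hc⟩ := schur f (by
      intro s w
      obtain ⟨v, rfl⟩ := hNs w
      obtain ⟨l, -, hl⟩ := hg.act' s
      have h1 : ∀ q ∈ Q, g (q • (l • v) + l • v) = s.1.mulVec (g (q • v + v)) := by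
        intro q hq
        rw [← hl _ (o.QV q hq v), smul_add, ← mul_smul, ← mul_smul, o.Qz q hq l]
      have h2 : s.1.mulVec (N v) = N (l • v) := (h1 q₀ hq₀).symm
      rw [h2, hf, hf]
      exact h1 q hq)
    refine ⟨c, fun v => ?_⟩
    have := hc (N v)
    rw [hf] at this
    exact this
  choose! c hc using key
  have hcn : ∀ q ∈ Q, q ≠ 1 → c q ≠ 0 := by
    intro q hq hq1 h0
    apply hq1
    have h1 : (q : Y) = 1 := by
      apply o.act_eq_one
      intro v
      have h2 := hc q hq v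
      rw [h0, zero_smul] at h2
      exact hg.inj _ (o.QV q hq v) h2
    exact Subtype.ext h1
  refine ⟨c, hc, ?_, hcn⟩
  -- bijection
  let f : Q → k := fun q => c q
  have hN0 : ∃ v : V, g (q₀ • v + v) ≠ 0 := by
    obtain ⟨v, hv⟩ := hNs ![1, 0]
    refine ⟨v, fun h1 => ?_⟩
    have h2 : (![1, 0] : Fin 2 → k) = 0 := hv.symm.trans h1
    have := congrFun h2 0
    simp at this
  have hf : Function.Injective f := by
    intro q q' hqq
    by_contra hne
    have h1 : (q : L)⁻¹ * q' ∈ Q := mul_mem (inv_mem q.2) q'.2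
    have h2 : (q : L)⁻¹ * q' ≠ 1 := by
      rw [Ne, inv_mul_eq_one]
      exact fun h3 => hne (Subtype.ext h3)
    apply h2
    have h3 : (((q : L)⁻¹ * q' : L) : Y) = 1 := by
      apply o.hyp.faith
      intro v
      have h4 := hc q q.2 v
      have h5 := hc q' q'.2 v
      change c q = c q' at hqq
      rw [hqq, ← h5] at h4
      have h6 : (q : L) • v + v = (q' : L) • v + v := by
        have h7 : g ((q : L) • v + v + ((q' : L) • v + v)) = 0 := by
          rw [map_add, h4, ← map_add, o.two, map_zero]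
        exact o.hyp.eq_of_add (hg.inj _ ((fx V Q).add_mem (o.QV _ q.2 v) (o.QV _ q'.2 v)) h7)
      have h7 : (q : L) • v = (q' : L) • v := add_right_cancel h6
      change ((q : L)⁻¹ * q') • v = v
      rw [mul_smul, ← h7, inv_smul_smul]
    exact Subtype.ext h3
  have hs := ((Nat.bijective_iff_injective_and_card f).2 ⟨hf, by rw [o.cQ, hcard]⟩).2
  intro d
  obtain ⟨q, hq⟩ := hs d
  exact ⟨q, q.2, hq⟩

/-- `A` acts on `X` by transvections -/
theorem exists_κ [Finite Y] [Finite V] {K : Subgroup L} {k : Type} [Field k] [CharP k 2]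
    {g : V →+ (Fin 2 → k)} (hg : Crd Q F K k g) :
    ∃ κ : L → k, ∀ b ∈ A, ∀ x ∈ fx V Q, g (b • x + x) = ![κ b * g x 1, 0] := by
  have key : ∀ b ∈ A, ∃ κ : k, ∀ x ∈ fx V Q, g (b • x + x) = ![κ * g x 1, 0] := by
    intro b hb
    obtain ⟨s, hs⟩ := hg.act b
    obtain ⟨f, hf, hf1⟩ := hg.surj ![1, 0]
    have hfF : f ∈ F := (hg.memF f hf).2 (by rw [hf1]; rfl)
    have h1 := hs f hf
    rw [o.hyp.loc.mem.FB b hb f hfF, hf1] at h1
    have h2 := congrFun h1 0
    have h3 := congrFun h1 1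
    simp only [Matrix.mulVec, dotProduct, Fin.sum_univ_two, _root_.Fin.isValue, _root_.Matrix.cons_val_zero, _root_.Matrix.mulVec, _root_.dotProduct, _root_.Fin.sum_univ_two, _root_.mul_one, _root_.Matrix.cons_val_one, _root_.Matrix.cons_val_fin_one, _root_.MulZeroClass.mul_zero, _root_.add_zero] at h2 h3
    have h4 := s.2
    rw [Matrix.det_fin_two, ← h2, ← h3, one_mul, mul_zero, sub_zero] at h4
    refine ⟨s.1 0 1, fun x hx => ?_⟩
    rw [map_add, hs x hx]
    ext i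
    fin_cases i
    · simp only [← h2, _root_.Matrix.mulVec_fin_two, _root_.Nat.succ_eq_add_one, _root_.Nat.reduceAdd, _root_.Fin.isValue, _root_.one_mul, _root_.Fin.zero_eta, _root_.Pi.add_apply, _root_.Matrix.cons_val_zero]
      have h5 : g x 0 + g x 0 = 0 := CharTwo.add_self_eq_zero _
      have : g x 0 + s.1 0 1 * g x 1 + g x 0 = (g x 0 + g x 0) + s.1 0 1 * g x 1 := by ring
      rw [this, h5, zero_add]
    · simp only [← h3, h4, _root_.Matrix.mulVec_fin_two, _root_.Nat.succ_eq_add_one, _root_.Nat.reduceAdd, _root_.Fin.isValue, _root_.MulZeroClass.zero_mul, _root_.one_mul, _root_.zero_add, _root_.Fin.mk_one, _root_.Pi.add_apply, _root_.Matrix.cons_val_one, _root_.Matrix.cons_val_fin_one]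
      exact CharTwo.add_self_eq_zero _
  choose! κ hκ using key
  exact ⟨κ, hκ⟩

end Out

/-- the abstract computation: `ρ` is semilinear -/
theorem rho_mul {k : Type*} [Field k] {ι W : Type*} (ρ : k → k) (c κ κ' : ι → k)
    (ν ν' : W → k) (hc : ∀ d, ∃ i, c i = d) (hκ : ∃ i, κ i = 1) (hν : ∀ d, ∃ w, ν w = d)
    (h : ∀ i j w, ρ (κ j * c i * ν w) = κ' i * c j * ν' w) (x y : k) : ρ (x * y) * ρ 1 = ρ x * ρ y := by
  obtain ⟨j, hj⟩ := hκ
  obtain ⟨i, hi⟩ := hc x
  obtain ⟨i₁, hi₁⟩ := hc 1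
  obtain ⟨w, hw⟩ := hν y
  obtain ⟨w₁, hw₁⟩ := hν 1
  have h1 := h i j w
  have h2 := h i₁ j w₁
  have h3 := h i j w₁
  have h4 := h i₁ j w
  rw [hj, hi, hw, one_mul] at h1
  rw [hj, hi₁, hw₁, one_mul, mul_one] at h2
  rw [hj, hi, hw₁, one_mul, mul_one] at h3
  rw [hj, hi₁, hw, one_mul, one_mul] at h4
  rw [h1, h2, h3, h4]
  ring

/-- the coordinates: `S = Q`, `S' = t Q t⁻¹` -/
structure Cd {L : Subgroup Y} (Q : Subgroup L) (E F : AddSubgroup V) (t : Y) (k : Type) [Field k]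
    (g g' N N' : V →+ (Fin 2 → k)) (c c' : Y → k) (κ : k) : Prop where
  injX : ∀ x ∈ fx V Q, g x = 0 → x = 0
  injX' : ∀ x ∈ t • (fx V Q : AddSubgroup V), g' x = 0 → x = 0
  surjX : ∀ w, ∃ x ∈ fx V Q, g x = w
  memF : ∀ x ∈ fx V Q, (x ∈ F ↔ g x 1 = 0)
  memF' : ∀ x ∈ t • (fx V Q : AddSubgroup V), (x ∈ F ↔ g' x 1 = 0)
  gF : ∀ f ∈ F, g' f = g f
  memE : ∀ v, v ∈ E ↔ N v 1 = 0
  surjN : ∀ w, ∃ v, N v = w
  cN : ∀ q ∈ Q, ∀ v : V, g ((q : Y) • v + v) = c q • N v
  cN' : ∀ q ∈ Q, ∀ v : V, g' ((t * (q : Y) * t⁻¹) • v + v) = c' (t * (q : Y) * t⁻¹) • N' v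
  c_surj : ∀ d : k, ∃ q ∈ Q, c (q : Y) = d
  c'_surj : ∀ d : k, ∃ q ∈ Q, c' (t * (q : Y) * t⁻¹) = d
  c_ne : ∀ q ∈ Q, (q : Y) ≠ 1 → c (q : Y) ≠ 0
  c'_ne : ∀ q ∈ Q, (q : Y) ≠ 1 → c' (t * (q : Y) * t⁻¹) ≠ 0
  κ_ne : κ ≠ 0
  κX : ∀ q ∈ Q, ∀ x ∈ fx V Q, g ((t * (q : Y) * t⁻¹) • x + x) = ![κ * c' (t * (q : Y) * t⁻¹) * g x 1, 0]

namespace Out

variable {T : Sylow 2 Y} {M L : Subgroup Y} {A Q L₁ : Subgroup L} {R : Sylow 2 L} {E F : AddSubgroup V}
  {z : V} {t : Y} (o : Out T M L A Q L₁ R E F z t)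
include o

/-- `t⁻¹ A t ≤ A` -/
theorem tA_inv [Finite Y] {b : L} (hb : b ∈ A) : ∃ c ∈ A, (c : Y) = t⁻¹ * b * t := by
  have h1 : ∀ b ∈ A.map L.subtype, t * b * t⁻¹ ∈ A.map L.subtype := by
    rintro _ ⟨b, hb, rfl⟩
    obtain ⟨c, hc, h1⟩ := o.tA b hb
    exact ⟨c, hc, h1⟩
  have h2 : MulAut.conj t • A.map L.subtype = A.map L.subtype := by
    apply conj_eq_self_of_le
    intro y hy
    rw [mem_conj] at hy
    have := h1 _ hy
    have e : t * (t⁻¹ * y * t) * t⁻¹ = y := by group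
    rwa [e] at this
  have h3 : (b : Y) ∈ MulAut.conj t • A.map L.subtype := by rw [h2]; exact ⟨b, hb, rfl⟩
  rw [mem_conj] at h3
  obtain ⟨c, hc, h4⟩ := h3
  exact ⟨c, hc, h4⟩

theorem exists_cd [Finite Y] [Finite V] {K : Subgroup L} {k : Type} [Field k] [Finite k] [CharP k 2]
    {e : ↥(fx V Q) ≃+ (Fin 2 → k)} {φ : K ≃* Matrix.SpecialLinearGroup (Fin 2) k} (ok : OutK o K k e φ) :
    ∃ (g g' N N' : V →+ (Fin 2 → k)) (c c' : Y → k) (κ : k), Cd Q E F t k g g' N N' c c' κ ∧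
      (∀ x : ↥(fx V Q), g x = e x) ∧ ∃ q₀ ∈ Q, ∀ v, N v = g (q₀ • v + v) := by
  classical
  have h := o.hyp
  obtain ⟨g, hg, hge⟩ := o.exists_crd ok
  obtain ⟨q₀, hq₀, hq₀1⟩ := h.exists_q o.tk
  obtain ⟨c, hc, hcs, hcn⟩ := o.exists_c hg ok.card hq₀ hq₀1
  obtain ⟨κ, hκ⟩ := o.exists_κ hg
  set X : AddSubgroup V := fx V Q with hX
  let N : V →+ (Fin 2 → k) := g.comp (HE.dl (V := V) q₀)
  have hN : ∀ v, N v = g (q₀ • v + v) := fun _ => rfl
  have hNs : ∀ w, ∃ v, N v = w := by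
    intro w
    obtain ⟨x, hx, hxw⟩ := hg.surj w
    obtain ⟨v, hv⟩ := o.Qsurj q₀ hq₀ hq₀1 x hx
    exact ⟨v, by rw [hN, hv, hxw]⟩
  have hNE : ∀ v, v ∈ E ↔ N v 1 = 0 := by
    intro v
    rw [hN, ← hg.memF _ (o.QV q₀ hq₀ v)]
    constructor
    · intro hv
      exact h.loc.mem.EB q₀ (o.QA hq₀) v hv
    · intro hv
      by_contra hvE
      exact hq₀1 (h.loc.mem.inj v hvE q₀ (o.QA hq₀) hv)
  -- `t⁻¹ q t ∈ A`
  have htq : ∀ q : Q, ∃ b ∈ A, (b : Y) = t⁻¹ * ((q : L) : Y) * t := fun q => o.tA_inv (o.QA q.2)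
  choose tq htqA htq using htq
  have hqt : ∀ q : Q, ∃ b ∈ A, (b : Y) = t * ((q : L) : Y) * t⁻¹ := fun q => o.QtA q q.2
  choose qt hqtA hqt using hqt
  -- the vector `(α, 0)`
  have hfv : ∀ α : k, ∃ f ∈ F, g f = ![α, 0] := by
    intro α
    obtain ⟨x, hx, hx1⟩ := hg.surj ![α, 0]
    exact ⟨x, (hg.memF x hx).2 (by rw [hx1]; rfl), hx1⟩
  choose fv hfvF hfv using hfv
  have htF : ∀ f ∈ F, t⁻¹ • f ∈ F := by
    intro f hf
    rw [← mem_smul_as, o.tF]
    exact hf
  let ρ : k → k := fun α => g (t⁻¹ • fv α) 0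
  have hρ : ∀ f ∈ F, ρ (g f 0) = g (t⁻¹ • f) 0 := by
    intro f hf
    have h1 : fv (g f 0) = f := by
      have h2 : g (fv (g f 0) + f) = 0 := by
        rw [map_add, hfv]
        ext i
        fin_cases i
        · exact CharTwo.add_self_eq_zero _
        · change 0 + g f 1 = 0
          rw [(hg.memF f (o.FX hf)).1 hf, add_zero]
      exact h.eq_of_add (hg.inj _ ((fx V Q).add_mem (o.FX (hfvF _)) (o.FX hf)) h2)
    change g (t⁻¹ • fv (g f 0)) 0 = _
    rw [h1]
  have hρadd : ∀ α β, ρ (α + β) = ρ α + ρ β := by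
    intro α β
    have h1 := hρ (fv α + fv β) (F.add_mem (hfvF α) (hfvF β))
    have h2 : g (fv α + fv β) 0 = α + β := by
      rw [map_add, hfv, hfv]; rfl
    rw [h2, smul_add, map_add] at h1
    exact h1
  have hρ0 : ∀ α, ρ α = 0 → α = 0 := by
    intro α hα
    have h1 : t⁻¹ • fv α = 0 := by
      apply hg.inj _ (o.FX (htF _ (hfvF α)))
      ext i
      fin_cases i
      · exact hα
      · exact (hg.memF _ (o.FX (htF _ (hfvF α)))).1 (htF _ (hfvF α))
    rw [smul_eq_zero_iff_eq] at h1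
    have h2 := hfv α
    rw [h1, map_zero] at h2
    exact (congrFun h2 0).symm
  -- the key identity
  have hkey : ∀ (i j : Q) (v : V), ρ (κ (qt j) * c i * N v 1) = κ (tq i) * c j * N (t⁻¹ • v) 1 := by
    intro i j v
    -- `f = [[v, q_i], r_j]`
    set y := (i : L) • v + v with hy
    have hyX : y ∈ fx V Q := o.QV i i.2 v
    have hfF : qt j • y + y ∈ F := h.loc.mem.EB _ (hqtA j) y (h.beta.XE hyX)
    have h1 : g (qt j • y + y) 0 = κ (qt j) * c i * N v 1 := by
      rw [hκ _ (hqtA j) y hyX, hc i i.2 v]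
      change κ (qt j) * (c i * N v 1) = _
      ring
    rw [← h1, hρ _ hfF]
    -- the other side
    have hcomm : qt j • y + y = (i : L) • (qt j • v + v) + (qt j • v + v) := by
      rw [hy, smul_add, smul_add, ← mul_smul, ← mul_smul, h.loc.mem.comm _ (hqtA j) _ (o.QA i.2)]
      abel
    have hconj : t⁻¹ • (qt j • y + y) = tq i • ((j : L) • (t⁻¹ • v) + t⁻¹ • v) + ((j : L) • (t⁻¹ • v) + t⁻¹ • v) := by
      have h2 : ∀ w : V, t⁻¹ • (qt j • w) = (j : L) • (t⁻¹ • w) := by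
        intro w
        change t⁻¹ • ((qt j : Y) • w) = ((j : L) : Y) • (t⁻¹ • w)
        rw [hqt j, ← mul_smul, ← mul_smul]
        congr 1
        group
      have h3 : ∀ w : V, t⁻¹ • ((i : L) • w) = tq i • (t⁻¹ • w) := by
        intro w
        change t⁻¹ • (((i : L) : Y) • w) = (tq i : Y) • (t⁻¹ • w)
        rw [htq i, ← mul_smul, ← mul_smul]
        congr 1
        group
      rw [hcomm, smul_add, h3, smul_add t⁻¹ (qt j • v) v, h2]
    have hw := o.QV (j : L) j.2 (t⁻¹ • v)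
    rw [hconj, hκ _ (htqA i) _ hw, hc j j.2 (t⁻¹ • v)]
    change κ (tq i) * (c j * N (t⁻¹ • v) 1) = _
    ring
  -- `κ` is onto on `S'`
  have hκs : ∀ d : k, ∃ j : Q, κ (qt j) = d := by
    let f : Q → k := fun j => κ (qt j)
    have hf : Function.Injective f := by
      intro j j' hjj
      -- `qt j⁻¹ qt j'` is trivial on `X`
      have h1 : ∀ x ∈ fx V Q, qt j • x = qt j' • x := by
        intro x hx
        have h2 : g ((qt j • x + x) + (qt j' • x + x)) = 0 := by
          change κ (qt j) = κ (qt j') at hjj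
          rw [map_add, hκ _ (hqtA j) x hx, hκ _ (hqtA j') x hx, hjj]
          ext i
          fin_cases i
          · exact CharTwo.add_self_eq_zero _
          · exact add_zero _
        have h3 := h.eq_of_add (hg.inj _ ((fx V Q).add_mem ((fx V Q).add_mem (h.Xmem hx) hx)
          ((fx V Q).add_mem (h.Xmem hx) hx)) h2)
        exact add_right_cancel h3
      have h2 : (qt j')⁻¹ * qt j ∈ Q := by
        apply o.CL
        intro x hx
        rw [mul_smul, h1 x hx, inv_smul_smul]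
      have h3 : (((qt j')⁻¹ * qt j : L) : Y) = t * (((j' : L)⁻¹ * (j : L) : L) : Y) * t⁻¹ := by
        rw [coe_mul, coe_inv, hqt, hqt, coe_mul, coe_inv]
        group
      have h4 := o.inf1 _ h2 _ (mul_mem (inv_mem j'.2) j.2) h3
      have h5 : t * (((j' : L)⁻¹ * (j : L) : L) : Y) * t⁻¹ = 1 := by rw [← h3, h4]; rfl
      have h6 : (((j' : L)⁻¹ * (j : L) : L) : Y) = 1 := by
        have h7 : (((j' : L)⁻¹ * (j : L) : L) : Y) = t⁻¹ * (t * (((j' : L)⁻¹ * (j : L) : L) : Y) * t⁻¹) * t := by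
          group
        rw [h7, h5]; group
      have h7 : (j' : L)⁻¹ * (j : L) = 1 := Subtype.ext h6
      rw [inv_mul_eq_one] at h7
      exact Subtype.ext h7.symm
    exact ((Nat.bijective_iff_injective_and_card f).2 ⟨hf, by rw [o.cQ, ok.card]⟩).2
  have hcs' : ∀ d : k, ∃ i : Q, c i = d := by
    intro d
    obtain ⟨q, hq, h1⟩ := hcs d
    exact ⟨⟨q, hq⟩, h1⟩
  have hνs : ∀ d : k, ∃ v : V, N v 1 = d := by
    intro d
    obtain ⟨v, hv⟩ := hNs ![0, d]
    exact ⟨v, by rw [hv]; rfl⟩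
  have hmul := rho_mul ρ (fun i : Q => c i) (fun j : Q => κ (qt j)) (fun i : Q => κ (tq i)) (fun v : V => N v 1)
    (fun v : V => N (t⁻¹ • v) 1) hcs' (hκs 1) hνs hkey
  have hρ1 : ρ 1 ≠ 0 := fun h1 => one_ne_zero (hρ0 1 h1)
  let σ₀ : k →+* k :=
    { toFun := fun x => ρ x / ρ 1
      map_one' := div_self hρ1
      map_mul' := fun x y => by
        have := hmul x y
        field_simp
        rw [mul_comm, ← this]
        ring
      map_zero' := by
        have h1 := hρadd 0 0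
        rw [add_zero] at h1
        have h2 : ρ 0 = 0 := by
          have := h1
          rwa [left_eq_add] at this
        rw [h2, zero_div]
      map_add' := fun x y => by rw [hρadd, add_div] }
  have hσb : Function.Bijective σ₀ := ⟨σ₀.injective, Finite.surjective_of_injective σ₀.injective⟩
  let σ : k ≃+* k := RingEquiv.ofBijective σ₀ hσb
  have hσ : ∀ x, σ x = ρ x / ρ 1 := fun _ => rfl
  -- `g'`
  let τ₀ : (Fin 2 → k) →+ (Fin 2 → k) := AddMonoidHom.mk' (fun w i => σ.symm (w i / ρ 1)) (by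
    intro v w
    ext i
    change σ.symm ((v i + w i) / ρ 1) = _
    rw [add_div, map_add]; rfl)
  have hτ₀ : ∀ w i, τ₀ w i = σ.symm (w i / ρ 1) := fun _ _ => rfl
  have hτ₀inj : ∀ w, τ₀ w = 0 → w = 0 := by
    intro w hw
    ext i
    have h1 := congrFun hw i
    rw [hτ₀] at h1
    have h2 : w i / ρ 1 = 0 := (map_eq_zero_iff σ.symm σ.symm.injective).1 h1
    exact (div_eq_zero_iff.1 h2).resolve_right hρ1
  have hτ₀s : ∀ (d : k) w, τ₀ (d • w) = σ.symm d • τ₀ w := by
    intro d w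
    ext i
    change σ.symm (d * w i / ρ 1) = σ.symm d * σ.symm (w i / ρ 1)
    rw [← map_mul, mul_div_assoc]
  let tm : V →+ V := AddMonoidHom.mk' (fun v => t⁻¹ • v) (smul_add _)
  let g' : V →+ (Fin 2 → k) := (τ₀.comp g).comp tm
  let N' : V →+ (Fin 2 → k) := (τ₀.comp N).comp tm
  have hg' : ∀ v, g' v = τ₀ (g (t⁻¹ • v)) := fun _ => rfl
  have hN' : ∀ v, N' v = τ₀ (N (t⁻¹ • v)) := fun _ => rfl
  let cY : Y → k := fun y => if hy : y ∈ L then c ⟨y, hy⟩ else 0
  have hcY : ∀ q : L, cY q = c q := fun q => dif_pos q.2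
  let cY' : Y → k := fun y => σ.symm (cY (t⁻¹ * y * t))
  have hcY' : ∀ q : L, cY' (t * (q : Y) * t⁻¹) = σ.symm (c q) := by
    intro q
    have e1 : t⁻¹ * (t * (q : Y) * t⁻¹) * t = q := by group
    change σ.symm (cY (t⁻¹ * (t * (q : Y) * t⁻¹) * t)) = _
    rw [e1, hcY]
  have hts : ∀ (q : L) (v : V), t⁻¹ • ((t * (q : Y) * t⁻¹) • v + v) = q • (t⁻¹ • v) + t⁻¹ • v := by
    intro q v
    rw [smul_add]
    congr 1
    change _ = (q : Y) • (t⁻¹ • v)
    rw [← mul_smul, ← mul_smul]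
    congr 1
    group
  -- `κ_r = κ₀ c'(r)`
  obtain ⟨i₁, hi₁⟩ := hcs' 1
  obtain ⟨v₁, hv₁⟩ := hνs 1
  set κ₀ : k := σ.symm (κ (tq i₁) * N (t⁻¹ • v₁) 1 / ρ 1) with hκ₀
  have hκc : ∀ j : Q, κ (qt j) = κ₀ * σ.symm (c j) := by
    intro j
    have h1 := hkey i₁ j v₁
    rw [hi₁, hv₁, mul_one, mul_one] at h1
    have h2 : σ (κ (qt j)) = κ (tq i₁) * N (t⁻¹ • v₁) 1 / ρ 1 * c j := by
      rw [hσ, h1]; ring
    rw [← σ.symm_apply_apply (κ (qt j)), h2, map_mul]
  refine ⟨g, g', N, N', cY, cY', κ₀, ?_, hge, q₀, hq₀, hN⟩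
  exact
    { injX := hg.inj
      injX' := by
        intro x hx h1
        rw [hg'] at h1
        have h2 := hg.inj _ (mem_smul_as.1 hx) (hτ₀inj _ h1)
        rwa [smul_eq_zero_iff_eq] at h2
      surjX := hg.surj
      memF := hg.memF
      memF' := by
        intro x hx
        have h1 : x ∈ F ↔ t⁻¹ • x ∈ F := by
          rw [← mem_smul_as (g := t) (W := F), o.tF]
        rw [h1, hg.memF _ (mem_smul_as.1 hx), hg', hτ₀, map_eq_zero_iff σ.symm σ.symm.injective, div_eq_zero_iff]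
        exact ⟨Or.inl, fun h2 => h2.resolve_right hρ1⟩
      gF := by
        intro f hf
        ext i
        rw [hg', hτ₀]
        fin_cases i
        · change σ.symm (g (t⁻¹ • f) 0 / ρ 1) = g f 0
          rw [← hρ f hf, ← hσ, σ.symm_apply_apply]
        · change σ.symm (g (t⁻¹ • f) 1 / ρ 1) = g f 1
          rw [(hg.memF _ (o.FX (htF f hf))).1 (htF f hf), (hg.memF _ (o.FX hf)).1 hf, zero_div, map_zero]
      memE := hNE
      surjN := hNs
      cN := by
        intro q hq v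
        rw [hcY]
        exact hc q hq v
      cN' := by
        intro q hq v
        rw [hcY', hg', hts, hc q hq, hτ₀s, hN']
        rfl
      c_surj := by
        intro d
        obtain ⟨q, hq, h1⟩ := hcs d
        exact ⟨q, hq, by rw [hcY, h1]⟩
      c'_surj := by
        intro d
        obtain ⟨q, hq, h1⟩ := hcs (σ d)
        exact ⟨q, hq, by rw [hcY', h1, σ.symm_apply_apply]⟩
      c_ne := by
        intro q hq hq1
        rw [hcY]
        exact hcn q hq fun h1 => hq1 (by rw [h1]; rfl)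
      c'_ne := by
        intro q hq hq1
        rw [hcY', Ne, map_eq_zero_iff σ.symm σ.symm.injective]
        exact hcn q hq fun h1 => hq1 (by rw [h1]; rfl)
      κ_ne := by
        intro h1
        obtain ⟨j, hj⟩ := hκs 1
        rw [hκc, h1, zero_mul] at hj
        exact one_ne_zero hj.symm
      κX := by
        intro q hq x hx
        rw [hcY', ← hκc ⟨q, hq⟩, ← hκ _ (hqtA ⟨q, hq⟩) x hx, ← hqt ⟨q, hq⟩]
        rfl }

end Out

end Cfsg.Agent.Omega.NO1.B0

end

section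


/-!
# THEOREM B0 (bb OMEGA 18835, helper970), (8) (shortcut, helper321)

`Sp P` : `P ≤ A` totally isotropic, `|P| ≥ a`, with `v, v₁, v + v₁ ∉ E`, `[v, P] ≤ [v₁, P]`.  `Sp P ⟹ P = S` or `P = S^t`.
So `N_Y(A)` permutes `{S, S^t}`.
-/

set_option autoImplicit false
set_option linter.unusedSectionVars false
set_option linter.style.haveILetI false

namespace Cfsg.Agent.Omega.NO1.B0

open Subgroup Cfsg.Agent.Omega.NO1.AB
open scoped Pointwise

universe u

variable {Y : Type u} [Group Y] {V : Type u} [AddCommGroup V] [DistribMulAction Y V]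

/-- special points -/
structure Sp {L : Subgroup Y} (A : Subgroup L) (E : AddSubgroup V) (P : Subgroup Y) : Prop where
  le : P ≤ A.map L.subtype
  iso : ∀ p ∈ P, ∀ p' ∈ P, ∀ v : V, p' • (p • v + v) = p • v + v
  card : E.index ≤ Nat.card P
  sp : ∃ v v₁ : V, v ∉ E ∧ v₁ ∉ E ∧ v + v₁ ∉ E ∧ ∀ p ∈ P, ∃ p₁ ∈ P, p • v + v = p₁ • v₁ + v₁

theorem card_conj [Finite Y] (g : Y) (P : Subgroup Y) : Nat.card (MulAut.conj g • P : Subgroup Y) = Nat.card P :=
  (Nat.card_congr (Subgroup.equivSMul (MulAut.conj g) P).toEquiv).symm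

theorem conj_inv_conj (g : Y) (P : Subgroup Y) : MulAut.conj g⁻¹ • (MulAut.conj g • P) = P := by
  rw [← mul_smul, ← map_mul, inv_mul_cancel, map_one, one_smul]

namespace Out

variable {T : Sylow 2 Y} {M L : Subgroup Y} {A Q L₁ : Subgroup L} {R : Sylow 2 L} {E F : AddSubgroup V}
  {z : V} {t : Y} (o : Out T M L A Q L₁ R E F z t)
include o

theorem eq_of_add {v w : V} (h : v + w = 0) : v = w := o.hyp.eq_of_add h

/-- elements of `A` -/
theorem mem_A {p : Y} (hp : p ∈ A.map L.subtype) :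
    ∃ q ∈ Q, ∃ q' ∈ Q, p = q * (t * q' * t⁻¹) := by
  obtain ⟨b, hb, rfl⟩ := hp
  exact o.prod b hb

theorem exists_ne_E : ∃ v : V, v ∉ E := o.hyp.loc.mem.ne

/-- `[v, q] ∉ F` -/
theorem comm_not_F {q : L} (hq : q ∈ Q) (hq1 : q ≠ 1) {v : V} (hv : v ∉ E) :
    q • v + v ∉ F := fun h1 => hq1 (o.hyp.loc.mem.inj v hv q (o.QA hq) h1)

theorem tAY [Finite Y] : MulAut.conj t • A.map L.subtype = A.map L.subtype := by
  apply conj_eq_self_of_le
  intro y hy
  rw [mem_conj] at hy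
  obtain ⟨b, hb, h1⟩ := hy
  obtain ⟨c, hc, h2⟩ := o.tA b hb
  refine ⟨c, hc, ?_⟩
  change (c : Y) = y
  have h3 : (b : Y) = t⁻¹ * y * t := h1
  rw [h2, h3]
  group

/-- a totally isotropic subgroup meeting `S` is in `S` -/
theorem le_S {P : Subgroup Y} (hP : P ≤ A.map L.subtype)
    (iso : ∀ p ∈ P, ∀ p' ∈ P, ∀ v : V, p' • (p • v + v) = p • v + v) {q : L} (hq : q ∈ Q) (hq1 : q ≠ 1)
    (hqP : (q : Y) ∈ P) : P ≤ Q.map L.subtype := by
  intro p hp
  obtain ⟨b, hb, rfl⟩ := hP hp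
  obtain ⟨v, hv⟩ := o.exists_ne_E
  refine ⟨b, ?_, rfl⟩
  apply o.hyp.beta.cen (q • v + v) (o.QV q hq v) (o.comm_not_F hq hq1 hv) b hb
  exact iso _ hqP _ hp v

omit o in
theorem iso_conj {P : Subgroup Y} (g : Y) (iso : ∀ p ∈ P, ∀ p' ∈ P, ∀ v : V, p' • (p • v + v) = p • v + v) :
    ∀ p ∈ MulAut.conj g • P, ∀ p' ∈ MulAut.conj g • P, ∀ v : V, p' • (p • v + v) = p • v + v := by
  intro p hp p' hp' v
  rw [mem_conj] at hp hp'
  have h1 := iso _ hp _ hp' (g⁻¹ • v)
  have e1 : (g⁻¹ * p * g) • (g⁻¹ • v) + g⁻¹ • v = g⁻¹ • (p • v + v) := by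
    rw [smul_add, ← mul_smul, ← mul_smul]
    congr 2
    group
  have e2 : ∀ w : V, (g⁻¹ * p' * g) • (g⁻¹ • w) = g⁻¹ • (p' • w) := by
    intro w
    rw [← mul_smul, ← mul_smul]
    congr 1
    group
  rw [e1, e2] at h1
  exact smul_left_cancel _ h1

/-- a totally isotropic subgroup meeting `S^t` is in `S^t` -/
theorem le_S' [Finite Y] {P : Subgroup Y} (hP : P ≤ A.map L.subtype)
    (iso : ∀ p ∈ P, ∀ p' ∈ P, ∀ v : V, p' • (p • v + v) = p • v + v) {q : L} (hq : q ∈ Q) (hq1 : q ≠ 1)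
    (hqP : t * (q : Y) * t⁻¹ ∈ P) : P ≤ MulAut.conj t • Q.map L.subtype := by
  have h1 : MulAut.conj t⁻¹ • P ≤ A.map L.subtype := by
    rw [conj_le_iff, inv_inv, o.tAY]
    exact hP
  have h2 := o.le_S h1 (iso_conj t⁻¹ iso) hq hq1 (by
    rw [mem_conj, inv_inv]
    exact hqP)
  rw [conj_le_iff, inv_inv] at h2
  exact h2

theorem smul_F {g : Y} (hg : MulAut.conj g • A.map L.subtype = A.map L.subtype) (v : V) : g • v ∈ F ↔ v ∈ F := by
  have key : ∀ g : Y, MulAut.conj g • A.map L.subtype = A.map L.subtype → ∀ v ∈ F, g • v ∈ F := by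
    intro g hg v hv
    apply o.hyp.loc.mem.CB
    intro b hb
    have h1 : (b : Y) ∈ MulAut.conj g • A.map L.subtype := by rw [hg]; exact ⟨b, hb, rfl⟩
    rw [mem_conj] at h1
    obtain ⟨c, hc, h2⟩ := h1
    have h3 := o.hyp.loc.mem.FB c hc v hv
    change (c : Y) • v = v at h3
    have h4 : (c : Y) = g⁻¹ * b * g := h2
    rw [h4, mul_smul, mul_smul, inv_smul_eq_iff] at h3
    exact h3
  refine ⟨fun hv => ?_, key g hg v⟩
  have h1 := key g⁻¹ (by rw [← hg, conj_inv_conj]; exact hg.symm) _ hv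
  rwa [inv_smul_smul] at h1

theorem memE_iff {v : V} : v ∈ E ↔ ∀ b ∈ A, b • v + v ∈ F := by
  constructor
  · exact fun hv b hb => o.hyp.loc.mem.EB b hb v hv
  · intro hv
    by_contra hvE
    apply o.hyp.beta.ne
    rw [eq_bot_iff]
    intro b hb
    rw [mem_bot]
    exact o.hyp.loc.mem.inj v hvE b hb.1 (hv b hb.1)

theorem smul_E {g : Y} (hg : MulAut.conj g • A.map L.subtype = A.map L.subtype) (v : V) : g • v ∈ E ↔ v ∈ E := by
  have key : ∀ g : Y, MulAut.conj g • A.map L.subtype = A.map L.subtype → ∀ v ∈ E, g • v ∈ E := by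
    intro g hg v hv
    rw [o.memE_iff]
    intro b hb
    have h1 : (b : Y) ∈ MulAut.conj g • A.map L.subtype := by rw [hg]; exact ⟨b, hb, rfl⟩
    rw [mem_conj] at h1
    obtain ⟨c, hc, h2⟩ := h1
    have h3 := o.hyp.loc.mem.EB c hc v hv
    rw [← o.smul_F hg] at h3
    have h4 : (c : Y) = g⁻¹ * b * g := h2
    have h5 : g • (c • v + v) = b • (g • v) + g • v := by
      rw [smul_add]
      congr 1
      change g • ((c : Y) • v) = (b : Y) • (g • v)
      rw [h4, ← mul_smul, ← mul_smul]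
      congr 1
      group
    rwa [h5] at h3
  refine ⟨fun hv => ?_, key g hg v⟩
  have h1 := key g⁻¹ (by rw [← hg, conj_inv_conj]; exact hg.symm) _ hv
  rwa [inv_smul_smul] at h1

theorem Sp_conj [Finite Y] {P : Subgroup Y} (h : Sp A E P) {g : Y}
    (hg : MulAut.conj g • A.map L.subtype = A.map L.subtype) : Sp A E (MulAut.conj g • P) where
  le := by
    rw [← hg]
    exact conj_le_conj g h.le
  iso := iso_conj g h.iso
  card := by rw [card_conj]; exact h.card
  sp := by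
    obtain ⟨v, v₁, h1, h2, h3, h4⟩ := h.sp
    refine ⟨g • v, g • v₁, fun h5 => h1 ((o.smul_E hg _).1 h5), fun h5 => h2 ((o.smul_E hg _).1 h5), fun h5 => ?_, ?_⟩
    · rw [← smul_add] at h5
      exact h3 ((o.smul_E hg _).1 h5)
    · intro p hp
      rw [mem_conj] at hp
      obtain ⟨p₁, hp₁, h5⟩ := h4 _ hp
      refine ⟨_, conj_mem_conj hp₁, ?_⟩
      have e : ∀ (p : Y) (w : V), (g * p * g⁻¹) • (g • w) + g • w = g • (p • w + w) := by
        intro p w
        rw [smul_add]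
        congr 1
        rw [← mul_smul, ← mul_smul]
        congr 1
        group
      have e2 : p = g * (g⁻¹ * p * g) * g⁻¹ := by group
      rw [e, ← h5, ← e, ← e2]

section cd

variable {k : Type} [Field k] [Finite k] [CharP k 2] {g g' N N' : V →+ (Fin 2 → k)} {c c' : Y → k} {κ : k}
  (cd : Cd Q E F t k g g' N N' c c' κ)
include cd

theorem rX' {q : L} (hq : q ∈ Q) {x : V} (hx : x ∈ t • (fx V Q : AddSubgroup V)) : (t * (q : Y) * t⁻¹) • x = x := by
  rw [mem_smul_as] at hx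
  rw [mul_smul, mul_smul]
  have := hx q hq
  change (q : Y) • (t⁻¹ • x) = _ at this
  rw [this, smul_inv_smul]

theorem rVX' {q : L} (hq : q ∈ Q) (v : V) : (t * (q : Y) * t⁻¹) • v + v ∈ t • (fx V Q : AddSubgroup V) := by
  rw [mem_smul_as, smul_add, mul_smul, mul_smul, inv_smul_smul]
  exact o.QV q hq _

theorem rX_mem {q : L} (hq : q ∈ Q) {x : V} (hx : x ∈ fx V Q) : (t * (q : Y) * t⁻¹) • x + x ∈ F := by
  obtain ⟨b, hb, h1⟩ := o.QtA q hq
  rw [← h1]
  exact o.hyp.loc.mem.EB b hb x (o.hyp.beta.XE hx)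

theorem rcomm {q q' : L} (hq : q ∈ Q) (hq' : q' ∈ Q) : (q : Y) * (t * (q' : Y) * t⁻¹) = t * (q' : Y) * t⁻¹ * q := by
  obtain ⟨b, hb, h1⟩ := o.QtA q' hq'
  rw [← h1]
  exact congrArg Subtype.val (o.hyp.loc.mem.comm q (o.QA hq) b hb)

theorem expand {q q' : L} (hq : q ∈ Q) (hq' : q' ∈ Q) (v : V) :
    ((q : Y) * (t * (q' : Y) * t⁻¹)) • v + v = ((q : Y) • v + v) + ((t * (q' : Y) * t⁻¹) • v + v) +
      ((t * (q' : Y) * t⁻¹) • ((q : Y) • v + v) + ((q : Y) • v + v)) := by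
  set r := t * (q' : Y) * t⁻¹ with hr
  rw [o.rcomm cd hq hq', mul_smul, smul_add]
  have h1 := o.two (r • v)
  have h2 := o.two ((q : Y) • v)
  have h3 := o.two v
  have : (q : Y) • v + v + (r • v + v) + (r • (q : Y) • v + r • v + ((q : Y) • v + v)) =
    r • (q : Y) • v + v + (((q : Y) • v + (q : Y) • v) + (r • v + r • v) + (v + v)) := by abel
  rw [this, h1, h2, h3, add_zero, add_zero, add_zero]

/-- `[[v, q], r]` in coordinates -/
theorem g_qr {q q' : L} (hq : q ∈ Q) (hq' : q' ∈ Q) (v : V) :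
    g ((t * (q' : Y) * t⁻¹) • ((q : Y) • v + v) + ((q : Y) • v + v)) =
      ![κ * c' (t * (q' : Y) * t⁻¹) * (c (q : Y) * N v 1), 0] := by
  have hx : (q : Y) • v + v ∈ fx V Q := o.QV q hq v
  rw [cd.κX q' hq' _ hx, cd.cN q hq v]
  rfl

theorem c_inj {q q₁ : L} (hq : q ∈ Q) (hq₁ : q₁ ∈ Q) (h : c (q : Y) = c (q₁ : Y)) : q = q₁ := by
  have h1 : ∀ v : V, (q : Y) • v = (q₁ : Y) • v := by
    intro v
    have h2 : g (((q : Y) • v + v) + ((q₁ : Y) • v + v)) = 0 := by
      rw [map_add, cd.cN q hq, cd.cN q₁ hq₁, h, ← cd.cN q₁ hq₁, ← map_add, o.two, map_zero]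
    have h3 := o.eq_of_add (cd.injX _ ((fx V Q).add_mem (o.QV q hq v) (o.QV q₁ hq₁ v)) h2)
    exact add_right_cancel h3
  have h4 : (q : Y)⁻¹ * q₁ = 1 := by
    apply o.hyp.faith
    intro v
    rw [mul_smul, ← h1, inv_smul_smul]
  exact Subtype.ext (inv_mul_eq_one.1 h4)

theorem c'_inj {q q₁ : L} (hq : q ∈ Q) (hq₁ : q₁ ∈ Q)
    (h : c' (t * (q : Y) * t⁻¹) = c' (t * (q₁ : Y) * t⁻¹)) : q = q₁ := by
  have h1 : ∀ v : V, (t * (q : Y) * t⁻¹) • v = (t * (q₁ : Y) * t⁻¹) • v := by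
    intro v
    have h2 : g' (((t * (q : Y) * t⁻¹) • v + v) + ((t * (q₁ : Y) * t⁻¹) • v + v)) = 0 := by
      rw [map_add, cd.cN' q hq, cd.cN' q₁ hq₁, h, ← cd.cN' q₁ hq₁, ← map_add, o.two, map_zero]
    have h3 := o.eq_of_add (cd.injX' _ ((t • (fx V Q : AddSubgroup V)).add_mem (o.rVX' cd hq v) (o.rVX' cd hq₁ v)) h2)
    exact add_right_cancel h3
  have h4 : (t * (q : Y) * t⁻¹)⁻¹ * (t * (q₁ : Y) * t⁻¹) = 1 := by
    apply o.hyp.faith
    intro v
    rw [mul_smul, ← h1, inv_smul_smul]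
  have h5 := inv_mul_eq_one.1 h4
  have h6 : (q : Y) = q₁ := mul_left_cancel (mul_right_cancel h5)
  exact Subtype.ext h6

/-- isotropy in coordinates -/
theorem iso_iff {q q' q₁ q₁' : L} (hq : q ∈ Q) (hq' : q' ∈ Q) (hq₁ : q₁ ∈ Q) (hq₁' : q₁' ∈ Q)
    (iso : ∀ v : V, ((q₁ : Y) * (t * (q₁' : Y) * t⁻¹)) • (((q : Y) * (t * (q' : Y) * t⁻¹)) • v + v) =
      ((q : Y) * (t * (q' : Y) * t⁻¹)) • v + v) :
    c' (t * (q₁' : Y) * t⁻¹) * c (q : Y) = c' (t * (q' : Y) * t⁻¹) * c (q₁ : Y) := by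
  obtain ⟨v, hv⟩ := o.exists_ne_E
  have hν : N v 1 ≠ 0 := fun h1 => hv ((cd.memE v).2 h1)
  set r := t * (q' : Y) * t⁻¹ with hr
  set r₁ := t * (q₁' : Y) * t⁻¹ with hr₁
  set x := (q : Y) • v + v with hx
  set x' := r • v + v with hx'
  set f := r • x + x with hf
  have hxX : x ∈ fx V Q := o.QV q hq v
  have hx'X : x' ∈ t • (fx V Q : AddSubgroup V) := o.rVX' cd hq' v
  have hfF : f ∈ F := o.rX_mem cd hq' hxX
  have h1 : ((q : Y) * r) • v + v = x + x' + f := o.expand cd hq hq' v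
  have h2 := iso v
  rw [h1, smul_add, smul_add] at h2
  -- `p₁ x = r₁ x`
  have h3 : ((q₁ : Y) * r₁) • x = r₁ • x := by
    rw [mul_smul]
    have h4 : r₁ • x ∈ fx V Q := by
      have := o.rX_mem cd hq₁' hxX
      exact (AddSubgroup.add_mem_cancel_right _ hxX).1 (o.FX this)
    exact h4 q₁ hq₁
  have h4 : ((q₁ : Y) * r₁) • x' = (q₁ : Y) • x' := by
    rw [mul_smul, o.rX' cd hq₁' hx'X]
  have h5 : ((q₁ : Y) * r₁) • f = f := by
    have h6 : r₁ • f = f := by
      obtain ⟨b, hb, h7⟩ := o.QtA q₁' hq₁'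
      rw [hr₁, ← h7]
      exact o.hyp.loc.mem.FB b hb f hfF
    rw [mul_smul, h6]
    exact o.FX hfF q₁ hq₁
  rw [h3, h4, h5] at h2
  have h6 : (r₁ • x + x) + ((q₁ : Y) • x' + x') = 0 := by
    have h7 : r₁ • x + (q₁ : Y) • x' = x + x' := add_right_cancel h2
    have : r₁ • x + x + ((q₁ : Y) • x' + x') = (r₁ • x + (q₁ : Y) • x') + (x + x') := by abel
    rw [this, h7, o.two]
  -- `[[v, r], q₁] = [[v, q₁], r]`
  have h7 : (q₁ : Y) • x' + x' = r • ((q₁ : Y) • v + v) + ((q₁ : Y) • v + v) := by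
    rw [hx', smul_add, smul_add, ← mul_smul, ← mul_smul, hr, o.rcomm cd hq₁ hq']
    abel
  rw [h7] at h6
  have h8 := congrArg g h6
  rw [map_zero, map_add, hr₁, hx, hr, o.g_qr cd hq hq₁', o.g_qr cd hq₁ hq'] at h8
  have h9 := congrFun h8 0
  change κ * c' (t * (q₁' : Y) * t⁻¹) * (c (q : Y) * N v 1) + κ * c' (t * (q' : Y) * t⁻¹) * (c (q₁ : Y) * N v 1) = 0 at h9
  have h10 : (κ * N v 1) * (c' (t * (q₁' : Y) * t⁻¹) * c (q : Y)) =
      (κ * N v 1) * (c' (t * (q' : Y) * t⁻¹) * c (q₁ : Y)) := by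
    have h11 := CharTwo.add_eq_zero.1 h9
    calc (κ * N v 1) * (c' (t * (q₁' : Y) * t⁻¹) * c (q : Y))
        = κ * c' (t * (q₁' : Y) * t⁻¹) * (c (q : Y) * N v 1) := by ring
      _ = _ := h11
      _ = _ := by ring
  exact mul_left_cancel₀ (mul_ne_zero cd.κ_ne hν) h10

/-- the computation: `p = q r`, `p₁ = q₁ r₁` with `[v, p] = [v₁, p₁]` -/
theorem comp_eq [Finite Y] [Finite V] {q q' q₁ q₁' : L} (hq : q ∈ Q) (hq' : q' ∈ Q) (hq₁ : q₁ ∈ Q) (hq₁' : q₁' ∈ Q)
    {v v₁ : V} (he : ((q : Y) * (t * (q' : Y) * t⁻¹)) • v + v = ((q₁ : Y) * (t * (q₁' : Y) * t⁻¹)) • v₁ + v₁) :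
    c (q : Y) * N v 1 + c (q₁ : Y) * N v₁ 1 = 0 ∧
      (c (q : Y) * N v 0 + c (q₁ : Y) * N v₁ 0) +
        (c' (t * (q' : Y) * t⁻¹) * N' v 0 + c' (t * (q₁' : Y) * t⁻¹) * N' v₁ 0) +
        (κ * c' (t * (q' : Y) * t⁻¹) * (c (q : Y) * N v 1) +
          κ * c' (t * (q₁' : Y) * t⁻¹) * (c (q₁ : Y) * N v₁ 1)) = 0 := by
  rw [o.expand cd hq hq', o.expand cd hq₁ hq₁'] at he
  set x := (q : Y) • v + v with hx
  set x₁ := (q₁ : Y) • v₁ + v₁ with hx₁
  set r := t * (q' : Y) * t⁻¹ with hr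
  set r₁ := t * (q₁' : Y) * t⁻¹ with hr₁
  set x' := r • v + v with hx'
  set x₁' := r₁ • v₁ + v₁ with hx₁'
  set f := r • x + x with hf
  set f₁ := r₁ • x₁ + x₁ with hf₁
  have hxX : x ∈ fx V Q := o.QV q hq v
  have hx₁X : x₁ ∈ fx V Q := o.QV q₁ hq₁ v₁
  have hx'X : x' ∈ t • (fx V Q : AddSubgroup V) := o.rVX' cd hq' v
  have hx₁'X : x₁' ∈ t • (fx V Q : AddSubgroup V) := o.rVX' cd hq₁' v₁
  have hfF : f ∈ F := o.rX_mem cd hq' hxX
  have hf₁F : f₁ ∈ F := o.rX_mem cd hq₁' hx₁X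
  have hFX' : F ≤ t • (fx V Q : AddSubgroup V) := by
    rw [← o.infF]; exact inf_le_right
  -- `u + u' + w = 0`
  have hsum : (x + x₁) + (x' + x₁') + (f + f₁) = 0 := by
    have : (x + x₁) + (x' + x₁') + (f + f₁) = (x + x' + f) + (x₁ + x₁' + f₁) := by abel
    rw [this, he, o.two]
  have hu : x + x₁ ∈ F := by
    rw [← o.infF]
    refine ⟨(fx V Q).add_mem hxX hx₁X, ?_⟩
    have h1 : x + x₁ = (x' + x₁') + (f + f₁) := o.eq_of_add (by rw [← add_assoc]; exact hsum)
    rw [h1]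
    exact AddSubgroup.add_mem _ (AddSubgroup.add_mem _ hx'X hx₁'X) (hFX' (F.add_mem hfF hf₁F))
  have hu' : x' + x₁' ∈ F := by
    have h1 : x' + x₁' = (x + x₁) + (f + f₁) := by
      apply o.eq_of_add
      have : x' + x₁' + (x + x₁ + (f + f₁)) = (x + x₁) + (x' + x₁') + (f + f₁) := by abel
      rw [this, hsum]
    rw [h1]
    exact F.add_mem hu (F.add_mem hfF hf₁F)
  have g1 : g (x + x₁) = c (q : Y) • N v + c (q₁ : Y) • N v₁ := by
    rw [map_add, hx, hx₁, cd.cN q hq, cd.cN q₁ hq₁]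
  have g2 : g (x' + x₁') = c' r • N' v + c' r₁ • N' v₁ := by
    rw [← cd.gF _ hu', map_add, hx', hx₁', hr, hr₁, cd.cN' q' hq', cd.cN' q₁' hq₁']
  have g3 : g (f + f₁) = ![κ * c' r * (c (q : Y) * N v 1) + κ * c' r₁ * (c (q₁ : Y) * N v₁ 1), 0] := by
    rw [map_add, hf, hf₁, hx, hx₁, hr, hr₁, o.g_qr cd hq hq', o.g_qr cd hq₁ hq₁', add_vec, add_zero]
  constructor
  · have h1 := (cd.memF _ (o.FX hu)).1 hu
    rw [g1] at h1
    exact h1
  · have h1 := congrArg g hsum
    rw [map_zero, map_add, map_add, g1, g2, g3] at h1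
    exact congrFun h1 0

/-- **special points are `S` and `S^t`** -/
theorem sp_cases [Finite Y] [Finite V] (ha : 4 ≤ E.index) (hk : Nat.card k = E.index) {P : Subgroup Y}
    (h : Sp A E P) : P = Q.map L.subtype ∨ P = MulAut.conj t • Q.map L.subtype := by
  have hcQ : Nat.card (Q.map L.subtype) = E.index := by
    rw [← o.cQ]
    exact Nat.card_congr (Q.equivMapOfInjective _ L.subtype_injective).symm.toEquiv
  by_cases h1 : ∃ q ∈ Q, q ≠ 1 ∧ (q : Y) ∈ P
  · obtain ⟨q, hq, hq1, hqP⟩ := h1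
    left
    exact eq_of_le_of_card_ge (o.le_S h.le h.iso hq hq1 hqP) (by rw [hcQ]; exact h.card)
  by_cases h2 : ∃ q ∈ Q, q ≠ 1 ∧ t * (q : Y) * t⁻¹ ∈ P
  · obtain ⟨q, hq, hq1, hqP⟩ := h2
    right
    exact eq_of_le_of_card_ge (o.le_S' h.le h.iso hq hq1 hqP) (by rw [card_conj, hcQ]; exact h.card)
  exfalso
  push Not at h1 h2
  -- `p₀`
  have hPc : 1 < Nat.card P := by have := h.card; omega
  haveI hPn : Nontrivial P := Finite.one_lt_card_iff_nontrivial.1 hPc
  obtain ⟨⟨p₀, hp₀⟩, hp₀1⟩ := exists_ne (1 : P)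
  have hp₀1' : p₀ ≠ 1 := fun h3 => hp₀1 (Subtype.ext h3)
  obtain ⟨q, hq, q', hq', he₀⟩ := o.mem_A (h.le hp₀)
  have hq1 : q ≠ 1 := by
    rintro rfl
    rw [coe_one, one_mul] at he₀
    by_cases hq'1 : q' = 1
    · apply hp₀1'
      rw [he₀, hq'1]; simp
    · exact h2 q' hq' hq'1 (by rw [← he₀]; exact hp₀)
  have hcq : c (q : Y) ≠ 0 := cd.c_ne q hq fun h3 => hq1 (Subtype.ext h3)
  have hq'1 : q' ≠ 1 := by
    rintro rfl
    have h3 : p₀ = q := by rw [he₀]; simp
    exact h1 q hq hq1 (by rw [← h3]; exact hp₀)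
  have hc'q : c' (t * (q' : Y) * t⁻¹) ≠ 0 := cd.c'_ne q' hq' fun h3 => hq'1 (Subtype.ext h3)
  -- decomposition of the elements of `P`
  have hdec : ∀ p : P, ∃ q₁ ∈ Q, ∃ q₁' ∈ Q, (p : Y) = q₁ * (t * q₁' * t⁻¹) := fun p => o.mem_A (h.le p.2)
  choose a haQ b hbQ hab using hdec
  have hrel : ∀ p : P, c' (t * (b p : Y) * t⁻¹) * c (q : Y) = c' (t * (q' : Y) * t⁻¹) * c (a p : Y) := by
    intro p
    apply o.iso_iff cd hq hq' (haQ p) (hbQ p)
    intro v
    rw [← hab, ← he₀]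
    exact h.iso _ hp₀ _ p.2 v
  let f : P → k := fun p => c (a p : Y) / c (q : Y)
  have hf : Function.Injective f := by
    intro p p₁ hpp
    have h3 : c (a p : Y) = c (a p₁ : Y) := by
      have : c (a p : Y) / c (q : Y) = c (a p₁ : Y) / c (q : Y) := hpp
      field_simp at this
      exact this
    have h4 := o.c_inj cd (haQ p) (haQ p₁) h3
    have h5 : c' (t * (b p : Y) * t⁻¹) = c' (t * (b p₁ : Y) * t⁻¹) := by
      apply mul_right_cancel₀ hcq
      rw [hrel, hrel, h3]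
    have h6 := o.c'_inj cd (hbQ p) (hbQ p₁) h5
    apply Subtype.ext
    rw [hab p, hab p₁, h4, h6]
  have hfs : Function.Surjective f := (hf.bijective_of_nat_card_le (by rw [hk]; exact h.card)).2
  have hca : ∀ p : P, c (a p : Y) = f p * c (q : Y) := fun p => (div_mul_cancel₀ _ hcq).symm
  have hc'b : ∀ p : P, c' (t * (b p : Y) * t⁻¹) = f p * c' (t * (q' : Y) * t⁻¹) := by
    intro p
    apply mul_right_cancel₀ hcq
    rw [hrel, hca]; ring
  obtain ⟨v, v₁, hv, hv₁, hvv, hsp⟩ := h.sp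
  have hν : N v 1 ≠ 0 := fun h3 => hv ((cd.memE v).2 h3)
  have hν₁ : N v₁ 1 ≠ 0 := fun h3 => hv₁ ((cd.memE v₁).2 h3)
  set ν := N v 1 with hνd
  set ν₁ := N v₁ 1 with hν₁d
  set cq := c (q : Y) with hcqd
  set cr := c' (t * (q' : Y) * t⁻¹) with hcrd
  -- the polynomial identity
  have hpoly : ∀ d : k, d * (cq * (N v 0 + ν / ν₁ * N v₁ 0) + cr * (N' v 0 + ν / ν₁ * N' v₁ 0)) +
      d ^ 2 * (κ * cr * cq * (ν * (1 + ν / ν₁))) = 0 := by
    intro d
    obtain ⟨p, hp⟩ := hfs d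
    obtain ⟨p₁, hp₁, he⟩ := hsp p p.2
    have he' := he
    rw [hab p, show p₁ = ((⟨p₁, hp₁⟩ : P) : Y) from rfl, hab ⟨p₁, hp₁⟩] at he'
    obtain ⟨h3, h4⟩ := o.comp_eq cd (haQ p) (hbQ p) (haQ ⟨p₁, hp₁⟩) (hbQ ⟨p₁, hp₁⟩) he'
    set d₁ := f ⟨p₁, hp₁⟩ with hd₁
    rw [hca, hca, hp, ← hd₁, ← hνd, ← hν₁d] at h3
    rw [hca, hca, hc'b, hc'b, hp, ← hd₁, ← hνd, ← hν₁d] at h4
    have h5 : d₁ = d * (ν / ν₁) := by
      have h6 : d * ν = d₁ * ν₁ := by
        apply mul_right_cancel₀ hcq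
        have h7 := CharTwo.add_eq_zero.1 h3
        calc d * ν * cq = d * cq * ν := by ring
          _ = d₁ * cq * ν₁ := h7
          _ = _ := by ring
      field_simp
      exact h6.symm
    rw [h5] at h4
    rw [← h4]
    field_simp
  -- `d₀ ≠ 0, 1`
  obtain ⟨d₀, hd₀, hd₀1⟩ : ∃ d₀ : k, d₀ ≠ 0 ∧ d₀ ≠ 1 := by
    by_contra hc
    push Not at hc
    have h3 : (Set.univ : Set k) ⊆ {0, 1} := by
      intro d _
      by_cases h4 : d = 0
      · exact Or.inl h4
      · exact Or.inr (hc d h4)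
    have h4 := Set.ncard_le_ncard h3 (Set.toFinite _)
    rw [Set.ncard_univ, hk] at h4
    have h5 : ({0, 1} : Set k).ncard ≤ 2 := (Set.ncard_insert_le _ _).trans (by rw [Set.ncard_singleton])
    omega
  set m := cq * (N v 0 + ν / ν₁ * N v₁ 0) + cr * (N' v 0 + ν / ν₁ * N' v₁ 0) with hm
  set bb := κ * cr * cq * (ν * (1 + ν / ν₁)) with hbb
  have e1 := hpoly 1
  have e2 := hpoly d₀
  have h3 : bb = 0 := by
    have h4 : m = bb := by
      rw [one_mul, one_pow, one_mul] at e1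
      exact CharTwo.add_eq_zero.1 e1
    rw [h4] at e2
    have h5 : d₀ * (1 + d₀) * bb = 0 := by rw [← e2]; ring
    have h6 : (1 : k) + d₀ ≠ 0 := fun h7 => hd₀1 (CharTwo.add_eq_zero.1 h7).symm
    exact (mul_eq_zero.1 h5).resolve_left (mul_ne_zero hd₀ h6)
  have h4 : 1 + ν / ν₁ = 0 := by
    have h5 : κ * cr * cq * ν ≠ 0 := mul_ne_zero (mul_ne_zero (mul_ne_zero cd.κ_ne hc'q) hcq) hν
    have h6 : κ * cr * cq * ν * (1 + ν / ν₁) = 0 := by rw [← h3, hbb]; ring
    exact (mul_eq_zero.1 h6).resolve_left h5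
  apply hvv
  rw [cd.memE, map_add]
  change N v 1 + N v₁ 1 = 0
  rw [← hνd, ← hν₁d]
  have h5 : (1 + ν / ν₁) * ν₁ = 0 := by rw [h4, zero_mul]
  rw [add_mul, one_mul, div_mul_cancel₀ _ hν₁] at h5
  rw [add_comm]; exact h5

/-- `S` is special -/
theorem sp_S [Finite Y] [Finite V] (ha : 4 ≤ E.index) (hk : Nat.card k = E.index) :
    Sp A E (Q.map L.subtype) where
  le := map_mono o.QA
  iso := by
    rintro _ ⟨q, hq, rfl⟩ _ ⟨q', hq', rfl⟩ v
    exact o.QV q hq v q' hq'
  card := by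
    rw [← o.cQ]
    exact (Nat.card_congr (Q.equivMapOfInjective _ L.subtype_injective).symm.toEquiv).ge
  sp := by
    obtain ⟨d₀, hd₀, hd₀1⟩ : ∃ d₀ : k, d₀ ≠ 0 ∧ d₀ ≠ 1 := by
      by_contra hc
      push Not at hc
      have h3 : (Set.univ : Set k) ⊆ {0, 1} := by
        intro d _
        by_cases h4 : d = 0
        · exact Or.inl h4
        · exact Or.inr (hc d h4)
      have h4 := Set.ncard_le_ncard h3 (Set.toFinite _)
      rw [Set.ncard_univ, hk] at h4
      have h5 : ({0, 1} : Set k).ncard ≤ 2 := (Set.ncard_insert_le _ _).trans (by rw [Set.ncard_singleton])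
      omega
    obtain ⟨v, hv⟩ := o.exists_ne_E
    have hν : N v 1 ≠ 0 := fun h3 => hv ((cd.memE v).2 h3)
    obtain ⟨v₁, hv₁⟩ := cd.surjN (d₀ • N v)
    refine ⟨v, v₁, hv, fun h1 => ?_, fun h1 => ?_, ?_⟩
    · rw [cd.memE, hv₁] at h1
      exact mul_ne_zero hd₀ hν h1
    · rw [cd.memE, map_add, hv₁] at h1
      have h2 : N v 1 + d₀ * N v 1 = 0 := h1
      have h3 : (1 + d₀) * N v 1 = 0 := by rw [← h2]; ring
      exact hd₀1 (CharTwo.add_eq_zero.1 ((mul_eq_zero.1 h3).resolve_right hν)).symm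
    · rintro _ ⟨q, hq, rfl⟩
      obtain ⟨q₁, hq₁, h1⟩ := cd.c_surj (c (q : Y) * d₀⁻¹)
      refine ⟨q₁, ⟨q₁, hq₁, rfl⟩, ?_⟩
      apply o.eq_of_add
      apply cd.injX _ ((fx V Q).add_mem (o.QV q hq v) (o.QV q₁ hq₁ v₁))
      change g (((q : Y) • v + v) + ((q₁ : Y) • v₁ + v₁)) = 0
      rw [map_add, cd.cN q hq, cd.cN q₁ hq₁, h1, hv₁, smul_smul, mul_assoc, inv_mul_cancel₀ hd₀, mul_one]
      ext i
      exact CharTwo.add_self_eq_zero _

/-- **`N_Y(A)` permutes `{S, S^t}`** -/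
theorem perm [Finite Y] [Finite V] (ha : 4 ≤ E.index) (hk : Nat.card k = E.index) {y : Y}
    (hy : MulAut.conj y • A.map L.subtype = A.map L.subtype) :
    MulAut.conj y • Q.map L.subtype = Q.map L.subtype ∨
      MulAut.conj y • Q.map L.subtype = MulAut.conj t • Q.map L.subtype :=
  o.sp_cases cd ha hk (o.Sp_conj (o.sp_S cd ha hk) hy)

theorem perm' [Finite Y] [Finite V] (ha : 4 ≤ E.index) (hk : Nat.card k = E.index) {y : Y}
    (hy : MulAut.conj y • A.map L.subtype = A.map L.subtype) :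
    MulAut.conj y • MulAut.conj t • Q.map L.subtype = Q.map L.subtype ∨
      MulAut.conj y • MulAut.conj t • Q.map L.subtype = MulAut.conj t • Q.map L.subtype := by
  apply o.sp_cases cd ha hk
  exact o.Sp_conj (o.Sp_conj (o.sp_S cd ha hk) o.tAY) hy

end cd

/-- **`N_Y(A)` permutes `{S, S^t}`** -/
theorem perm_S [Finite Y] [Finite V] (ha : 4 ≤ E.index) {y : Y}
    (hy : MulAut.conj y • A.map L.subtype = A.map L.subtype) :
    (MulAut.conj y • Q.map L.subtype = Q.map L.subtype ∧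
      MulAut.conj y • MulAut.conj t • Q.map L.subtype = MulAut.conj t • Q.map L.subtype) ∨
    (MulAut.conj y • Q.map L.subtype = MulAut.conj t • Q.map L.subtype ∧
      MulAut.conj y • MulAut.conj t • Q.map L.subtype = Q.map L.subtype) := by
  obtain ⟨k, i1, i2, i3, e, K, φ, ok, -⟩ := o.exists_K
  obtain ⟨g, g', N, N', c, c', κ, cd, -, -⟩ := o.exists_cd ok
  have hne : Q.map L.subtype ≠ MulAut.conj t • Q.map L.subtype := by
    intro h1
    obtain ⟨q, hq, hq1⟩ := o.hyp.exists_q o.tk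
    have h2 : (q : Y) ∈ Q.map L.subtype := ⟨q, hq, rfl⟩
    rw [h1, mem_conj] at h2
    obtain ⟨q', hq', h3⟩ := h2
    apply hq1
    apply o.inf1 q hq q' hq'
    have h4 : (q' : Y) = t⁻¹ * q * t := h3
    rw [h4]; group
  rcases o.perm cd ha ok.card hy with h1 | h1 <;> rcases o.perm' cd ha ok.card hy with h2 | h2
  · exfalso
    rw [← h1] at h2
    have h3 := congrArg (fun P => MulAut.conj y⁻¹ • P) h2
    simp only [conj_inv_conj] at h3
    rw [h1] at h3
    exact hne h3.symm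
  · exact Or.inl ⟨h1, h2⟩
  · exact Or.inr ⟨h1, h2⟩
  · exfalso
    rw [← h1] at h2
    have h3 := congrArg (fun P => MulAut.conj y⁻¹ • P) h2
    simp only [conj_inv_conj] at h3
    exact hne (h3.symm.trans h1)

end Out

end Cfsg.Agent.Omega.NO1.B0

end

end
end

-- part: Mrg/Omega/NOne/SU/QuadFacts
section
prune_inst 0xf1307744742200000000050432000024780001000020800028800e020b0983408440090006801002180e80802800002813000040426000000e000000000600000000120480080000020080000080400000000000000000000000000000000000000000000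
set_option linter.all false
open scoped Cfsg.Agent.FastGrp


/-!
# Facts on the quadratic extension `F/k`
-/

set_option autoImplicit false
set_option linter.unusedSectionVars false
set_option linter.unusedVariables false

namespace Cfsg.Agent.Omega.NOne.SU.Quad

variable {k F : Type*} [Field k] [Field F] [Algebra k F] (T : Quad k F)
include T

theorem finF : Finite F := by
  have h := T.card
  have h4 := T.four
  apply Nat.finite_of_card_ne_zero
  rw [h]
  positivity

theorem fink : Finite k := by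
  have h4 := T.four
  exact Nat.finite_of_card_ne_zero (by omega)

theorem sg_alg (a : k) : T.sg (algebraMap k F a) = algebraMap k F a := T.sg.commutes a

theorem twoF (h2 : (2 : k) = 0) : (2 : F) = 0 := by
  have := congrArg (algebraMap k F) h2
  rw [map_ofNat, map_zero] at this
  exact this

theorem add_self {h2 : (2 : k) = 0} (x : F) : x + x = 0 := by
  rw [← two_mul, T.twoF h2, zero_mul]

theorem add_selfk {h2 : (2 : k) = 0} (x : k) : x + x = 0 := by
  rw [← two_mul, h2, zero_mul]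

theorem exists_ne : ∃ x, T.sg x ≠ x := by
  by_contra hcon
  push Not at hcon
  have hs : Function.Surjective (algebraMap k F) := fun x => T.fix x (hcon x)
  have := T.fink
  have h1 := Nat.card_le_card_of_surjective _ hs
  have h2 := T.card
  have h4 := T.four
  rw [h2, pow_two] at h1
  nlinarith

theorem tr_mul_alg (x : F) (a : k) : T.tr (x * algebraMap k F a) = T.tr x * a := by
  rw [mul_comm x, ← Algebra.smul_def, map_smul, smul_eq_mul, mul_comm]

theorem alg_inj' : Function.Injective (algebraMap k F) := (algebraMap k F).injective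

theorem tr_sg' (x : F) : T.tr (T.sg x) = T.tr x := by
  apply T.alg_inj'
  rw [T.tr_eq, T.tr_eq, T.sg_sg, add_comm]

theorem nm_mul (x y : F) : T.nm (x * y) = T.nm x * T.nm y := by
  apply T.alg_inj'
  rw [T.nm_eq, map_mul, map_mul, T.nm_eq, T.nm_eq]
  ring

theorem nm_one : T.nm 1 = 1 := by
  apply T.alg_inj'
  rw [T.nm_eq]
  simp

theorem nm_zero : T.nm 0 = 0 := by
  apply T.alg_inj'
  rw [T.nm_eq]
  simp

theorem nm_ne {x : F} (hx : x ≠ 0) : T.nm x ≠ 0 := by
  intro h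
  have h1 := T.nm_eq x
  rw [h, map_zero] at h1
  rcases mul_eq_zero.1 h1.symm with h | h
  · exact hx h
  · exact hx ((map_eq_zero T.sg).1 h)

theorem sg_ne' {x : F} (hx : x ≠ 0) : T.sg x ≠ 0 := fun h => hx ((map_eq_zero T.sg).1 h)

theorem tr_eq_zero (h2 : (2 : k) = 0) {x : F} (h : T.tr x = 0) : ∃ a : k, algebraMap k F a = x := by
  apply T.fix
  have h1 := T.tr_eq x
  rw [h, map_zero] at h1
  have h3 := T.add_self (h2 := h2) x
  have : T.sg x = - x := by
    rw [eq_neg_iff_add_eq_zero, add_comm]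
    exact h1.symm
  rw [this]
  exact neg_eq_of_add_eq_zero_left h3

theorem tr_alg (h2 : (2 : k) = 0) (a : k) : T.tr (algebraMap k F a) = 0 := by
  apply T.alg_inj'
  rw [T.tr_eq, T.sg_alg, map_zero, T.add_self (h2 := h2)]

theorem exists_tr_ne (h2 : (2 : k) = 0) : ∃ x, T.tr x ≠ 0 := by
  obtain ⟨x, hx⟩ := T.exists_ne
  refine ⟨x, fun h => hx ?_⟩
  obtain ⟨a, rfl⟩ := T.tr_eq_zero h2 h
  exact T.sg_alg a

/-- the trace form is nondegenerate -/
theorem eq_zero_of_tr (h2 : (2 : k) = 0) {x : F} (h : ∀ b, T.tr (x * b) = 0) : x = 0 := by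
  by_contra hx
  obtain ⟨y, hy⟩ := T.exists_tr_ne h2
  apply hy
  have := h (x⁻¹ * y)
  rwa [mul_inv_cancel_left₀ hx] at this

theorem eq_of_tr (h2 : (2 : k) = 0) {x y : F} (h : ∀ b, T.tr (x * b) = T.tr (y * b)) : x = y := by
  rw [← sub_eq_zero]
  apply T.eq_zero_of_tr h2
  intro b
  rw [sub_mul, map_sub, h b, sub_self]

/-- every element of `F` is a square -/
theorem exists_sq (h2 : (2 : k) = 0) (x : F) : ∃ y, y ^ 2 = x := by
  have := T.finF
  have hc : CharP F 2 := CharTwo.of_one_ne_zero_of_two_eq_zero one_ne_zero (T.twoF h2)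
  have hinj : Function.Injective (fun y : F => y ^ 2) := by
    intro a b hab
    have h1 : (a - b) ^ 2 = 0 := by
      have h3 : (a - b) ^ 2 = a ^ 2 - b ^ 2 - 2 * (b * (a - b)) := by ring
      rw [h3, T.twoF h2, zero_mul, sub_zero]
      exact sub_eq_zero.2 hab
    exact sub_eq_zero.1 (pow_eq_zero_iff (two_ne_zero)|>.1 h1)
  exact Finite.surjective_of_injective hinj x

/-- `θ² = tr(θ) θ + nm(θ)` -/
theorem quad (h2 : (2 : k) = 0) (x : F) : x * x = algebraMap k F (T.tr x) * x + algebraMap k F (T.nm x) := by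
  rw [T.tr_eq, T.nm_eq]
  have : (x + T.sg x) * x + x * T.sg x = x * x + 2 * (x * T.sg x) := by ring
  rw [this, T.twoF h2, zero_mul, add_zero]

/-- A `k`-linear map `ψ : F → F` with `tr (ψ(x) sg x) = 0` is a scalar of `k`. -/
theorem scalar_of (h2 : (2 : k) = 0) (ψ : F → F) (hadd : ∀ x y, ψ (x + y) = ψ x + ψ y)
    (hsm : ∀ (a : k) x, ψ (algebraMap k F a * x) = algebraMap k F a * ψ x)
    (h : ∀ x, T.tr (ψ x * T.sg x) = 0) : ∃ d : k, ∀ x, ψ x = algebraMap k F d * x := by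
  obtain ⟨d, hd⟩ : ∃ d : k, algebraMap k F d = ψ 1 := by
    apply T.tr_eq_zero h2
    have := h 1
    rwa [map_one, mul_one] at this
  refine ⟨d, fun x => ?_⟩
  by_cases hx : T.tr x = 0
  · obtain ⟨a, rfl⟩ := T.tr_eq_zero h2 hx
    have := hsm a 1
    rw [mul_one] at this
    rw [this, ← hd, mul_comm]
  · -- `ψ x = e x`
    have hx0 : x ≠ 0 := by
      rintro rfl
      exact hx (map_zero _)
    obtain ⟨e, he⟩ := T.tr_eq_zero h2 (h x)
    have h1 : ψ x = algebraMap k F (e * (T.nm x)⁻¹) * x := by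
      have hs := T.sg_ne' hx0
      rw [map_mul, he, map_inv₀, T.nm_eq]
      field_simp
    have h3 := h (x + 1)
    rw [hadd, map_add, map_one, h1, ← hd] at h3
    have h4 : T.tr ((algebraMap k F (e * (T.nm x)⁻¹) * x + algebraMap k F d) * (T.sg x + 1)) =
        T.tr (algebraMap k F (e * (T.nm x)⁻¹) * x * T.sg x) + T.tr (algebraMap k F d * 1) +
        (T.tr (x * algebraMap k F (e * (T.nm x)⁻¹)) + T.tr (T.sg x * algebraMap k F d)) := by
      rw [← map_add, ← map_add, ← map_add]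
      congr 1
      ring
    rw [h4, T.tr_mul_alg, T.tr_mul_alg, T.tr_sg', ← h1, h x, mul_one, T.tr_alg h2, zero_add, zero_add,
      ← mul_add] at h3
    have h5 : e * (T.nm x)⁻¹ + d = 0 := (mul_eq_zero.1 h3).resolve_left hx
    have h6 : e * (T.nm x)⁻¹ = d := by
      have h7 := T.add_selfk (h2 := h2) d
      calc e * (T.nm x)⁻¹ = e * (T.nm x)⁻¹ + (d + d) := by rw [h7, add_zero]
        _ = (e * (T.nm x)⁻¹ + d) + d := by ring
        _ = d := by rw [h5, zero_add]
    rw [h1, h6]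

/-- there is `z ≠ 0` with `z ≠ (sg z)²` -/
theorem exists_z (h2 : (2 : k) = 0) : ∃ z : F, z ≠ 0 ∧ T.sg z * T.sg z ≠ z := by
  by_contra hcon
  push Not at hcon
  have := T.finF
  have h1 : ∀ z : F, z ≠ 0 → z ^ 3 = 1 := by
    intro z hz
    have h3 := hcon z hz
    have h4 : T.sg z = z * z := by
      have := congrArg T.sg h3
      rw [map_mul, T.sg_sg] at this
      exact this.symm
    rw [h4] at h3
    have h5 : z * (z ^ 3 - 1) = 0 := by
      have : z * (z ^ 3 - 1) = z * z * (z * z) - z := by ring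
      rw [this, h3, sub_self]
    rcases mul_eq_zero.1 h5 with h | h
    · exact absurd h hz
    · exact sub_eq_zero.1 h
  obtain ⟨g, hg⟩ := IsCyclic.exists_generator (α := Fˣ)
  have hord := orderOf_eq_card_of_forall_mem_zpowers hg
  have h3 : g ^ 3 = 1 := Units.ext (by
    have := h1 g g.ne_zero
    push_cast
    exact this)
  have h4 := orderOf_dvd_of_pow_eq_one h3
  rw [hord] at h4
  have h5 := Nat.le_of_dvd (by norm_num) h4
  have h6 : Nat.card Fˣ = Nat.card F - 1 := by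
    have := Fintype.ofFinite F
    rw [Nat.card_units]
  rw [h6, T.card] at h5
  have h7 := T.four
  have : 16 ≤ Nat.card k ^ 2 := by nlinarith
  omega

end Cfsg.Agent.Omega.NOne.SU.Quad
end

-- part: Mrg/Omega/NOne/SU/Grp1
section
prune_inst 0xc1303244500002000018001430201c46de000102000b800068800d0205c88e42adc40e6184a00702180a085520300068130000000240000004000800411c0080000010040000000002008e008084400000000000000000000000000000000000000000000
set_option linter.all false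
open scoped Cfsg.Agent.FastGrp

section


/-!
# THEOREM UNI, group part 1: `e`, `B`, the action of `N_G(R)` on `W = Q/R`
-/

set_option autoImplicit false
set_option linter.unusedSectionVars false

open Subgroup

namespace Cfsg.Agent.Omega.NOne.SU

variable {G : Type*} [Group G] {k F : Type*} [Field k] [Field F] [Algebra k F]

namespace GIn

variable {T : Quad k F} {S : Sylow 2 G} {V R Q Q' : Subgroup G} {v : k → F → k → G} {p p' : G → F}
  (h : GIn T S V R Q Q' v p p')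
include h

theorem h2 : (2 : k) = 0 := h.sp.two

theorem v_zero : v 0 0 0 = 1 := by
  have := h.v_add 0 0 0 0 0 0
  rw [add_zero, add_zero] at this
  exact (mul_eq_left (a := v 0 0 0)).1 this.symm

theorem v_sq (a : k) (b : F) (d : k) : v a b d * v a b d = 1 := by
  rw [← h.v_add, T.add_selfk (h2 := h.h2), T.add_self (h2 := h.h2), T.add_selfk (h2 := h.h2), h.v_zero]

theorem v_inv (a : k) (b : F) (d : k) : (v a b d)⁻¹ = v a b d := inv_eq_of_mul_eq_one_left (h.v_sq a b d)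

theorem v_comm (a : k) (b : F) (d : k) (a' : k) (b' : F) (d' : k) :
    v a b d * v a' b' d' = v a' b' d' * v a b d := by
  rw [← h.v_add, ← h.v_add, add_comm a, add_comm b, add_comm d]

theorem V_comm {x y : G} (hx : x ∈ V) (hy : y ∈ V) : x * y = y * x := by
  obtain ⟨a, b, d, rfl⟩ := h.v_surj x hx
  obtain ⟨a', b', d', rfl⟩ := h.v_surj y hy
  exact h.v_comm _ _ _ _ _ _

theorem v_eq {a : k} {b : F} {d a' : k} {b' : F} {d' : k} (e : v a b d = v a' b' d') :
    a = a' ∧ b = b' ∧ d = d' := by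
  have h1 : v (a + a') (b + b') (d + d') = 1 := by
    rw [h.v_add, e, h.v_sq]
  obtain ⟨h3, h4, h5⟩ := h.v_inj _ _ _ h1
  refine ⟨?_, ?_, ?_⟩
  · calc a = a + (a' + a') := by rw [T.add_selfk (h2 := h.h2), add_zero]
      _ = (a + a') + a' := by ring
      _ = a' := by rw [h3, zero_add]
  · calc b = b + (b' + b') := by rw [T.add_self (h2 := h.h2), add_zero]
      _ = (b + b') + b' := by ring
      _ = b' := by rw [h4, zero_add]
  · calc d = d + (d' + d') := by rw [T.add_selfk (h2 := h.h2), add_zero]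
      _ = (d + d') + d' := by ring
      _ = d' := by rw [h5, zero_add]

theorem mem_R {x : G} : x ∈ R ↔ ∃ a, x = v a 0 0 := by
  constructor
  · intro hx
    obtain ⟨a, ha⟩ := h.sp.a_surj x hx
    exact ⟨a, ha.symm⟩
  · rintro ⟨a, rfl⟩
    exact h.sp.a_mem a

theorem R_le_V : R ≤ V := by
  intro x hx
  obtain ⟨a, rfl⟩ := h.mem_R.1 hx
  exact h.v_mem _ _ _

theorem CV_le_CR : centralizer (V : Set G) ≤ centralizer (R : Set G) :=
  centralizer_le h.R_le_V

theorem CR_le_NR : centralizer (R : Set G) ≤ normalizer (R : Set G) := centralizer_le_normalizer _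

theorem V_le_CV : V ≤ centralizer (V : Set G) := by
  intro x hx
  rw [mem_centralizer_iff]
  intro y hy
  exact h.V_comm hy hx

theorem Q_le_CR : Q ≤ centralizer (R : Set G) := by
  intro y hy
  rw [mem_centralizer_iff]
  intro r hr
  exact h.sp.cen r hr y hy

/-- conjugation by an element of `N(R)` -/
theorem nor_inv {c : G} (hc : c ∈ normalizer (R : Set G)) {y : G} (hy : y ∈ Q) : c⁻¹ * y * c ∈ Q := by
  have := h.nor c⁻¹ (inv_mem hc) y hy
  rwa [inv_inv] at this

theorem p_one : p 1 = 0 := by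
  have := h.p_add 1 (one_mem _) 1 (one_mem _)
  rw [mul_one] at this
  exact left_eq_add.1 this

theorem p_inv {y : G} (hy : y ∈ Q) : p y⁻¹ = p y := by
  have := h.p_add y⁻¹ (inv_mem hy) y hy
  rw [inv_mul_cancel, h.p_one] at this
  calc p y⁻¹ = p y⁻¹ + (p y + p y) := by rw [T.add_self (h2 := h.h2), add_zero]
    _ = (p y⁻¹ + p y) + p y := by ring
    _ = p y := by rw [← this, zero_add]

/-- `C_Q(V) = ker p` -/
theorem p_eq_zero {y : G} (hy : y ∈ Q) : p y = 0 ↔ y ∈ centralizer (V : Set G) := by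
  constructor
  · intro h0
    rw [mem_centralizer_iff]
    intro x hx
    obtain ⟨a, b, d, rfl⟩ := h.v_surj x hx
    have h1 := h.act y hy a b d
    rw [h0, map_zero, zero_mul, map_zero, T.nm_zero, zero_mul, zero_mul, add_zero, add_zero, add_zero] at h1
    calc v a b d * y = (y * v a b d * y⁻¹) * y := by rw [h1]
      _ = y * v a b d := by group
  · intro hc
    rw [mem_centralizer_iff] at hc
    have h1 := h.act y hy 0 0 1
    have h3 := hc _ (h.v_mem 0 0 1)
    rw [← h3, mul_inv_cancel_right] at h1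
    have h4 := (h.v_eq h1).2.1
    rw [zero_add, map_one, mul_one] at h4
    exact h4.symm

theorem p_R {r : G} (hr : r ∈ R) : p r = 0 :=
  (h.p_eq_zero (h.sp.le hr)).2 (h.V_le_CV (h.R_le_V hr))

theorem p_E (a : k) (b : F) : p (v a b 0) = 0 :=
  (h.p_eq_zero (h.E_le a b)).2 (h.V_le_CV (h.v_mem _ _ _))

/-- `[v 0 b 0, y] = v (tr (b sg (p y))) 0 0` -/
theorem comm_E (a : k) (b : F) {y : G} (hy : y ∈ Q) :
    v a b 0 * y * (v a b 0)⁻¹ * y⁻¹ = v (T.tr (b * T.sg (p y))) 0 0 := by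
  have h1 := h.act y hy a b 0
  rw [mul_zero, map_zero, mul_zero, add_zero, add_zero] at h1
  calc v a b 0 * y * (v a b 0)⁻¹ * y⁻¹ = v a b 0 * (y * v a b 0 * y⁻¹)⁻¹ := by group
    _ = v a b 0 * v (a + T.tr (T.sg (p y) * b)) b 0 := by rw [h1, h.v_inv]
    _ = _ := by
      rw [← h.v_add, T.add_self (h2 := h.h2), add_zero, ← add_assoc, T.add_selfk (h2 := h.h2), zero_add,
        mul_comm (T.sg (p y))]

/-- `[v a b d, y]` for general `v` -/
theorem comm_V (a : k) (b : F) (d : k) {y : G} (hy : y ∈ Q) :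
    ∃ a', v a b d * y * (v a b d)⁻¹ * y⁻¹ = v a' (p y * algebraMap k F d) 0 := by
  have h1 := h.act y hy a b d
  refine ⟨T.tr (T.sg (p y) * b) + T.nm (p y) * d, ?_⟩
  calc v a b d * y * (v a b d)⁻¹ * y⁻¹ = v a b d * (y * v a b d * y⁻¹)⁻¹ := by group
    _ = v a b d * v (a + T.tr (T.sg (p y) * b) + T.nm (p y) * d) (b + p y * algebraMap k F d) d := by
      rw [h1, h.v_inv]
    _ = _ := by
      rw [← h.v_add, T.add_selfk (h2 := h.h2) d]
      congr 1
      · rw [← add_assoc, ← add_assoc, T.add_selfk (h2 := h.h2) a, zero_add]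
      · rw [← add_assoc, T.add_self (h2 := h.h2), zero_add]

/-! ### the module `W = Q/R` -/

/-- the conjugation action on `W` -/
noncomputable def cj (c : G) (w : h.sp.W) : h.sp.W := h.sp.pr (c * h.sp.rep w * c⁻¹)

theorem cj_pr {c : G} (hc : c ∈ normalizer (R : Set G)) {x : G} (hx : x ∈ Q) :
    h.cj c (h.sp.pr x) = h.sp.pr (c * x * c⁻¹) := by
  unfold cj
  have h1 := h.sp.rep_mem (h.sp.pr x)
  rw [h.sp.pr_eq (h.nor c hc _ h1) (h.nor c hc _ hx)]
  have h3 := (h.sp.pr_eq h1 hx).1 (h.sp.pr_rep _)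
  have h4 : c * h.sp.rep (h.sp.pr x) * c⁻¹ * (c * x * c⁻¹)⁻¹ = c * (h.sp.rep (h.sp.pr x) * x⁻¹) * c⁻¹ := by
    group
  rw [h4]
  exact (mem_normalizer_iff.1 hc _).1 h3

theorem cj_add {c : G} (hc : c ∈ normalizer (R : Set G)) (w w' : h.sp.W) :
    h.cj c (w + w') = h.cj c w + h.cj c w' := by
  obtain ⟨x, hx, rfl⟩ := h.sp.pr_surj w
  obtain ⟨y, hy, rfl⟩ := h.sp.pr_surj w'
  rw [← h.sp.pr_mul hx hy, h.cj_pr hc (mul_mem hx hy), h.cj_pr hc hx, h.cj_pr hc hy,
    ← h.sp.pr_mul (h.nor c hc x hx) (h.nor c hc y hy)]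
  congr 1
  group

theorem cj_mul {c d : G} (hc : c ∈ normalizer (R : Set G)) (hd : d ∈ normalizer (R : Set G)) (w : h.sp.W) :
    h.cj (c * d) w = h.cj c (h.cj d w) := by
  obtain ⟨x, hx, rfl⟩ := h.sp.pr_surj w
  rw [h.cj_pr (mul_mem hc hd) hx, h.cj_pr hd hx, h.cj_pr hc (h.nor d hd x hx)]
  congr 1
  group

theorem cj_one (w : h.sp.W) : h.cj 1 w = w := by
  obtain ⟨x, hx, rfl⟩ := h.sp.pr_surj w
  rw [h.cj_pr (one_mem _) hx]
  congr 1
  group

theorem cj_inv_cj {c : G} (hc : c ∈ normalizer (R : Set G)) (w : h.sp.W) : h.cj c⁻¹ (h.cj c w) = w := by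
  rw [← h.cj_mul (inv_mem hc) hc, inv_mul_cancel, h.cj_one]

theorem cj_cj_inv {c : G} (hc : c ∈ normalizer (R : Set G)) (w : h.sp.W) : h.cj c (h.cj c⁻¹ w) = w := by
  rw [← h.cj_mul hc (inv_mem hc), mul_inv_cancel, h.cj_one]

theorem form_cj' {c : G} (hc : c ∈ normalizer (R : Set G)) {s : k} (hs : ∀ a, c * v a 0 0 * c⁻¹ = v (s * a) 0 0)
    (w w' : h.sp.W) : h.sp.form (h.cj c w) (h.cj c w') = s * h.sp.form w w' := by
  obtain ⟨x, hx, rfl⟩ := h.sp.pr_surj w
  obtain ⟨y, hy, rfl⟩ := h.sp.pr_surj w'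
  rw [h.cj_pr hc hx, h.cj_pr hc hy, h.sp.form_pr (h.nor c hc x hx) (h.nor c hc y hy), h.sp.form_pr hx hy]
  have h1 : c * x * c⁻¹ * (c * y * c⁻¹) * (c * x * c⁻¹)⁻¹ * (c * y * c⁻¹)⁻¹ =
      c * (x * y * x⁻¹ * y⁻¹) * c⁻¹ := by group
  rw [h1]
  obtain ⟨a, ha⟩ := h.mem_R.1 (h.sp.comm x hx y hy)
  rw [ha, hs]
  have e1 : h.sp.co (v a 0 0) = a := h.sp.co_a a
  have e2 : h.sp.co (v (s * a) 0 0) = s * a := h.sp.co_a (s * a)
  rw [e1, e2]

theorem CR_v {c : G} (hc : c ∈ centralizer (R : Set G)) (a : k) : c * v a 0 0 * c⁻¹ = v a 0 0 := by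
  have := (mem_centralizer_iff.1 hc) _ (h.mem_R.2 ⟨a, rfl⟩)
  rw [← this, mul_inv_cancel_right]

theorem form_cj {c : G} (hc : c ∈ centralizer (R : Set G)) (w w' : h.sp.W) :
    h.sp.form (h.cj c w) (h.cj c w') = h.sp.form w w' := by
  have := h.form_cj' (h.CR_le_NR hc) (s := 1) (fun a => by rw [one_mul]; exact h.CR_v hc a) w w'
  rwa [one_mul] at this

/-- `ε : F → W`, with image `e` -/
noncomputable def ep (b : F) : h.sp.W := h.sp.pr (v 0 b 0)

theorem pr_E (a : k) (b : F) : h.sp.pr (v a b 0) = h.ep b := by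
  unfold ep
  rw [h.sp.pr_eq (h.E_le a b) (h.E_le 0 b), h.v_inv, ← h.v_add, T.add_self (h2 := h.h2), add_zero, add_zero]
  exact h.mem_R.2 ⟨a, rfl⟩

theorem ep_add (b b' : F) : h.ep (b + b') = h.ep b + h.ep b' := by
  unfold ep
  rw [← h.sp.pr_mul (h.E_le 0 b) (h.E_le 0 b'), ← h.v_add, add_zero]

theorem ep_inj : Function.Injective h.ep := by
  intro b b' hb
  unfold ep at hb
  rw [h.sp.pr_eq (h.E_le 0 b) (h.E_le 0 b'), h.v_inv, ← h.v_add] at hb
  obtain ⟨a, ha⟩ := h.mem_R.1 hb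
  have h1 := (h.v_eq ha).2.1
  calc b = b + (b' + b') := by rw [T.add_self (h2 := h.h2), add_zero]
    _ = (b + b') + b' := by ring
    _ = b' := by rw [h1, zero_add]

/-- `B : W → F` -/
noncomputable def Bm (w : h.sp.W) : F := p (h.sp.rep w)

theorem Bm_pr {x : G} (hx : x ∈ Q) : h.Bm (h.sp.pr x) = p x := by
  unfold Bm
  have h1 := (h.sp.pr_eq (h.sp.rep_mem (h.sp.pr x)) hx).1 (h.sp.pr_rep _)
  have h3 := h.p_R h1
  rw [h.p_add _ (h.sp.rep_mem _) _ (inv_mem hx), h.p_inv hx] at h3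
  calc p (h.sp.rep (h.sp.pr x)) = p (h.sp.rep (h.sp.pr x)) + (p x + p x) := by
        rw [T.add_self (h2 := h.h2), add_zero]
    _ = (p (h.sp.rep (h.sp.pr x)) + p x) + p x := by ring
    _ = p x := by rw [h3, zero_add]

theorem Bm_add (w w' : h.sp.W) : h.Bm (w + w') = h.Bm w + h.Bm w' := by
  obtain ⟨x, hx, rfl⟩ := h.sp.pr_surj w
  obtain ⟨y, hy, rfl⟩ := h.sp.pr_surj w'
  rw [← h.sp.pr_mul hx hy, h.Bm_pr (mul_mem hx hy), h.Bm_pr hx, h.Bm_pr hy, h.p_add x hx y hy]

theorem Bm_ep (b : F) : h.Bm (h.ep b) = 0 := by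
  unfold ep
  rw [h.Bm_pr (h.E_le 0 b), h.p_E]

theorem Bm_surj (l : F) : ∃ w, h.Bm w = l := by
  obtain ⟨y, hy, rfl⟩ := h.p_surj l
  exact ⟨h.sp.pr y, h.Bm_pr hy⟩

/-- `f (ε b, w) = tr (b sg (B w))` -/
theorem form_ep (b : F) (w : h.sp.W) : h.sp.form (h.ep b) w = T.tr (b * T.sg (h.Bm w)) := by
  obtain ⟨y, hy, rfl⟩ := h.sp.pr_surj w
  unfold ep
  rw [h.sp.form_pr (h.E_le 0 b) hy, h.comm_E 0 b hy, h.Bm_pr hy]
  exact h.sp.co_a _

end GIn

end Cfsg.Agent.Omega.NOne.SU

end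

section


/-!
# THEOREM UNI, group part 2: the conjugates of `e` span `W`; the `k`-structure of `W`
-/

set_option autoImplicit false
set_option linter.unusedSectionVars false

open Subgroup

namespace Cfsg.Agent.Omega.NOne.SU

variable {G : Type*} [Group G] {k F : Type*} [Field k] [Field F] [Algebra k F]

namespace GIn

variable {T : Quad k F} {S : Sylow 2 G} {V R Q Q' : Subgroup G} {v : k → F → k → G} {p p' : G → F}
  (h : GIn T S V R Q Q' v p p')
include h

omit h in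
/-- elements of `Q` whose conjugates by `C(R)` centralise `V` -/
def N1 (V R Q : Subgroup G) : Subgroup G where
  carrier := {n | n ∈ Q ∧ ∀ c ∈ centralizer (R : Set G), c * n * c⁻¹ ∈ centralizer (V : Set G)}
  one_mem' := ⟨one_mem _, fun c _ => by
    have e : c * 1 * c⁻¹ = 1 := by group
    rw [e]; exact one_mem _⟩
  mul_mem' := fun {a b} ha hb => ⟨mul_mem ha.1 hb.1, fun c hc => by
    have := mul_mem (ha.2 c hc) (hb.2 c hc)
    have e : c * a * c⁻¹ * (c * b * c⁻¹) = c * (a * b) * c⁻¹ := by group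
    rwa [e] at this⟩
  inv_mem' := fun {a} ha => ⟨inv_mem ha.1, fun c hc => by
    have := inv_mem (ha.2 c hc)
    have e : (c * a * c⁻¹)⁻¹ = c * a⁻¹ * c⁻¹ := by group
    rwa [e] at this⟩

theorem N1_conj {c n : G} (hc : c ∈ centralizer (R : Set G)) (hn : n ∈ N1 V R Q) : c * n * c⁻¹ ∈ N1 V R Q := by
  refine ⟨h.nor c (h.CR_le_NR hc) n hn.1, fun d hd => ?_⟩
  have := hn.2 (d * c) (mul_mem hd hc)
  have e : d * c * n * (d * c)⁻¹ = d * (c * n * c⁻¹) * d⁻¹ := by group
  rwa [e] at this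

/-- the elements of `C(R)` which centralise `N1` and `Q/N1` -/
def K1 (h : GIn T S V R Q Q' v p p') : Subgroup G where
  carrier := {x | x ∈ centralizer (R : Set G) ∧ (∀ n ∈ N1 V R Q, x * n * x⁻¹ = n) ∧
    ∀ y ∈ Q, x * y * x⁻¹ * y⁻¹ ∈ N1 V R Q}
  one_mem' := ⟨one_mem _, fun n _ => by group, fun y _ => by
    have e : 1 * y * 1⁻¹ * y⁻¹ = 1 := by group
    rw [e]; exact one_mem _⟩
  mul_mem' := fun {a b} ha hb => ⟨mul_mem ha.1 hb.1, fun n hn => by
      have e : a * b * n * (a * b)⁻¹ = a * (b * n * b⁻¹) * a⁻¹ := by group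
      rw [e, hb.2.1 n hn, ha.2.1 n hn], fun y hy => by
      have h1 := h.N1_conj ha.1 (hb.2.2 y hy)
      have h3 := mul_mem h1 (ha.2.2 y hy)
      have e : a * (b * y * b⁻¹ * y⁻¹) * a⁻¹ * (a * y * a⁻¹ * y⁻¹) = a * b * y * (a * b)⁻¹ * y⁻¹ := by group
      rwa [e] at h3⟩
  inv_mem' := fun {a} ha => ⟨inv_mem ha.1, fun n hn => by
      have h1 := ha.2.1 n hn
      calc a⁻¹ * n * a⁻¹⁻¹ = a⁻¹ * (a * n * a⁻¹) * a := by rw [h1]; group
        _ = n := by group, fun y hy => by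
      have h1 := h.N1_conj (inv_mem ha.1) (inv_mem (ha.2.2 y hy))
      have e2 : a⁻¹ * (a * y * a⁻¹ * y⁻¹)⁻¹ * a⁻¹⁻¹ = a⁻¹ * y * a⁻¹⁻¹ * y⁻¹ := by group
      rwa [e2] at h1⟩

/-- **some conjugate of `e` under `C(R)` is not in `e^⊥`** -/
theorem exists_nonperp [Finite G] : ∃ c ∈ centralizer (R : Set G), ∃ b, h.Bm (h.cj c (h.ep b)) ≠ 0 := by
  by_contra hcon
  push Not at hcon
  have hE : ∀ a b, v a b 0 ∈ N1 V R Q := by
    intro a b
    refine ⟨h.E_le a b, fun c hc => ?_⟩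
    have h1 := hcon c hc b
    rw [← h.pr_E a b, h.cj_pr (h.CR_le_NR hc) (h.E_le a b),
      h.Bm_pr (h.nor c (h.CR_le_NR hc) _ (h.E_le a b))] at h1
    exact (h.p_eq_zero (h.nor c (h.CR_le_NR hc) _ (h.E_le a b))).1 h1
  have hV : V ≤ h.K1 := by
    intro x hx
    have hxC := h.V_le_CV hx
    refine ⟨h.CV_le_CR hxC, fun n hn => ?_, fun y hy => ?_⟩
    · have h1 := hn.2 1 (one_mem _)
      rw [one_mul, inv_one, mul_one, mem_centralizer_iff] at h1
      rw [h1 x hx, mul_inv_cancel_right]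
    · obtain ⟨a, b, d, rfl⟩ := h.v_surj x hx
      obtain ⟨a', ha'⟩ := h.comm_V a b d hy
      rw [ha']
      exact hE _ _
  have h4 : ∀ x ∈ h.K1, x ^ 4 ∈ Q := by
    intro x hx
    apply h.char2
    rw [mem_centralizer_iff]
    intro y hy
    -- `x y x⁻¹ = n y`
    set n := x * y * x⁻¹ * y⁻¹ with hn
    have hnN : n ∈ N1 V R Q := hx.2.2 y hy
    have h1 : x * y * x⁻¹ = n * y := by rw [hn]; group
    have h3 : x * n * x⁻¹ = n := hx.2.1 n hnN
    have h5 : x ^ 2 * y * (x ^ 2)⁻¹ = n * n * y := by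
      calc x ^ 2 * y * (x ^ 2)⁻¹ = x * (x * y * x⁻¹) * x⁻¹ := by rw [pow_two]; group
        _ = x * (n * y) * x⁻¹ := by rw [h1]
        _ = (x * n * x⁻¹) * (x * y * x⁻¹) := by group
        _ = n * n * y := by rw [h3, h1]; group
    have hr := h.sp.sq n hnN.1
    have h6 : x ^ 2 * (n * n) * (x ^ 2)⁻¹ = n * n := by
      calc x ^ 2 * (n * n) * (x ^ 2)⁻¹ = x * ((x * n * x⁻¹) * (x * n * x⁻¹)) * x⁻¹ := by rw [pow_two]; group
        _ = x * (n * n) * x⁻¹ := by rw [h3]
        _ = (x * n * x⁻¹) * (x * n * x⁻¹) := by group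
        _ = n * n := by rw [h3]
    have h7 : x ^ 4 * y * (x ^ 4)⁻¹ = y := by
      calc x ^ 4 * y * (x ^ 4)⁻¹ = x ^ 2 * (x ^ 2 * y * (x ^ 2)⁻¹) * (x ^ 2)⁻¹ := by group
        _ = x ^ 2 * (n * n * y) * (x ^ 2)⁻¹ := by rw [h5]
        _ = (x ^ 2 * (n * n) * (x ^ 2)⁻¹) * (x ^ 2 * y * (x ^ 2)⁻¹) := by group
        _ = (n * n) * (n * n) * y := by rw [h6, h5]; group
        _ = y := by rw [h.sp.r_sq hr, one_mul]
    calc y * x ^ 4 = (x ^ 4 * y * (x ^ 4)⁻¹) * x ^ 4 := by rw [h7]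
      _ = x ^ 4 * y := by group
  have hK2 : IsPGroup 2 h.K1 := by
    intro x
    obtain ⟨m, hm⟩ := h.Q_two ⟨(x : G) ^ 4, h4 x x.2⟩
    refine ⟨m + 2, Subtype.ext ?_⟩
    have h1 := congrArg Subtype.val hm
    simp only [SubmonoidClass.coe_pow, OneMemClass.coe_one] at h1 ⊢
    rw [← h1, ← pow_mul, pow_add, mul_comm]
    norm_num
  have hKQ : h.K1 ≤ Q := by
    refine h.max h.K1 hK2 (fun x hx => hx.1) ?_
    intro c hc x hx
    have hci : c⁻¹ ∈ centralizer (R : Set G) := inv_mem hc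
    refine ⟨mul_mem (mul_mem hc hx.1) (inv_mem hc), fun n hn => ?_, fun y hy => ?_⟩
    · have h1 := hx.2.1 _ (h.N1_conj hci hn)
      rw [inv_inv] at h1
      calc c * x * c⁻¹ * n * (c * x * c⁻¹)⁻¹ = c * (x * (c⁻¹ * n * c) * x⁻¹) * c⁻¹ := by group
        _ = n := by rw [h1]; group
    · have h1 := h.N1_conj hc (hx.2.2 _ (h.nor_inv (h.CR_le_NR hc) hy))
      have e : c * (x * (c⁻¹ * y * c) * x⁻¹ * (c⁻¹ * y * c)⁻¹) * c⁻¹ =
          c * x * c⁻¹ * y * (c * x * c⁻¹)⁻¹ * y⁻¹ := by group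
      rwa [e] at h1
  have h5 := h.V_Q 0 0 1 (hKQ (hV (h.v_mem 0 0 1)))
  exact one_ne_zero h5

variable {Φ : Type*} [AddCommGroup Φ] [Module F Φ] {φ χ : G → Φ} (f : Fld T V R Q Q' v p φ χ)

theorem Q'_le_N : ∀ y ∈ Q', y ∈ normalizer (V : Set G) := by
  intro y hy
  rw [mem_normalizer_iff]
  intro x
  constructor
  · intro hx
    obtain ⟨a, b, d, rfl⟩ := h.v_surj x hx
    rw [h.act' y hy]
    exact h.v_mem _ _ _
  · intro hx
    obtain ⟨a, b, d, hx'⟩ := h.v_surj _ hx
    have h1 := h.act' y⁻¹ (inv_mem hy) a b d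
    have h3 : y⁻¹ * v a b d * y⁻¹⁻¹ = x := by rw [hx']; group
    rw [← h3, h1]
    exact h.v_mem _ _ _

theorem Q_le_N : Q ≤ normalizer (V : Set G) := by
  intro y hy
  rw [mem_normalizer_iff]
  intro x
  constructor
  · intro hx
    obtain ⟨a, b, d, rfl⟩ := h.v_surj x hx
    rw [h.act y hy]
    exact h.v_mem _ _ _
  · intro hx
    obtain ⟨a, b, d, hx'⟩ := h.v_surj _ hx
    have h1 := h.act y⁻¹ (inv_mem hy) a b d
    have h3 : y⁻¹ * v a b d * y⁻¹⁻¹ = x := by rw [hx']; group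
    rw [← h3, h1]
    exact h.v_mem _ _ _

/-- `N(V)` normalises `C(V)` -/
theorem CV_conj {y c : G} (hy : y ∈ normalizer (V : Set G)) (hc : c ∈ centralizer (V : Set G)) :
    y * c * y⁻¹ ∈ centralizer (V : Set G) := by
  rw [mem_centralizer_iff] at hc ⊢
  intro x hx
  have h1 : y⁻¹ * x * y ∈ V := by
    have := (mem_normalizer_iff.1 (inv_mem hy) x).1 hx
    rwa [inv_inv] at this
  have h3 := hc _ h1
  calc x * (y * c * y⁻¹) = y * ((y⁻¹ * x * y) * c) * y⁻¹ := by group
    _ = y * (c * (y⁻¹ * x * y)) * y⁻¹ := by rw [h3]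
    _ = _ := by group

/-- `[C(V), Q] ≤ C_Q(V)` -/
theorem comm_CV {c y : G} (hc : c ∈ centralizer (V : Set G)) (hy : y ∈ Q) :
    c * y * c⁻¹ * y⁻¹ ∈ Q ∧ c * y * c⁻¹ * y⁻¹ ∈ centralizer (V : Set G) := by
  constructor
  · exact mul_mem (h.nor c (h.CR_le_NR (h.CV_le_CR hc)) y hy) (inv_mem hy)
  · have h1 := h.CV_conj (h.Q_le_N hy) (inv_mem hc)
    have e : c * y * c⁻¹ * y⁻¹ = c * (y * c⁻¹ * y⁻¹) := by group
    rw [e]
    exact mul_mem hc h1

include f in
/-- **the conjugates of `e` span `W`** -/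
theorem span [Finite G] (N : AddSubgroup h.sp.W)
    (hN : ∀ c ∈ centralizer (R : Set G), ∀ b, h.cj c (h.ep b) ∈ N) : N = ⊤ := by
  classical
  let N0 : AddSubgroup h.sp.W := AddSubgroup.closure
    {w | ∃ c ∈ centralizer (R : Set G), ∃ b, w = h.cj c (h.ep b)}
  have hN0 : N0 ≤ N := by
    rw [AddSubgroup.closure_le]
    rintro w ⟨c, hc, b, rfl⟩
    exact hN c hc b
  have hmem : ∀ c ∈ centralizer (R : Set G), ∀ b, h.cj c (h.ep b) ∈ N0 := fun c hc b =>
    AddSubgroup.subset_closure ⟨c, hc, b, rfl⟩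
  -- `N0` is invariant under elements which normalise `C(R)` and `e`
  have hinv : ∀ g ∈ normalizer (R : Set G), (∀ b, ∃ c ∈ centralizer (R : Set G), ∃ b', h.cj g (h.ep b) =
      h.cj c (h.ep b')) → ∀ w ∈ N0, h.cj g w ∈ N0 := by
    intro g hg hge w hw
    induction hw using AddSubgroup.closure_induction with
    | mem w hw =>
      obtain ⟨c, hc, b, rfl⟩ := hw
      obtain ⟨c', hc', b', hb'⟩ := hge b
      have hgc : g * c * g⁻¹ ∈ centralizer (R : Set G) := by
        rw [mem_centralizer_iff] at hc ⊢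
        intro r hr
        have h1 : g⁻¹ * r * g ∈ R := by
          have := (mem_normalizer_iff.1 (inv_mem hg) r).1 hr
          rwa [inv_inv] at this
        have h3 := hc _ h1
        calc r * (g * c * g⁻¹) = g * ((g⁻¹ * r * g) * c) * g⁻¹ := by group
          _ = g * (c * (g⁻¹ * r * g)) * g⁻¹ := by rw [h3]
          _ = _ := by group
      have h1 : h.cj g (h.cj c (h.ep b)) = h.cj (g * c * g⁻¹ * c') (h.ep b') := by
        rw [h.cj_mul (h.CR_le_NR hgc) (h.CR_le_NR hc'), ← hb', ← h.cj_mul hg (h.CR_le_NR hc),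
          ← h.cj_mul (h.CR_le_NR hgc) hg]
        congr 1
        group
      rw [h1]
      exact hmem _ (mul_mem hgc hc') _
    | zero =>
      have h1 : h.cj g (0 : h.sp.W) = 0 := by
        have := h.cj_add hg 0 0
        rw [add_zero] at this
        exact left_eq_add.1 this
      rw [h1]; exact zero_mem _
    | add x y _ _ hx hy =>
      rw [h.cj_add hg]
      exact add_mem hx hy
    | neg x _ hx =>
      rwa [h.sp.neg_eq]
  have hinvC : ∀ g ∈ centralizer (R : Set G), ∀ w ∈ N0, h.cj g w ∈ N0 := fun g hg =>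
    hinv g (h.CR_le_NR hg) (fun b => ⟨g, hg, b, rfl⟩)
  have hep : ∀ b, h.ep b ∈ N0 := fun b => by
    have := hmem 1 (one_mem _) b
    rwa [h.cj_one] at this
  -- a nonperpendicular element
  obtain ⟨κ, hκ, b0, hb0⟩ := h.exists_nonperp
  set w0 := h.cj κ (h.ep b0) with hw0
  have hw0N : w0 ∈ N0 := hmem κ hκ b0
  obtain ⟨y0, hy0, hy0w⟩ := h.sp.pr_surj w0
  have hp0 : p y0 ≠ 0 := by
    rw [← hy0w, h.Bm_pr hy0] at hb0
    exact hb0
  -- `e^⊥ ≤ N0`
  have hperp : ∀ x ∈ Q, x ∈ centralizer (V : Set G) → h.sp.pr x ∈ N0 := by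
    intro x hx hxV
    obtain ⟨n, hn, hnV, hnχ⟩ := f.χ_surj ((p y0)⁻¹ • φ x)
    have h1 := h.comm_CV hnV hy0
    have h3 := f.bil y0 hy0 n hn hnV
    rw [hnχ, smul_smul, mul_inv_cancel₀ hp0, one_smul] at h3
    -- `[n, y0] ≡ x` mod `E`
    have h4 : φ (x * (n * y0 * n⁻¹ * y0⁻¹)) = 0 := by
      rw [f.φ_add x hx hxV _ h1.1 h1.2, h3, ← two_smul F, T.twoF h.h2, zero_smul]
    obtain ⟨a, b, hab⟩ := (f.φ_ker _ (mul_mem hx h1.1) (mul_mem hxV h1.2)).1 h4
    have h5 : h.sp.pr x + h.sp.pr (n * y0 * n⁻¹ * y0⁻¹) = h.ep b := by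
      rw [← h.sp.pr_mul hx h1.1, hab, h.pr_E]
    have h6 : h.sp.pr (n * y0 * n⁻¹ * y0⁻¹) = h.cj n w0 + w0 := by
      rw [h.sp.pr_mul (h.nor n (h.CR_le_NR (h.CV_le_CR hnV)) y0 hy0) (inv_mem hy0), h.sp.pr_inv hy0,
        h.sp.neg_eq, hy0w, ← hy0w, h.cj_pr (h.CR_le_NR (h.CV_le_CR hnV)) hy0]
    have h7 : h.sp.pr x = h.ep b + (h.cj n w0 + w0) := by
      rw [← h5, h6, add_assoc, h.sp.add_self, add_zero]
    rw [h7]
    exact add_mem (hep b) (add_mem (hinvC n (h.CV_le_CR hnV) _ hw0N) hw0N)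
  -- the `B`-values of `N0`
  have hB : ∀ l : F, ∃ w ∈ N0, h.Bm w = l := by
    intro l
    obtain ⟨z, hz⟩ := T.exists_sq h.h2 (l * (p y0)⁻¹)
    by_cases hz0 : z = 0
    · refine ⟨0, zero_mem _, ?_⟩
      rw [hz0, zero_pow two_ne_zero] at hz
      have hl : l = 0 := by
        rcases mul_eq_zero.1 hz.symm with h1 | h1
        · exact h1
        · exact absurd (inv_eq_zero.1 h1) hp0
      rw [hl]
      have := h.Bm_ep 0
      have h1 : h.ep 0 = 0 := by
        have := h.ep_add 0 0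
        rw [add_zero] at this
        exact left_eq_add.1 this
      rwa [h1] at this
    · obtain ⟨t, -, ht1, ht2, -, -⟩ := f.tor z hz0
      have htR : t ∈ normalizer (R : Set G) := by
        rw [mem_normalizer_iff]
        intro x
        constructor
        · intro hx
          obtain ⟨a, rfl⟩ := h.mem_R.1 hx
          rw [ht1, mul_zero, mul_zero]
          exact h.mem_R.2 ⟨_, rfl⟩
        · intro hx
          obtain ⟨a, ha⟩ := h.mem_R.1 hx
          refine h.mem_R.2 ⟨(T.nm z)⁻¹ * a, ?_⟩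
          have h1 := ht1 ((T.nm z)⁻¹ * a) 0 0
          rw [mul_zero, mul_zero, mul_inv_cancel_left₀ (T.nm_ne hz0)] at h1
          have h3 : t * x * t⁻¹ = t * v ((T.nm z)⁻¹ * a) 0 0 * t⁻¹ := by rw [ha, h1]
          exact mul_left_cancel (mul_right_cancel h3)
      refine ⟨h.cj t w0, hinv t htR ?_ w0 hw0N, ?_⟩
      · intro b
        refine ⟨1, one_mem _, z * (T.sg z)⁻¹ * b, ?_⟩
        rw [h.cj_one]
        unfold ep
        rw [h.cj_pr htR (h.E_le 0 b), ht1, mul_zero, mul_zero]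
      · rw [← hy0w, h.cj_pr htR hy0, h.Bm_pr (ht2 y0 hy0).1, (ht2 y0 hy0).2, hz, mul_assoc,
          inv_mul_cancel₀ hp0, mul_one]
  rw [eq_top_iff]
  intro w _
  apply hN0
  obtain ⟨w1, hw1, hB1⟩ := hB (h.Bm w)
  obtain ⟨x, hx, rfl⟩ := h.sp.pr_surj w
  obtain ⟨x1, hx1, rfl⟩ := h.sp.pr_surj w1
  rw [h.Bm_pr hx, h.Bm_pr hx1] at hB1
  have h1 : p (x * x1) = 0 := by rw [h.p_add x hx x1 hx1, hB1, T.add_self (h2 := h.h2)]
  have h3 := hperp (x * x1) (mul_mem hx hx1) ((h.p_eq_zero (mul_mem hx hx1)).1 h1)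
  rw [h.sp.pr_mul hx hx1] at h3
  have h4 := add_mem h3 hw1
  rwa [add_assoc, h.sp.add_self, add_zero] at h4

include f in
/-- **the scalars act on `W`** -/
theorem scal [Finite G] : Scal h.sp.form := by
  apply h.sp.scal_of
  intro N hN
  apply h.span f
  intro c hc b
  apply hN
  intro s
  refine ⟨h.cj c (h.ep (algebraMap k F s * b)), fun y => ?_⟩
  have h1 : ∀ b', h.sp.form (h.cj c (h.ep b')) y = T.tr (b' * T.sg (h.Bm (h.cj c⁻¹ y))) := by
    intro b'
    rw [← h.form_ep, ← h.form_cj hc (h.ep b'), h.cj_cj_inv (h.CR_le_NR hc)]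
  rw [h1, h1, mul_comm (algebraMap k F s) b, mul_assoc, mul_comm (algebraMap k F s), ← mul_assoc,
    T.tr_mul_alg, mul_comm]

end GIn

end Cfsg.Agent.Omega.NOne.SU

end
end

-- part: Mrg/Omega/NOne/SU/OutBasic
section
prune_inst 0xd1303744542202000018001430001c46fa0001020008800028800d0205c88e40ad450821b4a01502181a8c542838006813000000426800000e000800011d00a0800052048208a10406008f800880400000000000000000000000000000000000000000000
set_option linter.all false
open scoped Cfsg.Agent.FastGrp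


/-!
# THEOREM UNI: first consequences of the output `Out`

* `g_add_right`, `g_smul_right`, `g_nondeg`, `ext_tr`;
* `tv` : `v 0 0 d` acts as the transvection `m ↦ m + d g(m, e₀) e₀`;
* `rho c : W → W` : the action of `c ∈ N_G(R)` on `W = Q/R`.
-/

set_option autoImplicit false
set_option linter.unusedSectionVars false

open Subgroup

namespace Cfsg.Agent.Omega.NOne.SU

variable {G : Type*} [Group G] {k F : Type*} [Field k] [Field F] [Algebra k F]

namespace Out

variable {T : Quad k F} {V R Q Q' : Subgroup G} {v : k → F → k → G} {p : G → F}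
    {Φ : Type*} [AddCommGroup Φ] [Module F Φ] {φ χ : G → Φ} {hm : Φ → Φ → F}
    {W : Type*} [AddCommGroup W] [Module F W] {w : G → W} {g : W → W → F} {f₀ : W}
    {ι : Φ →ₗ[F] W} (D : Out T V R Q Q' v p φ χ hm w g f₀ ι)
include D

/-! ### The form -/

theorem g_zero_left (u : W) : g 0 u = 0 := by
  have := D.g_smul 0 0 u
  rwa [zero_smul, zero_mul] at this

theorem g_add_right (u m m' : W) : g u (m + m') = g u m + g u m' := by
  rw [D.g_sym (m + m') u, D.g_add, map_add, ← D.g_sym, ← D.g_sym]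

theorem g_smul_right (s : F) (u m : W) : g u (s • m) = T.sg s * g u m := by
  rw [D.g_sym (s • m) u, D.g_smul, map_mul, ← D.g_sym]

theorem g_zero_right (u : W) : g u 0 = 0 := by
  rw [D.g_sym 0 u, D.g_zero_left, map_zero]

theorem g_fe : g f₀ (w (v 0 1 0)) = 1 := by
  rw [D.g_sym (w (v 0 1 0)) f₀, D.g_ef, map_one]

theorem g_ιe (x : Φ) : g (ι x) (w (v 0 1 0)) = 0 := by
  rw [D.g_sym (w (v 0 1 0)) (ι x), D.g_eι, map_zero]

theorem g_ιf (x : Φ) : g (ι x) f₀ = 0 := by
  rw [D.g_sym f₀ (ι x), D.g_fι, map_zero]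

/-- the decomposition of a vector -/
theorem decomp (m : W) : ∃ x : Φ, m = g m f₀ • w (v 0 1 0) + ι x + g m (w (v 0 1 0)) • f₀ := by
  obtain ⟨a, x, b, hm⟩ := D.span m
  have h1 : g m f₀ = a := by
    rw [hm, D.g_add, D.g_add, D.g_smul, D.g_smul, D.g_ef, D.g_ιf, D.g_ff]; ring
  have h2 : g m (w (v 0 1 0)) = b := by
    rw [hm, D.g_add, D.g_add, D.g_smul, D.g_smul, D.g_ee, D.g_ιe, D.g_fe]; ring
  exact ⟨x, by rw [h1, h2]; exact hm⟩

theorem ι_inj {x : Φ} (h : ι x = 0) : x = 0 := by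
  apply D.hm_nondeg
  intro u
  rw [← D.g_ιι, h, D.g_zero_left]

theorem e_ne : w (v 0 1 0) ≠ 0 := by
  intro h
  have := D.g_ef
  rw [h, D.g_zero_left] at this
  exact one_ne_zero this.symm

theorem f_ne : f₀ ≠ 0 := by
  intro h
  have := D.g_ef
  rw [h, D.g_zero_right] at this
  exact one_ne_zero this.symm

/-! ### The projection -/

theorem w_one : w 1 = 0 := by
  have h1 := D.w_mul 1 (one_mem _) 1 (one_mem _)
  rw [mul_one] at h1
  exact left_eq_add.mp h1

theorem w_inv {x : G} (hx : x ∈ Q) : w x⁻¹ = - w x := by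
  have h1 := D.w_mul x⁻¹ (inv_mem hx) x hx
  rw [inv_mul_cancel, D.w_one] at h1
  exact eq_neg_of_add_eq_zero_left h1.symm

theorem w_eq_iff {x y : G} (hx : x ∈ Q) (hy : y ∈ Q) : w x = w y ↔ x * y⁻¹ ∈ R := by
  rw [← D.w_eq _ (mul_mem hx (inv_mem hy)), D.w_mul _ hx _ (inv_mem hy), D.w_inv hy, ← sub_eq_add_neg,
    sub_eq_zero]

/-- a representative in `Q` -/
theorem exists_rep (m : W) : ∃ x ∈ Q, w x = m := D.w_surj m

end Out

section gin

variable {T : Quad k F} {S : Sylow 2 G} {V R Q Q' : Subgroup G} {v : k → F → k → G} {p p' : G → F}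

namespace GIn

variable (I : GIn T S V R Q Q' v p p')
include I

theorem v_R (a : k) : v a 0 0 ∈ R := I.sp.a_mem a

theorem R_Q : R ≤ Q := I.sp.le

theorem v_mul (a : k) (b : F) (d : k) (a' : k) (b' : F) (d' : k) :
    v a b d * v a' b' d' = v (a + a') (b + b') (d + d') := (I.v_add _ _ _ _ _ _).symm

theorem v_ext {a : k} {b : F} {d a' : k} {b' : F} {d' : k} [CharP k 2] (h : v a b d = v a' b' d') :
    a = a' ∧ b = b' ∧ d = d' := by
  have h1 : v (a + a') (b + b') (d + d') = 1 := by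
    rw [I.v_add, h, I.v_sq]
  obtain ⟨h2, h3, h4⟩ := I.v_inj _ _ _ h1
  refine ⟨CharTwo.add_eq_zero.1 h2, ?_, CharTwo.add_eq_zero.1 h4⟩
  have := T.two_F b'
  exact add_right_cancel (h3.trans this.symm)

theorem R_V : R ≤ V := by
  intro x hx
  obtain ⟨a, rfl⟩ := I.mem_R.1 hx
  exact I.v_mem _ _ _

theorem V_CR : V ≤ centralizer (R : Set G) := by
  intro x hx
  rw [mem_centralizer_iff]
  intro y hy
  exact I.V_comm (I.R_V hy) hx

theorem Q_CR : Q ≤ centralizer (R : Set G) := by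
  intro x hx
  rw [mem_centralizer_iff]
  intro y hy
  exact I.sp.cen y hy x hx

theorem CR_NR : centralizer (R : Set G) ≤ normalizer (R : Set G) := centralizer_le_normalizer _

theorem Q_NR : Q ≤ normalizer (R : Set G) := I.Q_CR.trans (centralizer_le_normalizer _)

theorem Q_NV : Q ≤ normalizer (V : Set G) := by
  have key : ∀ y ∈ Q, ∀ x ∈ V, y * x * y⁻¹ ∈ V := by
    intro y hy x hx
    obtain ⟨a, b, d, rfl⟩ := I.v_surj x hx
    rw [I.act y hy]
    exact I.v_mem _ _ _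
  intro y hy
  rw [mem_normalizer_iff]
  intro x
  refine ⟨key y hy x, fun h => ?_⟩
  have := key y⁻¹ (inv_mem hy) _ h
  simpa [mul_assoc] using this

theorem V_CV : V ≤ centralizer (V : Set G) := by
  intro x hx
  rw [mem_centralizer_iff]
  intro y hy
  exact I.V_comm hy hx

/-- `y ∈ Q` is determined on `V` by `p y` -/
theorem mem_CV [CharP k 2] {y : G} (hy : y ∈ Q) : y ∈ centralizer (V : Set G) ↔ p y = 0 := by
  constructor
  · intro h
    rw [mem_centralizer_iff] at h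
    have h1 := h _ (I.v_mem 0 0 1)
    have h2 : y * v 0 0 1 * y⁻¹ = v 0 0 1 := by rw [← h1]; group
    rw [I.act y hy] at h2
    have h3 := (I.v_ext h2).2.1
    simpa using h3
  · intro h
    rw [mem_centralizer_iff]
    intro x hx
    obtain ⟨a, b, d, rfl⟩ := I.v_surj x hx
    have h2 := I.act y hy a b d
    rw [h, map_zero, zero_mul, map_zero, zero_mul, add_zero, add_zero] at h2
    have h3 : T.nm 0 = 0 := by
      apply T.alg_inj
      rw [T.nm_eq, zero_mul, map_zero]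
    rw [h3, zero_mul, add_zero] at h2
    calc v a b d * y = (y * v a b d * y⁻¹) * y := by rw [h2]
      _ = y * v a b d := by group

end GIn

end gin

namespace Out

variable {T : Quad k F} {S : Sylow 2 G} {V R Q Q' : Subgroup G} {v : k → F → k → G} {p p' : G → F}
    {Φ : Type*} [AddCommGroup Φ] [Module F Φ] {φ χ : G → Φ} {hm : Φ → Φ → F}
    {W : Type*} [AddCommGroup W] [Module F W] {w : G → W} {g : W → W → F} {f₀ : W}
    {ι : Φ →ₗ[F] W} (D : Out T V R Q Q' v p φ χ hm w g f₀ ι) (I : GIn T S V R Q Q' v p p')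
include D I

theorem w_v (a : k) (b : F) : w (v a b 0) = b • w (v 0 1 0) := by
  have h1 : v a b 0 = v a 0 0 * v 0 b 0 := by
    rw [I.v_mul, add_zero, zero_add, add_zero]
  rw [h1, D.w_mul _ (I.E_le _ _) _ (I.E_le _ _), (D.w_eq _ (I.E_le _ _)).2 (I.v_R a), zero_add, D.w_e]

/-- **`v 0 0 d` acts on `W` as a transvection.** -/
theorem tv [CharP k 2] (d : k) {y : G} (hy : y ∈ Q) :
    w (v 0 0 d * y * (v 0 0 d)⁻¹) = w y + (algebraMap k F d * g (w y) (w (v 0 1 0))) • w (v 0 1 0) := by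
  have h1 : v 0 0 d * y * (v 0 0 d)⁻¹ = v (T.nm (p y) * d) (p y * algebraMap k F d) 0 * y := by
    have h2 := I.act y hy 0 0 d
    have h3 : v 0 0 d * y * (v 0 0 d)⁻¹ = v 0 0 d * (y * v 0 0 d * y⁻¹) * y := by
      rw [I.v_inv]; group
    rw [h3, h2, I.v_mul, CharTwo.add_self_eq_zero, mul_zero, map_zero]
    simp only [zero_add]
  rw [h1, D.w_mul _ (I.E_le _ _) _ hy, D.w_v I, ← D.p_eq y hy, mul_comm (p y), add_comm]

/-! ### The action -/

open Classical in
/-- the action of `N_G(R)` on `W` -/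
noncomputable def rho (_D : Out T V R Q Q' v p φ χ hm w g f₀ ι) (c : G) (m : W) : W :=
  w (c * (_D.w_surj m).choose * c⁻¹)

omit I in
theorem rho_def (c : G) (m : W) : ∃ x ∈ Q, w x = m ∧ D.rho c m = w (c * x * c⁻¹) :=
  ⟨_, (D.w_surj m).choose_spec.1, (D.w_surj m).choose_spec.2, rfl⟩

theorem rho_w {c : G} (hc : c ∈ normalizer (R : Set G)) {x : G} (hx : x ∈ Q) :
    D.rho c (w x) = w (c * x * c⁻¹) := by
  obtain ⟨y, hy, h1, h2⟩ := D.rho_def c (w x)
  rw [h2, D.w_eq_iff (I.nor c hc y hy) (I.nor c hc x hx)]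
  rw [D.w_eq_iff hy hx] at h1
  have h3 : c * y * c⁻¹ * (c * x * c⁻¹)⁻¹ = c * (y * x⁻¹) * c⁻¹ := by group
  rw [h3]
  exact (mem_normalizer_iff.1 hc _).1 h1

theorem rho_mul {c c' : G} (hc : c ∈ normalizer (R : Set G)) (hc' : c' ∈ normalizer (R : Set G)) (m : W) :
    D.rho (c * c') m = D.rho c (D.rho c' m) := by
  obtain ⟨x, hx, rfl⟩ := D.w_surj m
  rw [D.rho_w I (mul_mem hc hc') hx, D.rho_w I hc' hx, D.rho_w I hc (I.nor c' hc' x hx)]
  congr 1
  group

theorem rho_one (m : W) : D.rho 1 m = m := by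
  obtain ⟨x, hx, rfl⟩ := D.w_surj m
  rw [D.rho_w I (one_mem _) hx]
  congr 1
  group

theorem rho_add {c : G} (hc : c ∈ normalizer (R : Set G)) (m m' : W) :
    D.rho c (m + m') = D.rho c m + D.rho c m' := by
  obtain ⟨x, hx, rfl⟩ := D.w_surj m
  obtain ⟨y, hy, rfl⟩ := D.w_surj m'
  rw [← D.w_mul x hx y hy, D.rho_w I hc (mul_mem hx hy), D.rho_w I hc hx, D.rho_w I hc hy,
    ← D.w_mul _ (I.nor c hc x hx) _ (I.nor c hc y hy)]
  congr 1
  group

theorem rho_inv_left {c : G} (hc : c ∈ normalizer (R : Set G)) (m : W) : D.rho c⁻¹ (D.rho c m) = m := by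
  rw [← D.rho_mul I (inv_mem hc) hc, inv_mul_cancel, D.rho_one I]

theorem rho_inv_right {c : G} (hc : c ∈ normalizer (R : Set G)) (m : W) : D.rho c (D.rho c⁻¹ m) = m := by
  rw [← D.rho_mul I hc (inv_mem hc), mul_inv_cancel, D.rho_one I]

theorem rho_zero {c : G} (hc : c ∈ normalizer (R : Set G)) : D.rho c 0 = 0 := by
  have := D.rho_add I hc 0 0
  rw [add_zero] at this
  exact left_eq_add.mp this

theorem rho_surj {c : G} (hc : c ∈ normalizer (R : Set G)) (m : W) : ∃ m', D.rho c m' = m :=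
  ⟨_, D.rho_inv_right I hc m⟩

theorem mem_Q_of_rho {c : G} (hc : c ∈ normalizer (R : Set G)) (h : ∀ m, D.rho c m = m) : c ∈ Q := by
  apply D.ker c hc
  intro x hx
  rw [← D.rho_w I hc hx, h]

theorem rho_Q {y : G} (hy : y ∈ Q) (m : W) : D.rho y m = m := by
  obtain ⟨x, hx, rfl⟩ := D.w_surj m
  rw [D.rho_w I (I.Q_NR hy) hx, D.w_eq_iff (I.nor y (I.Q_NR hy) x hx) hx]
  exact I.sp.comm y hy x hx

theorem rho_tv [CharP k 2] (d : k) (m : W) :
    D.rho (v 0 0 d) m = m + (algebraMap k F d * g m (w (v 0 1 0))) • w (v 0 1 0) := by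
  obtain ⟨x, hx, rfl⟩ := D.w_surj m
  rw [D.rho_w I (I.CR_NR (I.V_CR (I.v_mem _ _ _))) hx, D.tv I d hx]

end Out

end Cfsg.Agent.Omega.NOne.SU
end

-- part: Mrg/ParSys/Polar/Flags
section
prune_inst 0xc0300200402200000000001000000000580000020000000000800d020048000204000000008005001800000000000040020000000000000000000000000400000000100400000000000000000000000000000000000000000000000000000000000000000
set_option linter.all false
open scoped Cfsg.Agent.FastGrp

-- part: Mrg/Omega/NO1U/PlaneInv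
section
section


/-!
# The residue `{0, 1}` of the closing of NO-1' (β), q ≥ 4: the points of a plane are `X`-invariant

`R ≤ V`, `C = N(R)`, `N = N(V)`, `X ⊴ N` transitive on the points `x R x⁻¹` of `V`, `n ∈ X - C`.  A set `Λ ⊆ C` is the set of
the elements `h` such that the line `h V h⁻¹` through `R` lies in a totally isotropic line `ℓ` of `Q / R` (which contains
the point given by `V`).  `Inv.inv` : the set of the points `h x R (h x)⁻¹` (`h ∈ Λ`, `x ∈ X`) is invariant under `X`.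

(#13663 (1)-(4) of helper802, #13971 (K5) of helper301.)
-/

set_option autoImplicit false

namespace Cfsg.Agent.Omega.NO1U

open Subgroup

variable {G : Type*} [Group G]

/-- The data which do not depend on `ℓ`.  `T` : the torus, `Y = C_Q(V) C_{Q'}(V)`. -/
structure Base (R V X Q Y T : Subgroup G) (n : G) : Prop where
  RV : R ≤ V
  XN : X ≤ normalizer (V : Set G)
  nX : n ∈ X
  nC : n ∉ normalizer (R : Set G)
  /-- `N = X (N ∩ C)` -/
  NX : ∀ m ∈ normalizer (V : Set G), ∃ x ∈ X, ∃ c ∈ normalizer (R : Set G), m = x * c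
  QX : Q ≤ X
  QC : Q ≤ normalizer (R : Set G)
  /-- `Q ⊴ C` -/
  CQ : ∀ c ∈ normalizer (R : Set G), ∀ u ∈ Q, c * u * c⁻¹ ∈ Q
  /-- `Q` is transitive on the points `≠ R` of `V` -/
  Qtr : ∀ x ∈ X, x ∉ normalizer (R : Set G) → ∃ u ∈ Q, (u * n)⁻¹ * x ∈ normalizer (R : Set G)
  YX : Y ≤ X
  YV : Y ≤ centralizer (V : Set G)
  nY : ∀ y ∈ Y, n * y * n⁻¹ ∈ Y
  Yp : IsPGroup 2 Y
  TX : T ≤ X
  TC : T ≤ normalizer (R : Set G)
  TY : T ≤ normalizer (Y : Set G)
  Todd : (Nat.card T).Coprime 2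
  nT : ∀ t ∈ T, n * t * n⁻¹ ∈ T
  /-- `C_Y(T) = 1` -/
  YT : ∀ y ∈ Y, (∀ t ∈ T, t * y = y * t) → y = 1
  /-- `[X, C(V)] ≤ Y` -/
  comm : ∀ x ∈ X, ∀ g ∈ centralizer (V : Set G), x * g * x⁻¹ * g⁻¹ ∈ Y

/-- The set `Λ` of the `h ∈ C` which move the point of `Q / R` given by `V` into a totally isotropic line `ℓ` through it. -/
structure Line (R V X Q Y : Subgroup G) (n : G) (Λ : Set G) : Prop where
  one : (1 : G) ∈ Λ
  C : Λ ⊆ normalizer (R : Set G)
  mul : ∀ h ∈ Λ, ∀ m ∈ normalizer (R : Set G), m ∈ normalizer (V : Set G) → h * m ∈ Λ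
  X : ∀ x ∈ X, x ∈ normalizer (R : Set G) → ∀ h ∈ Λ, x * h ∈ Λ
  /-- `Y` is transitive on the points `≠ e` of `ℓ` -/
  Ytr : ∀ h ∈ Λ, h ∉ normalizer (V : Set G) → ∀ h' ∈ Λ, h' ∉ normalizer (V : Set G) →
    ∃ y ∈ Y, h⁻¹ * (y * h') ∈ normalizer (V : Set G)
  /-- `h V h⁻¹` centralises `V` -/
  cen : ∀ h ∈ Λ, h ∉ normalizer (V : Set G) → ∀ v ∈ V, h * v * h⁻¹ ∈ centralizer (V : Set G)
  /-- `Q = (Y ∩ Q) C_Q(h V h⁻¹)` -/
  cov : ∀ h ∈ Λ, h ∉ normalizer (V : Set G) → ∀ u ∈ Q, ∃ y ∈ Y, h⁻¹ * (y⁻¹ * u) * h ∈ centralizer (V : Set G)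
  /-- a point `≠ R` of `h V h⁻¹` meets `Y` trivially -/
  disj : ∀ h ∈ Λ, h ∉ normalizer (V : Set G) → ∀ r ∈ R, h * (n * r * n⁻¹) * h⁻¹ ∈ Y → r = 1

/-- the elements which move `R` to a point of the union -/
def Pts (R X : Subgroup G) (Λ : Set G) : Set G :=
  {g | ∃ h ∈ Λ, ∃ x ∈ X, ∃ c ∈ normalizer (R : Set G), g = h * x * c}

theorem centralizer_le_normalizer' {V : Subgroup G} : centralizer (V : Set G) ≤ normalizer (V : Set G) := by
  intro g hg
  rw [Subgroup.mem_normalizer_iff]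
  intro x
  rw [Subgroup.mem_centralizer_iff] at hg
  constructor
  · intro hx
    have := hg x hx
    have e : g * x * g⁻¹ = x := by rw [← this]; group
    rw [e]; exact hx
  · intro hx
    have := hg _ hx
    have e : g * x * g⁻¹ = x := by
      have h2 : g * x * g⁻¹ * g = g * (g * x * g⁻¹) := this
      have h3 : g * x = g * (g * x * g⁻¹) := by rw [← h2]; group
      exact (mul_left_cancel h3).symm
    rw [e] at hx; exact hx

namespace Base

variable {R V X Q Y T : Subgroup G} {n : G} (D : Base R V X Q Y T n)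

include D

theorem VC (g : G) (hg : g ∈ centralizer (V : Set G)) : g ∈ normalizer (R : Set G) := by
  apply centralizer_le_normalizer'
  rw [Subgroup.mem_centralizer_iff] at hg ⊢
  exact fun r hr => hg r (D.RV hr)

theorem YC : Y ≤ normalizer (R : Set G) := fun y hy => D.VC y (D.YV hy)

/-- `C(V)` is normalised by `N(V)` -/
theorem conjC {m g : G} (hm : m ∈ normalizer (V : Set G)) (hg : g ∈ centralizer (V : Set G)) :
    m * g * m⁻¹ ∈ centralizer (V : Set G) := by
  rw [Subgroup.mem_centralizer_iff] at hg ⊢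
  intro v hv
  have h1 : m⁻¹ * v * m ∈ V := by
    have := (Subgroup.mem_normalizer_iff.1 (inv_mem hm) v).1 hv
    rwa [inv_inv] at this
  have h2 := hg _ h1
  calc v * (m * g * m⁻¹) = m * ((m⁻¹ * v * m) * g) * m⁻¹ := by group
    _ = m * (g * (m⁻¹ * v * m)) * m⁻¹ := by rw [h2]
    _ = m * g * m⁻¹ * v := by group

theorem conjC' {m g : G} (hm : m ∈ normalizer (V : Set G)) (hg : g ∈ centralizer (V : Set G)) :
    m⁻¹ * g * m ∈ centralizer (V : Set G) := by
  have := D.conjC (inv_mem hm) hg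
  rwa [inv_inv] at this

theorem nN : n ∈ normalizer (V : Set G) := D.XN D.nX

/-- one line: `Y` is transitive on the points `≠ R` of `h V h⁻¹` -/
theorem key {Λ : Set G} (L : Line R V X Q Y n Λ) {h x : G} (hh : h ∈ Λ) (hN : h ∉ normalizer (V : Set G))
    (hx : x ∈ X) (hxC : x ∉ normalizer (R : Set G)) :
    ∃ y ∈ Y, ∃ c ∈ normalizer (R : Set G), h * x = y * (h * n) * c := by
  obtain ⟨u, hu, hc⟩ := D.Qtr x hx hxC
  have hu' : h * u * h⁻¹ ∈ Q := D.CQ h (L.C hh) u hu
  obtain ⟨y, hy, hcen⟩ := L.cov h hh hN _ hu'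
  refine ⟨y, hy, n⁻¹ * (h⁻¹ * (y⁻¹ * (h * u * h⁻¹)) * h) * n * ((u * n)⁻¹ * x), mul_mem ?_ hc, by group⟩
  exact D.VC _ (D.conjC' D.nN hcen)

/-- `Y` is transitive on the points off `V` -/
theorem key₂ {Λ : Set G} (L : Line R V X Q Y n Λ) {h₀ : G} (h₀Λ : h₀ ∈ Λ) (h₀N : h₀ ∉ normalizer (V : Set G))
    {h x : G} (hh : h ∈ Λ) (hN : h ∉ normalizer (V : Set G)) (hx : x ∈ X) (hxC : x ∉ normalizer (R : Set G)) :
    ∃ y ∈ Y, ∃ c ∈ normalizer (R : Set G), h * x = y * (h₀ * n) * c := by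
  obtain ⟨y, hy, c, hc, e⟩ := D.key L hh hN hx hxC
  obtain ⟨y', hy', hm⟩ := L.Ytr h₀ h₀Λ h₀N h hh hN
  -- `h = y'⁻¹ h₀ m`, `m ∈ N ∩ C`
  set m := h₀⁻¹ * (y' * h) with hmdef
  have hmC : m ∈ normalizer (R : Set G) :=
    mul_mem (inv_mem (L.C h₀Λ)) (mul_mem (D.YC hy') (L.C hh))
  obtain ⟨x', hx', c', hc', e'⟩ := D.NX _ (mul_mem hm D.nN)
  have hx'C : x' ∉ normalizer (R : Set G) := by
    intro hcon
    apply D.nC
    have e2 : n = m⁻¹ * (x' * c') := by rw [← e']; group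
    rw [e2]
    exact mul_mem (inv_mem hmC) (mul_mem hcon hc')
  obtain ⟨y'', hy'', c'', hc'', e''⟩ := D.key L h₀Λ h₀N hx' hx'C
  refine ⟨y * (y'⁻¹ * y''), mul_mem hy (mul_mem (inv_mem hy') hy''), c'' * c' * c, mul_mem (mul_mem hc'' hc') hc, ?_⟩
  calc h * x = y * (h * n) * c := e
    _ = y * (y'⁻¹ * (h₀ * (m * n))) * c := by rw [hmdef]; group
    _ = y * (y'⁻¹ * (h₀ * (x' * c'))) * c := by rw [e']
    _ = y * (y'⁻¹ * ((h₀ * x') * c')) * c := by group
    _ = y * (y'⁻¹ * ((y'' * (h₀ * n) * c'') * c')) * c := by rw [e'']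
    _ = y * (y'⁻¹ * y'') * (h₀ * n) * (c'' * c' * c) := by group

/-- `n` fixes a point of `Pts` which is not on `V` -/
theorem exists_fixed [Finite G] {Λ : Set G} (L : Line R V X Q Y n Λ) {h₀ : G} (h₀Λ : h₀ ∈ Λ)
    (h₀N : h₀ ∉ normalizer (V : Set G)) :
    ∃ y ∈ Y, (y * (h₀ * n))⁻¹ * (n * (y * (h₀ * n))) ∈ normalizer (R : Set G) := by
  -- `T` preserves the orbit of `h₀ n C` under `Y`
  have hYs : Group.IsSolvable Y := by
    have := D.Yp.isNilpotent
    infer_instance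
  have hcop : (Nat.card T).Coprime (Nat.card Y) := by
    obtain ⟨k, hk⟩ := (IsPGroup.iff_card (p := 2)).1 D.Yp
    rw [hk]
    exact Nat.Coprime.pow_right k D.Todd
  have horb : ∀ t ∈ T, ∃ k ∈ Y, t • ((h₀ * n : G) : G ⧸ normalizer (R : Set G)) =
      k • ((h₀ * n : G) : G ⧸ normalizer (R : Set G)) := by
    intro t ht
    have h1 := L.X t (D.TX ht) (D.TC ht) h₀ h₀Λ
    have hnot : t * h₀ ∉ normalizer (V : Set G) := by
      intro hcon
      apply h₀N
      have e : h₀ = t⁻¹ * (t * h₀) := by group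
      rw [e]
      exact mul_mem (inv_mem (D.XN (D.TX ht))) hcon
    obtain ⟨y, hy, c, hc, e⟩ := D.key₂ L h₀Λ h₀N h1 hnot D.nX D.nC
    refine ⟨y, hy, ?_⟩
    change ((t * (h₀ * n) : G) : G ⧸ normalizer (R : Set G)) = ((y * (h₀ * n) : G) : G ⧸ normalizer (R : Set G))
    rw [← mul_assoc t, e, QuotientGroup.eq]
    have e2 : (y * (h₀ * n) * c)⁻¹ * (y * (h₀ * n)) = c⁻¹ := by group
    rw [e2]; exact inv_mem hc
  obtain ⟨y, hy, hfix⟩ := Solvable.Glauberman.exists_smul_fixed T Y D.TY hcop (Or.inr hYs)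
    ((h₀ * n : G) : G ⧸ normalizer (R : Set G)) horb
  refine ⟨y, hy, ?_⟩
  -- `g = h₁ n`, `h₁ = y h₀ ∈ Λ`
  set g := y * (h₀ * n) with hg
  have hTg : ∀ t ∈ T, g⁻¹ * t * g ∈ normalizer (R : Set G) := by
    intro t ht
    have h1 := hfix t ht
    have h1 : ((t * (y * (h₀ * n)) : G) : G ⧸ normalizer (R : Set G)) = ((y * (h₀ * n) : G) : G ⧸ normalizer (R : Set G)) := h1
    rw [eq_comm, QuotientGroup.eq] at h1
    have e : g⁻¹ * t * g = (y * (h₀ * n))⁻¹ * (t * (y * (h₀ * n))) := by rw [hg]; group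
    rw [e]; exact h1
  have h₁Λ : y * h₀ ∈ Λ := L.X y (D.YX hy) (D.YC hy) h₀ h₀Λ
  have h₁N : y * h₀ ∉ normalizer (V : Set G) := by
    intro hcon
    apply h₀N
    have e : h₀ = y⁻¹ * (y * h₀) := by group
    rw [e]
    exact mul_mem (inv_mem (D.XN (D.YX hy))) hcon
  have hR3 : ∀ r ∈ R, g * r * g⁻¹ ∈ centralizer (V : Set G) := by
    intro r hr
    have h1 : n * r * n⁻¹ ∈ V := (Subgroup.mem_normalizer_iff.1 D.nN r).1 (D.RV hr)
    have h2 := L.cen _ h₁Λ h₁N _ h1
    have e : g * r * g⁻¹ = y * h₀ * (n * r * n⁻¹) * (y * h₀)⁻¹ := by rw [hg]; group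
    rw [e]; exact h2
  have hdisj : ∀ r ∈ R, g * r * g⁻¹ ∈ Y → r = 1 := by
    intro r hr h1
    apply L.disj _ h₁Λ h₁N r hr
    have e : y * h₀ * (n * r * n⁻¹) * (y * h₀)⁻¹ = g * r * g⁻¹ := by rw [hg]; group
    rw [e]; exact h1
  -- `T` centralises `R₃ = g R g⁻¹`
  have hTR : ∀ t ∈ T, ∀ r ∈ R, t * (g * r * g⁻¹) * t⁻¹ = g * r * g⁻¹ := by
    intro t ht r hr
    have h1 : t * (g * r * g⁻¹) * t⁻¹ * (g * r * g⁻¹)⁻¹ ∈ Y := D.comm t (D.TX ht) _ (hR3 r hr)
    have h2 : (g⁻¹ * t * g) * r * (g⁻¹ * t * g)⁻¹ ∈ R := (Subgroup.mem_normalizer_iff.1 (hTg t ht) r).1 hr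
    have h3 := hdisj _ (mul_mem h2 (inv_mem hr)) (by
      have e : g * ((g⁻¹ * t * g) * r * (g⁻¹ * t * g)⁻¹ * r⁻¹) * g⁻¹ =
          t * (g * r * g⁻¹) * t⁻¹ * (g * r * g⁻¹)⁻¹ := by group
      rw [e]; exact h1)
    have h4 : (g⁻¹ * t * g) * r * (g⁻¹ * t * g)⁻¹ = r := mul_inv_eq_one.1 h3
    calc t * (g * r * g⁻¹) * t⁻¹ = g * ((g⁻¹ * t * g) * r * (g⁻¹ * t * g)⁻¹) * g⁻¹ := by group
      _ = g * r * g⁻¹ := by rw [h4]
  have hTR' : ∀ t ∈ T, ∀ r ∈ R, t * (g * r * g⁻¹) = g * r * g⁻¹ * t := fun t ht r hr => by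
    have := hTR t ht r hr
    rwa [mul_inv_eq_iff_eq_mul] at this
  -- `n` normalises `R₃`
  have hnR : ∀ r ∈ R, (g⁻¹ * (n * g)) * r * (g⁻¹ * (n * g))⁻¹ ∈ R := by
    intro r hr
    have h1 : n * (g * r * g⁻¹) * n⁻¹ * (g * r * g⁻¹)⁻¹ ∈ Y := D.comm n D.nX _ (hR3 r hr)
    -- it commutes with `T`
    have h2 : ∀ t ∈ T, t * (n * (g * r * g⁻¹) * n⁻¹) = n * (g * r * g⁻¹) * n⁻¹ * t := by
      intro t ht
      -- `n⁻¹ t n ∈ T`
      have h3 : n⁻¹ * t * n ∈ T := by
        have hfin : ∀ t ∈ T, n⁻¹ * t * n ∈ T := by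
          have hle : T.map (MulAut.conj n).toMonoidHom ≤ T := by
            rintro _ ⟨t, ht, rfl⟩
            exact D.nT t ht
          have hcard : Nat.card T ≤ Nat.card (T.map (MulAut.conj n).toMonoidHom) := by
            rw [Subgroup.card_map_of_injective (MulAut.conj n).injective]
          have heq := Subgroup.eq_of_le_of_card_ge hle hcard
          intro t ht
          rw [← heq] at ht
          obtain ⟨s, hs, rfl⟩ := ht
          have e : n⁻¹ * (MulAut.conj n).toMonoidHom s * n = s := by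
            change n⁻¹ * (n * s * n⁻¹) * n = s
            group
          rw [e]; exact hs
        exact hfin t ht
      have h4 := hTR' _ h3 r hr
      calc t * (n * (g * r * g⁻¹) * n⁻¹) = n * ((n⁻¹ * t * n) * (g * r * g⁻¹)) * n⁻¹ := by group
        _ = n * (g * r * g⁻¹ * (n⁻¹ * t * n)) * n⁻¹ := by rw [h4]
        _ = n * (g * r * g⁻¹) * n⁻¹ * t := by group
    have h5 := D.YT _ h1 (by
      intro t ht
      have h6 := h2 t ht
      have h7 := hTR' t ht r hr
      calc t * (n * (g * r * g⁻¹) * n⁻¹ * (g * r * g⁻¹)⁻¹)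
          = (t * (n * (g * r * g⁻¹) * n⁻¹)) * (g * r * g⁻¹)⁻¹ := by group
        _ = n * (g * r * g⁻¹) * n⁻¹ * t * (g * r * g⁻¹)⁻¹ := by rw [h6]
        _ = n * (g * r * g⁻¹) * n⁻¹ * (g * r * g⁻¹)⁻¹ * (g * r * g⁻¹ * t) * (g * r * g⁻¹)⁻¹ := by group
        _ = n * (g * r * g⁻¹) * n⁻¹ * (g * r * g⁻¹)⁻¹ * (t * (g * r * g⁻¹)) * (g * r * g⁻¹)⁻¹ := by rw [h7]
        _ = n * (g * r * g⁻¹) * n⁻¹ * (g * r * g⁻¹)⁻¹ * t := by group)
    rw [mul_inv_eq_one] at h5
    have e : g⁻¹ * (n * g) * r * (g⁻¹ * (n * g))⁻¹ = g⁻¹ * (n * (g * r * g⁻¹) * n⁻¹) * g := by group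
    rw [e, h5]
    have e2 : g⁻¹ * (g * r * g⁻¹) * g = r := by group
    rw [e2]; exact hr
  have hle : R.map (MulAut.conj (g⁻¹ * (n * g))).toMonoidHom ≤ R := by
    rintro _ ⟨r, hr, rfl⟩
    exact hnR r hr
  have heq := Subgroup.eq_of_le_of_card_ge hle (by
    rw [Subgroup.card_map_of_injective (MulAut.conj (g⁻¹ * (n * g))).injective])
  rw [Subgroup.mem_normalizer_iff]
  intro r
  refine ⟨fun hr => hnR r hr, fun hr => ?_⟩
  have hr' : (g⁻¹ * (n * g)) * r * (g⁻¹ * (n * g))⁻¹ ∈ R.map (MulAut.conj (g⁻¹ * (n * g))).toMonoidHom := by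
    rw [heq]; exact hr
  obtain ⟨s, hs, he⟩ := hr'
  have he : (g⁻¹ * (n * g)) * s * (g⁻¹ * (n * g))⁻¹ = (g⁻¹ * (n * g)) * r * (g⁻¹ * (n * g))⁻¹ := he
  have : s = r := by
    have := mul_right_cancel he
    exact mul_left_cancel this
  rw [← this]; exact hs

/-- **the points of the plane given by `ℓ` are invariant under `X`** -/
theorem inv [Finite G] {Λ : Set G} (L : Line R V X Q Y n Λ) {x g : G} (hx : x ∈ X) (hg : g ∈ Pts R X Λ) :
    x * g ∈ Pts R X Λ := by
  by_cases hΛ : ∀ h ∈ Λ, h ∈ normalizer (V : Set G)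
  · -- only points of `V`
    obtain ⟨h, hh, x', hx', c, hc, rfl⟩ := hg
    obtain ⟨x'', hx'', c', hc', e⟩ := D.NX _ (mul_mem (D.XN hx) (mul_mem (hΛ h hh) (D.XN hx')))
    refine ⟨1, L.one, x'', hx'', c' * c, mul_mem hc' hc, ?_⟩
    calc x * (h * x' * c) = x * (h * x') * c := by group
      _ = x'' * c' * c := by rw [e]
      _ = 1 * x'' * (c' * c) := by group
  push Not at hΛ
  obtain ⟨h₀, h₀Λ, h₀N⟩ := hΛ
  obtain ⟨y₀, hy₀, hfix⟩ := D.exists_fixed L h₀Λ h₀N
  -- the set of the `x` which preserve `Pts`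
  have hC : ∀ x ∈ X, x ∈ normalizer (R : Set G) → ∀ g ∈ Pts R X Λ, x * g ∈ Pts R X Λ := by
    rintro x hx hxC _ ⟨h, hh, x', hx', c, hc, rfl⟩
    exact ⟨x * h, L.X x hx hxC h hh, x', hx', c, hc, by group⟩
  have hn : ∀ g ∈ Pts R X Λ, n * g ∈ Pts R X Λ := by
    rintro _ ⟨h, hh, x', hx', c, hc, rfl⟩
    by_cases hN : h ∈ normalizer (V : Set G)
    · obtain ⟨x'', hx'', c', hc', e⟩ := D.NX _ (mul_mem D.nN (mul_mem hN (D.XN hx')))
      refine ⟨1, L.one, x'', hx'', c' * c, mul_mem hc' hc, ?_⟩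
      calc n * (h * x' * c) = n * (h * x') * c := by group
        _ = x'' * c' * c := by rw [e]
        _ = 1 * x'' * (c' * c) := by group
    by_cases hxC : x' ∈ normalizer (R : Set G)
    · exact ⟨1, L.one, n, D.nX, h * x' * c, mul_mem (mul_mem (L.C hh) hxC) hc, by group⟩
    obtain ⟨y, hy, c', hc', e⟩ := D.key₂ L h₀Λ h₀N hh hN hx' hxC
    -- `n y h₀ n = n (y y₀⁻¹) n⁻¹ n (y₀ h₀ n)`
    have h1 : n * (y * y₀⁻¹) * n⁻¹ ∈ Y := D.nY _ (mul_mem hy (inv_mem hy₀))
    refine ⟨n * (y * y₀⁻¹) * n⁻¹ * y₀ * h₀, ?_, n, D.nX,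
      (y₀ * (h₀ * n))⁻¹ * (n * (y₀ * (h₀ * n))) * c' * c, mul_mem (mul_mem hfix hc') hc, ?_⟩
    · exact L.X _ (mul_mem (D.YX h1) (D.YX hy₀)) (mul_mem (D.YC h1) (D.YC hy₀)) _ h₀Λ
    · calc n * (h * x' * c) = n * (h * x') * c := by group
        _ = n * (y * (h₀ * n) * c') * c := by rw [e]
        _ = _ := by group
  by_cases hxC : x ∈ normalizer (R : Set G)
  · exact hC x hx hxC g hg
  · obtain ⟨u, hu, hc⟩ := D.Qtr x hx hxC
    have e : x * g = u * (n * ((u * n)⁻¹ * x * g)) := by group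
    rw [e]
    apply hC u (D.QX hu) (D.QC hu)
    apply hn
    exact hC _ (mul_mem (inv_mem (mul_mem (D.QX hu) D.nX)) hx) hc g hg

end Base

end Cfsg.Agent.Omega.NO1U

end

section


/-!
# NO-1' (β), q ≥ 4: the totally isotropic lines of `Q / R` through `e₀` (fields of `Line`)

`Lam L` = the set of the `h ∈ N(R)` with `h e₀ ≤ L`.
-/

set_option autoImplicit false
set_option linter.unusedSectionVars false
set_option linter.unusedVariables false

open Subgroup
open Cfsg.Agent.Omega.NOne.SU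

namespace Cfsg.Agent.Omega.NO1U

variable {G : Type*} [Group G] {k F : Type*} [Field k] [Field F] [Algebra k F] {T : Quad k F}
  {S : Sylow 2 G} {V R Q Q' : Subgroup G} {v : k → F → k → G} {p p' : G → F}
  {Φ : Type*} [AddCommGroup Φ] [Module F Φ] {φ χ : G → Φ} {hm : Φ → Φ → F}
  {W : Type*} [AddCommGroup W] [Module F W] {w : G → W} {g : W → W → F} {f₀ : W} {ι : Φ →ₗ[F] W}

/-- the elements of `N(R)` which map `F e₀` into `L` -/
def Lam (R : Subgroup G) (v : k → F → k → G) (w : G → W) (L : Submodule F W) : Set G :=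
  {c | c ∈ normalizer (R : Set G) ∧ ∀ b, w (c * v 0 b 0 * c⁻¹) ∈ L}

namespace OutL

variable (h : GIn T S V R Q Q' v p p') (o : Out T V R Q Q' v p φ χ hm w g f₀ ι)
include h o

theorem w_R {r : G} (hr : r ∈ R) : w r = 0 := (o.w_eq r (h.sp.le hr)).2 hr

theorem w_E (a : k) (b : F) : w (v a b 0) = b • w (v 0 1 0) := by
  have h1 : v a b 0 = v a 0 0 * v 0 b 0 := by rw [← h.v_add]; simp
  rw [h1, o.w_mul _ (h.E_le a 0) _ (h.E_le 0 b), w_R h o (h.mem_R.2 ⟨a, rfl⟩), zero_add, o.w_e]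

theorem w_one : w 1 = 0 := w_R h o (one_mem _)

theorem w_inv {x : G} (hx : x ∈ Q) : w x⁻¹ = - w x := by
  have h1 := o.w_mul x hx x⁻¹ (inv_mem hx)
  rw [mul_inv_cancel, w_one h o] at h1
  exact (neg_eq_of_add_eq_zero_right h1.symm).symm

theorem e₀_ne : w (v 0 1 0) ≠ 0 := by
  intro h0
  have := o.g_ef
  rw [h0] at this
  have h1 := o.g_smul 0 0 f₀
  rw [zero_smul, zero_mul] at h1
  rw [h1] at this
  exact zero_ne_one this

theorem g_zero (m : W) : g 0 m = 0 := by
  have h1 := o.g_smul 0 0 m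
  rwa [zero_smul, zero_mul] at h1

theorem g_add' (m u u' : W) : g m (u + u') = g m u + g m u' := by
  rw [o.g_sym (u + u') m, o.g_add, map_add, ← o.g_sym, ← o.g_sym]

theorem g_smul' (s : F) (m u : W) : g m (s • u) = T.sg s * g m u := by
  rw [o.g_sym (s • u) m, o.g_smul, map_mul, ← o.g_sym]

theorem g_neg (m u : W) : g (-m) u = - g m u := by
  have h1 := o.g_add m (-m) u
  rw [add_neg_cancel, g_zero h o] at h1
  exact (neg_eq_of_add_eq_zero_right h1.symm).symm

theorem g_swap {m u : W} (h0 : g m u = 0) : g u m = 0 := by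
  rw [o.g_sym, h0, map_zero]

/-- `x`, `y` commute if `g (w x) (w y) = 0` -/
theorem commute_of {x y : G} (hx : x ∈ Q) (hy : y ∈ Q) (h0 : g (w x) (w y) = 0) : x * y = y * x := by
  have h1 := o.comm x hx y hy
  rw [h0, map_zero, h.v_zero] at h1
  calc x * y = (x * y * x⁻¹ * y⁻¹) * (y * x) := by group
    _ = y * x := by rw [h1, one_mul]

theorem tr_of_commute {x y : G} (hx : x ∈ Q) (hy : y ∈ Q) (h0 : x * y = y * x) : T.tr (g (w x) (w y)) = 0 := by
  have h1 := o.comm x hx y hy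
  have h2 : x * y * x⁻¹ * y⁻¹ = 1 := by
    calc x * y * x⁻¹ * y⁻¹ = (x * y) * (y * x)⁻¹ := by group
      _ = 1 := by rw [h0, mul_inv_cancel]
  rw [h2, ← h.v_zero] at h1
  exact (h.v_eq h1).1.symm

theorem mem_CV_iff {y : G} (hy : y ∈ Q) : y ∈ centralizer (V : Set G) ↔ g (w y) (w (v 0 1 0)) = 0 := by
  rw [← h.p_eq_zero hy, o.p_eq y hy]

/-- an element of `Q` which commutes with all `v 0 b 0` centralises `V` -/
theorem mem_CV_of_commute {y : G} (hy : y ∈ Q) (hc : ∀ b, y * v 0 b 0 = v 0 b 0 * y) :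
    y ∈ centralizer (V : Set G) := by
  rw [mem_CV_iff h o hy]
  apply T.eq_zero_of_tr h.h2
  intro b
  have h1 := tr_of_commute h o hy (h.E_le 0 (T.sg b)) (hc (T.sg b))
  rw [o.w_e, g_smul' h o, T.sg_sg] at h1
  rwa [mul_comm]

theorem w_conj_E {c : G} (hc : c ∈ normalizer (R : Set G)) (a : k) (b : F) :
    w (c * v a b 0 * c⁻¹) = w (c * v 0 b 0 * c⁻¹) := by
  have h1 : v a b 0 = v a 0 0 * v 0 b 0 := by rw [← h.v_add]; simp
  have h2 : c * v a 0 0 * c⁻¹ ∈ R := (mem_normalizer_iff.1 hc _).1 (h.mem_R.2 ⟨a, rfl⟩)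
  have h3 : c * v a b 0 * c⁻¹ = (c * v a 0 0 * c⁻¹) * (c * v 0 b 0 * c⁻¹) := by rw [h1]; group
  rw [h3, o.w_mul _ (h.sp.le h2) _ (h.nor c hc _ (h.E_le 0 b)), w_R h o h2, zero_add]

/-- if `w x = w y` then `w (c x c⁻¹) = w (c y c⁻¹)` -/
theorem w_conj_congr {c x y : G} (hc : c ∈ normalizer (R : Set G)) (hx : x ∈ Q) (hy : y ∈ Q)
    (he : w x = w y) : w (c * x * c⁻¹) = w (c * y * c⁻¹) := by
  have h1 : w (x * y⁻¹) = 0 := by
    rw [o.w_mul x hx _ (inv_mem hy), w_inv h o hy, he, add_neg_cancel]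
  have h2 := (o.w_eq _ (mul_mem hx (inv_mem hy))).1 h1
  have h3 : c * (x * y⁻¹) * c⁻¹ ∈ R := (mem_normalizer_iff.1 hc _).1 h2
  have h4 : c * x * c⁻¹ = (c * (x * y⁻¹) * c⁻¹) * (c * y * c⁻¹) := by group
  rw [h4, o.w_mul _ (h.sp.le h3) _ (h.nor c hc _ hy), w_R h o h3, zero_add]

/-- `c e₀` is a point -/
theorem point {c : G} (hc : c ∈ normalizer (R : Set G)) :
    ∃ m, m ≠ 0 ∧ (∀ b, ∃ s : F, w (c * v 0 b 0 * c⁻¹) = s • m) ∧ ∀ s : F, ∃ b, w (c * v 0 b 0 * c⁻¹) = s • m := by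
  obtain ⟨m, -, -, hm⟩ := o.pt c hc
  choose s hs using hm
  have hinj : Function.Injective s := by
    intro b b' hb
    have h1 : w (c * v 0 b 0 * c⁻¹) = w (c * v 0 b' 0 * c⁻¹) := by rw [hs, hs, hb]
    have h2 := w_conj_congr h o (inv_mem hc) (h.nor c hc _ (h.E_le 0 b)) (h.nor c hc _ (h.E_le 0 b')) h1
    have e : ∀ x : G, c⁻¹ * (c * x * c⁻¹) * c⁻¹⁻¹ = x := fun x => by group
    rw [e, e, o.w_e b, o.w_e b'] at h2
    by_contra hne
    apply sub_ne_zero.2 hne
    have h3 : (b - b') • w (v 0 1 0) = 0 := by rw [sub_smul, h2, sub_self]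
    rcases smul_eq_zero.1 h3 with h4 | h4
    · exact h4
    · exact absurd h4 (e₀_ne h o)
  have := T.finF
  have hsur := Finite.surjective_of_injective hinj
  refine ⟨m, ?_, fun b => ⟨s b, hs b⟩, fun t => ?_⟩
  · rintro rfl
    have h1 : s 0 = s 1 ∨ True := Or.inr trivial
    have h2 := hs 1
    rw [smul_zero] at h2
    have h3 := w_conj_congr h o (inv_mem hc) (h.nor c hc _ (h.E_le 0 1)) (one_mem Q) (by rw [h2, w_one h o])
    have e : c⁻¹ * (c * v 0 1 0 * c⁻¹) * c⁻¹⁻¹ = v 0 1 0 := by group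
    have e2 : c⁻¹ * 1 * c⁻¹⁻¹ = 1 := by group
    rw [e, e2, w_one h o] at h3
    exact e₀_ne h o h3
  · obtain ⟨b, rfl⟩ := hsur t
    exact ⟨b, hs b⟩

/-- `stab`, with any element of the point -/
theorem mem_N {c : G} (hc : c ∈ normalizer (R : Set G)) {b s : F} (hb : b ≠ 0)
    (he : w (c * v 0 b 0 * c⁻¹) = s • w (v 0 1 0)) : c ∈ normalizer (V : Set G) := by
  obtain ⟨m, hm0, h1, h2⟩ := point h o hc
  obtain ⟨t, ht⟩ := h1 b
  have ht0 : t ≠ 0 := by
    rintro rfl
    rw [zero_smul] at ht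
    have h3 := w_conj_congr h o (inv_mem hc) (h.nor c hc _ (h.E_le 0 b)) (one_mem Q) (by rw [ht, w_one h o])
    have e : c⁻¹ * (c * v 0 b 0 * c⁻¹) * c⁻¹⁻¹ = v 0 b 0 := by group
    have e2 : c⁻¹ * 1 * c⁻¹⁻¹ = 1 := by group
    rw [e, e2, w_one h o, o.w_e] at h3
    rcases smul_eq_zero.1 h3 with h4 | h4
    · exact hb h4
    · exact e₀_ne h o h4
  apply o.stab c hc
  obtain ⟨r, hr⟩ := h1 1
  refine ⟨r * t⁻¹ * s, ?_⟩
  have h3 : m = (t⁻¹ * s) • w (v 0 1 0) := by
    rw [mul_smul, ← he, ht, smul_smul, inv_mul_cancel₀ ht0, one_smul]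
  rw [hr, h3, smul_smul, mul_assoc]

/-- elements of `N(R) ∩ N(V)` fix `F e₀` -/
theorem N_e₀ {c : G} (hc : c ∈ normalizer (R : Set G)) (hN : c ∈ normalizer (V : Set G)) (b : F) :
    ∃ a b', c * v 0 b 0 * c⁻¹ = v a b' 0 := by
  have h1 : c * v 0 b 0 * c⁻¹ ∈ V := (mem_normalizer_iff.1 hN _).1 (h.v_mem _ _ _)
  have h2 : c * v 0 b 0 * c⁻¹ ∈ Q := h.nor c hc _ (h.E_le 0 b)
  obtain ⟨a, b', d, he⟩ := h.v_surj _ h1
  rw [← he] at h2
  have := h.V_Q a b' d h2
  exact ⟨a, b', by rw [← he, this]⟩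

theorem lam_mul {L : Submodule F W} {c m : G} (hc : c ∈ Lam R v w L) (hm : m ∈ normalizer (R : Set G))
    (hN : m ∈ normalizer (V : Set G)) : c * m ∈ Lam R v w L := by
  refine ⟨mul_mem hc.1 hm, fun b => ?_⟩
  obtain ⟨a, b', he⟩ := N_e₀ h o hm hN b
  have e : c * m * v 0 b 0 * (c * m)⁻¹ = c * (m * v 0 b 0 * m⁻¹) * c⁻¹ := by group
  rw [e, he, w_conj_E h o hc.1]
  exact hc.2 b'

theorem lam_one {L : Submodule F W} (hL : w (v 0 1 0) ∈ L) : (1 : G) ∈ Lam R v w L := by
  refine ⟨one_mem _, fun b => ?_⟩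
  have e : 1 * v 0 b 0 * 1⁻¹ = v 0 b 0 := by group
  rw [e, o.w_e]
  exact L.smul_mem _ hL

section iso

variable {L : Submodule F W} (hL : w (v 0 1 0) ∈ L) (hiso : ∀ x ∈ L, ∀ y ∈ L, g x y = 0)
include hL hiso

/-- the elements `h V h⁻¹` centralise `V ∩ Q` -/
theorem conj_cen {c : G} (hc : c ∈ Lam R v w L) (b : F) : c⁻¹ * v 0 b 0 * c ∈ centralizer (V : Set G) := by
  apply mem_CV_of_commute h o (h.nor_inv hc.1 (h.E_le 0 b))
  intro b'
  have h1 : v 0 b 0 * (c * v 0 b' 0 * c⁻¹) = c * v 0 b' 0 * c⁻¹ * v 0 b 0 := by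
    apply commute_of h o (h.E_le 0 b) (h.nor c hc.1 _ (h.E_le 0 b'))
    rw [o.w_e]
    exact hiso _ (L.smul_mem _ hL) _ (hc.2 b')
  calc c⁻¹ * v 0 b 0 * c * v 0 b' 0 = c⁻¹ * (v 0 b 0 * (c * v 0 b' 0 * c⁻¹)) * c := by group
    _ = c⁻¹ * (c * v 0 b' 0 * c⁻¹ * v 0 b 0) * c := by rw [h1]
    _ = v 0 b' 0 * (c⁻¹ * v 0 b 0 * c) := by group

theorem conj_E {c x : G} (hc : c ∈ Lam R v w L) (hx : x ∈ V) (a : k) (b : F) :
    (c * x * c⁻¹) * v a b 0 * (c * x * c⁻¹)⁻¹ = v a b 0 := by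
  have h1 := conj_cen h o hL hiso hc b
  have h2 : x * (c⁻¹ * v 0 b 0 * c) = c⁻¹ * v 0 b 0 * c * x := (mem_centralizer_iff.1 h1) x hx
  have h3 : (c * x * c⁻¹) * v 0 b 0 * (c * x * c⁻¹)⁻¹ = v 0 b 0 := by
    calc (c * x * c⁻¹) * v 0 b 0 * (c * x * c⁻¹)⁻¹ = c * (x * (c⁻¹ * v 0 b 0 * c)) * x⁻¹ * c⁻¹ := by group
      _ = c * (c⁻¹ * v 0 b 0 * c * x) * x⁻¹ * c⁻¹ := by rw [h2]
      _ = v 0 b 0 := by group
  have h4 : (c * x * c⁻¹) * v a 0 0 * (c * x * c⁻¹)⁻¹ = v a 0 0 := by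
    have h5 : c⁻¹ * v a 0 0 * c ∈ R := by
      have := (mem_normalizer_iff.1 (inv_mem hc.1) (v a 0 0)).1 (h.mem_R.2 ⟨a, rfl⟩)
      rwa [inv_inv] at this
    have h6 : x * (c⁻¹ * v a 0 0 * c) = c⁻¹ * v a 0 0 * c * x := h.V_comm hx (h.R_le_V h5)
    calc (c * x * c⁻¹) * v a 0 0 * (c * x * c⁻¹)⁻¹ = c * (x * (c⁻¹ * v a 0 0 * c)) * x⁻¹ * c⁻¹ := by group
      _ = c * (c⁻¹ * v a 0 0 * c * x) * x⁻¹ * c⁻¹ := by rw [h6]
      _ = v a 0 0 := by group
  have h7 : v a b 0 = v a 0 0 * v 0 b 0 := by rw [← h.v_add]; simp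
  calc (c * x * c⁻¹) * v a b 0 * (c * x * c⁻¹)⁻¹
      = ((c * x * c⁻¹) * v a 0 0 * (c * x * c⁻¹)⁻¹) * ((c * x * c⁻¹) * v 0 b 0 * (c * x * c⁻¹)⁻¹) := by
        rw [h7]; group
    _ = v a b 0 := by rw [h3, h4, h7]

/-- `h V h⁻¹ ≤ C(V)` -/
theorem cen (hpts : ∀ m ∈ normalizer (V : Set G), (∀ d, ∃ a, m * v 0 0 d * m⁻¹ = v a 0 0) ∨
      ∃ y ∈ Q, ∀ d, ∃ d', m * v 0 0 d * m⁻¹ = y * v 0 0 d' * y⁻¹)
    {c x : G} (hc : c ∈ Lam R v w L) (hx : x ∈ V) : c * x * c⁻¹ ∈ centralizer (V : Set G) := by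
  set u := c * x * c⁻¹ with hu
  have hxR : x ∈ centralizer (R : Set G) := h.CV_le_CR (h.V_le_CV hx)
  have huR : u ∈ centralizer (R : Set G) := by
    rw [mem_centralizer_iff]
    intro r hr
    obtain ⟨a, rfl⟩ := h.mem_R.1 hr
    have := conj_E h o hL hiso hc hx a 0
    rw [← hu, mul_inv_eq_iff_eq_mul] at this
    exact this.symm
  have huN : u ∈ normalizer (V : Set G) := by
    apply o.stab u (h.CR_le_NR huR)
    refine ⟨1, ?_⟩
    rw [hu, conj_E h o hL hiso hc hx 0 1, one_smul]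
  have huE : ∀ a b, u * v a b 0 * u⁻¹ = v a b 0 := fun a b => conj_E h o hL hiso hc hx a b
  -- the action on `v 0 0 d`
  have key : ∀ d : k, d ≠ 0 → ∃ a', u * v 0 0 d * u⁻¹ = v a' 0 d := by
    intro d hd
    obtain ⟨a', b', d', he⟩ := h.v_surj _ ((mem_normalizer_iff.1 huN _).1 (h.v_mem 0 0 d))
    have hd' : d' ≠ 0 := by
      rintro rfl
      have h1 : v 0 0 d = u⁻¹ * v a' b' 0 * u := by rw [he]; group
      have h2 : u⁻¹ * v a' b' 0 * u = v a' b' 0 := by
        have := huE a' b'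
        rw [mul_inv_eq_iff_eq_mul] at this
        rw [mul_assoc, ← this]; group
      rw [h2] at h1
      exact hd (h.v_eq h1).2.2
    -- conjugation of `[y, v 0 0 d]`
    have hp : ∀ y ∈ Q, p (u * y * u⁻¹) * algebraMap k F d' = p y * algebraMap k F d ∧
        T.tr (T.sg (p (u * y * u⁻¹)) * b') + T.nm (p (u * y * u⁻¹)) * d' = T.nm (p y) * d := by
      intro y hy
      have h1 := h.act y hy 0 0 d
      have h2 := h.act (u * y * u⁻¹) (h.nor u (h.CR_le_NR huR) y hy) a' b' d'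
      have h3 : (u * y * u⁻¹) * v a' b' d' * (u * y * u⁻¹)⁻¹ = u * (y * v 0 0 d * y⁻¹) * u⁻¹ := by
        rw [he]; group
      rw [h3, h1] at h2
      have h4 : v (0 + T.tr (T.sg (p y) * 0) + T.nm (p y) * d) (0 + p y * algebraMap k F d) d =
          v (T.nm (p y) * d) (p y * algebraMap k F d) 0 * v 0 0 d := by
        rw [← h.v_add]; simp
      have h5 : u * v (0 + T.tr (T.sg (p y) * 0) + T.nm (p y) * d) (0 + p y * algebraMap k F d) d * u⁻¹ =
          v (T.nm (p y) * d + a') (p y * algebraMap k F d + b') (0 + d') := by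
        have h8 := huE (T.nm (p y) * d) (p y * algebraMap k F d)
        rw [h4, h.v_add, he]
        nth_rewrite 2 [← h8]
        group
      rw [h5] at h2
      obtain ⟨h6, h7, -⟩ := h.v_eq h2
      constructor
      · rw [add_comm b'] at h7
        exact (add_right_cancel h7).symm
      · rw [add_comm _ a', add_assoc] at h6
        exact (add_left_cancel h6).symm
    -- `c = d / d'`
    obtain ⟨r, hr⟩ : ∃ r : k, r = d * d'⁻¹ := ⟨_, rfl⟩
    have hp' : ∀ y ∈ Q, p (u * y * u⁻¹) = algebraMap k F r * p y := by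
      intro y hy
      have h1 := (hp y hy).1
      have h2 : algebraMap k F d' ≠ 0 := (map_ne_zero _).2 hd'
      rw [hr, map_mul, map_inv₀]
      field_simp
      rw [h1]; ring
    have hlin : ∀ l : F, r * T.tr (T.sg l * b') = T.nm l * (d + r * r * d') := by
      intro l
      obtain ⟨y, hy, rfl⟩ := h.p_surj l
      have h1 := (hp y hy).2
      rw [hp' y hy] at h1
      have h2 : T.nm (algebraMap k F r * p y) = r * r * T.nm (p y) := by
        apply (algebraMap k F).injective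
        rw [T.nm_eq, map_mul T.sg, map_mul (algebraMap k F), map_mul (algebraMap k F), T.nm_eq, T.sg_alg]
        ring
      have h3 : T.tr (T.sg (algebraMap k F r * p y) * b') = r * T.tr (T.sg (p y) * b') := by
        have e : T.sg (algebraMap k F r * p y) * b' = r • (T.sg (p y) * b') := by
          rw [map_mul, T.sg_alg, Algebra.smul_def]; ring
        rw [e, map_smul, smul_eq_mul]
      rw [h2, h3] at h1
      have h4 : (r * r * T.nm (p y) * d') + (r * r * T.nm (p y) * d') = 0 := T.add_selfk (h2 := h.h2) _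
      calc r * T.tr (T.sg (p y) * b') = r * T.tr (T.sg (p y) * b') + (r * r * T.nm (p y) * d' + r * r * T.nm (p y) * d') := by
            rw [h4, add_zero]
        _ = T.nm (p y) * d + r * r * T.nm (p y) * d' := by rw [← add_assoc, h1]
        _ = _ := by ring
    -- a zero of the linear form
    have hconst : d + r * r * d' = 0 := by
      by_contra hne
      -- the map `l ↦ r tr(sg l b')` is not injective
      let L₀ : F →ₗ[k] k :=
        { toFun := fun l => r * T.tr (T.sg l * b')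
          map_add' := fun x y => by rw [map_add, add_mul, map_add, mul_add]
          map_smul' := fun s x => by
            have e : T.sg (s • x) * b' = s • (T.sg x * b') := by
              rw [map_smul, smul_mul_assoc]
            rw [e, map_smul, smul_eq_mul, smul_eq_mul, RingHom.id_apply]; ring }
      have hninj : ¬ Function.Injective L₀ := by
        intro hinj
        have := T.fink
        have h1 := Nat.card_le_card_of_injective _ hinj
        have h2 := T.card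
        have h4 := T.four
        rw [h2, pow_two] at h1
        nlinarith only [h1, h4]
      apply hninj
      rw [injective_iff_map_eq_zero]
      intro l hl
      have hl : r * T.tr (T.sg l * b') = 0 := hl
      rw [hlin] at hl
      by_contra hl0
      rcases mul_eq_zero.1 hl with h1 | h1
      · exact T.nm_ne hl0 h1
      · exact hne h1
    have hr1 : d' = d := by
      have h1 : d + r * r * d' = d * (1 + d * d'⁻¹) := by rw [hr]; field_simp
      rw [h1] at hconst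
      rcases mul_eq_zero.1 hconst with h2 | h2
      · exact absurd h2 hd
      · have h3 : d * d'⁻¹ = 1 := by
          have : (1 : k) + 1 = 0 := T.add_selfk (h2 := h.h2) _
          calc d * d'⁻¹ = (1 + 1) + d * d'⁻¹ := by rw [this, zero_add]
            _ = 1 + (1 + d * d'⁻¹) := by ring
            _ = 1 := by rw [h2, add_zero]
        exact (mul_inv_eq_one₀ hd').1 h3 |>.symm
    have hb : b' = 0 := by
      have hr1' : r = 1 := by rw [hr, hr1, mul_inv_cancel₀ hd]
      have h1 : ∀ l, T.tr (b' * l) = 0 := by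
        intro l
        have h2 := hlin (T.sg l)
        rw [hr1', one_mul, T.sg_sg, one_mul, one_mul, hr1, T.add_selfk (h2 := h.h2), mul_zero] at h2
        rwa [mul_comm]
      exact T.eq_zero_of_tr h.h2 h1
    exact ⟨a', by rw [← he, hb, hr1]⟩
  -- `u` maps `R'` to a point
  have key2 : ∀ d, u * v 0 0 d * u⁻¹ = v 0 0 d := by
    intro d
    by_cases hd : d = 0
    · rw [hd, h.v_zero]; group
    obtain ⟨a', he⟩ := key d hd
    rcases hpts u huN with h1 | ⟨y, hy, h1⟩
    · obtain ⟨a, h2⟩ := h1 d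
      rw [h2] at he
      exact absurd (h.v_eq he).2.2.symm hd
    · obtain ⟨d', h2⟩ := h1 d
      rw [he, h.act y hy] at h2
      obtain ⟨h3, h4, h5⟩ := h.v_eq h2
      rw [← h5] at h3 h4
      have h6 : p y = 0 := by
        rw [zero_add] at h4
        rcases mul_eq_zero.1 h4.symm with h7 | h7
        · exact h7
        · exact absurd ((map_eq_zero _).1 h7) hd
      rw [h6, T.nm_zero, mul_zero, map_zero, zero_mul, zero_add, zero_add] at h3
      rw [he, h3]
  rw [mem_centralizer_iff]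
  intro z hz
  obtain ⟨a, b, d, rfl⟩ := h.v_surj z hz
  have h1 : v a b d = v a b 0 * v 0 0 d := by rw [← h.v_add]; simp
  have h2 : u * v a b d * u⁻¹ = v a b d := by
    calc u * v a b d * u⁻¹ = (u * v a b 0 * u⁻¹) * (u * v 0 0 d * u⁻¹) := by rw [h1]; group
      _ = v a b d := by rw [huE, key2, h1]
  rw [mul_inv_eq_iff_eq_mul] at h2
  exact h2.symm

end iso

end OutL

end Cfsg.Agent.Omega.NO1U

end
end

-- part: Mrg/ParSys/Polar/Flags
section
section


/-!
# The residues of rank two, the panels and the connectivity of a polar space of rank `m` of subspaces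

`PolSp S m` : the subspaces `X` with `S X` ("totally singular") form a polar space of rank `m`.
`Act sg S` : the group acts on it, transitively enough.
`fst C sg m f J` : the stabiliser in `C` of the members `f d` (`d ≤ m`, `d ∉ J`) of the flag `f`.

* `trans` : `C` is transitive on the flags;
* `rk_two`, `rk_three`, `rk_three'`, `rk_four`, `rk_four'` : the rank two residues;
* `relIndex_fst` : the number of chambers of a panel;
* `le_iSup` : `C` is generated by the panel stabilisers.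
-/

set_option autoImplicit false
set_option linter.unusedSectionVars false
set_option linter.unusedVariables false

namespace Cfsg.Agent.ParSys.Polar.Flags

open Module Cfsg.Agent.ParSys Cfsg.Agent.ParSys.Polar.Incid

variable {F W : Type*} [Field F] [AddCommGroup W] [Module F W] [FiniteDimensional F W]

/-- the subspaces with `S` are the totally singular subspaces of a polar space of rank `m` -/
structure PolSp (S : Submodule F W → Prop) (m : ℕ) : Prop where
  bot : S ⊥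
  down : ∀ {X Y}, X ≤ Y → S Y → S X
  ext : ∀ X, S X → finrank F X < m → ∃ Y, S Y ∧ X ≤ Y ∧ finrank F Y = finrank F X + 1
  conn : ∀ X Y Z, S Y → S Z → X ≤ Y → X ≤ Z → finrank F Y = finrank F X + 1 →
    finrank F Z = finrank F X + 1 → finrank F X + 1 < m →
    ∃ T, X ≤ T ∧ finrank F T = finrank F X + 1 ∧ S (Y ⊔ T) ∧ S (Z ⊔ T)
  ex : ∀ X Y, S X → S Y → finrank F X + 1 = m → finrank F Y = m → ¬ X ≤ Y →
    finrank F ↥(X ⊓ Y) + 2 = m → ∃ Z, S Z ∧ X ≤ Z ∧ finrank F Z = m ∧ finrank F ↥(Z ⊓ Y) + 1 = m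
  uq : ∀ X Y Z Z', S X → S Y → S Z → S Z' → finrank F X + 1 = m → finrank F Y = m →
    finrank F Z = m → finrank F Z' = m → ¬ X ≤ Y → finrank F ↥(X ⊓ Y) + 2 = m → X ≤ Z → X ≤ Z' →
    finrank F ↥(Z ⊓ Y) + 1 = m → finrank F ↥(Z' ⊓ Y) + 1 = m → Z = Z'

/-- a group acts on the polar space, transitively on the members over a given one, fixing this one elementwise -/
structure Act {C : Type*} [Group C] (sg : C →* Equiv.Perm (Submodule F W)) (S : Submodule F W → Prop) :
    Prop where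
  le : ∀ c {X Y}, X ≤ Y → sg c X ≤ sg c Y
  rk : ∀ c X, finrank F ↥(sg c X) = finrank F X
  sing : ∀ c {X}, S X → S (sg c X)
  tr : ∀ X Y Z, S Y → S Z → X ≤ Y → X ≤ Z → finrank F Y = finrank F X + 1 →
    finrank F Z = finrank F X + 1 → ∃ c, (∀ T ≤ X, sg c T = T) ∧ sg c Y = Z

/-- `f 0 < f 1 < ... < f m` is a flag of singular subspaces -/
structure Fl (S : Submodule F W → Prop) (m : ℕ) (f : ℕ → Submodule F W) : Prop where
  mono : ∀ d < m, f d ≤ f (d + 1)
  rk : ∀ d ≤ m, finrank F (f d) = d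
  sing : S (f m)

variable {S : Submodule F W → Prop} {m : ℕ} {f f' : ℕ → Submodule F W}

theorem Fl.le (hf : Fl S m f) {a b : ℕ} (hab : a ≤ b) (hb : b ≤ m) : f a ≤ f b := by
  induction b, hab using Nat.le_induction with
  | base => exact le_rfl
  | succ b hab ih => exact (ih (by omega)).trans (hf.mono b (by omega))

theorem Fl.si (hS : PolSp S m) (hf : Fl S m f) {d : ℕ} (hd : d ≤ m) : S (f d) :=
  hS.down (hf.le hd le_rfl) hf.sing

theorem eq_of_rk {X Y : Submodule F W} (h : X ≤ Y) (h' : finrank F X = finrank F Y) : X = Y :=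
  Submodule.eq_of_le_of_finrank_eq h h'

theorem Fl.zero (hf : Fl S m f) : f 0 = ⊥ := by
  have := hf.rk 0 (Nat.zero_le _)
  exact Submodule.finrank_eq_zero.1 this

/-- changing one member of a flag -/
theorem Fl.update (hS : PolSp S m) (hf : Fl S m f) {d : ℕ} {X : Submodule F W} (hX : S X)
    (hr : finrank F X = d) (h1 : ∀ e, e + 1 = d → f e ≤ X) (h2 : d < m → X ≤ f (d + 1)) :
    Fl S m (Function.update f d X) where
  mono e he := by
    by_cases h3 : e = d
    · subst h3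
      rw [Function.update_self, Function.update_of_ne (by omega)]
      exact h2 he
    · by_cases h4 : e + 1 = d
      · subst h4
        rw [Function.update_self, Function.update_of_ne (by omega)]
        exact h1 _ rfl
      · rw [Function.update_of_ne h3, Function.update_of_ne h4]
        exact hf.mono e he
  rk e he := by
    by_cases h3 : e = d
    · subst h3; rw [Function.update_self]; exact hr
    · rw [Function.update_of_ne h3]; exact hf.rk e he
  sing := by
    by_cases h3 : m = d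
    · subst h3; rw [Function.update_self]; exact hX
    · rw [Function.update_of_ne h3]; exact hf.sing

/-- extending a flag -/
theorem exists_ext (hS : PolSp S m) {k : ℕ} (hf : Fl S k f) (hk : k ≤ m) :
    ∃ f', Fl S m f' ∧ ∀ d ≤ k, f' d = f d := by
  have key : ∀ j, k + j ≤ m → ∃ f', Fl S (k + j) f' ∧ ∀ d ≤ k, f' d = f d := by
    intro j
    induction j with
    | zero => intro _; exact ⟨f, hf, fun _ _ => rfl⟩
    | succ j ih =>
      intro hj
      obtain ⟨f', h1, h2⟩ := ih (by omega)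
      have h3 := h1.rk (k + j) le_rfl
      obtain ⟨Y, hY, hY1, hY2⟩ := hS.ext _ h1.sing (by omega)
      refine ⟨Function.update f' (k + j + 1) Y, ⟨?_, ?_, ?_⟩, ?_⟩
      · intro e he
        rw [Function.update_of_ne (by omega)]
        by_cases h4 : e = k + j
        · subst h4; rw [Function.update_self]; exact hY1
        · rw [Function.update_of_ne (by omega)]; exact h1.mono e (by omega)
      · intro e he
        by_cases h4 : e = k + j + 1
        · subst h4; rw [Function.update_self, hY2, h3]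
        · rw [Function.update_of_ne h4]; exact h1.rk e (by omega)
      · show S (Function.update f' (k + j + 1) Y (k + j + 1))
        rw [Function.update_self]; exact hY
      · intro d hd
        rw [Function.update_of_ne (by omega)]; exact h2 d hd
  obtain ⟨j, rfl⟩ := Nat.exists_eq_add_of_le hk
  exact key j le_rfl

section act

variable {C : Type*} [Group C] {sg : C →* Equiv.Perm (Submodule F W)}

theorem Act.le_iff (hA : Act sg S) (c : C) {X Y : Submodule F W} : sg c X ≤ sg c Y ↔ X ≤ Y := by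
  refine ⟨fun h => ?_, hA.le c⟩
  have := hA.le c⁻¹ h
  rw [map_inv] at this
  change (sg c).symm (sg c X) ≤ (sg c).symm (sg c Y) at this
  rwa [Equiv.symm_apply_apply, Equiv.symm_apply_apply] at this

/-- **`C` is transitive on the flags** -/
theorem trans (hA : Act sg S) (hS : PolSp S m) (hf : Fl S m f) (hf' : Fl S m f') :
    ∃ c, ∀ d ≤ m, sg c (f d) = f' d := by
  have key : ∀ k ≤ m, ∃ c, ∀ d ≤ k, sg c (f d) = f' d := by
    intro k
    induction k with
    | zero =>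
      intro _
      refine ⟨1, fun d hd => ?_⟩
      obtain rfl : d = 0 := by omega
      rw [hf.zero, hf'.zero]; simp only [_root_.map_one, _root_.Equiv.Perm.coe_one, _root_.id_eq]
    | succ k ih =>
      intro hk
      obtain ⟨c, hc⟩ := ih (by omega)
      obtain ⟨c', h1, h2⟩ := hA.tr (f' k) (sg c (f (k + 1))) (f' (k + 1)) (hA.sing c (hf.si hS hk))
        (hf'.si hS hk) (by rw [← hc k le_rfl]; exact hA.le c (hf.mono k (by omega)))
        (hf'.mono k (by omega)) (by rw [hA.rk, hf.rk _ hk, hf'.rk k (by omega)])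
        (by rw [hf'.rk _ hk, hf'.rk k (by omega)])
      refine ⟨c' * c, fun d hd => ?_⟩
      rw [map_mul, Equiv.Perm.mul_apply]
      by_cases h3 : d = k + 1
      · subst h3; exact h2
      · rw [hc d (by omega)]
        exact h1 _ (hf'.le (by omega) (by omega))
  exact key m le_rfl

end act

/-! ### Flag stabilisers -/

variable {G : Type*} [Group G] {C : Subgroup G} {sg : ↥C →* Equiv.Perm (Submodule F W)}

/-- the stabiliser in `C` of the members of the flag `f` outside `J` -/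
def fst (C : Subgroup G) (sg : ↥C →* Equiv.Perm (Submodule F W)) (m : ℕ) (f : ℕ → Submodule F W)
    (J : Set ℕ) : Subgroup G where
  carrier := {x | ∃ h : x ∈ C, ∀ d ≤ m, d ∉ J → sg ⟨x, h⟩ (f d) = f d}
  one_mem' := ⟨C.one_mem, fun d _ _ => by
    rw [show (⟨1, C.one_mem⟩ : ↥C) = 1 from rfl, map_one]; rfl⟩
  mul_mem' := by
    rintro x y ⟨hx, hx'⟩ ⟨hy, hy'⟩
    refine ⟨mul_mem hx hy, fun d hd hJ => ?_⟩
    rw [show (⟨x * y, mul_mem hx hy⟩ : ↥C) = ⟨x, hx⟩ * ⟨y, hy⟩ from rfl, map_mul, Equiv.Perm.mul_apply,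
      hy' d hd hJ, hx' d hd hJ]
  inv_mem' := by
    rintro x ⟨hx, hx'⟩
    refine ⟨inv_mem hx, fun d hd hJ => ?_⟩
    rw [show (⟨x⁻¹, inv_mem hx⟩ : ↥C) = (⟨x, hx⟩ : ↥C)⁻¹ from rfl, map_inv, Equiv.Perm.inv_eq_iff_eq,
      hx' d hd hJ]

theorem mem_fst {x : G} {J : Set ℕ} :
    x ∈ fst C sg m f J ↔ ∃ h : x ∈ C, ∀ d ≤ m, d ∉ J → sg ⟨x, h⟩ (f d) = f d := Iff.rfl

theorem coe_mem_fst {c : ↥C} {J : Set ℕ} :
    (c : G) ∈ fst C sg m f J ↔ ∀ d ≤ m, d ∉ J → sg c (f d) = f d :=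
  ⟨fun h => h.2, fun h => ⟨c.2, h⟩⟩

theorem fst_le {J : Set ℕ} : fst C sg m f J ≤ C := fun _ h => h.1

theorem fst_mono {J J' : Set ℕ} (h : J ⊆ J') : fst C sg m f J ≤ fst C sg m f J' :=
  fun _ hx => ⟨hx.1, fun d hd hJ => hx.2 d hd fun hh => hJ (h hh)⟩

/-- the action of a flag stabiliser -/
def act (C : Subgroup G) (sg : ↥C →* Equiv.Perm (Submodule F W)) (m : ℕ) (f : ℕ → Submodule F W)
    (J : Set ℕ) : ↥(fst C sg m f J) →* Equiv.Perm (Submodule F W) :=
  sg.comp (Subgroup.inclusion fst_le)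

theorem act_apply {J : Set ℕ} (x : ↥(fst C sg m f J)) (X : Submodule F W) :
    act C sg m f J x X = sg ⟨(x : G), x.2.1⟩ X := rfl

/-- the points of the residue `{i, j}` -/
def Pt (S : Submodule F W → Prop) (m : ℕ) (f : ℕ → Submodule F W) (i j : ℕ) : Set (Submodule F W) :=
  {X | S X ∧ finrank F X = i ∧ (∀ d < i, f d ≤ X) ∧ ∀ d ≤ m, i < d → d ≠ j → X ≤ f d}

/-- the lines of the residue `{i, j}` -/
def Ln (S : Submodule F W → Prop) (m : ℕ) (f : ℕ → Submodule F W) (i j : ℕ) : Set (Submodule F W) :=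
  {X | S X ∧ finrank F X = j ∧ (∀ d < j, d ≠ i → f d ≤ X) ∧ ∀ d ≤ m, j < d → X ≤ f d}

section res

variable {I : Type*} {P : I → Subgroup G} {a b : I} {i j : ℕ}

theorem f_mem_Pt (hS : PolSp S m) (hf : Fl S m f) (him : i ≤ m) : f i ∈ Pt S m f i j :=
  ⟨hf.si hS him, hf.rk i him, fun _ hd => hf.le hd.le him, fun _ hd h _ => hf.le h.le hd⟩

theorem f_mem_Ln (hS : PolSp S m) (hf : Fl S m f) (hjm : j ≤ m) : f j ∈ Ln S m f i j :=
  ⟨hf.si hS hjm, hf.rk j hjm, fun _ hd _ => hf.le hd.le hjm, fun _ hd h => hf.le h.le hd⟩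

/-- **the residue `{i, j}` is a geometry of points and lines** -/
theorem inc (hS : PolSp S m) (hA : Act sg S) (hf : Fl S m f) (hB : ∀ k, fst C sg m f ∅ ≤ P k)
    (ha : P a = fst C sg m f {i}) (hb : P b = fst C sg m f {j}) (hij : i < j) (hj : j ≤ m) :
    Inc (fst C sg m f ∅) P a b (fst C sg m f {i, j}) (act C sg m f {i, j}) (act C sg m f {i, j})
      (Pt S m f i j) (Ln S m f i j) (fun X Y => X ≤ Y) (f i) (f j) where
  le := hB
  iH := by rw [ha]; exact fst_mono (by simp)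
  jH := by rw [hb]; exact fst_mono (by simp)
  p0 := f_mem_Pt hS hf (by omega)
  L0 := f_mem_Ln hS hf hj
  inc0 := hf.le hij.le hj
  aPt := by
    rintro x X ⟨h1, h2, h3, h4⟩
    rw [act_apply]
    refine ⟨hA.sing _ h1, by rw [hA.rk, h2], fun d hd => ?_, fun d hd h5 h6 => ?_⟩
    · rw [← x.2.2 d (by omega) (by simp; omega)]; exact hA.le _ (h3 d hd)
    · rw [← x.2.2 d hd (by simp; omega)]; exact hA.le _ (h4 d hd h5 h6)
  bLn := by
    rintro x X ⟨h1, h2, h3, h4⟩
    rw [act_apply]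
    refine ⟨hA.sing _ h1, by rw [hA.rk, h2], fun d hd h5 => ?_, fun d hd h5 => ?_⟩
    · rw [← x.2.2 d (by omega) (by simp; omega)]; exact hA.le _ (h3 d hd h5)
    · rw [← x.2.2 d hd (by simp; omega)]; exact hA.le _ (h4 d hd h5)
  inv := fun x p _ L _ h => hA.le _ h
  memB x := by
    constructor
    · intro h
      exact ⟨h.2 i (by omega) (by simp), h.2 j hj (by simp)⟩
    · rintro ⟨h1, h2⟩
      refine ⟨x.2.1, fun d hd _ => ?_⟩
      by_cases h3 : d = i
      · subst h3; exact h1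
      · by_cases h4 : d = j
        · subst h4; exact h2
        · exact x.2.2 d hd (by simp [h3, h4])
  memi x := by
    rw [ha]
    constructor
    · intro h
      exact h.2 j hj (by simp; omega)
    · intro h1
      refine ⟨x.2.1, fun d hd h3 => ?_⟩
      by_cases h4 : d = j
      · subst h4; exact h1
      · exact x.2.2 d hd (by simp only [Set.mem_singleton_iff] at h3; simp [h3, h4])
  memj x := by
    rw [hb]
    constructor
    · intro h
      exact h.2 i (by omega) (by simp; omega)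
    · intro h1
      refine ⟨x.2.1, fun d hd h3 => ?_⟩
      by_cases h4 : d = i
      · subst h4; exact h1
      · exact x.2.2 d hd (by simp only [Set.mem_singleton_iff] at h3; simp [h3, h4])
  tri := by
    rintro X ⟨h1, h2, h3, h4⟩ h5
    have hu : Fl S m (Function.update f i X) := hf.update hS h1 h2 (fun e he => h3 e (by omega)) (fun h6 => by
      by_cases h7 : i + 1 = j
      · rw [h7]; exact h5
      · exact h4 _ (by omega) (by omega) h7)
    obtain ⟨c, hc⟩ := trans hA hS hf hu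
    have hmem : (c : G) ∈ fst C sg m f {i, j} := by
      rw [coe_mem_fst]
      intro d hd hJ
      have h6 := hc d hd
      rwa [Function.update_of_ne (by rintro rfl; simp at hJ)] at h6
    refine ⟨⟨c, hmem⟩, ?_, ?_⟩
    · rw [act_apply]
      have h6 := hc j hj
      rwa [Function.update_of_ne (by omega)] at h6
    · rw [act_apply]
      have h6 := hc i (by omega)
      rwa [Function.update_self] at h6
  trj := by
    rintro X ⟨h1, h2, h3, h4⟩ h5
    have hu : Fl S m (Function.update f j X) := hf.update hS h1 h2 (fun e he => by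
      by_cases h7 : e = i
      · subst h7; exact h5
      · exact h3 e (by omega) h7) (fun h6 => h4 _ (by omega) (by omega))
    obtain ⟨c, hc⟩ := trans hA hS hf hu
    have hmem : (c : G) ∈ fst C sg m f {i, j} := by
      rw [coe_mem_fst]
      intro d hd hJ
      have h6 := hc d hd
      rwa [Function.update_of_ne (by rintro rfl; simp at hJ)] at h6
    refine ⟨⟨c, hmem⟩, ?_, ?_⟩
    · rw [act_apply]
      have h6 := hc i (by omega)
      rwa [Function.update_of_ne (by omega)] at h6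
    · rw [act_apply]
      have h6 := hc j hj
      rwa [Function.update_self] at h6

variable (hS : PolSp S m) (hA : Act sg S) (hf : Fl S m f) (hB : ∀ k, fst C sg m f ∅ ≤ P k)
  (ha : P a = fst C sg m f {i}) (hb : P b = fst C sg m f {j})

include hS hA hf hB ha hb

theorem rk_two (hij : i + 1 < j) (hj : j ≤ m) :
    Rk (fst C sg m f ∅) P a b 2 ∧ Rk (fst C sg m f ∅) P b a 2 := by
  have h := inc hS hA hf hB ha hb (by omega) hj
  have key : ∀ p ∈ Pt S m f i j, ∀ L ∈ Ln S m f i j, p ≤ L := by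
    rintro p ⟨-, -, -, h4⟩ L ⟨-, -, h3, -⟩
    exact (h4 (i + 1) (by omega) (by omega) (by omega)).trans (h3 (i + 1) (by omega) (by omega))
  exact ⟨h.rk_two key, h.symm.rk_two fun L hL p hp => key p hp L hL⟩

omit hA hB ha hb in
theorem sup_rk {p p' : Submodule F W} (hi : 1 ≤ i) (hij : i ≤ m)
    (hp : p ∈ Pt S m f i j) (hp' : p' ∈ Pt S m f i j)
    (hne : p ≠ p') : finrank F ↥(p ⊓ p') + 1 = i ∧ finrank F ↥(p ⊔ p') = i + 1 := by
  have h1 := Submodule.finrank_sup_add_finrank_inf_eq p p'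
  have h2 : f (i - 1) ≤ p ⊓ p' := le_inf (hp.2.2.1 _ (by omega)) (hp'.2.2.1 _ (by omega))
  have h3 := Submodule.finrank_mono h2
  rw [hf.rk (i - 1) (by omega)] at h3
  have h4 : finrank F ↥(p ⊓ p') < i := by
    rcases (Submodule.finrank_mono (inf_le_left : p ⊓ p' ≤ p)).lt_or_eq with h | h
    · rwa [hp.2.1] at h
    · exfalso
      have h5 := eq_of_rk inf_le_left h
      have h6 : p ≤ p' := by rw [← h5]; exact inf_le_right
      exact hne (eq_of_rk h6 (by rw [hp.2.1, hp'.2.1]))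
  rw [hp.2.1, hp'.2.1] at h1
  omega

theorem rk_three (hi : 1 ≤ i) (hij : i + 1 = j) (hj : j < m) :
    Rk (fst C sg m f ∅) P a b 3 ∧ Rk (fst C sg m f ∅) P b a 3 := by
  subst hij
  have h := inc hS hA hf hB ha hb (by omega) hj.le
  have lf : ∀ L ∈ Ln S m f i (i + 1), L ≤ f (i + 2) := fun L hL => hL.2.2.2 _ (by omega) (by omega)
  have pf : ∀ p ∈ Pt S m f i (i + 1), p ≤ f (i + 2) := fun L hL => hL.2.2.2 _ (by omega) (by omega) (by omega)
  have key : ∀ p ∈ Pt S m f i (i + 1), ∀ p' ∈ Pt S m f i (i + 1), p ≠ p' → ∀ L ∈ Ln S m f i (i + 1),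
      p ≤ L → p' ≤ L → p ⊔ p' = L := fun p hp p' hp' hne L hL h1 h2 =>
    eq_of_rk (sup_le h1 h2) (by rw [(sup_rk hS hf hi (by omega) hp hp' hne).2, hL.2.1])
  have P2 : ∀ p ∈ Pt S m f i (i + 1), ∀ p' ∈ Pt S m f i (i + 1), p ≠ p' → ∀ L ∈ Ln S m f i (i + 1),
      ∀ L' ∈ Ln S m f i (i + 1), p ≤ L → p' ≤ L → p ≤ L' → p' ≤ L' → L = L' :=
    fun p hp p' hp' hne L hL L' hL' h1 h2 h3 h4 => by
      rw [← key p hp p' hp' hne L hL h1 h2, ← key p hp p' hp' hne L' hL' h3 h4]
  constructor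
  · refine h.rk_three (fun p hp p' hp' hne => ?_) P2
    refine ⟨p ⊔ p', ⟨?_, ?_, ?_, ?_⟩, le_sup_left, le_sup_right⟩
    · exact hS.down (sup_le (pf p hp) (pf p' hp')) (hf.si hS (by omega))
    · exact (sup_rk hS hf hi (by omega) hp hp' hne).2
    · intro d hd hdi
      exact (hp.2.2.1 d (by omega)).trans le_sup_left
    · intro d hd hid
      exact (sup_le (pf p hp) (pf p' hp')).trans (hf.le (by omega) hd)
  · refine h.symm.rk_three (fun L hL L' hL' hne => ?_)
      (fun L hL L' hL' hne p hp p' hp' h1 h2 h3 h4 => ?_)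
    · have h1 := Submodule.finrank_sup_add_finrank_inf_eq L L'
      have h2 : L ⊔ L' ≤ f (i + 2) := sup_le (lf L hL) (lf L' hL')
      have h3 := Submodule.finrank_mono h2
      rw [hf.rk (i + 2) (by omega)] at h3
      have h4 : i + 1 < finrank F ↥(L ⊔ L') := by
        rcases (Submodule.finrank_mono (le_sup_left : L ≤ L ⊔ L')).lt_or_eq with h | h
        · rwa [hL.2.1] at h
        · exfalso
          have h5 := eq_of_rk le_sup_left h
          have h6 : L' ≤ L := by rw [h5]; exact le_sup_right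
          exact hne (eq_of_rk h6 (by rw [hL.2.1, hL'.2.1])).symm
      rw [hL.2.1, hL'.2.1] at h1
      refine ⟨L ⊓ L', ⟨hS.down inf_le_left hL.1, by omega, fun d hd => ?_, fun d hd h5 h6 => ?_⟩,
        inf_le_left, inf_le_right⟩
      · exact le_inf (hL.2.2.1 d (by omega) (by omega)) (hL'.2.2.1 d (by omega) (by omega))
      · exact inf_le_left.trans (hL.2.2.2 d hd (by (clear * - h1 h3 h4 h5 h6; omega)))
    · by_contra h5
      exact hne (P2 p hp p' hp' h5 L hL L' hL' h1 h3 h2 h4)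

theorem rk_four (hi : 1 ≤ i) (hij : i + 1 = j) (hj : j = m) :
    Rk (fst C sg m f ∅) P a b 4 ∧ Rk (fst C sg m f ∅) P b a 4 := by
  subst hij
  have h := inc hS hA hf hB ha hb (by omega) hj.le
  have Q0 : ∀ p ∈ Pt S m f i (i + 1), ∀ p' ∈ Pt S m f i (i + 1), p ≠ p' → ∀ L ∈ Ln S m f i (i + 1),
      ∀ L' ∈ Ln S m f i (i + 1), p ≤ L → p' ≤ L → p ≤ L' → p' ≤ L' → L = L' :=
    fun p hp p' hp' hne L hL L' hL' h1 h2 h3 h4 => by
      have e1 : p ⊔ p' = L :=
        eq_of_rk (sup_le h1 h2) (by rw [(sup_rk hS hf hi (by omega) hp hp' hne).2, hL.2.1])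
      have e2 : p ⊔ p' = L' :=
        eq_of_rk (sup_le h3 h4) (by rw [(sup_rk hS hf hi (by omega) hp hp' hne).2, hL'.2.1])
      rw [← e1, ← e2]
  have R : ∀ p ∈ Pt S m f i (i + 1), ∀ L ∈ Ln S m f i (i + 1), ¬ p ≤ L → finrank F ↥(p ⊓ L) + 2 = m := by
    intro p hp L hL hn
    have h2 : f (i - 1) ≤ p ⊓ L := le_inf (hp.2.2.1 _ (by omega)) (hL.2.2.1 _ (by omega) (by omega))
    have h3 := Submodule.finrank_mono h2
    rw [hf.rk (i - 1) (by omega)] at h3
    have h4 : finrank F ↥(p ⊓ L) < i := by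
      rcases (Submodule.finrank_mono (inf_le_left : p ⊓ L ≤ p)).lt_or_eq with h | h
      · rwa [hp.2.1] at h
      · exact absurd (by rw [← eq_of_rk inf_le_left h]; exact inf_le_right) hn
    omega
  have Q1 : ∀ p ∈ Pt S m f i (i + 1), ∀ L ∈ Ln S m f i (i + 1), ¬ p ≤ L →
      ∃ p' ∈ Pt S m f i (i + 1), ∃ L' ∈ Ln S m f i (i + 1), p ≤ L' ∧ p' ≤ L' ∧ p' ≤ L := by
    intro p hp L hL hn
    obtain ⟨Z, hZ, hZ1, hZ2, hZ3⟩ := hS.ex p L hp.1 hL.1 (by rw [hp.2.1]; omega) (by rw [hL.2.1]; omega) hn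
      (R p hp L hL hn)
    have fZ : ∀ d < i, f d ≤ Z := fun d hd => (hp.2.2.1 d hd).trans hZ1
    refine ⟨Z ⊓ L, ⟨hS.down inf_le_left hZ, by omega, fun d hd => ?_, fun d hd h5 h6 => ?_⟩, Z,
      ⟨hZ, by omega, fun d hd h5 => fZ d (by omega), fun d hd h5 => ?_⟩, hZ1, inf_le_left, inf_le_right⟩
    · exact le_inf (fZ d hd) (hL.2.2.1 d (by omega) (by omega))
    · omega
    · omega
  have Q2 : ∀ p ∈ Pt S m f i (i + 1), ∀ L ∈ Ln S m f i (i + 1), ¬ p ≤ L → ∀ p' ∈ Pt S m f i (i + 1),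
      ∀ L' ∈ Ln S m f i (i + 1), ∀ p'' ∈ Pt S m f i (i + 1), ∀ L'' ∈ Ln S m f i (i + 1), p ≤ L' → p' ≤ L' →
      p' ≤ L → p ≤ L'' → p'' ≤ L'' → p'' ≤ L → p' = p'' ∧ L' = L'' := by
    intro p hp L hL hn p' hp' L' hL' p'' hp'' L'' hL'' h1 h2 h3 h4 h5 h6
    have key : ∀ p' ∈ Pt S m f i (i + 1), ∀ L' ∈ Ln S m f i (i + 1), p ≤ L' → p' ≤ L' → p' ≤ L →
        p' = L' ⊓ L ∧ finrank F ↥(L' ⊓ L) + 1 = m := by
      intro p' hp' L' hL' h1 h2 h3
      have k1 : p' ≤ L' ⊓ L := le_inf h2 h3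
      have k2 := Submodule.finrank_mono k1
      have k3 : finrank F ↥(L' ⊓ L) < i + 1 := by
        rcases (Submodule.finrank_mono (inf_le_right : L' ⊓ L ≤ L)).lt_or_eq with h | h
        · rwa [hL.2.1] at h
        · exfalso
          have k4 := eq_of_rk inf_le_right h
          have k5 : L ≤ L' := by rw [← k4]; exact inf_le_left
          have k6 := eq_of_rk k5 (by rw [hL.2.1, hL'.2.1])
          exact hn (by rw [k6]; exact h1)
      rw [hp'.2.1] at k2
      exact ⟨eq_of_rk k1 (by rw [hp'.2.1]; omega), by omega⟩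
    obtain ⟨e1, e2⟩ := key p' hp' L' hL' h1 h2 h3
    obtain ⟨e3, e4⟩ := key p'' hp'' L'' hL'' h4 h5 h6
    have e5 : L' = L'' := hS.uq p L L' L'' hp.1 hL.1 hL'.1 hL''.1 (by rw [hp.2.1]; omega)
      (by rw [hL.2.1]; omega) (by rw [hL'.2.1]; omega) (by rw [hL''.2.1]; omega) hn (R p hp L hL hn) h1 h4 e2 e4
    exact ⟨by rw [e1, e3, e5], e5⟩
  refine ⟨h.rk_four Q0 Q1 Q2, h.symm.rk_four (fun L hL L' hL' hne p hp p' hp' h1 h2 h3 h4 => ?_)
    (fun L hL p hp hn => ?_) (fun L hL p hp hn L' hL' p' hp' L'' hL'' p'' hp'' h1 h2 h3 h4 h5 h6 => ?_)⟩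
  · by_contra h5
    exact hne (Q0 p hp p' hp' h5 L hL L' hL' h1 h3 h2 h4)
  · obtain ⟨p', hp', L', hL', h1, h2, h3⟩ := Q1 p hp L hL hn
    exact ⟨L', hL', p', hp', h3, h2, h1⟩
  · obtain ⟨e1, e2⟩ := Q2 p hp L hL hn p' hp' L' hL' p'' hp'' L'' hL'' h3 h2 h1 h6 h5 h4
    exact ⟨e2, e1⟩

end res

/-! ### The panels -/

/-- the members of the panel `j` -/
def Pan (S : Submodule F W → Prop) (m : ℕ) (f : ℕ → Submodule F W) (j : ℕ) : Set (Submodule F W) :=
  {X | S X ∧ finrank F X = j ∧ (∀ d, d + 1 = j → f d ≤ X) ∧ (j < m → X ≤ f (j + 1))}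

theorem relIndex_eq_card {α : Type*} {B P : Subgroup G} (ψ : ↥P → α) {X : Set α}
    (h : ∀ x y : ↥P, (x : G)⁻¹ * (y : G) ∈ B ↔ ψ x = ψ y) (h1 : ∀ x, ψ x ∈ X) (h2 : ∀ a ∈ X, ∃ x, ψ x = a) :
    B.relIndex P = Nat.card X := by
  have e : ∀ x y : ↥P, (QuotientGroup.leftRel (B.subgroupOf P)) x y ↔ ψ x = ψ y := by
    intro x y
    rw [QuotientGroup.leftRel_apply, Subgroup.mem_subgroupOf]
    exact h x y
  let g : ↥P ⧸ B.subgroupOf P → X :=
    Quotient.lift (fun x => (⟨ψ x, h1 x⟩ : X)) fun x y hxy => Subtype.ext ((e x y).1 hxy)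
  have hg : Function.Bijective g := by
    constructor
    · intro x y
      induction x using Quotient.inductionOn with
      | _ x =>
      induction y using Quotient.inductionOn with
      | _ y =>
      intro hxy
      exact Quotient.sound ((e x y).2 (congrArg Subtype.val hxy))
    · rintro ⟨a, ha⟩
      obtain ⟨x, hx⟩ := h2 a ha
      exact ⟨Quotient.mk _ x, Subtype.ext hx⟩
  exact Nat.card_congr (Equiv.ofBijective g hg)

/-- the transitivity of a panel stabiliser -/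
theorem exists_pan (hS : PolSp S m) (hA : Act sg S) (hf : Fl S m f) {j : ℕ} (hj : j ≤ m)
    {X : Submodule F W} (hX : X ∈ Pan S m f j) :
    ∃ c : ↥C, (c : G) ∈ fst C sg m f {j} ∧ sg c (f j) = X := by
  obtain ⟨h1, h2, h3, h4⟩ := hX
  obtain ⟨c, hc⟩ := trans hA hS hf (hf.update hS h1 h2 h3 h4)
  refine ⟨c, ?_, ?_⟩
  · rw [coe_mem_fst]
    intro d hd hJ
    have h6 := hc d hd
    rwa [Function.update_of_ne (by rintro rfl; simp at hJ)] at h6
  · have h6 := hc j hj
    rwa [Function.update_self] at h6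

theorem mem_pan (hA : Act sg S) (hS : PolSp S m) (hf : Fl S m f) {j : ℕ} (hj : j ≤ m) {x : G}
    (hx : x ∈ fst C sg m f {j}) : sg ⟨x, hx.1⟩ (f j) ∈ Pan S m f j := by
  refine ⟨hA.sing _ (hf.si hS hj), by rw [hA.rk, hf.rk j hj], fun d hd => ?_, fun hjm => ?_⟩
  · rw [← hx.2 d (by omega) (by simp; omega)]
    exact hA.le _ (hf.le (by omega) hj)
  · rw [← hx.2 (j + 1) (by omega) (by simp)]
    exact hA.le _ (hf.mono j hjm)

/-- **the number of chambers of a panel** -/
theorem relIndex_fst (hS : PolSp S m) (hA : Act sg S) (hf : Fl S m f) {j : ℕ} (hj : j ≤ m) :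
    (fst C sg m f ∅).relIndex (fst C sg m f {j}) = Nat.card (Pan S m f j) := by
  refine relIndex_eq_card (fun x : ↥(fst C sg m f {j}) => sg ⟨(x : G), x.2.1⟩ (f j)) (fun x y => ?_)
    (fun x => mem_pan hA hS hf hj x.2) (fun X hX => ?_)
  · have e : (x : G)⁻¹ * (y : G) = (((⟨(x : G), x.2.1⟩ : ↥C)⁻¹ * ⟨(y : G), y.2.1⟩ : ↥C) : G) := rfl
    rw [e, coe_mem_fst]
    constructor
    · intro h
      have := h j hj (by simp)
      rw [map_mul, map_inv, Equiv.Perm.mul_apply, Equiv.Perm.inv_eq_iff_eq] at this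
      exact this.symm
    · intro h d hd _
      rw [map_mul, map_inv, Equiv.Perm.mul_apply, Equiv.Perm.inv_eq_iff_eq]
      by_cases hdj : d = j
      · subst hdj; exact h.symm
      · rw [x.2.2 d hd (by simpa using hdj), y.2.2 d hd (by simpa using hdj)]
  · obtain ⟨c, hc, h⟩ := exists_pan hS hA hf hj hX
    exact ⟨⟨c, hc⟩, h⟩

/-! ### Connectivity -/

theorem mem_of_flag (hS : PolSp S m) (hA : Act sg S) (hf : Fl S m f) {N : Subgroup G}
    (hN : ∀ j, 1 ≤ j → j ≤ m → fst C sg m f {j} ≤ N) {g g' : ℕ → Submodule F W} (hg' : Fl S m g')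
    {j : ℕ} (hj1 : 1 ≤ j) (hj : j ≤ m) (hadj : ∀ d ≤ m, d ≠ j → g d = g' d)
    (hn : ∃ c : ↥C, (c : G) ∈ N ∧ ∀ d ≤ m, sg c (f d) = g d) :
    ∃ c : ↥C, (c : G) ∈ N ∧ ∀ d ≤ m, sg c (f d) = g' d := by
  obtain ⟨c, hc, h⟩ := hn
  have hA' : Fl S m (fun d => sg c⁻¹ (g' d)) :=
    ⟨fun d hd => hA.le _ (hg'.mono d hd), fun d hd => by rw [hA.rk]; exact hg'.rk d hd, hA.sing _ hg'.sing⟩
  obtain ⟨c', hc'⟩ := trans hA hS hf hA'
  have h1 : ∀ d ≤ m, sg (c * c') (f d) = g' d := fun d hd => by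
    rw [map_mul, Equiv.Perm.mul_apply, hc' d hd, map_inv]
    exact (sg c).apply_symm_apply _
  refine ⟨c * c', mul_mem hc (hN j hj1 hj ?_), h1⟩
  rw [coe_mem_fst]
  intro d hd hdj
  rw [hc' d hd, ← hadj d hd (by simpa using hdj), ← h d hd, map_inv]
  exact (sg c).symm_apply_apply _

/-- **`C` is generated by the stabilisers of the panels** -/
theorem le_of_panels (hS : PolSp S m) (hA : Act sg S) (hf : Fl S m f) (hm : 1 ≤ m) {N : Subgroup G}
    (hN : ∀ j, 1 ≤ j → j ≤ m → fst C sg m f {j} ≤ N) : C ≤ N := by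
  let R : (ℕ → Submodule F W) → Prop := fun g => ∃ c : ↥C, (c : G) ∈ N ∧ ∀ d ≤ m, sg c (f d) = g d
  -- flags agreeing up to `k` are connected
  have key : ∀ k', ∀ k, k + k' = m → ∀ g g' : ℕ → Submodule F W, Fl S m g → Fl S m g' →
      (∀ d ≤ k, g d = g' d) → R g → R g' := by
    intro k'
    induction k' with
    | zero =>
      intro k hk g g' hg hg' h1 ⟨c, hc, h2⟩
      exact ⟨c, hc, fun d hd => by rw [h2 d hd, h1 d (by omega)]⟩
    | succ k' ih =>
      intro k hk g g' hg hg' h1 hR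
      have ek : g k = g' k := h1 k le_rfl
      by_cases hk' : k' = 0
      · subst hk'
        exact mem_of_flag hS hA hf hN hg' (j := m) hm le_rfl (fun d hd hdm => h1 d (by omega)) hR
      -- the step with `S (x ⊔ x')`
      have step : ∀ g g' : ℕ → Submodule F W, Fl S m g → Fl S m g' → (∀ d ≤ k, g d = g' d) →
          S (g (k + 1) ⊔ g' (k + 1)) → R g → R g' := by
        intro g g' hg hg' h1 h2 hR
        have ek : g k = g' k := h1 k le_rfl
        by_cases hx : g (k + 1) = g' (k + 1)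
        · exact ih (k + 1) (by omega) g g' hg hg' (fun d hd => by
            by_cases hdk : d = k + 1
            · subst hdk; exact hx
            · exact h1 d (by omega)) hR
        -- the line
        have r1 : finrank F ↥(g (k + 1) ⊔ g' (k + 1)) = k + 2 := by
          have h3 := Submodule.finrank_sup_add_finrank_inf_eq (g (k + 1)) (g' (k + 1))
          have h4 : g k ≤ g (k + 1) ⊓ g' (k + 1) :=
            le_inf (hg.mono k (by omega)) (by rw [ek]; exact hg'.mono k (by omega))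
          have h5 := Submodule.finrank_mono h4
          rw [hg.rk k (by omega)] at h5
          have h6 : finrank F ↥(g (k + 1) ⊓ g' (k + 1)) < k + 1 := by
            rcases (Submodule.finrank_mono (inf_le_left : g (k + 1) ⊓ g' (k + 1) ≤ g (k + 1))).lt_or_eq
              with h | h
            · rwa [hg.rk (k + 1) (by omega)] at h
            · exfalso
              have h7 : g (k + 1) ≤ g' (k + 1) := by rw [← eq_of_rk inf_le_left h]; exact inf_le_right
              exact hx (eq_of_rk h7 (by rw [hg.rk _ (by omega), hg'.rk _ (by omega)]))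
          rw [hg.rk _ (by omega), hg'.rk _ (by omega)] at h3
          omega
        -- a flag through `g (k+1)` and the line
        have hfl : Fl S (k + 2) (Function.update g (k + 2) (g (k + 1) ⊔ g' (k + 1))) := by
          refine ⟨fun e he => ?_, fun e he => ?_, ?_⟩
          · rw [Function.update_of_ne (by omega)]
            by_cases h4 : e = k + 1
            · subst h4; rw [Function.update_self]; exact le_sup_left
            · rw [Function.update_of_ne (by omega)]; exact hg.mono e (by omega)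
          · by_cases h4 : e = k + 2
            · subst h4; rw [Function.update_self]; exact r1
            · rw [Function.update_of_ne h4]; exact hg.rk e (by omega)
          · rw [Function.update_self]; exact h2
        obtain ⟨u, hu, hu'⟩ := exists_ext hS hfl (by omega)
        have u1 : ∀ d ≤ k + 1, u d = g d := fun d hd => by
          rw [hu' d (by omega), Function.update_of_ne (by omega)]
        have u2 : u (k + 2) = g (k + 1) ⊔ g' (k + 1) := by rw [hu' _ le_rfl, Function.update_self]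
        have R1 : R u := ih (k + 1) (by omega) g u hg hu (fun d hd => (u1 d hd).symm) hR
        have hv : Fl S m (Function.update u (k + 1) (g' (k + 1))) := by
          refine hu.update hS (hg'.si hS (by omega)) (hg'.rk _ (by omega)) (fun e he => ?_) (fun _ => ?_)
          · obtain rfl : e = k := by omega
            rw [u1 e (by omega), ek]; exact hg'.mono e (by omega)
          · show g' (k + 1) ≤ u (k + 2)
            rw [u2]; exact le_sup_right
        have R2 : R (Function.update u (k + 1) (g' (k + 1))) :=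
          mem_of_flag hS hA hf hN hv (j := k + 1) (by omega) (by omega)
            (fun d hd hdk => by rw [Function.update_of_ne hdk]) R1
        refine ih (k + 1) (by omega) _ g' hv hg' (fun d hd => ?_) R2
        by_cases hdk : d = k + 1
        · subst hdk; rw [Function.update_self]
        · rw [Function.update_of_ne hdk, u1 d (by omega), h1 d (by omega)]
      obtain ⟨T, hT1, hT2, hT3, hT4⟩ := hS.conn (g k) (g (k + 1)) (g' (k + 1)) (hg.si hS (by omega))
        (hg'.si hS (by omega)) (hg.mono k (by omega)) (by rw [ek]; exact hg'.mono k (by omega))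
        (by rw [hg.rk _ (by omega), hg.rk _ (by omega)]) (by rw [hg.rk _ (by omega), hg'.rk _ (by omega)])
        (by rw [hg.rk _ (by omega)]; omega)
      have hfl : Fl S (k + 1) (Function.update g (k + 1) T) := by
        refine ⟨fun e he => ?_, fun e he => ?_, ?_⟩
        · rw [Function.update_of_ne (by omega)]
          by_cases h4 : e = k
          · subst h4; rw [Function.update_self]; exact hT1
          · rw [Function.update_of_ne (by omega)]; exact hg.mono e (by omega)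
        · by_cases h4 : e = k + 1
          · subst h4; rw [Function.update_self, hT2, hg.rk k (by omega)]
          · rw [Function.update_of_ne h4]; exact hg.rk e (by omega)
        · rw [Function.update_self]; exact hS.down le_sup_right hT3
      obtain ⟨u, hu, hu'⟩ := exists_ext hS hfl (by omega)
      have u1 : ∀ d ≤ k, u d = g d := fun d hd => by
        rw [hu' d (by omega), Function.update_of_ne (by omega)]
      have u2 : u (k + 1) = T := by rw [hu' _ le_rfl, Function.update_self]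
      have R1 : R u := step g u hg hu (fun d hd => (u1 d hd).symm) (by rw [u2]; exact hT3) hR
      exact step u g' hu hg' (fun d hd => by rw [u1 d hd, h1 d hd]) (by rw [u2, sup_comm]; exact hT4) R1
  intro x hx
  have h1 : Fl S m (fun d => sg ⟨x, hx⟩ (f d)) :=
    ⟨fun d hd => hA.le _ (hf.mono d hd), fun d hd => by rw [hA.rk]; exact hf.rk d hd, hA.sing _ hf.sing⟩
  obtain ⟨c, hc, h2⟩ := key m 0 (by omega) f _ hf h1 (fun d hd => by
    obtain rfl : d = 0 := by omega
    exact hf.zero.trans h1.zero.symm) ⟨1, one_mem _, fun d _ => by rw [map_one]; rfl⟩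
  have h3 : ((⟨x, hx⟩ : ↥C)⁻¹ * c : ↥C) ∈ (fst C sg m f {1}).subgroupOf C := by
    rw [Subgroup.mem_subgroupOf, coe_mem_fst]
    intro d hd _
    rw [map_mul, map_inv, Equiv.Perm.mul_apply, h2 d hd, Equiv.Perm.inv_eq_iff_eq]
  have h4 : (x⁻¹ * (c : G)) ∈ N := hN 1 le_rfl hm h3
  have h5 : x = (c : G) * (x⁻¹ * (c : G))⁻¹ := by group
  rw [h5]
  exact mul_mem hc (inv_mem h4)

end Cfsg.Agent.ParSys.Polar.Flags

end

section


/-!
# The polar space of a nondegenerate hermitian form over a finite field of characteristic 2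

`Herm q sg g` : `g` is a nondegenerate hermitian form over the field of `q^2` elements (characteristic 2).
`perp`, `finrank_perp`, `perp_perp`, `TI` (totally isotropic), `Witt g m` (`m` is the Witt index);
`polSp : PolSp (TI g) m`; `finrank_eq : n = 2m or n = 2m + 1`.
-/

set_option autoImplicit false
set_option linter.unusedSectionVars false

namespace Cfsg.Agent.ParSys.Polar.Hermit

open Module Cfsg.Agent.ParSys.Polar.Flags

variable {F W : Type*} [Field F] [AddCommGroup W] [Module F W]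

/-- a nondegenerate hermitian form over the field of `q^2` elements, characteristic 2 -/
structure Herm (q : ℕ) (sg : F →+* F) (g : W → W → F) : Prop where
  two : (2 : F) = 0
  pos : 0 < q
  card : Nat.card F = q ^ 2
  sg_sg : ∀ a, sg (sg a) = a
  tr_surj : ∀ b, sg b = b → ∃ a, a + sg a = b
  nm_surj : ∀ b, sg b = b → ∃ a, a * sg a = b
  tr_ker : Nat.card {a : F | a + sg a = 0} = q
  add : ∀ x y z, g (x + y) z = g x z + g y z
  smul : ∀ (s : F) x y, g (s • x) y = s * g x y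
  sym : ∀ x y, g y x = sg (g x y)
  nd : ∀ x, (∀ y, g x y = 0) → x = 0

/-- totally isotropic -/
def TI (g : W → W → F) (X : Submodule F W) : Prop := ∀ x ∈ X, ∀ y ∈ X, g x y = 0

/-- `m` is the Witt index -/
def Witt (g : W → W → F) (m : ℕ) : Prop :=
  (∃ X : Submodule F W, TI g X ∧ finrank F X = m) ∧ ∀ X : Submodule F W, TI g X → finrank F X ≤ m

namespace Herm

variable {q : ℕ} {sg : F →+* F} {g : W → W → F} (H : Herm q sg g)

include H

theorem finite_F : Finite F :=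
  Nat.finite_of_card_ne_zero (by rw [H.card]; exact pow_ne_zero _ H.pos.ne')

theorem two_self (a : F) : a + a = 0 := by linear_combination a * H.two

theorem two_w (v : W) : v + v = 0 := by rw [← two_smul F, H.two, zero_smul]

theorem neg_w (v : W) : -v = v := neg_eq_of_add_eq_zero_left (H.two_w v)

theorem sub_w (v u : W) : v - u = v + u := by rw [sub_eq_add_neg, H.neg_w]

theorem eq_of_add {a b : F} (h : a + b = 0) : a = b := by linear_combination h - b * H.two

theorem add_r (x y z : W) : g x (y + z) = g x y + g x z := by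
  rw [H.sym, H.add, map_add, ← H.sym, ← H.sym]

theorem smul_r (s : F) (x y : W) : g x (s • y) = sg s * g x y := by
  rw [H.sym, H.smul, map_mul, ← H.sym]

theorem zero_l (y : W) : g 0 y = 0 := by
  have := H.smul 0 0 y
  rwa [zero_smul, zero_mul] at this

theorem zero_r (y : W) : g y 0 = 0 := by rw [H.sym, H.zero_l, map_zero]

theorem sg_diag (x : W) : sg (g x x) = g x x := (H.sym x x).symm

theorem zero_comm {x y : W} (h : g x y = 0) : g y x = 0 := by rw [H.sym, h, map_zero]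

theorem ne_comm {x y : W} (h : g x y ≠ 0) : g y x ≠ 0 := fun h' => h (H.zero_comm h')

/-- the orthogonal space -/
def perp (X : Submodule F W) : Submodule F W where
  carrier := {y | ∀ x ∈ X, g y x = 0}
  zero_mem' := fun x _ => H.zero_l x
  add_mem' := fun {a b} ha hb x hx => by rw [H.add, ha x hx, hb x hx, add_zero]
  smul_mem' := fun s a ha x hx => by rw [H.smul, ha x hx, mul_zero]

theorem mem_perp {X : Submodule F W} {y : W} : y ∈ H.perp X ↔ ∀ x ∈ X, g y x = 0 := Iff.rfl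

theorem mem_perp' {X : Submodule F W} {y : W} : y ∈ H.perp X ↔ ∀ x ∈ X, g x y = 0 :=
  ⟨fun h x hx => H.zero_comm (h x hx), fun h x hx => H.zero_comm (h x hx)⟩

theorem perp_anti {X Y : Submodule F W} (h : X ≤ Y) : H.perp Y ≤ H.perp X := fun _ hy x hx => hy x (h hx)

theorem le_perp_comm {X Y : Submodule F W} (h : X ≤ H.perp Y) : Y ≤ H.perp X :=
  fun _ hy _ hx => H.zero_comm (h hx _ hy)

theorem TI_iff {X : Submodule F W} : TI g X ↔ X ≤ H.perp X := Iff.rfl

theorem mem_perp_span {v y : W} : y ∈ H.perp (F ∙ v) ↔ g y v = 0 := by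
  refine ⟨fun h => h v (Submodule.mem_span_singleton_self v), fun h x hx => ?_⟩
  obtain ⟨s, rfl⟩ := Submodule.mem_span_singleton.1 hx
  rw [H.smul_r, h, mul_zero]

theorem mem_perp_sup {X Y : Submodule F W} {y : W} : y ∈ H.perp (X ⊔ Y) ↔ y ∈ H.perp X ∧ y ∈ H.perp Y := by
  refine ⟨fun h => ⟨H.perp_anti le_sup_left h, H.perp_anti le_sup_right h⟩, fun h x hx => ?_⟩
  obtain ⟨a, ha, b, hb, rfl⟩ := Submodule.mem_sup.1 hx
  rw [H.add_r, h.1 a ha, h.2 b hb, add_zero]

theorem TI_sup {X Y : Submodule F W} (hX : TI g X) (hY : TI g Y) (h : Y ≤ H.perp X) : TI g (X ⊔ Y) := by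
  intro x hx y hy
  obtain ⟨a, ha, b, hb, rfl⟩ := Submodule.mem_sup.1 hx
  obtain ⟨a', ha', b', hb', rfl⟩ := Submodule.mem_sup.1 hy
  rw [H.add, H.add_r, H.add_r, hX a ha a' ha', hY b hb b' hb', h hb a' ha', H.zero_comm (h hb' a ha)]
  simp

theorem TI_span {v : W} (hv : g v v = 0) : TI g (F ∙ v) := by
  intro x hx y hy
  obtain ⟨s, rfl⟩ := Submodule.mem_span_singleton.1 hx
  obtain ⟨t, rfl⟩ := Submodule.mem_span_singleton.1 hy
  rw [H.smul, H.smul_r, hv, mul_zero, mul_zero]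

theorem TI_sup_span {X : Submodule F W} (hX : TI g X) {v : W} (hv : g v v = 0) (h : v ∈ H.perp X) :
    TI g (X ⊔ (F ∙ v)) :=
  H.TI_sup hX (H.TI_span hv) (by rwa [Submodule.span_singleton_le_iff_mem])

omit H in
theorem _root_.Cfsg.Agent.ParSys.Polar.Hermit.TI.mono {X Y : Submodule F W} (h : X ≤ Y) (hY : TI g Y) : TI g X :=
  fun x hx y hy => hY x (h hx) y (h hy)

/-- the linear form `g · x` -/
def gl (x : W) : W →ₗ[F] F where
  toFun y := g y x
  map_add' a b := H.add a b x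
  map_smul' s a := by rw [H.smul]; rfl

variable [FiniteDimensional F W]

theorem finrank_perp (X : Submodule F W) : finrank F (H.perp X) + finrank F X = finrank F W := by
  have hF := H.finite_F
  apply le_antisymm
  · let ψ : X → Dual F (W ⧸ H.perp X) := fun x =>
      (H.perp X).liftQ (H.gl (x : W)) (fun y hy => hy (x : W) x.2)
    have hψ : Function.Injective ψ := by
      intro x x' h
      have h1 : ∀ y, g y (x : W) = g y (x' : W) := fun y => by
        have := LinearMap.congr_fun h (Submodule.Quotient.mk y)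
        simpa only [ψ, Submodule.liftQ_apply, gl, _root_.LinearMap.coe_mk, _root_.AddHom.coe_mk] using this
      have h2 : (x : W) - x' = 0 := H.nd _ fun y => by
        apply H.zero_comm
        rw [H.sub_w, H.add_r, h1 y, H.two_self]
      exact Subtype.ext (sub_eq_zero.1 h2)
    have : Finite (Dual F (W ⧸ H.perp X)) := Module.finite_of_finite F
    have h1 := Nat.card_le_card_of_injective ψ hψ
    rw [Module.natCard_eq_pow_finrank (K := F) (V := X),
      Module.natCard_eq_pow_finrank (K := F) (V := Dual F (W ⧸ H.perp X)), Subspace.dual_finrank_eq] at h1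
    have h2 := (Nat.pow_le_pow_iff_right (Finite.one_lt_card (α := F))).1 h1
    have h3 := Submodule.finrank_quotient_add_finrank (H.perp X)
    omega
  · let b := Module.finBasis F X
    let φ : W →ₗ[F] (Fin (finrank F X) → F) := LinearMap.pi fun i => H.gl (b i : W)
    have hk : LinearMap.ker φ = H.perp X := by
      ext y
      rw [LinearMap.mem_ker]
      constructor
      · intro h x hx
        have h1 : ∀ i, g y (b i : W) = 0 := fun i => congrFun h i
        have h2 : (⟨x, hx⟩ : X) ∈ Submodule.span F (Set.range b) := by rw [b.span_eq]; trivial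
        have h3 : ∀ z : X, z ∈ Submodule.span F (Set.range b) → g y (z : W) = 0 := by
          intro z hz
          induction hz using Submodule.span_induction with
          | mem z hz => obtain ⟨i, rfl⟩ := hz; exact h1 i
          | zero => exact H.zero_r y
          | add z z' _ _ h1 h2 => rw [Submodule.coe_add, H.add_r, h1, h2, add_zero]
          | smul s z _ h1 => rw [Submodule.coe_smul, H.smul_r, h1, mul_zero]
        exact h3 _ h2
      · intro h
        funext i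
        exact h _ (b i).2
    have h1 := LinearMap.finrank_range_add_finrank_ker φ
    rw [hk] at h1
    have h2 := Submodule.finrank_le (LinearMap.range φ)
    rw [Module.finrank_fin_fun] at h2
    omega

theorem perp_perp (X : Submodule F W) : H.perp (H.perp X) = X := by
  have h1 := H.finrank_perp X
  have h2 := H.finrank_perp (H.perp X)
  exact (eq_of_rk (H.le_perp_comm le_rfl) (by omega)).symm

theorem exists_ne {X : Submodule F W} {x : W} (hx : x ∉ X) : ∃ z ∈ H.perp X, g z x ≠ 0 := by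
  by_contra hcon
  push Not at hcon
  exact hx (by rw [← H.perp_perp X]; exact fun z hz => H.zero_comm (hcon z hz))

/-- the dimension inequality -/
theorem dl {X Y : Submodule F W} (h : Y ≤ H.perp (X ⊓ Y)) :
    finrank F Y + finrank F ↥(X ⊓ Y) ≤ finrank F ↥(H.perp X ⊓ Y) + finrank F X := by
  have h1 : H.perp X ⊔ Y ≤ H.perp (X ⊓ Y) := sup_le (H.perp_anti inf_le_left) h
  have h2 := Submodule.finrank_mono h1
  have h3 := Submodule.finrank_sup_add_finrank_inf_eq (H.perp X) Y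
  have h4 := H.finrank_perp X
  have h5 := H.finrank_perp (X ⊓ Y)
  omega

theorem dl' {X Y : Submodule F W} (h : TI g Y) :
    finrank F Y + finrank F ↥(X ⊓ Y) ≤ finrank F ↥(H.perp X ⊓ Y) + finrank F X :=
  H.dl (fun _ hy x hx => h _ hy x hx.2)

theorem TI_bot : TI g (⊥ : Submodule F W) := fun x hx y _ => by
  rw [(Submodule.mem_bot F).1 hx]; exact H.zero_l y

theorem exists_witt : ∃ m, Witt g m := by
  classical
  have hb : ∀ X : Submodule F W, TI g X → finrank F X ≤ finrank F W := fun X _ => Submodule.finrank_le X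
  let p : ℕ → Prop := fun k => ∃ X : Submodule F W, TI g X ∧ finrank F X = k
  exact ⟨Nat.findGreatest p (finrank F W),
    Nat.findGreatest_spec (P := p) (hb ⊥ H.TI_bot) ⟨⊥, H.TI_bot, rfl⟩,
    fun X hX => Nat.le_findGreatest (hb X hX) ⟨X, hX, rfl⟩⟩

/-! ### The polar space -/

variable {m : ℕ}

/-- in a maximal totally isotropic subspace `M` there are vectors orthogonal to `Z` outside `X` -/
theorem exists_mem {X Z M : Submodule F W} (hM : TI g M) (hXZ : X ≤ Z ⊓ M) (h : finrank F Z < finrank F M ∨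
    (finrank F Z ≤ finrank F M ∧ finrank F X < finrank F ↥(Z ⊓ M)) ∨
    finrank F Z + finrank F X < finrank F M + finrank F ↥(Z ⊓ M)) : ∃ t ∈ H.perp Z ⊓ M, t ∉ X := by
  by_contra hcon
  push Not at hcon
  have h1 : H.perp Z ⊓ M ≤ X := hcon
  have h2 := Submodule.finrank_mono h1
  have h3 := H.dl' (X := Z) hM
  have h4 := Submodule.finrank_mono hXZ
  omega

theorem ext_one (hm : Witt g m) {X : Submodule F W} (hX : TI g X) (h : finrank F X < m) :
    ∃ Y, TI g Y ∧ X ≤ Y ∧ finrank F Y = finrank F X + 1 := by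
  obtain ⟨⟨M, hM, rfl⟩, -⟩ := hm
  have h3 := H.dl' (X := X) hM
  obtain ⟨t, ⟨ht1, ht2⟩, ht3⟩ : ∃ t ∈ H.perp X ⊓ M, t ∉ X := by
    by_contra hcon
    push Not at hcon
    have h1 : H.perp X ⊓ M ≤ X ⊓ M := le_inf hcon inf_le_right
    have h2 := Submodule.finrank_mono h1
    omega
  exact ⟨X ⊔ (F ∙ t), H.TI_sup_span hX (hM t ht2 t ht2) ht1, le_sup_left,
    Submodule.finrank_sup_span_singleton ht3⟩

theorem exists_max (hm : Witt g m) {X : Submodule F W} (hX : TI g X) :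
    ∃ Y, TI g Y ∧ X ≤ Y ∧ finrank F Y = m := by
  have key : ∀ k, ∀ X : Submodule F W, TI g X → finrank F X + k = m → ∃ Y, TI g Y ∧ X ≤ Y ∧ finrank F Y = m := by
    intro k
    induction k with
    | zero => intro X hX h; exact ⟨X, hX, le_rfl, h⟩
    | succ k ih =>
      intro X hX h
      obtain ⟨Y, hY, h1, h2⟩ := H.ext_one hm hX (by omega)
      obtain ⟨Z, hZ, h3, h4⟩ := ih Y hY (by omega)
      exact ⟨Z, hZ, h1.trans h3, h4⟩
  exact key (m - finrank F X) X hX (by have := hm.2 X hX; omega)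

/-- the subspace `X^⊥ ∩ Y` in the situation of `ex` -/
theorem finrank_L (hm : Witt g m) {X Y : Submodule F W} (hX : TI g X) (hY : TI g Y)
    (h1 : finrank F X + 1 = m) (h2 : finrank F Y = m) (h3 : ¬ X ≤ Y) (h4 : finrank F ↥(X ⊓ Y) + 2 = m) :
    finrank F ↥(H.perp X ⊓ Y) + 1 = m ∧ finrank F ↥(X ⊔ (H.perp X ⊓ Y)) = m := by
  have h5 := H.dl' (X := X) hY
  have h6 : finrank F ↥(H.perp X ⊓ Y) < m := by
    rcases (Submodule.finrank_mono (inf_le_right : H.perp X ⊓ Y ≤ Y)).lt_or_eq with h | h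
    · rwa [h2] at h
    · exfalso
      have h7 : Y ≤ H.perp X := by rw [← eq_of_rk inf_le_right h]; exact inf_le_left
      have h8 := hm.2 _ (H.TI_sup hX hY h7)
      have h9 := eq_of_rk (le_sup_right : Y ≤ X ⊔ Y) (by
        have := Submodule.finrank_mono (le_sup_right : Y ≤ X ⊔ Y)
        omega)
      exact h3 (by rw [h9]; exact le_sup_left)
  refine ⟨by omega, ?_⟩
  have h7 := Submodule.finrank_sup_add_finrank_inf_eq X (H.perp X ⊓ Y)
  have h8 : X ⊓ (H.perp X ⊓ Y) = X ⊓ Y := by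
    rw [← inf_assoc, inf_eq_left.2 (H.TI_iff.1 hX)]
  rw [h8] at h7
  omega

/-- **the polar space of a hermitian form** -/
theorem polSp (hm : Witt g m) : PolSp (TI g (F := F)) m where
  bot := H.TI_bot
  down := fun h hY => TI.mono h hY
  ext := fun X hX h => H.ext_one hm hX h
  conn := by
    intro X Y Z hY hZ h1 h2 h3 h4 h5
    obtain ⟨M, hM, h6, h7⟩ := H.exists_max hm hY
    have h8 : X ≤ Z ⊓ M := le_inf h2 (h1.trans h6)
    obtain ⟨t, ⟨ht1, ht2⟩, ht3⟩ := H.exists_mem (X := X) (Z := Z) hM h8 (by omega)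
    refine ⟨X ⊔ (F ∙ t), le_sup_left, Submodule.finrank_sup_span_singleton ht3, ?_, ?_⟩
    · exact TI.mono (sup_le h6 (sup_le (h1.trans h6) (by rwa [Submodule.span_singleton_le_iff_mem]))) hM
    · rw [← sup_assoc, sup_eq_left.2 h2]
      exact H.TI_sup_span hZ (hM t ht2 t ht2) ht1
  ex := by
    intro X Y hX hY h1 h2 h3 h4
    obtain ⟨h5, h6⟩ := H.finrank_L hm hX hY h1 h2 h3 h4
    refine ⟨X ⊔ (H.perp X ⊓ Y), H.TI_sup hX (TI.mono (inf_le_right : H.perp X ⊓ Y ≤ Y) hY) inf_le_left, le_sup_left, h6, ?_⟩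
    have h7 : H.perp X ⊓ Y ≤ (X ⊔ (H.perp X ⊓ Y)) ⊓ Y := le_inf le_sup_right inf_le_right
    have h8 := Submodule.finrank_mono h7
    have h9 : finrank F ↥((X ⊔ (H.perp X ⊓ Y)) ⊓ Y) < m := by
      rcases (Submodule.finrank_mono (inf_le_right : (X ⊔ (H.perp X ⊓ Y)) ⊓ Y ≤ Y)).lt_or_eq with h | h
      · rwa [h2] at h
      · exfalso
        have h12 := eq_of_rk (inf_le_right : (X ⊔ (H.perp X ⊓ Y)) ⊓ Y ≤ Y) h
        have h10 : Y ≤ X ⊔ (H.perp X ⊓ Y) := fun v hv => by
          rw [← h12] at hv; exact hv.1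
        have h11 := eq_of_rk h10 (by rw [h6, h2])
        exact h3 (by rw [h11]; exact le_sup_left)
    (clear * - h5 h8 h9; omega)
  uq := by
    intro X Y Z Z' hX hY hZ hZ' h1 h2 h3 h4 h5 h6 h7 h8 h9 h10
    obtain ⟨h11, h12⟩ := H.finrank_L hm hX hY h1 h2 h5 h6
    have key : ∀ Z : Submodule F W, TI g Z → finrank F Z = m → X ≤ Z → finrank F ↥(Z ⊓ Y) + 1 = m →
        X ⊔ (H.perp X ⊓ Y) = Z := by
      intro Z hZ h3 h7 h9
      have k1 : Z ⊓ Y ≤ H.perp X ⊓ Y := inf_le_inf_right _ (fun z hz x hx => hZ z hz x (h7 hx))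
      have k2 := eq_of_rk k1 (by (clear * - h11 h9; omega))
      refine eq_of_rk (sup_le h7 ?_) (by rw [h12, h3])
      rw [← k2]; exact inf_le_left
    rw [← key Z hZ h3 h7 h9, ← key Z' hZ' h4 h8 h10]

/-! ### The dimension -/

/-- two orthogonal anisotropic vectors give an isotropic one -/
theorem exists_iso {x y : W} (hy : g y y ≠ 0) (hxy : g x y = 0) :
    ∃ a : F, g (x + a • y) (x + a • y) = 0 := by
  obtain ⟨a, ha⟩ := H.nm_surj (g x x / g y y) (by rw [map_div₀, H.sg_diag, H.sg_diag])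
  refine ⟨a, ?_⟩
  rw [H.add, H.add_r, H.add_r, H.smul, H.smul_r, H.smul, H.smul_r, H.zero_comm hxy, hxy, mul_zero, mul_zero,
    add_zero, zero_add, ← mul_assoc, ha, div_mul_cancel₀ _ hy, H.two_self]

theorem finrank_eq (hm : Witt g m) : finrank F W = 2 * m ∨ finrank F W = 2 * m + 1 := by
  obtain ⟨X, hX, hXm⟩ := hm.1
  have h1 := H.finrank_perp X
  have h2 := Submodule.finrank_mono (H.TI_iff.1 hX)
  by_contra hcon
  -- an isotropic vector in `X^⊥` lies in `X`
  have key : ∀ v ∈ H.perp X, g v v = 0 → v ∈ X := by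
    intro v hv hvv
    by_contra hvX
    have h3 := hm.2 _ (H.TI_sup_span hX hvv hv)
    rw [Submodule.finrank_sup_span_singleton hvX] at h3
    omega
  obtain ⟨x, hx, hxX⟩ : ∃ x ∈ H.perp X, x ∉ X := by
    by_contra hc
    push Not at hc
    have h3 : H.perp X ≤ X := hc
    have := Submodule.finrank_mono h3
    omega
  have hxx : g x x ≠ 0 := fun h => hxX (key x hx h)
  obtain ⟨y, hy, hyX⟩ : ∃ y ∈ H.perp (X ⊔ (F ∙ x)), y ∉ X := by
    by_contra hc
    push Not at hc
    have h3 : H.perp (X ⊔ (F ∙ x)) ≤ X := hc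
    have h4 := Submodule.finrank_mono h3
    have h5 := H.finrank_perp (X ⊔ (F ∙ x))
    rw [Submodule.finrank_sup_span_singleton hxX] at h5
    omega
  rw [H.mem_perp_sup, H.mem_perp_span] at hy
  have hyy : g y y ≠ 0 := fun h => hyX (key y hy.1 h)
  obtain ⟨a, ha⟩ := H.exists_iso hyy (H.zero_comm hy.2)
  have h3 := key _ ((H.perp X).add_mem hx ((H.perp X).smul_mem a hy.1)) ha
  have h4 : g x (x + a • y) = 0 := hx _ h3
  rw [H.add_r, H.smul_r, H.zero_comm hy.2, mul_zero, add_zero] at h4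
  exact hxx h4

end Herm

end Cfsg.Agent.ParSys.Polar.Hermit

end

section


/-!
# Groups of semilinear similitudes which contain the Siegel transformations

`HAct H rho sigma` : `C` acts on the hermitian space by semilinear similitudes and induces all the Siegel
transformations; `sigma` is the action on the subspaces.
`act : Act sigma (TI g)`; `exists_fl_of` : a flag through a given isotropic point.
-/

set_option autoImplicit false
set_option linter.unusedSectionVars false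

namespace Cfsg.Agent.ParSys.Polar.Hermit

open Module Cfsg.Agent.ParSys.Polar.Flags

variable {F W : Type*} [Field F] [AddCommGroup W] [Module F W]

/-- `C` acts by semilinear similitudes and induces all the Siegel transformations -/
structure HAct {C : Type*} [Group C] (sg : F →+* F) (g : W → W → F) (rho : C → W ≃+ W)
    (sigma : C →* Equiv.Perm (Submodule F W)) : Prop where
  mul : ∀ a b v, rho (a * b) v = rho a (rho b v)
  sig : ∀ c X w, w ∈ sigma c X ↔ ∃ v ∈ X, rho c v = w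
  semi : ∀ c, ∃ (τ : F →+* F) (μ : F), μ ≠ 0 ∧ (∀ (s : F) v, rho c (s • v) = τ s • rho c v) ∧
    ∀ u v, g (rho c u) (rho c v) = μ * τ (g u v)
  siegel : ∀ (y w : W) (a : F), g y y = 0 → g w y = 0 → a + sg a = g w w →
    ∃ c, ∀ v, rho c v = v + g v y • w + (g v w + a * g v y) • y

namespace HAct

variable {C : Type*} [Group C] {q : ℕ} {sg : F →+* F} {g : W → W → F} {rho : C → W ≃+ W}
  {sigma : C →* Equiv.Perm (Submodule F W)} (H : Herm q sg g) (A : HAct sg g rho sigma)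

include A

theorem one (v : W) : rho 1 v = v := by
  have h := A.mul 1 1 v
  rw [mul_one] at h
  exact (rho 1).injective h.symm

theorem inv_mul_apply (c : C) (v : W) : rho c⁻¹ (rho c v) = v := by
  rw [← A.mul, inv_mul_cancel, A.one]

theorem mul_inv_apply (c : C) (v : W) : rho c (rho c⁻¹ v) = v := by
  rw [← A.mul, mul_inv_cancel, A.one]

theorem mem {c : C} {X : Submodule F W} {v : W} (hv : v ∈ X) : rho c v ∈ sigma c X := (A.sig c X _).2 ⟨v, hv, rfl⟩

theorem mem_iff {c : C} {X : Submodule F W} {v : W} : rho c v ∈ sigma c X ↔ v ∈ X :=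
  ⟨fun h => by
    obtain ⟨u, hu, h1⟩ := (A.sig c X _).1 h
    rwa [← (rho c).injective h1], A.mem⟩

theorem card_eq [Finite F] [FiniteDimensional F W] (c : C) (X : Submodule F W) :
    finrank F ↥(sigma c X) = finrank F X := by
  let e : X → sigma c X := fun v => ⟨rho c (v : W), A.mem v.2⟩
  have he : Function.Bijective e := by
    constructor
    · intro v u h
      exact Subtype.ext ((rho c).injective (congrArg Subtype.val h))
    · rintro ⟨w, hw⟩
      obtain ⟨v, hv, rfl⟩ := (A.sig c X w).1 hw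
      exact ⟨⟨v, hv⟩, rfl⟩
  have h1 := Nat.card_congr (Equiv.ofBijective e he)
  rw [Module.natCard_eq_pow_finrank (K := F), Module.natCard_eq_pow_finrank (K := F) (V := ↥(sigma c X))] at h1
  exact (Nat.pow_right_injective (Finite.one_lt_card (α := F)) h1).symm

theorem eq_of_fix {c : C} {X : Submodule F W} (h : ∀ v ∈ X, rho c v = v) : sigma c X = X := by
  ext w
  rw [A.sig]
  constructor
  · rintro ⟨v, hv, rfl⟩; rwa [h v hv]
  · intro hw; exact ⟨w, hw, h w hw⟩

include H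

/-- the image of the span -/
theorem sigma_sup_span {c : C} {X : Submodule F W} {x x' : W} (hX : ∀ v ∈ X, rho c v = v)
    (hx : rho c x - x' ∈ X) [Finite F] [FiniteDimensional F W] (h0 : x ∉ X) :
    sigma c (X ⊔ (F ∙ x)) = X ⊔ (F ∙ x') := by
  have hx' : x' ∉ X := by
    intro h
    have h1 : rho c x ∈ X := by
      have := X.add_mem hx h
      rwa [sub_add_cancel] at this
    rw [← A.eq_of_fix hX, A.mem_iff] at h1
    exact h0 h1
  symm
  apply eq_of_rk
  · refine sup_le ?_ ?_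
    · intro v hv
      rw [← hX v hv]
      exact A.mem (Submodule.mem_sup_left hv)
    · rw [Submodule.span_singleton_le_iff_mem]
      have h1 : x' = rho c x - (rho c x - x') := by abel
      rw [h1]
      refine Submodule.sub_mem _ (A.mem (Submodule.mem_sup_right (Submodule.mem_span_singleton_self x))) ?_
      rw [← hX _ hx]
      exact A.mem (Submodule.mem_sup_left hx)
  · rw [A.card_eq, Submodule.finrank_sup_span_singleton h0, Submodule.finrank_sup_span_singleton hx']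

/-- the Siegel transformation which maps `x` to `x'` modulo `y` -/
theorem siegel_map {X : Submodule F W} {x x' y : W} (hx : g x x = 0) (hx' : g x' x' = 0) (hy : g y y = 0)
    (hxy : g x y = 1) (hxy' : g x' y = 1) (hX1 : ∀ v ∈ X, g v x = 0) (hX2 : ∀ v ∈ X, g v x' = 0)
    (hX3 : ∀ v ∈ X, g v y = 0) : ∃ c, (∀ v ∈ X, rho c v = v) ∧ rho c x = x' := by
  obtain ⟨c, hc⟩ := A.siegel y (x' + x) (g x x') hy (by rw [H.add, hxy, hxy', H.two_self])
    (by rw [H.add, H.add_r, H.add_r, hx, hx', ← H.sym]; ring)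
  refine ⟨c, fun v hv => ?_, ?_⟩
  · rw [hc, hX3 v hv, H.add_r, hX1 v hv, hX2 v hv]; simp
  · rw [hc, hxy, H.add_r, hx, mul_one, add_zero, H.two_self, zero_smul, add_zero, one_smul, add_comm x' x,
      ← add_assoc, H.two_w, zero_add]

theorem smul_span_eq {x : W} {s : F} (hs : s ≠ 0) : (F ∙ (s • x)) = F ∙ x := by
  apply le_antisymm
  · rw [Submodule.span_singleton_le_iff_mem]
    exact Submodule.smul_mem _ _ (Submodule.mem_span_singleton_self x)
  · rw [Submodule.span_singleton_le_iff_mem]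
    exact Submodule.mem_span_singleton.2 ⟨s⁻¹, by rw [smul_smul, inv_mul_cancel₀ hs, one_smul]⟩

variable [Finite F] [FiniteDimensional F W]

/-- the transitivity -/
theorem tr_span {X : Submodule F W} {x x' : W} (hx : g x x = 0) (hx' : g x' x' = 0)
    (h1 : x ∈ H.perp X) (h1' : x' ∈ H.perp X) (h2 : x ∉ X) (h2' : x' ∉ X) :
    ∃ c, (∀ v ∈ X, rho c v = v) ∧ sigma c (X ⊔ (F ∙ x)) = X ⊔ (F ∙ x') := by
  -- an isotropic `y` in `X^⊥` not orthogonal to `x`, `x'`
  obtain ⟨y, hy, hyy, hxy, hxy'⟩ : ∃ y ∈ H.perp X, g y y = 0 ∧ g x y ≠ 0 ∧ g x' y ≠ 0 := by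
    by_cases hb : g x x' = 0
    · obtain ⟨z, hz, hz1, hz2⟩ : ∃ z ∈ H.perp X, g z x ≠ 0 ∧ g z x' ≠ 0 := by
        obtain ⟨z₁, hz1, hz2⟩ := H.exists_ne h2
        obtain ⟨z₂, hz3, hz4⟩ := H.exists_ne h2'
        by_cases h5 : g z₁ x' = 0
        · by_cases h6 : g z₂ x = 0
          · exact ⟨z₁ + z₂, (H.perp X).add_mem hz1 hz3, by rwa [H.add, h6, add_zero],
              by rwa [H.add, h5, zero_add]⟩
          · exact ⟨z₂, hz3, h6, hz4⟩
        · exact ⟨z₁, hz1, hz2, h5⟩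
      obtain ⟨c, hc⟩ := H.tr_surj (g z z) (H.sg_diag z)
      have hxz : g x z ≠ 0 := H.ne_comm hz1
      refine ⟨z + (c / g x z) • x, (H.perp X).add_mem hz ((H.perp X).smul_mem _ h1), ?_, ?_, ?_⟩
      · have e : g z x = sg (g x z) := H.sym x z
        have hzx := hz1
        rw [H.add, H.add_r, H.add_r, H.smul, H.smul_r, H.smul, H.smul_r, hx, map_div₀, ← e, mul_zero, mul_zero,
          add_zero, div_mul_cancel₀ _ hxz, div_mul_cancel₀ _ hzx, ← hc]
        have := H.two_self (c + sg c)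
        linear_combination this
      · rw [H.add_r, H.smul_r, hx, mul_zero, add_zero]; exact hxz
      · rw [H.add_r, H.smul_r, H.zero_comm hb, mul_zero, add_zero]; exact H.ne_comm hz2
    · have hb' := H.ne_comm hb
      refine ⟨x + (g x' x)⁻¹ • x', (H.perp X).add_mem h1 ((H.perp X).smul_mem _ h1'), ?_, ?_, ?_⟩
      · have e : sg (g x' x) = g x x' := (H.sym x' x).symm
        rw [H.add, H.add_r, H.add_r, H.smul, H.smul_r, H.smul, H.smul_r, hx, hx', map_inv₀, e, mul_zero, mul_zero,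
          inv_mul_cancel₀ hb, inv_mul_cancel₀ hb']
        have := H.two_self 1
        linear_combination this
      · have e : sg (g x' x) = g x x' := (H.sym x' x).symm
        rw [H.add_r, H.smul_r, hx, map_inv₀, e, inv_mul_cancel₀ hb, zero_add]; exact one_ne_zero
      · rw [H.add_r, H.smul_r, hx', mul_zero, add_zero]; exact hb'
  have hn : ∀ z : W, g z y ≠ 0 → g ((g z y)⁻¹ • z) y = 1 := fun z hz => by
    rw [H.smul, inv_mul_cancel₀ hz]
  obtain ⟨c, hc1, hc2⟩ := siegel_map H A (X := X) (x := (g x y)⁻¹ • x) (x' := (g x' y)⁻¹ • x') (y := y)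
    (by rw [H.smul, H.smul_r, hx, mul_zero, mul_zero]) (by rw [H.smul, H.smul_r, hx', mul_zero, mul_zero]) hyy
    (hn x hxy) (hn x' hxy') (fun v hv => by rw [H.smul_r, H.zero_comm (h1 v hv), mul_zero])
    (fun v hv => by rw [H.smul_r, H.zero_comm (h1' v hv), mul_zero]) (fun v hv => H.zero_comm (hy v hv))
  refine ⟨c, hc1, ?_⟩
  have e1 : (F ∙ ((g x y)⁻¹ • x)) = F ∙ x := smul_span_eq H A (inv_ne_zero hxy)
  have e2 : (F ∙ ((g x' y)⁻¹ • x')) = F ∙ x' := smul_span_eq H A (inv_ne_zero hxy')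
  rw [← e1, ← e2]
  refine sigma_sup_span H A hc1 (by rw [hc2, sub_self]; exact X.zero_mem) ?_
  intro h
  exact h2 ((Submodule.smul_mem_iff X (inv_ne_zero hxy)).1 h)

omit A in
/-- a vector generating `Y` over `X` -/
theorem exists_gen {X Y : Submodule F W} (hY : TI g Y) (h : X ≤ Y) (hr : finrank F Y = finrank F X + 1) :
    ∃ x, g x x = 0 ∧ x ∈ H.perp X ∧ x ∉ X ∧ Y = X ⊔ (F ∙ x) := by
  obtain ⟨x, hx, hxX⟩ : ∃ x ∈ Y, x ∉ X := by
    by_contra hc
    push Not at hc
    have h3 : Y ≤ X := hc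
    have := Submodule.finrank_mono h3
    omega
  refine ⟨x, hY x hx x hx, fun v hv => hY x hx v (h hv), hxX, ?_⟩
  symm
  exact eq_of_rk (sup_le h (by rwa [Submodule.span_singleton_le_iff_mem]))
    (by rw [Submodule.finrank_sup_span_singleton hxX, hr])

/-- **`C` acts on the polar space as required in `Flags`** -/
theorem act : Act sigma (TI g (F := F)) where
  le c X Y h := by
    intro w hw
    obtain ⟨v, hv, rfl⟩ := (A.sig c X w).1 hw
    exact A.mem (h hv)
  rk c X := A.card_eq c X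
  sing c X hX := by
    intro x hx y hy
    obtain ⟨v, hv, rfl⟩ := (A.sig c X x).1 hx
    obtain ⟨u, hu, rfl⟩ := (A.sig c X y).1 hy
    obtain ⟨τ, μ, -, -, h⟩ := A.semi c
    rw [h, hX v hv u hu, map_zero, mul_zero]
  tr X Y Z hY hZ h1 h2 h3 h4 := by
    obtain ⟨x, hx, hx1, hx2, rfl⟩ := exists_gen H hY h1 h3
    obtain ⟨x', hx', hx1', hx2', rfl⟩ := exists_gen H hZ h2 h4
    obtain ⟨c, hc1, hc2⟩ := tr_span H A hx hx' hx1 hx1' hx2 hx2'
    exact ⟨c, fun T hT => A.eq_of_fix fun v hv => hc1 v (hT hv), hc2⟩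

end HAct

/-- the action on the subspaces -/
theorem exists_sigma [Finite F] {C : Type*} [Group C] {rho : C → W ≃+ W}
    (mul : ∀ a b v, rho (a * b) v = rho a (rho b v))
    (semi : ∀ c, ∃ τ : F →+* F, ∀ (s : F) v, rho c (s • v) = τ s • rho c v) :
    ∃ sigma : C →* Equiv.Perm (Submodule F W), ∀ c X w, w ∈ sigma c X ↔ ∃ v ∈ X, rho c v = w := by
  have one : ∀ v, rho 1 v = v := fun v => by
    have h := mul 1 1 v
    rw [mul_one] at h
    exact (rho 1).injective h.symm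
  let im : C → Submodule F W → Submodule F W := fun c X =>
    { carrier := {w | ∃ v ∈ X, rho c v = w}
      zero_mem' := ⟨0, X.zero_mem, map_zero _⟩
      add_mem' := by
        rintro _ _ ⟨v, hv, rfl⟩ ⟨u, hu, rfl⟩
        exact ⟨v + u, X.add_mem hv hu, map_add _ _ _⟩
      smul_mem' := by
        rintro s _ ⟨v, hv, rfl⟩
        obtain ⟨τ, hτ⟩ := semi c
        obtain ⟨t, rfl⟩ := (Finite.injective_iff_surjective.1 τ.injective) s
        exact ⟨t • v, X.smul_mem t hv, hτ t v⟩ }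
  have hmul : ∀ a b X, im (a * b) X = im a (im b X) := by
    intro a b X
    ext w
    constructor
    · rintro ⟨v, hv, rfl⟩
      exact ⟨rho b v, ⟨v, hv, rfl⟩, (mul a b v).symm⟩
    · rintro ⟨_, ⟨v, hv, rfl⟩, rfl⟩
      exact ⟨v, hv, mul a b v⟩
  have hone : ∀ X, im 1 X = X := by
    intro X
    ext w
    constructor
    · rintro ⟨v, hv, rfl⟩; rwa [one]
    · intro hw; exact ⟨w, hw, one w⟩
  refine ⟨{ toFun := fun c => ⟨im c, im c⁻¹, fun X => ?_, fun X => ?_⟩, map_one' := ?_, map_mul' := ?_ }, ?_⟩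
  · rw [← hmul, inv_mul_cancel, hone]
  · rw [← hmul, mul_inv_cancel, hone]
  · ext1 X; exact hone X
  · intro a b; ext1 X; exact hmul a b X
  · intro c X w; exact Iff.rfl

/-- a flag through a given isotropic point -/
theorem Herm.exists_fl_of {q : ℕ} {sg : F →+* F} {g : W → W → F} (H : Herm q sg g) [FiniteDimensional F W]
    {m : ℕ} (hm : Witt g m) {e₀ : W} (h0 : e₀ ≠ 0) (h : g e₀ e₀ = 0) :
    ∃ f, Fl (TI g (F := F)) m f ∧ f 1 = F ∙ e₀ ∧ 1 ≤ m := by
  have h1 : TI g (F ∙ e₀) := H.TI_span h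
  have hm1 : 1 ≤ m := by
    have := hm.2 _ h1
    rwa [finrank_span_singleton h0] at this
  have h2 : Fl (TI g (F := F)) 1 (fun d => if d = 0 then ⊥ else F ∙ e₀) := by
    refine ⟨fun d hd => ?_, fun d hd => ?_, ?_⟩
    · obtain rfl : d = 0 := by omega
      simp
    · rcases Nat.le_one_iff_eq_zero_or_eq_one.1 hd with rfl | rfl
      · simp
      · simp [finrank_span_singleton h0]
    · simpa using h1
  obtain ⟨f, hf, hf'⟩ := exists_ext (H.polSp hm) h2 hm1
  exact ⟨f, hf, by rw [hf' 1 le_rfl]; simp, hm1⟩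

end Cfsg.Agent.ParSys.Polar.Hermit

end

section


/-!
# Counting in hermitian spaces: the panels

`card_iso` : the number of isotropic vectors `x` of `D` with `g x e = 1` is `|D| / q^3`.
`card_pan_lt`, `card_pan_last` : the panels have `|F| + 1`, respectively `q |F|^(n - 2m) + 1` members.
-/

set_option autoImplicit false
set_option linter.unusedSectionVars false

namespace Cfsg.Agent.ParSys.Polar.Hermit

open Module Cfsg.Agent.ParSys.Polar.Flags

variable {F W : Type*} [Field F] [AddCommGroup W] [Module F W]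

/-- the isotropic vectors `x` of `D` with `g x e = 1` -/
def Iso (g : W → W → F) (D : Submodule F W) (e : W) : Set W := {x | x ∈ D ∧ g x x = 0 ∧ g x e = 1}

namespace Herm

variable {q : ℕ} {sg : F →+* F} {g : W → W → F} (H : Herm q sg g)

include H

theorem tr_fib {b : F} (hb : sg b = b) : Nat.card {t : F | t + sg t = b} = q := by
  obtain ⟨t₀, ht₀⟩ := H.tr_surj b hb
  rw [← H.tr_ker]
  refine Nat.card_congr ⟨fun t => ⟨(t : F) + t₀, ?_⟩, fun t => ⟨(t : F) + t₀, ?_⟩, fun t => ?_, fun t => ?_⟩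
  · have h1 : (t : F) + sg t = b := t.2
    show ((t : F) + t₀) + sg ((t : F) + t₀) = 0
    rw [map_add]
    have := H.two_self b
    linear_combination h1 + ht₀ + this
  · have h1 : (t : F) + sg t = 0 := t.2
    show ((t : F) + t₀) + sg ((t : F) + t₀) = b
    rw [map_add]
    linear_combination h1 + ht₀
  · exact Subtype.ext (by show (t : F) + t₀ + t₀ = t; rw [add_assoc, H.two_self, add_zero])
  · exact Subtype.ext (by show (t : F) + t₀ + t₀ = t; rw [add_assoc, H.two_self, add_zero])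

variable [FiniteDimensional F W]

theorem card_iso {D : Submodule F W} {e : W} (he : e ∈ D) (hee : g e e = 0) (hx : ∃ x ∈ D, g x e ≠ 0) :
    Nat.card (Iso g D e) * q ^ 3 = Nat.card D := by
  have hF := H.finite_F
  have hW : Finite W := Module.finite_of_finite F
  obtain ⟨x₁, hx₁, hx₂⟩ : ∃ x ∈ D, g x e = 1 := by
    obtain ⟨x, hx, hx'⟩ := hx
    exact ⟨(g x e)⁻¹ • x, D.smul_mem _ hx, by rw [H.smul, inv_mul_cancel₀ hx']⟩
  let A : Set W := {x | x ∈ D ∧ g x e = 1}
  have h1 : Nat.card A * Nat.card F = Nat.card D := by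
    rw [← Nat.card_prod]
    refine Nat.card_congr ⟨fun p => ⟨(p.1 : W) + p.2 • x₁, D.add_mem p.1.2.1 (D.smul_mem _ hx₁)⟩,
      fun x => (⟨(x : W) + (g x e + 1) • x₁, D.add_mem x.2 (D.smul_mem _ hx₁), ?_⟩, g x e + 1), fun p => ?_,
      fun x => ?_⟩
    · rw [H.add, H.smul, hx₂, mul_one, ← add_assoc, H.two_self, zero_add]
    · have h2 : g ((p.1 : W) + p.2 • x₁) e + 1 = p.2 := by
        rw [H.add, H.smul, hx₂, p.1.2.2, mul_one]
        have := H.two_self 1
        linear_combination this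
      refine Prod.ext (Subtype.ext ?_) h2
      show (p.1 : W) + p.2 • x₁ + (g ((p.1 : W) + p.2 • x₁) e + 1) • x₁ = p.1
      rw [h2, add_assoc, H.two_w, add_zero]
    · refine Subtype.ext ?_
      show (x : W) + (g x e + 1) • x₁ + (g x e + 1) • x₁ = x
      rw [add_assoc, H.two_w, add_zero]
  have key : ∀ a ∈ A, ∀ t : F, g (a + t • e) (a + t • e) = 0 ↔ t + sg t = g a a := by
    intro a ha t
    have h3 : g a e = 1 := ha.2
    have h4 : g e a = 1 := by rw [H.sym, h3, map_one]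
    rw [H.add, H.add_r, H.add_r, H.smul, H.smul_r, H.smul, H.smul_r, hee, h3, h4]
    constructor
    · intro h
      have := H.two_self (g a a)
      linear_combination h - this
    · intro h
      have := H.two_self (g a a)
      linear_combination h + this
  have h2 : Nat.card (Iso g D e) * Nat.card F = Nat.card A * q := by
    rw [← Nat.card_prod]
    have e1 : (Iso g D e × F) ≃ (Σ a : A, {t : F | t + sg t = g (a : W) a}) :=
      { toFun := fun p => ⟨⟨(p.1 : W) + p.2 • e, D.add_mem p.1.2.1 (D.smul_mem _ he), by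
            rw [H.add, H.smul, hee, mul_zero, add_zero]; exact p.1.2.2.2⟩, ⟨p.2, by
            have hA : (p.1 : W) + p.2 • e ∈ A := ⟨D.add_mem p.1.2.1 (D.smul_mem _ he), by
              rw [H.add, H.smul, hee, mul_zero, add_zero]; exact p.1.2.2.2⟩
            refine (key _ hA p.2).1 ?_
            rw [add_assoc, H.two_w, add_zero]; exact p.1.2.2.1⟩⟩
        invFun := fun p => (⟨(p.1 : W) + (p.2 : F) • e, D.add_mem p.1.2.1 (D.smul_mem _ he),
            (key _ p.1.2 p.2).2 p.2.2, by rw [H.add, H.smul, hee, mul_zero, add_zero]; exact p.1.2.2⟩, p.2)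
        left_inv := fun p => Prod.ext (Subtype.ext (by
          show (p.1 : W) + p.2 • e + p.2 • e = p.1
          rw [add_assoc, H.two_w, add_zero])) rfl
        right_inv := fun p => by
          obtain ⟨⟨a, ha⟩, ⟨t, ht⟩⟩ := p
          have h3 : a + t • e + t • e = a := by rw [add_assoc, H.two_w, add_zero]
          have h4 : ∀ (b c : A) (hbc : (b : W) = c) (hb : t + sg t = g (b : W) b)
              (hc : t + sg t = g (c : W) c), (⟨b, ⟨t, hb⟩⟩ : Σ a : A, {t : F | t + sg t = g (a : W) a})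
                = ⟨c, ⟨t, hc⟩⟩ := by
            intro b c hbc hb hc
            obtain rfl := Subtype.ext hbc
            rfl
          exact h4 ⟨a + t • e + t • e, _⟩ ⟨a, ha⟩ h3 _ _ }
    rw [Nat.card_congr e1]
    have : Fintype A := Fintype.ofFinite A
    rw [Nat.card_sigma]
    have h5 : ∀ a : A, Nat.card {t : F | t + sg t = g (a : W) a} = q := fun a => H.tr_fib (H.sg_diag _)
    rw [Finset.sum_congr rfl (fun a _ => h5 a), Finset.sum_const, Finset.card_univ, smul_eq_mul,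
      Nat.card_eq_fintype_card]
  have hq := H.pos
  have hc := H.card
  rw [hc] at h1 h2
  have h3 : Nat.card (Iso g D e) * q = Nat.card A :=
    Nat.eq_of_mul_eq_mul_right hq (by rw [← h2]; ring)
  rw [← h1, ← h3]; ring

end Herm

/-- counting the members of a spread over `A` -/
theorem card_spread {A : Submodule F W} {X : Set (Submodule F W)} {T : Set W} [Finite W] {b : ℕ}
    (h1 : ∀ x ∈ X, A ≤ x) (h2 : ∀ x ∈ X, Nat.card x = b)
    (h3 : ∀ v, v ∈ T ↔ v ∉ A ∧ ∃ x ∈ X, v ∈ x)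
    (h4 : ∀ x ∈ X, ∀ x' ∈ X, ∀ v, v ∉ A → v ∈ x → v ∈ x' → x = x') :
    Nat.card T + Nat.card X * Nat.card A = Nat.card X * b := by
  classical
  have hs : Finite (Submodule F W) := Finite.of_injective (fun X : Submodule F W => (X : Set W)) SetLike.coe_injective
  have e : (Σ x : X, {v : W // v ∈ (x : Submodule F W) ∧ v ∉ A}) ≃ T := by
    refine Equiv.ofBijective (fun p => ⟨p.2.1, (h3 _).2 ⟨p.2.2.2, _, p.1.2, p.2.2.1⟩⟩) ⟨?_, ?_⟩
    · rintro ⟨⟨x, hx⟩, ⟨v, hv, hv'⟩⟩ ⟨⟨x', hx'⟩, ⟨v', hw, hw'⟩⟩ h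
      have h5 : v = v' := congrArg Subtype.val h
      subst h5
      obtain rfl := h4 x hx x' hx' v hv' hv hw
      rfl
    · rintro ⟨v, hv⟩
      obtain ⟨h5, x, hx, hvx⟩ := (h3 v).1 hv
      exact ⟨⟨⟨x, hx⟩, ⟨v, hvx, h5⟩⟩, rfl⟩
  have : Fintype X := Fintype.ofFinite X
  rw [← Nat.card_congr e, Nat.card_sigma]
  have h5 : ∀ x : X, Nat.card {v : W // v ∈ (x : Submodule F W) ∧ v ∉ A} + Nat.card A = b := by
    intro x
    rw [← h2 x x.2]
    have e2 : {v : W // v ∈ (x : Submodule F W) ∧ v ∉ A} ⊕ A ≃ (x : Submodule F W) := by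
      refine Equiv.ofBijective (Sum.elim (fun v => ⟨v.1, v.2.1⟩) fun a => ⟨a.1, h1 x x.2 a.2⟩) ⟨?_, ?_⟩
      · rintro (⟨v, hv, hv'⟩ | ⟨a, ha⟩) (⟨w, hw, hw'⟩ | ⟨a', ha'⟩) h
        · have : v = w := congrArg Subtype.val h
          subst this; rfl
        · have : v = a' := congrArg Subtype.val h
          subst this; exact absurd ha' hv'
        · have : a = w := congrArg Subtype.val h
          subst this; exact absurd ha hw'
        · have : a = a' := congrArg Subtype.val h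
          subst this; rfl
      · rintro ⟨v, hv⟩
        by_cases hA : v ∈ A
        · exact ⟨Sum.inr ⟨v, hA⟩, rfl⟩
        · exact ⟨Sum.inl ⟨v, hv, hA⟩, rfl⟩
    rw [← Nat.card_congr e2, Nat.card_sum]
  rw [Nat.card_eq_fintype_card (α := X), ← Finset.card_univ, ← smul_eq_mul, ← smul_eq_mul, ← Finset.sum_const,
    ← Finset.sum_const, ← Finset.sum_add_distrib]
  exact Finset.sum_congr rfl fun x _ => h5 x

/-- a complement count -/
theorem card_compl {A X : Submodule F W} [Finite W] (h : A ≤ X) :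
    Nat.card {v : W | v ∈ X ∧ v ∉ A} + Nat.card A = Nat.card X := by
  have e2 : {v : W | v ∈ X ∧ v ∉ A} ⊕ A ≃ X := by
    refine Equiv.ofBijective (Sum.elim (fun v => ⟨v.1, v.2.1⟩) fun a => ⟨a.1, h a.2⟩) ⟨?_, ?_⟩
    · rintro (⟨v, hv, hv'⟩ | ⟨a, ha⟩) (⟨w, hw, hw'⟩ | ⟨a', ha'⟩) h
      · have : v = w := congrArg Subtype.val h
        subst this; rfl
      · have : v = a' := congrArg Subtype.val h
        subst this; exact absurd ha' hv'
      · have : a = w := congrArg Subtype.val h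
        subst this; exact absurd ha hw'
      · have : a = a' := congrArg Subtype.val h
        subst this; rfl
    · rintro ⟨v, hv⟩
      by_cases hA : v ∈ A
      · exact ⟨Sum.inr ⟨v, hA⟩, rfl⟩
      · exact ⟨Sum.inl ⟨v, hv, hA⟩, rfl⟩
  rw [← Nat.card_congr e2, Nat.card_sum]

variable [FiniteDimensional F W] {q : ℕ} {sg : F →+* F} {g : W → W → F} (H : Herm q sg g) {m : ℕ}
  {f : ℕ → Submodule F W}

include H

/-- the span of one more vector -/
theorem Herm.eq_sup {A X : Submodule F W} {v : W} (h : A ≤ X) (hv : v ∈ X) (hA : v ∉ A)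
    (hr : finrank F X = finrank F A + 1) : X = A ⊔ (F ∙ v) := by
  symm
  exact eq_of_rk (sup_le h (by rwa [Submodule.span_singleton_le_iff_mem]))
    (by rw [Submodule.finrank_sup_span_singleton hA, hr])

/-- **the panels `1 ≤ j < m`** -/
theorem Herm.card_pan_lt (hm : Witt g m) (hf : Fl (TI g (F := F)) m f) {j : ℕ} (hj : 1 ≤ j) (hjm : j < m) :
    Nat.card (Flags.Pan (TI g) m f j) = Nat.card F + 1 := by
  have hF := H.finite_F
  have hW : Finite W := Module.finite_of_finite F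
  obtain ⟨i, rfl⟩ := Nat.exists_eq_add_of_le' hj
  have hS := H.polSp hm
  have hQ := Finite.one_lt_card (α := F)
  have cf : ∀ d ≤ m, Nat.card (f d) = Nat.card F ^ d := fun d hd => by
    rw [Module.natCard_eq_pow_finrank (K := F), hf.rk d hd]
  have h1 := card_compl (hf.le (a := i) (b := i + 2) (by omega) (by omega))
  have h2 := card_spread (A := f i) (X := Flags.Pan (TI g) m f (i + 1)) (T := {v : W | v ∈ f (i + 2) ∧ v ∉ f i})
    (b := Nat.card F ^ (i + 1)) (fun x hx => hx.2.2.1 i rfl)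
    (fun x hx => by rw [Module.natCard_eq_pow_finrank (K := F), hx.2.1])
    (fun v => ?_) (fun x hx x' hx' v hv h1 h2 => ?_)
  · rw [cf _ (by omega), cf _ (by omega)] at h1
    rw [cf _ (by omega)] at h2
    have hR : 0 < Nat.card F ^ i := pow_pos (by omega) _
    rw [pow_succ, pow_succ] at h1
    rw [pow_succ] at h2
    generalize Nat.card {v : W | v ∈ f (i + 2) ∧ v ∉ f i} = T at *
    generalize Nat.card (Flags.Pan (TI g) m f (i + 1)) = P at *
    generalize Nat.card F ^ i = R at *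
    generalize Nat.card F = Q at *
    -- T + R = R Q Q,  T + P R = P (R Q)
    zify at h1 h2 hR hQ ⊢
    have h3 : (R : ℤ) * (Q - 1) * (P - (Q + 1)) = 0 := by linear_combination -h2 + h1
    rcases mul_eq_zero.1 h3 with h | h
    · rcases mul_eq_zero.1 h with h | h <;> omega
    · linarith only [h]
  · constructor
    · rintro ⟨hv, hv'⟩
      refine ⟨hv', f i ⊔ (F ∙ v), ⟨?_, ?_, ?_, ?_⟩, Submodule.mem_sup_right (Submodule.mem_span_singleton_self v)⟩
      · exact TI.mono (sup_le (hf.le (by omega) (by omega)) (by rwa [Submodule.span_singleton_le_iff_mem]))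
          (hf.si hS (d := i + 2) (by omega))
      · rw [Submodule.finrank_sup_span_singleton hv', hf.rk i (by omega)]
      · intro d hd
        obtain rfl : d = i := by omega
        exact le_sup_left
      · intro _
        exact sup_le (hf.le (by omega) (by omega)) (by rwa [Submodule.span_singleton_le_iff_mem])
    · rintro ⟨hv, x, hx, hvx⟩
      exact ⟨hx.2.2.2 hjm hvx, hv⟩
  · rw [H.eq_sup (hx.2.2.1 i rfl) h1 hv (by rw [hx.2.1, hf.rk i (by omega)]),
      H.eq_sup (hx'.2.2.1 i rfl) h2 hv (by rw [hx'.2.1, hf.rk i (by omega)])]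

/-- an isotropic vector orthogonal to `f m` lies in `f m` -/
theorem Herm.mem_of_iso (hm : Witt g m) (hf : Fl (TI g (F := F)) m f) {v : W} (hv : g v v = 0)
    (h : v ∈ H.perp (f m)) : v ∈ f m := by
  by_contra hvX
  have h3 := hm.2 _ (H.TI_sup_span hf.sing hv h)
  rw [Submodule.finrank_sup_span_singleton hvX, hf.rk m le_rfl] at h3
  omega

/-- the number of isotropic vectors `x` of `(f i)^⊥` with `g x e = 1` -/
theorem Herm.card_last (hm : Witt g m) (hf : Fl (TI g (F := F)) m f) {i : ℕ} (hi : i + 1 = m) {e : W}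
    (he : e ∈ f m) (he' : e ∉ f i) :
    Nat.card (Iso g (H.perp (f i)) e) = Nat.card F ^ i * (q * Nat.card F ^ (finrank F W - 2 * m)) := by
  have h1 := H.card_iso (D := H.perp (f i)) (e := e) (fun x hx => hf.sing e he x (hf.le (by omega) le_rfl hx))
    (hf.sing e he e he) (by
      obtain ⟨z, hz, h⟩ := H.exists_ne he'
      exact ⟨z, hz, h⟩)
  have h2 := H.finrank_perp (f i)
  have h3 := H.finrank_eq hm
  rw [hf.rk i (by omega)] at h2
  rw [Module.natCard_eq_pow_finrank (K := F) (V := ↥(H.perp (f i)))] at h1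
  have h4 : finrank F ↥(H.perp (f i)) = i + (finrank F W - 2 * m) + 2 := by omega
  rw [h4, pow_add, pow_add, H.card] at h1
  rw [H.card]
  have hq : 0 < q ^ 3 := pow_pos H.pos _
  exact Nat.eq_of_mul_eq_mul_right hq (by rw [h1]; ring)

/-- **the last panel** -/
theorem Herm.card_pan_last (hm : Witt g m) (hf : Fl (TI g (F := F)) m f) (hm1 : 1 ≤ m) :
    Nat.card (Flags.Pan (TI g) m f m) = q * Nat.card F ^ (finrank F W - 2 * m) + 1 := by
  have hF := H.finite_F
  have hW : Finite W := Module.finite_of_finite F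
  obtain ⟨i, rfl⟩ := Nat.exists_eq_add_of_le' hm1
  have hS := H.polSp hm
  have hQ := Finite.one_lt_card (α := F)
  have cf : ∀ d ≤ i + 1, Nat.card (f d) = Nat.card F ^ d := fun d hd => by
    rw [Module.natCard_eq_pow_finrank (K := F), hf.rk d hd]
  obtain ⟨e, hee, he1, he2, he3⟩ := HAct.exists_gen H hf.sing (hf.mono i (by omega))
    (by rw [hf.rk _ le_rfl, hf.rk i (by omega)])
  have hem : e ∈ f (i + 1) := by rw [he3]; exact Submodule.mem_sup_right (Submodule.mem_span_singleton_self e)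
  have h0 := H.card_last hm hf rfl hem he2
  -- the isotropic vectors of `(f i)^⊥` outside `f i`
  let T : Set W := {v | v ∈ H.perp (f i) ∧ g v v = 0 ∧ v ∉ f i}
  have h1 : Nat.card T + Nat.card F ^ i + Nat.card (Iso g (H.perp (f i)) e)
      = Nat.card F ^ (i + 1) + Nat.card F * Nat.card (Iso g (H.perp (f i)) e) := by
    have e1 : T ⊕ (f i) ⊕ (Iso g (H.perp (f i)) e) ≃ (f (i + 1)) ⊕ (F × Iso g (H.perp (f i)) e) := by
      classical
      have p1 : ∀ v : W, v ∈ H.perp (f i) → g v v = 0 → g v e = 0 → v ∈ f (i + 1) := fun v h1 h2 h3 => by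
        refine H.mem_of_iso hm hf h2 ?_
        rw [he3, H.mem_perp_sup, H.mem_perp_span]
        exact ⟨h1, h3⟩
      have p2 : ∀ v ∈ f (i + 1), v ∈ H.perp (f i) ∧ g v v = 0 ∧ g v e = 0 := fun v hv =>
        ⟨fun x hx => hf.sing v hv x (hf.mono i (by omega) hx), hf.sing v hv v hv, hf.sing v hv e hem⟩
      have p3 : ∀ v : W, v ∈ H.perp (f i) → g v v = 0 → g v e ≠ 0 →
          (g v e)⁻¹ • v ∈ Iso g (H.perp (f i)) e := fun v h1 h2 h3 =>
        ⟨Submodule.smul_mem _ _ h1, by rw [H.smul, H.smul_r, h2, mul_zero, mul_zero],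
          by rw [H.smul, inv_mul_cancel₀ h3]⟩
      have p4 : ∀ (s : F) (x : W), s ≠ 0 → x ∈ Iso g (H.perp (f i)) e → s • x ∈ T := fun s x hs hx => by
        refine ⟨Submodule.smul_mem _ _ hx.1, by rw [H.smul, H.smul_r, hx.2.1, mul_zero, mul_zero], fun h => ?_⟩
        have h2 := (p2 _ (hf.mono i (by omega) h)).2.2
        rw [H.smul, hx.2.2, mul_one] at h2
        exact hs h2
      refine
        { toFun := fun z => match z with
            | Sum.inl v => if h : g (v : W) e = 0 then Sum.inl ⟨v, p1 v v.2.1 v.2.2.1 h⟩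
                else Sum.inr (g (v : W) e, ⟨_, p3 v v.2.1 v.2.2.1 h⟩)
            | Sum.inr (Sum.inl a) => Sum.inl ⟨a, hf.mono i (by omega) a.2⟩
            | Sum.inr (Sum.inr x) => Sum.inr (0, x)
          invFun := fun z => match z with
            | Sum.inl v => if h : (v : W) ∈ f i then Sum.inr (Sum.inl ⟨v, h⟩)
                else Sum.inl ⟨v, (p2 v v.2).1, (p2 v v.2).2.1, h⟩
            | Sum.inr (s, x) => if h : s = 0 then Sum.inr (Sum.inr x) else Sum.inl ⟨s • (x : W), p4 s x h x.2⟩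
          left_inv := ?_
          right_inv := ?_ }
      · rintro (⟨v, h1, h2, h3⟩ | ⟨a, ha⟩ | x)
        · by_cases h : g v e = 0
          · simp [h, h3]
          · simp only [h, dite_false]
            refine congrArg Sum.inl (Subtype.ext ?_)
            show g v e • ((g v e)⁻¹ • v) = v
            rw [smul_smul, mul_inv_cancel₀ h, one_smul]
        · simp [ha]
        · simp
      · rintro (⟨v, hv⟩ | ⟨s, ⟨x, hx⟩⟩)
        · by_cases h : v ∈ f i
          · simp [h]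
          · simp [h, (p2 v hv).2.2]
        · by_cases h : s = 0
          · subst h; simp
          · have h5 : g (s • x) e = s := by rw [H.smul, hx.2.2, mul_one]
            have h6 : g (s • x) e ≠ 0 := by rw [h5]; exact h
            simp only [h, dite_false, h6]
            refine congrArg Sum.inr (Prod.ext h5 (Subtype.ext ?_))
            show (g (s • x) e)⁻¹ • (s • x) = x
            rw [h5, smul_smul, inv_mul_cancel₀ h, one_smul]
    have h2 := Nat.card_congr e1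
    rw [Nat.card_sum, Nat.card_sum, Nat.card_sum, Nat.card_prod, cf _ le_rfl, cf _ (by omega)] at h2
    omega
  have h2 := card_spread (A := f i) (X := Flags.Pan (TI g) (i + 1) f (i + 1)) (T := T)
    (b := Nat.card F ^ (i + 1)) (fun x hx => hx.2.2.1 i rfl)
    (fun x hx => by rw [Module.natCard_eq_pow_finrank (K := F), hx.2.1])
    (fun v => ?_) (fun x hx x' hx' v hv h1 h2 => ?_)
  · rw [cf _ (by omega)] at h2
    have hR : 0 < Nat.card F ^ i := pow_pos (by omega) _
    rw [pow_succ] at h1 h2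
    rw [h0] at h1
    generalize Nat.card T = T' at *
    generalize Nat.card (Flags.Pan (TI g) (i + 1) f (i + 1)) = P at *
    generalize q * Nat.card F ^ (finrank F W - 2 * (i + 1)) = N at *
    generalize Nat.card F ^ i = R at *
    generalize Nat.card F = Q at *
    -- T + R + R N = R Q + Q (R N),  T + P R = P (R Q)
    zify at h1 h2 hR hQ ⊢
    have h3 : (R : ℤ) * (Q - 1) * (P - (N + 1)) = 0 := by linear_combination -h2 + h1
    rcases mul_eq_zero.1 h3 with h | h
    · rcases mul_eq_zero.1 h with h | h <;> omega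
    · linarith only [h]
  · constructor
    · rintro ⟨hv, hvv, hv'⟩
      refine ⟨hv', f i ⊔ (F ∙ v), ⟨?_, ?_, ?_, ?_⟩, Submodule.mem_sup_right (Submodule.mem_span_singleton_self v)⟩
      · exact H.TI_sup_span (hf.si hS (by omega)) hvv hv
      · rw [Submodule.finrank_sup_span_singleton hv', hf.rk i (by omega)]
      · intro d hd
        obtain rfl : d = i := by omega
        exact le_sup_left
      · intro h; omega
    · rintro ⟨hv, x, hx, hvx⟩
      exact ⟨fun y hy => hx.1 v hvx y (hx.2.2.1 i rfl hy), hx.1 v hvx v hvx, hv⟩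
  · rw [H.eq_sup (hx.2.2.1 i rfl) h1 hv (by rw [hx.2.1, hf.rk i (by omega)]),
      H.eq_sup (hx'.2.2.1 i rfl) h2 hv (by rw [hx'.2.1, hf.rk i (by omega)])]

end Cfsg.Agent.ParSys.Polar.Hermit

end

section


/-!
# The order of the unipotent group of a flag (C-side of NO-1', type (beta))

`card_le` : if `U` contains the Siegel elements of `e i` with centre `w ⊥ e j, e' j` (`j ≤ i`), then
`|U| ≥ |ker| · ∏ (|F|^(n-2i) q)`.
-/

set_option autoImplicit false

namespace Cfsg.Agent.ParSys.Polar.CardU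

variable {G : Type*} [Group G] {F W : Type*} [Field F] [AddCommGroup W] [Module F W]

/-- a subgroup of a finite group with at least `|T|` cosets -/
theorem card_mul_le [Finite G] {T : Type*} {A A' : Subgroup G} (hA : A' ≤ A) (x : T → G) (hx : ∀ t, x t ∈ A)
    (hinj : ∀ t t', (x t)⁻¹ * x t' ∈ A' → t = t') : Nat.card T * Nat.card A' ≤ Nat.card A := by
  rw [← Nat.card_prod]
  refine Nat.card_le_card_of_injective (fun a : T × A' => (⟨x a.1 * a.2, mul_mem (hx _) (hA a.2.2)⟩ : A)) ?_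
  rintro ⟨t, a⟩ ⟨t', a'⟩ h
  have h1 : x t * (a : G) = x t' * (a' : G) := congrArg Subtype.val h
  have h2 : (x t)⁻¹ * x t' = (a : G) * (a' : G)⁻¹ := by
    calc (x t)⁻¹ * x t' = (x t)⁻¹ * (x t' * a') * (a' : G)⁻¹ := by group
      _ = _ := by rw [← h1]; group
  have h3 := hinj t t' (by rw [h2]; exact mul_mem a.2 (inv_mem a'.2))
  subst h3
  rw [inv_mul_cancel] at h2
  have h4 : a = a' := Subtype.ext (mul_inv_eq_one.1 h2.symm)
  rw [h4]

/-- the data -/
structure Dat (F : Type*) {W : Type*} [Field F] [AddCommGroup W] [Module F W] (sg : F → F) (g : W → W → F)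
    (rho : G → W → W) (U : Subgroup G) (m : ℕ) (e e' : ℕ → W) : Prop where
  one : ∀ v, rho 1 v = v
  mul : ∀ x ∈ U, ∀ y ∈ U, ∀ v, rho (x * y) v = rho x (rho y v)
  sg_one : sg 1 = 1
  sg_add : ∀ a b, sg (a + b) = sg a + sg b
  g_add : ∀ v v' u, g (v + v') u = g v u + g v' u
  g_smul : ∀ (s : F) v u, g (s • v) u = s * g v u
  g_sym : ∀ v u, g u v = sg (g v u)
  ee' : ∀ i j, 1 ≤ i → i ≤ m → 1 ≤ j → j ≤ m → g (e' j) (e i) = if i = j then 1 else 0
  tr : ∀ w, ∃ a, a + sg a = g w w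
  sieg : ∀ i, 1 ≤ i → i ≤ m → ∀ w, (∀ j, 1 ≤ j → j ≤ i → g w (e j) = 0 ∧ g w (e' j) = 0) → ∀ a, a + sg a = g w w →
    ∃ x ∈ U, ∀ v, rho x v = v + g v (e i) • w + (g v w + a * g v (e i)) • e i

namespace Dat

variable {sg : F → F} {g : W → W → F} {rho : G → W → W} {U : Subgroup G} {m : ℕ} {e e' : ℕ → W}
  (h : Dat F sg g rho U m e e')
include h

theorem inv_self {x : G} (hx : x ∈ U) (v : W) : rho x⁻¹ (rho x v) = v := by
  rw [← h.mul _ (inv_mem hx) _ hx, inv_mul_cancel, h.one]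

/-- the stabiliser of `e' 1, .., e' i` -/
def Uc (i : ℕ) : Subgroup G where
  carrier := {u | u ∈ U ∧ ∀ j, 1 ≤ j → j ≤ i → rho u (e' j) = e' j}
  one_mem' := ⟨one_mem _, fun j _ _ => h.one _⟩
  mul_mem' := fun {a b} ha hb => ⟨mul_mem ha.1 hb.1, fun j h1 h2 => by
    rw [h.mul a ha.1 b hb.1, hb.2 j h1 h2, ha.2 j h1 h2]⟩
  inv_mem' := fun {a} ha => ⟨inv_mem ha.1, fun j h1 h2 => by
    have := h.inv_self ha.1 (e' j)
    rwa [ha.2 j h1 h2] at this⟩

theorem Uc_zero : h.Uc 0 = U := by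
  ext u
  refine ⟨fun hu => hu.1, fun hu => ⟨hu, fun j h1 h2 => by omega⟩⟩

theorem Uc_anti (i : ℕ) : h.Uc (i + 1) ≤ h.Uc i := fun _ hu => ⟨hu.1, fun j h1 h2 => hu.2 j h1 (by omega)⟩

/-- the centres of the Siegel elements of level `i` -/
def Ws (i : ℕ) : Submodule F W where
  carrier := {w | ∀ j, 1 ≤ j → j ≤ i → g w (e j) = 0 ∧ g w (e' j) = 0}
  zero_mem' := fun j _ _ => by
    have h1 : ∀ u, g 0 u = 0 := fun u => by
      have := h.g_smul 0 0 u
      rwa [zero_smul, zero_mul] at this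
    exact ⟨h1 _, h1 _⟩
  add_mem' := fun {a b} ha hb j h1 h2 => by
    rw [h.g_add, h.g_add, (ha j h1 h2).1, (ha j h1 h2).2, (hb j h1 h2).1, (hb j h1 h2).2, add_zero]
    exact ⟨rfl, rfl⟩
  smul_mem' := fun s a ha j h1 h2 => by
    rw [h.g_smul, h.g_smul, (ha j h1 h2).1, (ha j h1 h2).2, mul_zero]
    exact ⟨rfl, rfl⟩

/-- `|W| ≤ |W_i| |F|^(2i)` -/
theorem card_Ws [Finite F] [Finite W] (i : ℕ) :
    Nat.card W ≤ Nat.card (h.Ws i) * Nat.card F ^ (2 * i) := by
  let L : W →ₗ[F] (Fin i → F × F) :=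
    { toFun := fun w j => (g w (e (j + 1)), g w (e' (j + 1)))
      map_add' := fun v v' => by ext j <;> simp [h.g_add]
      map_smul' := fun s v => by ext j <;> simp [h.g_smul] }
  have hker : LinearMap.ker L = h.Ws i := by
    ext w
    rw [LinearMap.mem_ker]
    constructor
    · intro hw j h1 h2
      have h3 := congrFun hw ⟨j - 1, by omega⟩
      have h4 : j - 1 + 1 = j := by omega
      simp only [L, LinearMap.coe_mk, AddHom.coe_mk, Pi.zero_apply, h4] at h3
      exact ⟨congrArg Prod.fst h3, congrArg Prod.snd h3⟩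
    · intro hw
      ext j
      · exact (hw (j + 1) (by omega) (by omega)).1
      · exact (hw (j + 1) (by omega) (by omega)).2
  have h1 : Nat.card W = Nat.card (LinearMap.ker L) * Nat.card (W ⧸ LinearMap.ker L) := by
    rw [← Nat.card_prod]
    have := (LinearMap.ker L).card_eq_card_quotient_mul_card
    rw [this, Nat.card_prod, mul_comm]
  have h2 : Nat.card (W ⧸ LinearMap.ker L) ≤ Nat.card F ^ (2 * i) := by
    rw [Nat.card_congr L.quotKerEquivRange.toEquiv]
    have h3 : Nat.card (LinearMap.range L) ≤ Nat.card (Fin i → F × F) :=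
      Nat.card_le_card_of_injective _ Subtype.val_injective
    refine h3.trans ?_
    rw [Nat.card_fun, Nat.card_prod, Nat.card_fin, pow_mul, pow_two]
  rw [h1, hker]
  rw [hker] at h2
  exact Nat.mul_le_mul_left _ h2

theorem sg_zero : sg 0 = 0 := by
  have := h.sg_add 0 0
  rw [add_zero] at this
  exact left_eq_add.1 this

/-- the Siegel elements of level `i + 1` -/
theorem step [Finite G] (i : ℕ) (hi : i < m) :
    Nat.card (h.Ws (i + 1)) * Nat.card {a : F // a + sg a = 0} * Nat.card (h.Uc (i + 1)) ≤ Nat.card (h.Uc i) := by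
  classical
  rw [← Nat.card_prod]
  have hx : ∀ t : (h.Ws (i + 1)) × {a : F // a + sg a = 0}, ∃ x ∈ U, ∀ v, rho x v = v + g v (e (i + 1)) • (t.1 : W) +
      (g v t.1 + ((h.tr t.1).choose + t.2) * g v (e (i + 1))) • e (i + 1) := by
    rintro ⟨w, a⟩
    refine h.sieg (i + 1) (by omega) (by omega) w (fun j h1 h2 => w.2 j h1 h2) _ ?_
    have h1 := (h.tr w).choose_spec
    rw [h.sg_add]
    calc (h.tr w).choose + a + (sg (h.tr w).choose + sg a) =
        ((h.tr w).choose + sg (h.tr w).choose) + (a + sg a) := by ring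
      _ = g w w := by rw [h1, a.2, add_zero]
  choose x hxU hxv using hx
  have hge : ∀ w : h.Ws (i + 1), ∀ j, 1 ≤ j → j ≤ i + 1 → g (e' j) w = 0 := by
    intro w j h1 h2
    rw [h.g_sym, (w.2 j h1 h2).2, h.sg_zero]
  refine card_mul_le (h.Uc_anti i) x (fun t => ⟨hxU t, fun j h1 h2 => ?_⟩) ?_
  · rw [hxv, h.ee' (i + 1) j (by omega) (by omega) h1 (by omega), if_neg (by omega), hge t.1 j h1 (by omega)]
    simp only [_root_.zero_smul, _root_.add_zero, _root_.MulZeroClass.mul_zero]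
  · intro t t' htt
    have h1 := htt.2 (i + 1) (by omega) le_rfl
    rw [h.mul _ (inv_mem (hxU t)) _ (hxU t')] at h1
    have h2 : rho (x t') (e' (i + 1)) = rho (x t) (e' (i + 1)) := by
      have h3 := congrArg (rho (x t)) h1
      rw [← h.mul _ (hxU t) _ (inv_mem (hxU t)), mul_inv_cancel, h.one] at h3
      exact h3
    rw [hxv, hxv, h.ee' (i + 1) (i + 1) (by omega) (by omega) (by omega) (by omega), if_pos rfl,
      hge t.1 _ (by omega) le_rfl, hge t'.1 _ (by omega) le_rfl, one_smul, one_smul, zero_add, zero_add,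
      mul_one, mul_one, add_assoc, add_assoc, add_left_cancel_iff] at h2
    have h4 : ∀ t : (h.Ws (i + 1)) × {a : F // a + sg a = 0},
        g ((t.1 : W) + ((h.tr t.1).choose + t.2) • e (i + 1)) (e' (i + 1)) = (h.tr t.1).choose + t.2 := by
      intro t
      rw [h.g_add, h.g_smul, (t.1.2 (i + 1) (by omega) le_rfl).2, h.g_sym (e' (i + 1)) (e (i + 1)),
        h.ee' (i + 1) (i + 1) (by omega) (by omega) (by omega) (by omega), if_pos rfl, h.sg_one, mul_one, zero_add]
    have h5 : (h.tr t'.1).choose + (t'.2 : F) = (h.tr t.1).choose + t.2 := by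
      rw [← h4 t', ← h4 t, h2]
    rw [h5] at h2
    have h6 : (t'.1 : W) = t.1 := add_right_cancel h2
    have h7 : t'.1 = t.1 := Subtype.ext h6
    rw [h7] at h5
    exact Prod.ext h7.symm (Subtype.ext (add_left_cancel h5).symm)

/-- **the order of `U`** -/
theorem card_le' [Finite G] {k : ℕ} (hk : k ≤ m) :
    (∏ i ∈ Finset.range k, (Nat.card (h.Ws (i + 1)) * Nat.card {a : F // a + sg a = 0})) *
      Nat.card (h.Uc k) ≤ Nat.card U := by
  induction k with
  | zero => rw [Finset.prod_range_zero, one_mul, h.Uc_zero]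
  | succ k ih =>
    rw [Finset.prod_range_succ, mul_assoc]
    exact (Nat.mul_le_mul_left _ (h.step k (by omega))).trans (ih (by omega))

/-- **the order of `U`**, `Q` the kernel -/
theorem card_le [Finite G] [Finite F] [Finite W] {Q : Subgroup G} (hQ : Q ≤ U) (hQv : ∀ x ∈ Q, ∀ v, rho x v = v)
    {n q : ℕ} (hn : Nat.card W = Nat.card F ^ n) (hq : Nat.card F = q ^ 2)
    (hq' : q ≤ Nat.card {a : F // a + sg a = 0}) (hnm : n = 2 * m ∨ n = 2 * m + 1) :
    Nat.card Q * q ^ (n * (n - 1) / 2) ≤ Nat.card U := by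
  have hF : 0 < Nat.card F := Nat.card_pos
  have hq0 : 0 < q := by
    rcases Nat.eq_zero_or_pos q with h0 | h0
    · rw [h0] at hq; simp at hq; omega
    · exact h0
  have hQU : Nat.card Q ≤ Nat.card (h.Uc m) := by
    have h1 : Q ≤ h.Uc m := fun x hx => ⟨hQ hx, fun j _ _ => hQv x hx _⟩
    exact Subgroup.card_le_of_le h1
  have hW : ∀ i, i < m → q ^ (2 * (n - 2 * (i + 1)) + 1) ≤
      Nat.card (h.Ws (i + 1)) * Nat.card {a : F // a + sg a = 0} := by
    intro i hi
    have h1 := h.card_Ws (i + 1)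
    rw [hn] at h1
    have h2 : Nat.card F ^ n = Nat.card F ^ (n - 2 * (i + 1)) * Nat.card F ^ (2 * (i + 1)) := by
      rw [← pow_add]; congr 1; omega
    rw [h2] at h1
    have h3 := Nat.le_of_mul_le_mul_right h1 (by positivity)
    rw [hq, ← pow_mul] at h3
    rw [pow_succ]
    exact Nat.mul_le_mul h3 hq'
  have hprod : ∀ k ≤ m, q ^ (k * (2 * n - 2 * k - 1)) ≤
      ∏ i ∈ Finset.range k, (Nat.card (h.Ws (i + 1)) * Nat.card {a : F // a + sg a = 0}) := by
    intro k hk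
    induction k with
    | zero => simp only [_root_.MulZeroClass.mul_zero, _root_.tsub_zero, _root_.MulZeroClass.zero_mul, _root_.pow_zero, _root_.Finset.range_zero, _root_.Finset.prod_empty, _root_.Std.le_refl]
    | succ k ih =>
      rw [Finset.prod_range_succ]
      refine le_trans ?_ (Nat.mul_le_mul (ih (by omega)) (hW k (by omega)))
      rw [← pow_add]
      apply le_of_eq
      congr 1
      obtain ⟨r, rfl⟩ : ∃ r, n = 2 * (k + 1) + r := ⟨n - 2 * (k + 1), by omega⟩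
      have e1 : 2 * (2 * (k + 1) + r) - 2 * (k + 1) - 1 = 2 * k + 1 + 2 * r := by omega
      have e2 : 2 * (2 * (k + 1) + r) - 2 * k - 1 = 2 * k + 3 + 2 * r := by omega
      have e3 : 2 * (k + 1) + r - 2 * (k + 1) = r := by omega
      rw [e1, e2, e3]
      ring
  have h1 := h.card_le' (k := m) le_rfl
  refine le_trans ?_ h1
  rw [mul_comm]
  refine Nat.mul_le_mul ?_ hQU
  have e : n * (n - 1) / 2 = m * (2 * n - 2 * m - 1) := by
    rcases hnm with rfl | rfl
    · rcases m with _ | m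
      · rfl
      · have e1 : 2 * (m + 1) - 1 = 2 * m + 1 := by omega
        have e2 : 2 * (2 * (m + 1)) - 2 * (m + 1) - 1 = 2 * m + 1 := by omega
        rw [e1, e2]
        have e3 : 2 * (m + 1) * (2 * m + 1) = 2 * ((m + 1) * (2 * m + 1)) := by ring
        rw [e3, Nat.mul_div_cancel_left _ two_pos]
    · have e1 : 2 * m + 1 - 1 = 2 * m := by omega
      have e2 : 2 * (2 * m + 1) - 2 * m - 1 = 2 * m + 1 := by omega
      rw [e1, e2]
      have e3 : (2 * m + 1) * (2 * m) = 2 * (m * (2 * m + 1)) := by ring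
      rw [e3, Nat.mul_div_cancel_left _ two_pos]
  rw [e]
  exact hprod m le_rfl

end Dat

/-! ### The dual vectors -/

section dual

variable {sg : F → F} {g : W → W → F} {m : ℕ} {f : ℕ → Submodule F W} {e : ℕ → W}

theorem indep (hmono : ∀ d < m, f d ≤ f (d + 1)) (he : ∀ d < m, e (d + 1) ∈ f (d + 1))
    (hne : ∀ d < m, e (d + 1) ∉ f d) {k : ℕ} (hk : k ≤ m) (c : ℕ → F)
    (h : ∑ i ∈ Finset.range k, c i • e (i + 1) = 0) : ∀ i < k, c i = 0 := by
  have hle : ∀ a b, a ≤ b → b ≤ m → f a ≤ f b := by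
    intro a b hab hb
    induction b, hab using Nat.le_induction with
    | base => exact le_rfl
    | succ b hab ih => exact (ih (by omega)).trans (hmono b (by omega))
  induction k with
  | zero => intro i hi; omega
  | succ k ih =>
    rw [Finset.sum_range_succ] at h
    have h1 : ∑ i ∈ Finset.range k, c i • e (i + 1) ∈ f k :=
      Submodule.sum_mem _ fun i hi => (f k).smul_mem _
        (hle (i + 1) k (by have := Finset.mem_range.1 hi; omega) (by omega) (he i (by
          have := Finset.mem_range.1 hi; omega)))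
    have h2 : c k = 0 := by
      by_contra hc
      apply hne k (by omega)
      have h3 : c k • e (k + 1) ∈ f k := by
        have h4 : c k • e (k + 1) = - ∑ i ∈ Finset.range k, c i • e (i + 1) := by
          rw [eq_neg_iff_add_eq_zero, add_comm]; exact h
        rw [h4]; exact neg_mem h1
      have h5 := (f k).smul_mem (c k)⁻¹ h3
      rwa [smul_smul, inv_mul_cancel₀ hc, one_smul] at h5
    rw [h2, zero_smul, add_zero] at h
    intro i hi
    by_cases hik : i = k
    · subst hik; exact h2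
    · exact ih (by omega) h i (by omega)

theorem exists_dual (g_add : ∀ v v' u, g (v + v') u = g v u + g v' u)
    (g_smul : ∀ (s : F) v u, g (s • v) u = s * g v u) (g_sym : ∀ v u, g u v = sg (g v u))
    (sg_add : ∀ a b, sg (a + b) = sg a + sg b) (sg_mul : ∀ a b, sg (a * b) = sg a * sg b)
    (sg_sg : ∀ a, sg (sg a) = a) (nondeg : ∀ w, (∀ u, g u w = 0) → w = 0)
    (hmono : ∀ d < m, f d ≤ f (d + 1)) (he : ∀ d < m, e (d + 1) ∈ f (d + 1))
    (hne : ∀ d < m, e (d + 1) ∉ f d) :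
    ∃ e' : ℕ → W, ∀ i j, 1 ≤ i → i ≤ m → 1 ≤ j → j ≤ m → g (e' j) (e i) = if i = j then 1 else 0 := by
  classical
  have sg_zero : sg 0 = 0 := by
    have := sg_add 0 0
    rw [add_zero] at this
    exact left_eq_add.1 this
  have g_add' : ∀ v u u', g v (u + u') = g v u + g v u' := fun v u u' => by
    rw [g_sym, g_add, sg_add, ← g_sym, ← g_sym]
  have g_smul' : ∀ (s : F) v u, g v (s • u) = sg s * g v u := fun s v u => by
    rw [g_sym, g_smul, sg_mul, ← g_sym]
  have g_zero' : ∀ v, g v 0 = 0 := fun v => by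
    have := g_add' v 0 0
    rw [add_zero] at this
    exact left_eq_add.1 this
  let L : W →ₗ[F] (Fin m → F) :=
    { toFun := fun v i => g v (e (i + 1))
      map_add' := fun v v' => by ext i; simp [g_add]
      map_smul' := fun s v => by ext i; simp [g_smul] }
  have hL : LinearMap.range L = ⊤ := by
    by_contra hcon
    obtain ⟨φ, hφ, hle⟩ := Submodule.exists_le_ker_of_lt_top _ (lt_top_iff_ne_top.2 hcon)
    apply hφ
    let c : ℕ → F := fun i => if hi : i < m then φ (Pi.single ⟨i, hi⟩ 1) else 0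
    have h1 : ∀ v, g v (∑ i ∈ Finset.range m, sg (c i) • e (i + 1)) = φ (L v) := by
      intro v
      have h2 : ∀ s : Finset ℕ, g v (∑ i ∈ s, sg (c i) • e (i + 1)) = ∑ i ∈ s, c i * g v (e (i + 1)) := by
        intro s
        induction s using Finset.induction_on with
        | empty => rw [Finset.sum_empty, Finset.sum_empty, g_zero']
        | insert a s ha ih => rw [Finset.sum_insert ha, Finset.sum_insert ha, g_add', g_smul', sg_sg, ih]
      rw [h2, Finset.sum_range]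
      have h3 : L v = ∑ i : Fin m, (L v i) • (Pi.single i (1 : F) : Fin m → F) := by
        ext j
        simp only [Finset.sum_apply, Pi.single_apply, _root_.Pi.smul_apply, _root_.smul_eq_mul, _root_.mul_ite, _root_.mul_one, _root_.MulZeroClass.mul_zero, _root_.Finset.sum_ite_eq, _root_.Finset.mem_univ, ↓ _root_.reduceIte]
      rw [h3, map_sum]
      refine Finset.sum_congr rfl fun i _ => ?_
      rw [map_smul, smul_eq_mul, mul_comm]
      have h4 : c i = φ (Pi.single i 1) := by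
        simp only [c, i.2, dif_pos]
      rw [h4]
      rfl
    have h5 := nondeg _ (fun u => by
      rw [h1]
      exact LinearMap.mem_ker.1 (hle ⟨u, rfl⟩))
    have h6 := indep hmono he hne le_rfl (fun i => sg (c i)) h5
    apply LinearMap.ext
    intro x
    have h7 : x = ∑ i : Fin m, (x i) • (Pi.single i (1 : F) : Fin m → F) := by
      ext j
      simp only [Finset.sum_apply, Pi.single_apply, _root_.Pi.smul_apply, _root_.smul_eq_mul, _root_.mul_ite, _root_.mul_one, _root_.MulZeroClass.mul_zero, _root_.Finset.sum_ite_eq, _root_.Finset.mem_univ, ↓ _root_.reduceIte]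
    rw [h7, map_sum, LinearMap.zero_apply]
    refine Finset.sum_eq_zero fun i _ => ?_
    have h8 := h6 i i.2
    have h9 : c i = 0 := by rw [← sg_sg (c i), h8, sg_zero]
    have h4 : c i = φ (Pi.single i 1) := by
      simp only [c, i.2, dif_pos]
    rw [map_smul, ← h4, h9, smul_zero]
  have hsurj : ∀ j : Fin m, ∃ v, L v = Pi.single j 1 := fun j => by
    have : (Pi.single j (1 : F) : Fin m → F) ∈ LinearMap.range L := by rw [hL]; trivial
    exact this
  choose v hv using hsurj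
  refine ⟨fun j => if hj : 1 ≤ j ∧ j ≤ m then v ⟨j - 1, by omega⟩ else 0, ?_⟩
  intro i j hi1 hi hj1 hj
  have h1 := congrFun (hv ⟨j - 1, by omega⟩) ⟨i - 1, by omega⟩
  have h2 : g (v ⟨j - 1, by omega⟩) (e (i - 1 + 1)) = (Pi.single (⟨j - 1, by omega⟩ : Fin m) (1 : F) : Fin m → F)
    ⟨i - 1, by omega⟩ := h1
  have h3 : i - 1 + 1 = i := by omega
  rw [h3] at h2
  simp only [hj1, hj, and_self, dif_pos]
  rw [h2, Pi.single_apply]
  by_cases hij : i = j
  · subst hij; simp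
  · rw [if_neg (by rw [Fin.mk.injEq]; omega), if_neg hij]

end dual

end Cfsg.Agent.ParSys.Polar.CardU

end

section


/-!
# The unipotent group of a flag in a hermitian space

`Pol` : all the data (`C` acts on a hermitian space of Witt index `m`, `f` is a maximal flag).
`Un` : the elements of `C` which act linearly and isometrically and centralise the factors of
`0 < f 1 < ... < f m ≤ (f m)^⊥`.

* `Pol.un_le`, `Pol.pan`, `Pol.clo` : as required in `FreeLoc.SysL`;
* `Pol.siegel_mem` : the Siegel elements of `Un`; `Pol.card_un` : the order of `Un`;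
* `Pol.rk_two`, `Pol.rk_three`, `Pol.rk_four`, `Pol.relIndex_lt`, `Pol.relIndex_last`, `Pol.gen`.
-/

set_option autoImplicit false
set_option linter.unusedSectionVars false

namespace Cfsg.Agent.ParSys.Polar.Unip

open Module Cfsg.Agent.ParSys.Polar.Flags Cfsg.Agent.ParSys.Polar.Hermit Cfsg.Agent.ParSys.Polar.Incid

variable {F W : Type*} [Field F] [AddCommGroup W] [Module F W] {G : Type*} [Group G]

/-- `C` acts on a hermitian space of Witt index `m`, `f` is a maximal flag -/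
structure Pol (C : Subgroup G) (q : ℕ) (sg : F →+* F) (g : W → W → F) (rho : ↥C → W ≃+ W)
    (sigma : ↥C →* Equiv.Perm (Submodule F W)) (m : ℕ) (f : ℕ → Submodule F W) : Prop where
  H : Herm q sg g
  A : HAct sg g rho sigma
  hm : Witt g m
  hf : Fl (TI g (F := F)) m f

/-- the conditions for the elements of the unipotent group of the flag -/
structure IsUn {C : Subgroup G} (g : W → W → F) (rho : ↥C → W ≃+ W)
    (sigma : ↥C →* Equiv.Perm (Submodule F W)) (m : ℕ) (f : ℕ → Submodule F W) (c : ↥C) : Prop where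
  fix : ∀ d ≤ m, sigma c (f d) = f d
  lin : ∀ (s : F) v, rho c (s • v) = s • rho c v
  iso : ∀ u v, g (rho c u) (rho c v) = g u v
  step : ∀ d < m, ∀ v ∈ f (d + 1), rho c v - v ∈ f d
  last : ∀ v, (∀ x ∈ f m, g v x = 0) → rho c v - v ∈ f m

variable {C : Subgroup G} {q : ℕ} {sg : F →+* F} {g : W → W → F} {rho : ↥C → W ≃+ W}
  {sigma : ↥C →* Equiv.Perm (Submodule F W)} {m : ℕ} {f : ℕ → Submodule F W}

/-- **the unipotent group of the flag** -/
def Un (A : HAct sg g rho sigma) (m : ℕ) (f : ℕ → Submodule F W) : Subgroup G where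
  carrier := {x | ∃ h : x ∈ C, IsUn g rho sigma m f ⟨x, h⟩}
  one_mem' := by
    refine ⟨C.one_mem, ?_⟩
    rw [show (⟨1, C.one_mem⟩ : ↥C) = 1 from rfl]
    refine ⟨fun d _ => by rw [map_one]; rfl, fun s v => by rw [A.one, A.one], fun u v => by rw [A.one, A.one],
      fun d _ v _ => ?_, fun v _ => ?_⟩
    · rw [A.one, sub_self]; exact Submodule.zero_mem _
    · rw [A.one, sub_self]; exact Submodule.zero_mem _
  mul_mem' := by
    rintro x y ⟨hx, h1⟩ ⟨hy, h2⟩
    refine ⟨mul_mem hx hy, ?_⟩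
    rw [show (⟨x * y, mul_mem hx hy⟩ : ↥C) = ⟨x, hx⟩ * ⟨y, hy⟩ from rfl]
    have key : ∀ d ≤ m, ∀ v, rho ⟨x, hx⟩ v - v ∈ f d → rho ⟨y, hy⟩ v - v ∈ f d →
        rho (⟨x, hx⟩ * ⟨y, hy⟩) v - v ∈ f d := by
      intro d hd v h3 h4
      rw [A.mul]
      have h5 : rho ⟨x, hx⟩ (rho ⟨y, hy⟩ v) - v
          = rho ⟨x, hx⟩ (rho ⟨y, hy⟩ v - v) + (rho ⟨x, hx⟩ v - v) := by
        rw [map_sub]; abel
      rw [h5]
      refine Submodule.add_mem _ ?_ h3
      rw [← h1.fix d hd]
      exact A.mem h4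
    refine ⟨fun d hd => by rw [map_mul, Equiv.Perm.mul_apply, h2.fix d hd, h1.fix d hd],
      fun s v => by rw [A.mul, A.mul, h2.lin, h1.lin], fun u v => by rw [A.mul, A.mul, h1.iso, h2.iso],
      fun d hd v hv => key d hd.le v (h1.step d hd v hv) (h2.step d hd v hv),
      fun v hv => key m le_rfl v (h1.last v hv) (h2.last v hv)⟩
  inv_mem' := by
    rintro x ⟨hx, h1⟩
    refine ⟨inv_mem hx, ?_⟩
    rw [show (⟨x⁻¹, inv_mem hx⟩ : ↥C) = (⟨x, hx⟩ : ↥C)⁻¹ from rfl]
    have fix' : ∀ d ≤ m, sigma (⟨x, hx⟩ : ↥C)⁻¹ (f d) = f d := fun d hd => by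
      rw [map_inv, Equiv.Perm.inv_eq_iff_eq, h1.fix d hd]
    have key : ∀ d ≤ m, ∀ v, rho ⟨x, hx⟩ v - v ∈ f d → rho (⟨x, hx⟩ : ↥C)⁻¹ v - v ∈ f d := by
      intro d hd v h3
      have h5 : rho (⟨x, hx⟩ : ↥C)⁻¹ v - v = - rho (⟨x, hx⟩ : ↥C)⁻¹ (rho ⟨x, hx⟩ v - v) := by
        rw [map_sub, A.inv_mul_apply]; abel
      rw [h5]
      refine Submodule.neg_mem _ ?_
      rw [← fix' d hd]
      exact A.mem h3
    refine ⟨fix', fun s v => ?_, fun u v => ?_, fun d hd v hv => key d hd.le v (h1.step d hd v hv),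
      fun v hv => key m le_rfl v (h1.last v hv)⟩
    · apply (rho ⟨x, hx⟩).injective
      rw [A.mul_inv_apply, h1.lin, A.mul_inv_apply]
    · rw [← h1.iso, A.mul_inv_apply, A.mul_inv_apply]

theorem un_le (A : HAct sg g rho sigma) : Un A m f ≤ fst C sigma m f ∅ :=
  fun _ hx => ⟨hx.1, fun d hd _ => hx.2.fix d hd⟩

namespace Pol

variable (p : Pol C q sg g rho sigma m f)

include p

theorem finF : Finite F := p.H.finite_F

/-- the Siegel transformations are isometries -/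
theorem siegel_iso {c : ↥C} {y w : W} {a : F} (hy : g y y = 0) (hw : g w y = 0) (ha : a + sg a = g w w)
    (hc : ∀ v, rho c v = v + g v y • w + (g v w + a * g v y) • y) (u v : W) :
    g (rho c u) (rho c v) = g u v := by
  have H := p.H
  have h1 : g y w = 0 := H.zero_comm hw
  have h2 : g y v = sg (g v y) := H.sym v y
  have h3 : g w v = sg (g v w) := H.sym v w
  rw [hc, hc]
  simp only [H.add, H.add_r, H.smul, H.smul_r, hy, hw, h1, h2, h3, map_add, map_mul, mul_zero, add_zero]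
  have e1 := H.two_self (sg (g v y) * g u w)
  have e2 := H.two_self (g u y * sg (g v w))
  have e3 := H.two_self (g u y * sg (g v y) * g w w)
  linear_combination e1 + e2 + e3 + (g u y * sg (g v y)) * ha

variable [FiniteDimensional F W]

theorem polSp : PolSp (TI g (F := F)) m := p.H.polSp p.hm

theorem act : Act sigma (TI g (F := F)) := by
  have := p.finF
  exact HAct.act p.H p.A

/-- an element which acts as a Siegel transformation with singular vector in `f i` and centre in `(f i)^⊥` -/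
theorem isUn_siegel {i : ℕ} (him : i ≤ m) {y w : W} {a : F} (hy : y ∈ f i)
    (hw : w ∈ p.H.perp (f i)) (ha : a + sg a = g w w) {c : ↥C}
    (hc : ∀ v, rho c v = v + g v y • w + (g v w + a * g v y) • y) : IsUn g rho sigma m f c := by
  have hym : y ∈ f m := p.hf.le him le_rfl hy
  have H := p.H
  have hfin := p.finF
  have k1 : ∀ v, (∀ x ∈ f m, g v x = 0) → rho c v - v = g v w • y := fun v hv => by
    rw [hc, hv y hym]; simp
  have k2 : ∀ d ≤ m, ∀ v ∈ f d, rho c v - v = g v w • y := fun d hd v hv =>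
    k1 v (fun x hx => p.hf.sing v (p.hf.le hd le_rfl hv) x hx)
  have k3 : ∀ v ∈ f i, g v w = 0 := fun v hv => H.zero_comm (hw v hv)
  have k4 : ∀ d ≤ m, ∀ v ∈ f d, rho c v - v ∈ f d := fun d hd v hv => by
    rw [k2 d hd v hv]
    by_cases hdi : d ≤ i
    · rw [k3 v (p.hf.le hdi him hv), zero_smul]; exact Submodule.zero_mem _
    · exact Submodule.smul_mem _ _ (p.hf.le (by omega) hd hy)
  refine ⟨fun d hd => ?_, fun s v => ?_, fun u v => p.siegel_iso
    (p.hf.sing y hym y hym) (hw y hy) ha hc u v, fun d hd v hv => ?_, fun v hv => ?_⟩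
  · apply eq_of_rk
    · intro z hz
      obtain ⟨v, hv, rfl⟩ := (p.A.sig _ _ _).1 hz
      have h1 := Submodule.add_mem _ (k4 d hd v hv) hv
      rwa [sub_add_cancel] at h1
    · exact p.A.card_eq _ _
  · rw [hc, hc, H.smul, H.smul, smul_add, smul_add, smul_smul, smul_smul]
    congr 2
    ring
  · rw [k2 (d + 1) hd v hv]
    by_cases hdi : d + 1 ≤ i
    · rw [k3 v (p.hf.le hdi him hv), zero_smul]; exact Submodule.zero_mem _
    · exact Submodule.smul_mem _ _ (p.hf.le (by omega) (by omega) hy)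
  · rw [k1 v hv]
    exact Submodule.smul_mem _ _ hym

/-- an element which acts trivially -/
theorem isUn_triv {c : ↥C} (h1 : ∀ v, rho c v = v) : IsUn g rho sigma m f c :=
  ⟨fun d _ => p.A.eq_of_fix fun v _ => h1 v, fun s v => by rw [h1, h1],
    fun u v => by rw [h1, h1], fun d _ v _ => by rw [h1, sub_self]; exact Submodule.zero_mem _,
    fun v _ => by rw [h1, sub_self]; exact Submodule.zero_mem _⟩

/-- the Siegel elements of `Un` -/
theorem siegel_mem {i : ℕ} (him : i ≤ m) {y w : W} {a : F} (hy : y ∈ f i)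
    (hw : w ∈ p.H.perp (f i)) (ha : a + sg a = g w w) :
    ∃ x ∈ Un p.A m f, ∃ h : x ∈ C, ∀ v, rho ⟨x, h⟩ v = v + g v y • w + (g v w + a * g v y) • y := by
  have hym : y ∈ f m := p.hf.le him le_rfl hy
  obtain ⟨c, hc⟩ := p.A.siegel y w a (p.hf.sing y hym y hym) (hw y hy) ha
  exact ⟨(c : G), ⟨c.2, p.isUn_siegel him hy hw ha hc⟩, c.2, hc⟩

/-- **the order of the unipotent group** -/
theorem card_un [Finite G] {Q : Subgroup G} (hQC : Q ≤ C) (hQ : ∀ x (h : x ∈ Q) v, rho ⟨x, hQC h⟩ v = v) :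
    Nat.card Q * q ^ (finrank F W * (finrank F W - 1) / 2) ≤ Nat.card (Un p.A m f) := by
  classical
  have hfin := p.finF
  have hW : Finite W := Module.finite_of_finite F
  have H := p.H
  have hex : ∀ d, ∃ v, d < m → v ∈ f (d + 1) ∧ v ∉ f d := by
    intro d
    by_cases hd : d < m
    · obtain ⟨v, -, -, h1, h2⟩ := HAct.exists_gen H (p.hf.si p.polSp (d := d + 1) hd) (p.hf.mono d hd)
        (by rw [p.hf.rk _ hd, p.hf.rk _ hd.le])
      exact ⟨v, fun _ => ⟨by rw [h2]; exact Submodule.mem_sup_right (Submodule.mem_span_singleton_self v), h1⟩⟩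
    · exact ⟨0, fun h => absurd h hd⟩
  choose e₀ he₀ using hex
  let e : ℕ → W := fun d => e₀ (d - 1)
  have he1 : ∀ d < m, e (d + 1) ∈ f (d + 1) := fun d hd => (he₀ d hd).1
  have he2 : ∀ d < m, e (d + 1) ∉ f d := fun d hd => (he₀ d hd).2
  obtain ⟨e', he'⟩ := CardU.exists_dual (sg := sg) (g := g) (f := f) (e := e) H.add H.smul H.sym
    (map_add sg) (map_mul sg) H.sg_sg (fun w hw => H.nd w fun u => H.zero_comm (hw u)) p.hf.mono he1 he2
  -- `f i` is spanned by the `e j`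
  have hspan : ∀ i ≤ m, ∀ w, (∀ j, 1 ≤ j → j ≤ i → g w (e j) = 0) → w ∈ H.perp (f i) := by
    intro i
    induction i with
    | zero =>
      intro _ w _ x hx
      rw [p.hf.zero, Submodule.mem_bot] at hx
      rw [hx]; exact H.zero_r w
    | succ i ih =>
      intro hi w hw
      have h1 : f (i + 1) = f i ⊔ (F ∙ e (i + 1)) := H.eq_sup (p.hf.mono i hi) (he1 i hi) (he2 i hi)
        (by rw [p.hf.rk _ hi, p.hf.rk i (by omega)])
      rw [h1, H.mem_perp_sup, H.mem_perp_span]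
      exact ⟨ih (by omega) w fun j h1 h2 => hw j h1 (by omega), hw (i + 1) (by omega) le_rfl⟩
  let rho' : G → W → W := fun x v => if h : x ∈ C then rho ⟨x, h⟩ v else v
  have hr : ∀ x (h : x ∈ C) v, rho' x v = rho ⟨x, h⟩ v := fun x h v => dif_pos h
  have hUC : ∀ x ∈ Un p.A m f, x ∈ C := fun x hx => hx.1
  have D : CardU.Dat F sg g rho' (Un p.A m f) m e e' :=
    { one := fun v => by rw [hr 1 C.one_mem]; exact p.A.one v
      mul := fun x hx y hy v => by
        rw [hr _ (mul_mem (hUC x hx) (hUC y hy)), hr x (hUC x hx), hr y (hUC y hy)]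
        exact p.A.mul ⟨x, hUC x hx⟩ ⟨y, hUC y hy⟩ v
      sg_one := map_one sg
      sg_add := map_add sg
      g_add := H.add
      g_smul := H.smul
      g_sym := H.sym
      ee' := he'
      tr := fun w => H.tr_surj _ (H.sg_diag w)
      sieg := by
        intro i hi1 hi w hw a ha
        obtain ⟨d, rfl⟩ := Nat.exists_eq_add_of_le' hi1
        obtain ⟨x, hx, h, h1⟩ := p.siegel_mem hi (he1 d hi)
          (hspan _ hi w fun j h1 h2 => (hw j h1 h2).1) ha
        exact ⟨x, hx, fun v => by rw [hr x h]; exact h1 v⟩ }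
  refine D.card_le (Q := Q) ?_ (fun x hx v => ?_) (Module.natCard_eq_pow_finrank (K := F)) H.card
    (by rw [← H.tr_ker]; exact le_rfl) (H.finrank_eq p.hm)
  · intro x hx
    have h1 : ∀ v, rho ⟨x, hQC hx⟩ v = v := fun v => hQ x hx v
    refine ⟨hQC hx, ⟨fun d _ => p.A.eq_of_fix fun v _ => h1 v, fun s v => by rw [h1, h1],
      fun u v => by rw [h1, h1], fun d _ v _ => ?_, fun v _ => ?_⟩⟩
    · rw [h1, sub_self]; exact Submodule.zero_mem _
    · rw [h1, sub_self]; exact Submodule.zero_mem _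
  · rw [hr x (hQC hx)]; exact hQ x hx v

/-! ### The panels -/

/-- an invariant member of the panel -/
theorem sub_mem {c : ↥C} {X : Submodule F W} (h : sigma c X = X) {v : W} (hv : v ∈ X) : rho c v - v ∈ X := by
  refine Submodule.sub_mem _ ?_ hv
  rw [← h]; exact p.A.mem hv

theorem inf_eq {i : ℕ} (hi : i < m) {X : Submodule F W} (hX : X ∈ Flags.Pan (TI g) m f (i + 1))
    (hne : X ≠ f (i + 1)) : X ⊓ f (i + 1) = f i := by
  symm
  apply eq_of_rk (le_inf (hX.2.2.1 i rfl) (p.hf.mono i hi))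
  have h1 := Submodule.finrank_mono (le_inf (hX.2.2.1 i rfl) (p.hf.mono i hi))
  have h2 : finrank F ↥(X ⊓ f (i + 1)) < i + 1 := by
    rcases (Submodule.finrank_mono (inf_le_left : X ⊓ f (i + 1) ≤ X)).lt_or_eq with h | h
    · rwa [hX.2.1] at h
    · exfalso
      have h3 := eq_of_rk inf_le_left h
      have h4 : X ≤ f (i + 1) := by rw [← h3]; exact inf_le_right
      exact hne (eq_of_rk h4 (by rw [hX.2.1, p.hf.rk _ hi]))
  rw [p.hf.rk i hi.le] at h1 ⊢
  omega

/-- `[f (i+2), u] ≤ f i` -/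
theorem key_lt {i : ℕ} (hi : i + 1 < m) {X : Submodule F W} (hX : X ∈ Flags.Pan (TI g) m f (i + 1))
    (hne : X ≠ f (i + 1)) {c : ↥C} (hc : IsUn g rho sigma m f c) (hcX : sigma c X = X) {v : W}
    (hv : v ∈ f (i + 2)) : rho c v - v ∈ f i := by
  have h1 : f (i + 1) ⊔ X = f (i + 2) := by
    have h2 : f (i + 1) ⊔ X ≤ f (i + 2) := sup_le (p.hf.mono _ hi) (hX.2.2.2 hi)
    apply eq_of_rk h2
    have h3 := Submodule.finrank_sup_add_finrank_inf_eq (f (i + 1)) X
    rw [inf_comm, p.inf_eq (by omega) hX hne, p.hf.rk _ hi.le, hX.2.1, p.hf.rk i (by omega)] at h3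
    rw [p.hf.rk _ hi]
    omega
  rw [← h1] at hv
  obtain ⟨a, ha, b, hb, rfl⟩ := Submodule.mem_sup.1 hv
  have h2 : rho c (a + b) - (a + b) = (rho c a - a) + (rho c b - b) := by rw [map_add]; abel
  rw [h2]
  refine Submodule.add_mem _ (hc.step i (by omega) a ha) ?_
  rw [← p.inf_eq (by omega) hX hne]
  exact ⟨p.sub_mem hcX hb, hc.step (i + 1) hi b (hX.2.2.2 hi hb)⟩

/-- `[(f i)^⊥, u] ≤ f i`, `m = i + 1` -/
theorem key_last {i : ℕ} (hi : i + 1 = m) {X : Submodule F W} (hX : X ∈ Flags.Pan (TI g) m f (i + 1))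
    (hne : X ≠ f (i + 1)) {c : ↥C} (hc : IsUn g rho sigma m f c) (hcX : sigma c X = X) {v : W}
    (hv : v ∈ p.H.perp (f i)) : rho c v - v ∈ f i := by
  have H := p.H
  have hfin := p.finF
  have hinf := p.inf_eq (by omega) hX hne
  have hfX : f i ≤ X := hX.2.2.1 i rfl
  obtain ⟨e, hee, he1, he2, he3⟩ := HAct.exists_gen H p.hf.sing (p.hf.le (a := i) (by omega) le_rfl)
    (by rw [p.hf.rk _ le_rfl, p.hf.rk i (by omega), hi])
  obtain ⟨x, hxx, hx1, hx2, hx3⟩ := HAct.exists_gen H hX.1 hfX (by rw [hX.2.1, p.hf.rk i (by omega)])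
  have hem : e ∈ f m := by rw [he3]; exact Submodule.mem_sup_right (Submodule.mem_span_singleton_self e)
  have hxX : x ∈ X := by rw [hx3]; exact Submodule.mem_sup_right (Submodule.mem_span_singleton_self x)
  have hxe : g x e ≠ 0 := by
    intro h
    have h1 : x ∈ f m := H.mem_of_iso p.hm p.hf hxx (by
      rw [he3, H.mem_perp_sup, H.mem_perp_span]; exact ⟨hx1, h⟩)
    rw [← hi] at h1
    exact hx2 (by rw [← hinf]; exact ⟨hxX, h1⟩)
  have hex := H.ne_comm hxe
  -- elements of `X` orthogonal to `e`, elements of `f m` orthogonal to `x`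
  have k1 : ∀ z ∈ X, g z e = 0 → z ∈ f i := by
    intro z hz h
    rw [hx3] at hz
    obtain ⟨a, ha, b, hb, rfl⟩ := Submodule.mem_sup.1 hz
    obtain ⟨r, rfl⟩ := Submodule.mem_span_singleton.1 hb
    rw [H.add, H.smul, H.zero_comm (he1 a ha), zero_add] at h
    rcases mul_eq_zero.1 h with h | h
    · rw [h, zero_smul, add_zero]; exact ha
    · exact absurd h hxe
  have k2 : ∀ z ∈ f m, g z x = 0 → z ∈ f i := by
    intro z hz h
    rw [he3] at hz
    obtain ⟨a, ha, b, hb, rfl⟩ := Submodule.mem_sup.1 hz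
    obtain ⟨r, rfl⟩ := Submodule.mem_span_singleton.1 hb
    rw [H.add, H.smul, H.zero_comm (hx1 a ha), zero_add] at h
    rcases mul_eq_zero.1 h with h | h
    · rw [h, zero_smul, add_zero]; exact ha
    · exact absurd h hex
  have k3 : rho c e - e ∈ f i := hc.step i (by omega) e (by rw [hi]; exact hem)
  have k4 : rho c x - x ∈ f i := by
    have h1 := p.sub_mem hcX hxX
    refine k1 _ h1 ?_
    have h2 : rho c x ∈ X := by
      have := Submodule.add_mem _ h1 hxX
      rwa [sub_add_cancel] at this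
    have h3 : g (rho c x) (rho c e - e) = 0 := hX.1 _ h2 _ (hfX k3)
    rw [H.sub_w, H.add_r, hc.iso] at h3
    rw [H.sub_w, H.add, add_comm]
    exact h3
  -- the general vector
  let s : F := g v x / g e x
  let t : F := g v e / g x e
  have h1 : g (v + s • e + t • x) x = 0 := by
    rw [H.add, H.add, H.smul, H.smul, hxx, mul_zero, add_zero, div_mul_cancel₀ _ hex, H.two_self]
  have h2 : g (v + s • e + t • x) e = 0 := by
    rw [H.add, H.add, H.smul, H.smul, hee, mul_zero, add_zero, div_mul_cancel₀ _ hxe, H.two_self]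
  have h3 : v + s • e + t • x ∈ H.perp (f i) :=
    Submodule.add_mem _ (Submodule.add_mem _ hv (Submodule.smul_mem _ _ he1)) (Submodule.smul_mem _ _ hx1)
  have h4 : rho c (v + s • e + t • x) - (v + s • e + t • x) ∈ f i := by
    have h5 : v + s • e + t • x ∈ H.perp (f m) := by
      rw [he3, H.mem_perp_sup, H.mem_perp_span]; exact ⟨h3, h2⟩
    refine k2 _ (hc.last _ h5) ?_
    have h6 : x - rho c x ∈ f i := by
      have := Submodule.neg_mem _ k4
      rwa [neg_sub] at this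
    have h7 : g (rho c (v + s • e + t • x)) x = 0 := by
      have h8 : g (rho c (v + s • e + t • x)) x = g (rho c (v + s • e + t • x)) (x - rho c x) +
          g (rho c (v + s • e + t • x)) (rho c x) := by rw [← H.add_r, sub_add_cancel]
      have h9 : g (rho c (v + s • e + t • x)) (x - rho c x) = 0 := by
        have h10 : x - rho c x ∈ sigma c (f i) := by rw [hc.fix i (by omega)]; exact h6
        obtain ⟨z, hz, h11⟩ := (p.A.sig _ _ _).1 h10
        rw [← h11, hc.iso]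
        exact h3 z hz
      rw [h8, hc.iso, h1, h9, add_zero]
    rw [H.sub_w, H.add, h7, h1, add_zero]
  have h5 : rho c v - v = (rho c (v + s • e + t • x) - (v + s • e + t • x)) -
      s • (rho c e - e) - t • (rho c x - x) := by
    rw [map_add, map_add, hc.lin, hc.lin, smul_sub, smul_sub]; abel
  rw [h5]
  exact Submodule.sub_mem _ (Submodule.sub_mem _ h4 (Submodule.smul_mem _ _ k3)) (Submodule.smul_mem _ _ k4)

/-- an element of `Un` which fixes a second member of the panel fixes the panel -/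
theorem fix_pan {i : ℕ} (hi : i < m) {X : Submodule F W} (hX : X ∈ Flags.Pan (TI g) m f (i + 1))
    (hne : X ≠ f (i + 1)) {c : ↥C} (hc : IsUn g rho sigma m f c) (hcX : sigma c X = X)
    {Y : Submodule F W} (hY : Y ∈ Flags.Pan (TI g) m f (i + 1)) : sigma c Y = Y := by
  have hfin := p.finF
  apply eq_of_rk
  · intro z hz
    obtain ⟨v, hv, rfl⟩ := (p.A.sig _ _ _).1 hz
    have h1 : rho c v - v ∈ f i := by
      by_cases h : i + 1 < m
      · exact p.key_lt h hX hne hc hcX (hY.2.2.2 h hv)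
      · exact p.key_last (by omega) hX hne hc hcX (fun x hx => hY.1 v hv x (hY.2.2.1 i rfl hx))
    have h2 := Submodule.add_mem _ (hY.2.2.1 i rfl h1) hv
    rwa [sub_add_cancel] at h2
  · exact p.A.card_eq _ _

omit [FiniteDimensional F W] in
theorem sigma_conj (x u : ↥C) (X : Submodule F W) :
    sigma (x⁻¹ * u * x) X = X ↔ sigma u (sigma x X) = sigma x X := by
  rw [map_mul, map_mul, Equiv.Perm.mul_apply, Equiv.Perm.mul_apply, map_inv, Equiv.Perm.inv_eq_iff_eq]

/-- **`pan`** -/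
theorem pan {j : ℕ} (hj1 : 1 ≤ j) (hj : j ≤ m) : ∀ u ∈ Un p.A m f, ∀ x ∈ fst C sigma m f {j},
    x ∉ fst C sigma m f ∅ → x⁻¹ * u * x ∈ fst C sigma m f ∅ →
    ∀ y ∈ fst C sigma m f {j}, y⁻¹ * u * y ∈ fst C sigma m f ∅ := by
  obtain ⟨i, rfl⟩ := Nat.exists_eq_add_of_le' hj1
  rintro u ⟨hu, hu'⟩ x hx hxB hux y hy
  have hX := mem_pan p.act p.polSp p.hf hj hx
  have hY := mem_pan p.act p.polSp p.hf hj hy
  have hne : sigma ⟨x, hx.1⟩ (f (i + 1)) ≠ f (i + 1) := by
    intro h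
    refine hxB ⟨hx.1, fun d hd _ => ?_⟩
    by_cases hdi : d = i + 1
    · subst hdi; exact h
    · exact hx.2 d hd (by simpa using hdi)
  have hc : ∀ z (hz : z ∈ C), sigma ⟨z⁻¹ * u * z, mul_mem (mul_mem (inv_mem hz) hu) hz⟩
      = sigma ((⟨z, hz⟩ : ↥C)⁻¹ * ⟨u, hu⟩ * ⟨z, hz⟩) := fun z hz => rfl
  have h1 : sigma ⟨u, hu⟩ (sigma ⟨x, hx.1⟩ (f (i + 1))) = sigma ⟨x, hx.1⟩ (f (i + 1)) := by
    rw [← p.sigma_conj, ← hc]
    exact hux.2 (i + 1) hj (by simp)
  refine ⟨mul_mem (mul_mem (inv_mem hy.1) hu) hy.1, fun d hd _ => ?_⟩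
  rw [hc y hy.1, p.sigma_conj]
  by_cases hdi : d = i + 1
  · subst hdi
    exact p.fix_pan hj hX hne hu' h1 hY
  · rw [hy.2 d hd (by simpa using hdi)]
    exact hu'.fix d hd

/-- **`clo`** -/
theorem clo {j : ℕ} (hj1 : 1 ≤ j) (hj : j ≤ m) : ∀ u ∈ Un p.A m f, ∀ x ∈ fst C sigma m f {j},
    x⁻¹ * u * x ∈ fst C sigma m f ∅ → x⁻¹ * u * x ∈ Un p.A m f := by
  obtain ⟨i, rfl⟩ := Nat.exists_eq_add_of_le' hj1
  rintro u ⟨hu, hu'⟩ x hx hux
  have hxC : x ∈ C := hx.1
  refine ⟨hux.1, ?_⟩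
  have hc : (⟨x⁻¹ * u * x, hux.1⟩ : ↥C) = (⟨x, hxC⟩ : ↥C)⁻¹ * ⟨u, hu⟩ * ⟨x, hxC⟩ := rfl
  have hfix : ∀ d ≤ m, sigma ((⟨x, hxC⟩ : ↥C)⁻¹ * ⟨u, hu⟩ * ⟨x, hxC⟩) (f d) = f d := fun d hd =>
    hux.2 d hd (by simp)
  rw [hc]
  have hX := mem_pan p.act p.polSp p.hf hj hx
  have hxu : ∀ d ≤ m, sigma ⟨u, hu⟩ (sigma ⟨x, hxC⟩ (f d)) = sigma ⟨x, hxC⟩ (f d) := fun d hd => by
    rw [← p.sigma_conj]; exact hfix d hd
  have hxd : ∀ d ≤ m, d ≠ i + 1 → sigma ⟨x, hxC⟩ (f d) = f d := fun d hd h =>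
    hx.2 d hd (by simpa using h)
  generalize (⟨x, hxC⟩ : ↥C) = x' at *
  generalize (⟨u, hu⟩ : ↥C) = u' at *
  obtain ⟨τ, μ, hμ, hτ1, hτ2⟩ := p.A.semi x'
  have e1 : ∀ v, rho x' (rho (x'⁻¹ * u' * x') v) = rho u' (rho x' v) := fun v => by
    rw [← p.A.mul, ← p.A.mul]; congr 2; group
  -- the filtration
  have key : ∀ (Y : Submodule F W) (v : W), rho u' (rho x' v) - rho x' v ∈ sigma x' Y →
      rho (x'⁻¹ * u' * x') v - v ∈ Y := by
    intro Y v h
    rw [← p.A.mem_iff (c := x'), map_sub, e1]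
    exact h
  have hne : ∀ h : sigma x' (f (i + 1)) ≠ f (i + 1), ∀ v, ((i + 1 < m ∧ v ∈ f (i + 2)) ∨ (i + 1 = m ∧ v ∈ p.H.perp (f i))) →
      rho u' v - v ∈ f i := by
    rintro h v (⟨h1, h2⟩ | ⟨h1, h2⟩)
    · exact p.key_lt h1 hX h hu' (hxu _ hj) h2
    · exact p.key_last h1 hX h hu' (hxu _ hj) h2
  have hfi : f i ≤ sigma x' (f (i + 1)) := hX.2.2.1 i rfl
  refine ⟨hfix, fun s v => ?_, fun v w => ?_, fun d hd v hv => ?_, fun v hv => ?_⟩
  · apply (rho x').injective
    rw [e1, hτ1, hu'.lin, hτ1, e1]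
  · have h1 := hτ2 (rho (x'⁻¹ * u' * x') v) (rho (x'⁻¹ * u' * x') w)
    rw [e1, e1, hu'.iso, hτ2 v w] at h1
    exact (τ.injective (mul_left_cancel₀ hμ h1)).symm
  · apply key
    have h1 : rho x' v ∈ sigma x' (f (d + 1)) := p.A.mem hv
    by_cases hb : sigma x' (f (i + 1)) = f (i + 1)
    · have h2 : ∀ d ≤ m, sigma x' (f d) = f d := fun d hd => by
        by_cases hdi : d = i + 1
        · subst hdi; exact hb
        · exact hxd d hd hdi
      rw [h2 _ hd] at h1
      rw [h2 _ hd.le]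
      exact hu'.step d hd _ h1
    by_cases h2 : d = i
    · subst h2
      rw [hxd d (by omega) (by omega)]
      refine hne hb _ ?_
      by_cases h3 : d + 1 < m
      · exact Or.inl ⟨h3, hX.2.2.2 h3 h1⟩
      · exact Or.inr ⟨by omega, fun y hy => hX.1 _ h1 y (hfi hy)⟩
    by_cases h3 : d = i + 1
    · subst h3
      rw [hxd (i + 1 + 1) hd (by omega)] at h1
      exact hfi (hne hb _ (Or.inl ⟨hd, h1⟩))
    · rw [hxd _ hd (by omega)] at h1
      rw [hxd _ hd.le h3]
      exact hu'.step d hd _ h1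
  · apply key
    have h1 : ∀ y ∈ sigma x' (f m), g (rho x' v) y = 0 := by
      intro y hy
      obtain ⟨z, hz, rfl⟩ := (p.A.sig _ _ _).1 hy
      rw [hτ2, hv z hz, map_zero, mul_zero]
    by_cases hb : sigma x' (f m) = f m
    · rw [hb] at h1 ⊢
      exact hu'.last _ h1
    · have hm' : i + 1 = m := by
        by_contra h
        exact hb (hxd m le_rfl (fun h' => h h'.symm))
      rw [← hm'] at hb h1 ⊢
      exact hfi (hne hb _ (Or.inr ⟨hm', fun y hy => h1 y (hfi hy)⟩))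

/-! ### Summary -/

section res

variable {I : Type*} {P : I → Subgroup G} {a b : I} {i j : ℕ} (hB : ∀ k, fst C sigma m f ∅ ≤ P k)
  (ha : P a = fst C sigma m f {i}) (hb : P b = fst C sigma m f {j})

include hB ha hb

theorem rk_two (hij : i + 1 < j) (hj : j ≤ m) :
    Rk (fst C sigma m f ∅) P a b 2 ∧ Rk (fst C sigma m f ∅) P b a 2 :=
  Flags.rk_two p.polSp p.act p.hf hB ha hb hij hj

theorem rk_three (hi : 1 ≤ i) (hij : i + 1 = j) (hj : j < m) :
    Rk (fst C sigma m f ∅) P a b 3 ∧ Rk (fst C sigma m f ∅) P b a 3 :=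
  Flags.rk_three p.polSp p.act p.hf hB ha hb hi hij hj

theorem rk_four (hi : 1 ≤ i) (hij : i + 1 = j) (hj : j = m) :
    Rk (fst C sigma m f ∅) P a b 4 ∧ Rk (fst C sigma m f ∅) P b a 4 :=
  Flags.rk_four p.polSp p.act p.hf hB ha hb hi hij hj

end res

theorem relIndex_lt {j : ℕ} (hj : 1 ≤ j) (hjm : j < m) :
    (fst C sigma m f ∅).relIndex (fst C sigma m f {j}) = Nat.card F + 1 := by
  rw [relIndex_fst p.polSp p.act p.hf hjm.le, p.H.card_pan_lt p.hm p.hf hj hjm]

theorem relIndex_last (hm1 : 1 ≤ m) :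
    (fst C sigma m f ∅).relIndex (fst C sigma m f {m}) = q * Nat.card F ^ (finrank F W - 2 * m) + 1 := by
  rw [relIndex_fst p.polSp p.act p.hf le_rfl, p.H.card_pan_last p.hm p.hf hm1]

theorem gen (hm1 : 1 ≤ m) {N : Subgroup G} (hN : ∀ j, 1 ≤ j → j ≤ m → fst C sigma m f {j} ≤ N) : C ≤ N :=
  le_of_panels p.polSp p.act p.hf hm1 hN

theorem finrank_eq : finrank F W = 2 * m ∨ finrank F W = 2 * m + 1 := p.H.finrank_eq p.hm

end Pol

end Cfsg.Agent.ParSys.Polar.Unip

end

section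


/-!
# The C-side of NO-1' (β): `C = N(R)` acts on the hermitian space `W = Q / R` as in `Polar.Unip.Pol`

`rho` : the action of `N(R)` on `W`; `herm : Herm |k| sg g`; `siegel` : all the Siegel transformations;
`exists_pol` : `Pol` with a flag which starts with `F e₀`.
-/

set_option autoImplicit false
set_option linter.unusedVariables false
set_option linter.unusedSectionVars false

open Subgroup Module
open Cfsg.Agent.Omega.NOne.SU Cfsg.Agent.ParSys.Polar.Flags Cfsg.Agent.ParSys.Polar.Hermit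
open Cfsg.Agent.ParSys.Polar.Unip

namespace Cfsg.Agent.Omega.NO1U.CSide

variable {G : Type*} [Group G] {k F : Type*} [Field k] [Field F] [Algebra k F] {T : Quad k F}
  {S : Sylow 2 G} {V R Q Q' : Subgroup G} {v : k → F → k → G} {p p' : G → F}
  {Φ : Type*} [AddCommGroup Φ] [Module F Φ] {φ χ : G → Φ} {hm : Φ → Φ → F}
  {W : Type*} [AddCommGroup W] [Module F W] {w : G → W} {g : W → W → F} {f₀ : W} {ι : Φ →ₗ[F] W}

/-- the involution as a ring homomorphism -/
def sgR (T : Quad k F) : F →+* F := (T.sg : F ≃ₐ[k] F).toAlgHom.toRingHom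

theorem sgR_apply (x : F) : sgR T x = T.sg x := rfl

section act

variable (h : GIn T S V R Q Q' v p p') (o : Out T V R Q Q' v p φ χ hm w g f₀ ι)

/-- a section of `w` -/
noncomputable def sec (o : Out T V R Q Q' v p φ χ hm w g f₀ ι) (m : W) : G := (o.w_surj m).choose

theorem sec_mem (m : W) : sec o m ∈ Q := (o.w_surj m).choose_spec.1

theorem w_sec (m : W) : w (sec o m) = m := (o.w_surj m).choose_spec.2

include h in
theorem w_cj {c x : G} (hc : c ∈ normalizer (R : Set G)) (hx : x ∈ Q) :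
    w (c * sec o (w x) * c⁻¹) = w (c * x * c⁻¹) :=
  OutL.w_conj_congr h o hc (sec_mem o _) hx (w_sec o _)

/-- **the action of `N(R)` on `W`** -/
noncomputable def rho (h : GIn T S V R Q Q' v p p') (o : Out T V R Q Q' v p φ χ hm w g f₀ ι)
    (c : ↥(normalizer (R : Set G))) : W ≃+ W where
  toFun m := w (c * sec o m * (c : G)⁻¹)
  invFun m := w ((c : G)⁻¹ * sec o m * (c : G)⁻¹⁻¹)
  left_inv m := by
    show w ((c : G)⁻¹ * sec o (w (c * sec o m * (c : G)⁻¹)) * (c : G)⁻¹⁻¹) = m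
    rw [w_cj h o (inv_mem c.2) (h.nor _ c.2 _ (sec_mem o m))]
    have e : (c : G)⁻¹ * (c * sec o m * (c : G)⁻¹) * (c : G)⁻¹⁻¹ = sec o m := by group
    rw [e, w_sec o]
  right_inv m := by
    show w ((c : G) * sec o (w ((c : G)⁻¹ * sec o m * (c : G)⁻¹⁻¹)) * (c : G)⁻¹) = m
    rw [w_cj h o c.2 (h.nor _ (inv_mem c.2) _ (sec_mem o m))]
    have e : (c : G) * ((c : G)⁻¹ * sec o m * (c : G)⁻¹⁻¹) * (c : G)⁻¹ = sec o m := by group
    rw [e, w_sec o]
  map_add' m m' := by
    have h1 : m + m' = w (sec o m * sec o m') := by rw [o.w_mul _ (sec_mem o m) _ (sec_mem o m'), w_sec o, w_sec o]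
    show w ((c : G) * sec o (m + m') * (c : G)⁻¹) = _
    rw [h1, w_cj h o c.2 (mul_mem (sec_mem o m) (sec_mem o m'))]
    have e : (c : G) * (sec o m * sec o m') * (c : G)⁻¹ =
        ((c : G) * sec o m * (c : G)⁻¹) * ((c : G) * sec o m' * (c : G)⁻¹) := by group
    rw [e, o.w_mul _ (h.nor _ c.2 _ (sec_mem o m)) _ (h.nor _ c.2 _ (sec_mem o m'))]

theorem rho_w (c : ↥(normalizer (R : Set G))) {x : G} (hx : x ∈ Q) :
    rho h o c (w x) = w (c * x * (c : G)⁻¹) := w_cj h o c.2 hx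

theorem rho_mul (a b : ↥(normalizer (R : Set G))) (m : W) : rho h o (a * b) m = rho h o a (rho h o b m) := by
  obtain ⟨x, hx, rfl⟩ := o.w_surj m
  rw [rho_w h o _ hx, rho_w h o _ hx, rho_w h o _ (h.nor _ b.2 _ hx)]
  congr 1
  rw [Subgroup.coe_mul]; group

theorem rho_one (m : W) : rho h o 1 m = m := by
  have h1 := rho_mul h o 1 1 m
  rw [mul_one] at h1
  exact (rho h o 1).injective h1.symm

/-- `Q` acts trivially -/
theorem rho_Q {x : G} (hx : x ∈ Q) (hxR : x ∈ normalizer (R : Set G)) (m : W) : rho h o ⟨x, hxR⟩ m = m := by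
  obtain ⟨y, hy, rfl⟩ := o.w_surj m
  rw [rho_w h o _ hy]
  show w (x * y * x⁻¹) = w y
  rw [o.w_mul _ (mul_mem hx hy) _ (inv_mem hx), o.w_mul _ hx _ hy, OutL.w_inv h o hx]
  abel

theorem Q_le (h : GIn T S V R Q Q' v p p') : Q ≤ normalizer (R : Set G) := h.Q_le_CR.trans h.CR_le_NR

/-- **the hermitian space** -/
theorem herm (h : GIn T S V R Q Q' v p p') (o : Out T V R Q Q' v p φ χ hm w g f₀ ι) :
    Herm (Nat.card k) (sgR T) g := by
  have h2 : (2 : k) = 0 := h.h2
  have h2F : (2 : F) = 0 := T.twoF h2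
  have hk := T.fink
  have hF := T.finF
  have sq_inj : ∀ x : F, ∀ y : F, x * x = y * y → x = y := by
    intro x y hxy
    have : (x - y) * (x - y) = 0 := by linear_combination hxy - (x * y - y * y) * h2F
    exact sub_eq_zero.1 (mul_self_eq_zero.1 this)
  exact
    { two := h2F
      pos := lt_of_lt_of_le (by norm_num) T.four
      card := T.card
      sg_sg := T.sg_sg
      tr_surj := by
        intro b hb
        obtain ⟨a, rfl⟩ := T.fix b hb
        obtain ⟨x, hx⟩ := T.exists_tr_ne h2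
        refine ⟨(a / T.tr x) • x, ?_⟩
        rw [sgR_apply, ← T.tr_eq, map_smul, smul_eq_mul, div_mul_cancel₀ _ hx]
      nm_surj := by
        intro b hb
        obtain ⟨y, hy⟩ := T.exists_sq h2 b
        refine ⟨y, ?_⟩
        have h1 : T.sg y = y := by
          apply sq_inj
          rw [← map_mul, ← pow_two, hy]; exact hb
        rw [sgR_apply, h1, ← pow_two, hy]
      tr_ker := by
        refine (Nat.card_congr (Equiv.ofBijective (fun a : k => (⟨algebraMap k F a, ?_⟩ :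
          {a : F | a + sgR T a = 0})) ⟨?_, ?_⟩)).symm
        · show algebraMap k F a + T.sg (algebraMap k F a) = 0
          rw [T.sg_alg]
          linear_combination algebraMap k F a * h2F
        · intro a b hab
          exact (algebraMap k F).injective (congrArg Subtype.val hab)
        · rintro ⟨x, hx⟩
          have h1 : T.sg x = x := by
            have h1 : x + T.sg x = 0 := hx
            linear_combination h1 - x * h2F
          obtain ⟨a, rfl⟩ := T.fix x h1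
          exact ⟨a, rfl⟩
      add := o.g_add
      smul := o.g_smul
      sym := o.g_sym
      nd := by
        intro x hx
        obtain ⟨a, u, b, rfl⟩ := o.span x
        have g0 : ∀ m, g 0 m = 0 := OutL.g_zero h o
        have fe : g f₀ (w (v 0 1 0)) = 1 := by rw [o.g_sym, o.g_ef, map_one]
        have ιe : ∀ u, g (ι u) (w (v 0 1 0)) = 0 := fun u => by rw [o.g_sym, o.g_eι, map_zero]
        have ιf : ∀ u, g (ι u) f₀ = 0 := fun u => by rw [o.g_sym, o.g_fι, map_zero]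
        have h1 := hx (w (v 0 1 0))
        rw [o.g_add, o.g_add, o.g_smul, o.g_smul, o.g_ee, ιe, fe, mul_zero, zero_add, zero_add, mul_one] at h1
        have h3 := hx f₀
        rw [o.g_add, o.g_add, o.g_smul, o.g_smul, o.g_ef, ιf, o.g_ff, mul_zero, add_zero, add_zero, mul_one] at h3
        have h4 : u = 0 := o.hm_nondeg u fun u' => by
          have h5 := hx (ι u')
          rw [h1, h3, zero_smul, zero_smul, zero_add, add_zero, o.g_ιι] at h5
          exact h5
        rw [h1, h3, h4, map_zero, zero_smul, zero_smul, add_zero, add_zero] }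

/-! ### The Siegel transformations -/

/-- `v 0 0 d` acts as a transvection -/
theorem transv (h : GIn T S V R Q Q' v p p') (o : Out T V R Q Q' v p φ χ hm w g f₀ ι) (d : k) :
    ∃ c : ↥(normalizer (R : Set G)), ∀ m, rho h o c m =
      m + (algebraMap k F d * g m (w (v 0 1 0))) • w (v 0 1 0) := by
  have hc : v 0 0 d ∈ normalizer (R : Set G) := h.CR_le_NR (h.CV_le_CR (h.V_le_CV (h.v_mem 0 0 d)))
  refine ⟨⟨_, hc⟩, fun m => ?_⟩
  obtain ⟨y, hy, rfl⟩ := o.w_surj m
  rw [rho_w h o _ hy]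
  show w (v 0 0 d * y * (v 0 0 d)⁻¹) = _
  have h1 := h.act y⁻¹ (inv_mem hy) 0 0 d
  rw [h.p_inv hy, inv_inv] at h1
  have h2 : v 0 0 d * y * (v 0 0 d)⁻¹ = y * (y⁻¹ * v 0 0 d * y * (v 0 0 d)⁻¹) := by group
  have h3 : y⁻¹ * v 0 0 d * y * (v 0 0 d)⁻¹ = v (T.nm (p y) * d) (p y * algebraMap k F d) 0 := by
    rw [h1, h.v_inv, ← h.v_add]
    have := h.h2
    simp only [mul_zero, map_zero, zero_add, add_zero]
    congr 1
    linear_combination d * this
  rw [h2, h3, o.w_mul _ hy _ (h.E_le _ _), OutL.w_E h o, o.p_eq y hy, mul_comm (algebraMap k F d)]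

/-- the Siegel transformations with centre `e₀` -/
theorem siegel₀ (h : GIn T S V R Q Q' v p p') (f : Fld T V R Q Q' v p φ χ)
    (o : Out T V R Q Q' v p φ χ hm w g f₀ ι) (z : W) (a : F) (hz : g z (w (v 0 1 0)) = 0)
    (ha : a + T.sg a = g z z) : ∃ c : ↥(normalizer (R : Set G)), ∀ m, rho h o c m =
      m + g m (w (v 0 1 0)) • z + (g m z + a * g m (w (v 0 1 0))) • w (v 0 1 0) := by
  have H := herm h o
  have h2F : (2 : F) = 0 := H.two
  have fe : g f₀ (w (v 0 1 0)) = 1 := by rw [o.g_sym, o.g_ef, map_one]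
  have ιe : ∀ u, g (ι u) (w (v 0 1 0)) = 0 := fun u => by rw [o.g_sym, o.g_eι, map_zero]
  obtain ⟨b, x, b', rfl⟩ := o.span z
  have h1 := hz
  rw [o.g_add, o.g_add, o.g_smul, o.g_smul, o.g_ee, ιe, fe, mul_zero, zero_add, zero_add, mul_one] at h1
  subst h1
  rw [zero_smul, add_zero] at ha hz ⊢
  generalize hE : w (v 0 1 0) = E at *
  have gee : g E E = 0 := by rw [← hE]; exact o.g_ee
  have geι : ∀ u, g E (ι u) = 0 := fun u => by rw [← hE]; exact o.g_eι u
  have e1 : g (b • E + ι x) (b • E + ι x) = hm x x := by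
    rw [H.add, H.add_r, H.add_r, H.smul, H.smul_r, H.smul, H.smul_r, gee, geι, ιe, o.g_ιι]; ring
  rw [e1] at ha
  obtain ⟨n, hn, hnV, hχ⟩ := f.χ_surj x
  obtain ⟨r, hr, hact⟩ := o.χ_act n hn hnV
  rw [hχ] at hr hact
  have hnR : n ∈ normalizer (R : Set G) := h.CR_le_NR (h.CV_le_CR hnV)
  -- the difference of the parameters lies in `k`
  obtain ⟨d, hd⟩ := T.fix (a + b + T.sg b + r) (by
    rw [map_add, map_add, map_add, T.sg_sg]
    linear_combination ha - hr + (T.sg r - a) * h2F)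
  obtain ⟨c, hc⟩ := transv h o d
  refine ⟨c * ⟨n, hnR⟩, fun m => ?_⟩
  rw [rho_mul, hc]
  obtain ⟨y, hy, rfl⟩ := o.w_surj m
  rw [rho_w h o _ hy]
  rw [hE] at hact hc
  have e2 : w ((⟨n, hnR⟩ : ↥(normalizer (R : Set G))) * y * ((⟨n, hnR⟩ : ↥(normalizer (R : Set G))) : G)⁻¹)
      = w y + g (w y) E • ι x + (g (w y) (ι x) + r * g (w y) E) • E := hact y hy
  rw [hE, e2]
  have e3 : g (w y + g (w y) E • ι x + (g (w y) (ι x) + r * g (w y) E) • E) E = g (w y) E := by
    rw [H.add, H.add, H.smul, H.smul, ιe, gee, mul_zero, mul_zero, add_zero, add_zero]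
  rw [e3, hd, H.add_r, H.smul_r, smul_add, smul_smul, sgR_apply]
  have e4 : (g (w y) (ι x) + r * g (w y) E) • E + ((a + b + T.sg b + r) * g (w y) E) • E
      = (g (w y) E * b) • E + (T.sg b * g (w y) E + g (w y) (ι x) + a * g (w y) E) • E := by
    rw [← add_smul, ← add_smul]
    congr 1
    linear_combination (r * g (w y) E) * h2F
  rw [add_assoc (w y + g (w y) E • ι x), e4]
  abel

/-- **all the Siegel transformations** -/
theorem siegel (h : GIn T S V R Q Q' v p p') (f : Fld T V R Q Q' v p φ χ)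
    (o : Out T V R Q Q' v p φ χ hm w g f₀ ι) (y z : W) (a : F) (hy : g y y = 0) (hz : g z y = 0)
    (ha : a + sgR T a = g z z) : ∃ c : ↥(normalizer (R : Set G)), ∀ m, rho h o c m =
      m + g m y • z + (g m z + a * g m y) • y := by
  have H := herm h o
  have h2F : (2 : F) = 0 := H.two
  by_cases hy0 : y = 0
  · subst hy0
    refine ⟨1, fun m => ?_⟩
    rw [rho_one, H.zero_r, zero_smul, smul_zero, add_zero, add_zero]
  obtain ⟨c, hcR, hlin, hiso, s, hs⟩ := o.tran y hy0 hy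
  have hcN := h.CR_le_NR hcR
  set c' : ↥(normalizer (R : Set G)) := ⟨c, hcN⟩ with hc'
  have r1 : ∀ x (hx : x ∈ Q), rho h o c' (w x) = w (c * x * c⁻¹) := fun x hx => rho_w h o c' hx
  have lin : ∀ (t : F) m, rho h o c' (t • m) = t • rho h o c' m := by
    intro t m
    obtain ⟨x, hx, rfl⟩ := o.w_surj m
    obtain ⟨x', hx', hxx⟩ := o.w_surj (t • w x)
    rw [← hxx, r1 x' hx', r1 x hx]
    exact hlin t x hx x' hx' hxx
  have iso : ∀ m m', g (rho h o c' m) (rho h o c' m') = g m m' := by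
    intro m m'
    obtain ⟨x, hx, rfl⟩ := o.w_surj m
    obtain ⟨x', hx', rfl⟩ := o.w_surj m'
    rw [r1 x hx, r1 x' hx']
    exact hiso x hx x' hx'
  have hce : rho h o c' (w (v 0 1 0)) = s • y := by
    rw [r1 _ (h.E_le 0 1)]; exact hs
  have hs0 : s ≠ 0 := by
    rintro rfl
    rw [zero_smul, ← map_zero (rho h o c')] at hce
    exact OutL.e₀_ne h o ((rho h o c').injective hce)
  have hsg0 : T.sg s ≠ 0 := fun h' => hs0 (by simpa using h')
  have inv1 : ∀ m, rho h o c'⁻¹ (rho h o c' m) = m := fun m => by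
    rw [← rho_mul, inv_mul_cancel, rho_one]
  have inv2 : ∀ m, rho h o c' (rho h o c'⁻¹ m) = m := fun m => by
    rw [← rho_mul, mul_inv_cancel, rho_one]
  have iso' : ∀ m m', g (rho h o c'⁻¹ m) m' = g m (rho h o c' m') := fun m m' => by
    rw [← iso, inv2]
  obtain ⟨x, hx⟩ := siegel₀ h f o ((T.sg s)⁻¹ • rho h o c'⁻¹ z) (a / (s * T.sg s))
    (by rw [H.smul, iso', hce, H.smul_r, hz, mul_zero, mul_zero])
    (by
      rw [H.smul, H.smul_r, iso', inv2, ← ha, sgR_apply, sgR_apply, map_div₀, map_mul, map_inv₀, T.sg_sg]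
      field_simp)
  refine ⟨c' * x * c'⁻¹, fun m => ?_⟩
  rw [rho_mul, rho_mul, hx, map_add, map_add, inv2, lin, lin, lin, inv2, hce, iso', hce, H.smul_r, H.smul_r,
    iso', inv2, smul_smul, smul_smul, sgR_apply, sgR_apply, map_inv₀, T.sg_sg]
  congr 2
  · congr 1; field_simp
  · field_simp

/-- the hypothesis: `N(R)` acts by semilinear similitudes -/
def Semi (R Q : Subgroup G) (w : G → W) (g : W → W → F) : Prop :=
  ∀ c ∈ normalizer (R : Set G), ∃ (τ : F →+* F) (μ : F), μ ≠ 0 ∧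
    (∀ (s : F), ∀ x ∈ Q, ∀ y ∈ Q, w y = s • w x → w (c * y * c⁻¹) = τ s • w (c * x * c⁻¹)) ∧
    (∀ x ∈ Q, ∀ y ∈ Q, g (w (c * x * c⁻¹)) (w (c * y * c⁻¹)) = μ * τ (g (w x) (w y)))

theorem rho_semi (hs : Semi R Q w g) (c : ↥(normalizer (R : Set G))) : ∃ (τ : F →+* F) (μ : F), μ ≠ 0 ∧
    (∀ (s : F) m, rho h o c (s • m) = τ s • rho h o c m) ∧
    ∀ m m', g (rho h o c m) (rho h o c m') = μ * τ (g m m') := by
  obtain ⟨τ, μ, hμ, h1, h2⟩ := hs c c.2
  refine ⟨τ, μ, hμ, fun s m => ?_, fun m m' => ?_⟩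
  · obtain ⟨x, hx, rfl⟩ := o.w_surj m
    obtain ⟨x', hx', hxx⟩ := o.w_surj (s • w x)
    rw [← hxx, rho_w h o c hx', rho_w h o c hx]
    exact h1 s x hx x' hx' hxx
  · obtain ⟨x, hx, rfl⟩ := o.w_surj m
    obtain ⟨x', hx', rfl⟩ := o.w_surj m'
    rw [rho_w h o c hx, rho_w h o c hx']
    exact h2 x hx x' hx'

/-- **`N(R)` acts on the hermitian space `Q / R`, with a flag which starts with `F e₀`** -/
theorem exists_pol [Finite G] (h : GIn T S V R Q Q' v p p') (f : Fld T V R Q Q' v p φ χ)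
    (o : Out T V R Q Q' v p φ χ hm w g f₀ ι) (hs : Semi R Q w g) :
    Module.Finite F W ∧ ∃ (sigma : ↥(normalizer (R : Set G)) →* Equiv.Perm (Submodule F W)) (m : ℕ)
      (fl : ℕ → Submodule F W), Pol (normalizer (R : Set G)) (Nat.card k) (sgR T) g (rho h o) sigma m fl ∧
        fl 1 = F ∙ w (v 0 1 0) ∧ 1 ≤ m := by
  have hF := T.finF
  have hW : Finite W := Finite.of_surjective w (fun m => by
    obtain ⟨x, -, hx⟩ := o.w_surj m; exact ⟨x, hx⟩)
  have hfin : Module.Finite F W := Module.Finite.of_finite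
  refine ⟨hfin, ?_⟩
  have H := herm h o
  obtain ⟨sigma, hsig⟩ := exists_sigma (rho_mul h o) (fun c => by
    obtain ⟨τ, μ, -, h1, -⟩ := rho_semi h o hs c
    exact ⟨τ, h1⟩)
  obtain ⟨m, hm⟩ := H.exists_witt
  obtain ⟨fl, hfl, h1, hm1⟩ := H.exists_fl_of hm (OutL.e₀_ne h o) o.g_ee
  exact ⟨sigma, m, fl, ⟨H, ⟨rho_mul h o, hsig, rho_semi h o hs, siegel h f o⟩, hm, hfl⟩, h1, hm1⟩

end act

end Cfsg.Agent.Omega.NO1U.CSide

end
end

private theorem dce_e627e8acc069 : _root_.True := by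
  try have : _root_.True := by simp only [_root_.Cfsg.Agent.ParSys.Polar.Hermit.Herm.gl.eq_1]
  try have : _root_.True := by simp only [_root_.Cfsg.Agent.Omega.NO1U.CSide.sec.congr_simp]
  try have : _root_.True := by simp only [_root_.Cfsg.Agent.ParSys.Polar.CardU.Dat.Ws.congr_simp]
  try have : _root_.True := by simp only [_root_.Cfsg.Agent.ParSys.Polar.Hermit.Herm.perp.congr_simp]
  exact _root_.True.intro
end

-- part: Mrg/ParSys/FreeLie
section
prune_inst 0xc1307244002202000000050630203c06de000192002b8001d9400b4007869d630d802f60f4801b040b08a225203a0040020000590050000004008000411900a0842a72c69308a10426008fc0e886400000000000000000000000000000041000000000000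
set_option linter.all false
open scoped Cfsg.Agent.FastGrp

section


/-!
# THEOREM FREE for a simple group of rank at least three: the group is of Lie type
-/

set_option autoImplicit false

namespace Cfsg.Agent.ParSys.FreeLie

open Cfsg.Agent.ParSys.FreeCount

variable {I : Type*} {M : CoxeterMatrix I} {G : Type*} [Group G] {q : I → ℕ} {N : ℕ}
  {B : Subgroup G} {P : I → Subgroup G} {U : Subgroup G}

/-- a simple group with a system (`Free.Sys`) of a connected spherical type `M` of rank at least three, `|U| = q_{w₀}` -/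
theorem isLie [Finite G] [IsSimpleGroup G] [Finite I] (hM : HasQ M q N)
    (h : Free.Sys M.toCoxeterSystem B P U q) (hcard : Nat.card U = N) (h3 : 3 ≤ Nat.card I)
    (hconn : ∀ J : Set I, J.Nonempty → Jᶜ.Nonempty → ∃ i ∈ J, ∃ j ∈ Jᶜ, M i j ≠ 2) :
    Cfsg.IsPSL G ∨ Cfsg.IsPSp G ∨ Cfsg.IsPSU G ∨ Cfsg.IsPOmegaOdd G ∨ Cfsg.IsPOmegaPlus G ∨ Cfsg.IsPOmegaMinus G ∨
      Cfsg.IsExceptionalLieType G := by
  obtain ⟨Q, -, hr, -, hirr⟩ := hM.exists_bnPair h hcard
  exact Cfsg.Agent.S1143.result Q (hr ▸ h3) (hirr hconn)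

end Cfsg.Agent.ParSys.FreeLie

end

section


/-!
# THEOREM FREE with local closure, numbers `q_{w₀}` known; a simple group of rank at least three is of Lie type
-/

set_option autoImplicit false

namespace Cfsg.Agent.ParSys.FreeLieLoc

open Cfsg.Agent.ParSys.FreeCount Cfsg.Agent.Tits.Core

variable {I : Type*} {M : CoxeterMatrix I} {G : Type*} [Group G] {q : I → ℕ} {N : ℕ}
  {B : Subgroup G} {P : I → Subgroup G} {U : Subgroup G}

/-- the bound for `|U|` -/
theorem card_le [Finite G] [Finite I] (hM : HasQ M q N) (h : FreeLoc.SysL M.toCoxeterSystem B P U q) :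
    Nat.card U ≤ N := by
  have := hM.1
  obtain ⟨F, hF, he⟩ := M.toCoxeterSystem.exists_isReduced (w0 M.toCoxeterSystem)
  have := h.card_le hF he.symm
  rwa [hM.2 F hF he.symm] at this

/-- **THEOREM FREE** (local closure) with the number `q_{w₀}` known -/
theorem exists_bnPair [Finite G] [Finite I] (hM : HasQ M q N) (h : FreeLoc.SysL M.toCoxeterSystem B P U q)
    (hcard : N ≤ Nat.card U) :
    ∃ Q : Cfsg.BNPair G, Q.B = B ∧ Q.rank = Nat.card I ∧ (∃ e : I ≃ Q.S, ∀ i, (e i : G) ∈ P i) ∧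
      ((∀ J : Set I, J.Nonempty → Jᶜ.Nonempty → ∃ i ∈ J, ∃ j ∈ Jᶜ, M i j ≠ 2) → Q.Irreducible) := by
  have := hM.1
  obtain ⟨F, hF, he⟩ := M.toCoxeterSystem.exists_isReduced (w0 M.toCoxeterSystem)
  exact h.exists_bnPair hF he.symm (by rw [hM.2 F hF he.symm]; exact hcard)

/-- a simple group with a system with local closure of a connected spherical type of rank at least three -/
theorem isLie [Finite G] [IsSimpleGroup G] [Finite I] (hM : HasQ M q N)
    (h : FreeLoc.SysL M.toCoxeterSystem B P U q) (hcard : N ≤ Nat.card U) (h3 : 3 ≤ Nat.card I)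
    (hconn : ∀ J : Set I, J.Nonempty → Jᶜ.Nonempty → ∃ i ∈ J, ∃ j ∈ Jᶜ, M i j ≠ 2) :
    Cfsg.IsPSL G ∨ Cfsg.IsPSp G ∨ Cfsg.IsPSU G ∨ Cfsg.IsPOmegaOdd G ∨ Cfsg.IsPOmegaPlus G ∨ Cfsg.IsPOmegaMinus G ∨
      Cfsg.IsExceptionalLieType G := by
  obtain ⟨Q, -, hr, -, hirr⟩ := exists_bnPair hM h hcard
  exact Cfsg.Agent.S1143.result Q (hr ▸ h3) (hirr hconn)

end Cfsg.Agent.ParSys.FreeLieLoc

end

section


/-!
# Identification of `F₄(2)`

`equiv_Gg`: a group acting strongly transitively on a Moufang building all whose panels have three chambers is the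
group generated by the root groups.
`ident_bldg`: on a thick building of type `F₄` with panels of three chambers only `F₄(2)` acts strongly transitively.
`ident_cosets`, `ident`: the same for a system of parabolics (`FreeLoc.SysL`) of type `F₄`, all `q i = 2`.
-/

set_option autoImplicit false

namespace Cfsg.Agent.Omega.IId.FFour.Ident

open Cfsg.Lie
open Cfsg.Agent.Tits.Core Cfsg.Agent.Tits.Core.Bldg Cfsg.Agent.Tits Cfsg.Agent.Tits.MouOut
open Cfsg.Agent.Tits.MouDefs (rt Aut Chart mem_Aut)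
open Cfsg.Agent.LieRecognition.BNCox Cfsg.Agent.LieRecognition.CoxClass
open Cfsg.Agent.TitsThree Cfsg.Agent.TitsThree.Pack Cfsg.Agent.TitsThree.FFData
open Cfsg.Agent.TitsThree.F4Bond Cfsg.Agent.TitsThree.EndGen Cfsg.Agent.TitsThree.Reindex
open Cfsg.Agent.ParSys Cfsg.Agent.ParSys.FreeCount
open MulAction

/-! ### panels of three chambers -/

section Gen

variable {I : Type*} {M : CoxeterMatrix I} {W : Type*} [Group W] {cs : CoxeterSystem M W}
variable {C : Type*} {Δ : Bldg cs C} {σ : W → C}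

/-- the order of a fundamental root group -/
theorem card_root [Finite C] (H : Sys Δ (Aut Δ) σ (UU Δ σ)) {i : I} {q : ℕ} (h : Δ.Param i q) :
    Nat.card (UU Δ σ (rt cs 1 i)) = q := by
  have h1 := EndHyp.param H i (σ 1)
  have h2 := h (σ 1)
  omega

/-- two opposite chambers have trivial stabiliser -/
theorem tor_eq_one [Finite I] [Finite W] [Finite C] (H : Sys Δ (Aut Δ) σ (UU Δ σ)) (h2 : ∀ i, Δ.Param i 2) {h : Aut Δ}
    (hh : h ∈ Tor cs (Aut Δ) σ) : h = 1 := by
  refine EndGen.tor_eq_one H hh fun i u hu => ?_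
  have h3 := tor_conj H hh hu
  have hc := card_root H (h2 i)
  by_cases hu1 : u = 1
  · rw [hu1, mul_one, one_mul]
  · have h4 : h * u * h⁻¹ ≠ 1 := by
      intro h5
      apply hu1
      have h6 : h * u = h := by
        rw [mul_inv_eq_one] at h5
        exact h5
      exact mul_eq_left.1 h6
    obtain ⟨x, hx, huniq⟩ := Nat.card_eq_two_iff' (1 : UU Δ σ (rt cs 1 i)) |>.1 hc
    have e1 := huniq ⟨u, hu⟩ fun h5 => hu1 (congrArg Subtype.val h5)
    have e2 := huniq ⟨_, h3⟩ fun h5 => h4 (congrArg Subtype.val h5)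
    have e3 : h * u * h⁻¹ = u := congrArg Subtype.val (e2.trans e1.symm)
    rwa [mul_inv_eq_iff_eq_mul] at e3

/-- a strongly transitive group is the full group of automorphisms -/
theorem bijective [Finite I] [Finite W] [Finite C] (H : Sys Δ (Aut Δ) σ (UU Δ σ)) (h2 : ∀ i, Δ.Param i 2)
    {G : Type*} [Group G] [MulAction G C] (hG : Δ.StrongAct G) : Function.Bijective (Top.toAut hG) := by
  refine ⟨Top.toAut_injective hG, fun a => ?_⟩
  obtain ⟨g, h3, h4⟩ := hG.trans (σ 1) (σ (w0 cs)) (a • σ 1) (a • σ (w0 cs)) (Top.δ_smul a _ _).symm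
  refine ⟨g, ?_⟩
  have h5 : (Top.toAut hG g)⁻¹ * a ∈ Tor cs (Aut Δ) σ := by
    refine Subgroup.mem_inf.2 ⟨mem_stabilizer_iff.2 ?_, mem_stabilizer_iff.2 ?_⟩
    · rw [mul_smul, inv_smul_eq_iff, Top.toAut_smul, h3]
    · rw [mul_smul, inv_smul_eq_iff, Top.toAut_smul, h4]
  have h6 := tor_eq_one H h2 h5
  exact inv_mul_eq_one.1 h6

/-- **a strongly transitive group is the group generated by the root groups** -/
theorem equiv_Gg [Finite I] [Finite W] [Finite C] (H : Sys Δ (Aut Δ) σ (UU Δ σ)) (h2 : ∀ i, Δ.Param i 2)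
    {G : Type*} [Group G] [MulAction G C] (hG : Δ.StrongAct G) : Nonempty (G ≃* ↥(Gg cs (UU Δ σ))) :=
  ⟨(MulEquiv.ofBijective _ (bijective H h2 hG)).trans (MulEquiv.ofBijective _ (bijective H h2 H.Gg_strongAct)).symm⟩

end Gen

/-! ### type `F₄` -/

/-- the fundamental root groups and the fields -/
theorem card_eq {W C : Type*} [Group W] [Finite W] [Finite C] {cs : CoxeterSystem cF W} {Δ : Bldg cs C} {σ : W → C}
    (H : Sys Δ (Aut Δ) σ (UU Δ σ)) (h2 : ∀ i, Δ.Param i 2)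
    {F E : Type} [Field F] [Field E] [Algebra F E] {Q : ConjPair F E} (h : OutP Δ σ Q) :
    Nat.card F = 2 ∧ Nat.card E = 2 := by
  obtain ⟨P, R⟩ := h
  have h0 : Nat.card F = Nat.card (UU Δ σ (rt cs 1 0)) := by
    have h3 := R.r0.1
    rw [← Nat.card_range_of_injective (f := fun t => (P.x0 t : Aut Δ))
      fun a b hab => R.inj0 (Subtype.ext hab), h3]
    rfl
  have h2' : Nat.card E = Nat.card (UU Δ σ (rt cs 1 2)) := by
    have h3 := R.r2.1
    rw [← Nat.card_range_of_injective (f := fun t => (P.x2 t : Aut Δ))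
      fun a b hab => R.inj2 (Subtype.ext hab), h3]
    rfl
  rw [h0, h2', card_root H (h2 0), card_root H (h2 2)]
  exact ⟨rfl, rfl⟩

/-- the oriented case -/
theorem ident_out {W C : Type*} [Group W] [Finite W] [Finite C] {cs : CoxeterSystem cF W} {Δ : Bldg cs C} {σ : W → C}
    (hth : Δ.Thick) (hσ : Chart Δ σ) (h2 : ∀ i, Δ.Param i 2) (h : Out Δ σ) {G : Type*} [Group G] [MulAction G C]
    (hG : Δ.StrongAct G) : Nonempty (G ≃* ↥(chevF4.group (ZMod 2))) := by
  have H := MouAll.sys MouAll.lab_F CombInst.diag_F hth hσ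
  rcases h with ⟨F, i1, i2, h⟩ | ⟨F, E, i1, i2, i3, i4, i5, P, hP, h⟩
  · have hc := (card_eq H h2 h).1
    have : Fintype F := Fintype.ofFinite F
    have := KExcF4.simple F
    obtain ⟨e1⟩ := equiv_Gg H h2 hG
    obtain ⟨e2⟩ := SolvedFF.nonempty_mulEquiv hth hσ h (KExcF4.kff F)
    have e3 : ZMod 2 ≃+* F := ZMod.ringEquivOfPrime F Nat.prime_two (by rw [← Nat.card_eq_fintype_card, hc])
    exact ⟨(e1.trans e2).trans (Cfsg.Agent.ChevalleyStructure.FieldIso.groupEquiv chevF4 e3.symm)⟩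
  · exfalso
    have hc := card_eq H h2 h
    have h3 := P.card_eq hP
    rw [hc.1, hc.2] at h3
    norm_num at h3

/-- **only `F₄(2)` acts strongly transitively on a thick building of type `F₄` with panels of three chambers** -/
theorem ident_bldg {W C : Type*} [Group W] [Finite W] [Finite C] [Nonempty C] {cs : CoxeterSystem cF W} {Δ : Bldg cs C}
    (hth : Δ.Thick) (h2 : ∀ i, Δ.Param i 2) {G : Type*} [Group G] [MulAction G C]
    (hG : Δ.StrongAct G) : Nonempty (G ≃* ↥(chevF4.group (ZMod 2))) := by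
  obtain ⟨c⟩ := (inferInstance : Nonempty C)
  obtain ⟨d, hd⟩ := Opp.exists_opp Δ c
  obtain ⟨σ, hσ, -, -⟩ := MouDefs.exists_chart hd 1
  rcases orient hth hσ with h1 | h1
  · exact ident_out hth hσ h2 (out_of_midStd hth hσ h1) hG
  · have hs := revSys_simple cs
    refine ident_out (re_thick hs hth) (re_chart hs hσ) (fun i x => ?_)
      (out_of_midStd (re_thick hs hth) (re_chart hs hσ) (mid_re hs rfl rfl h1)) (G := G)
      ⟨hG.iso, hG.trans, hG.faithful⟩
    rw [re_pan]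
    exact h2 _ x

/-! ### systems of parabolics -/

section Cosets

variable {I : Type*} {M : CoxeterMatrix I} {W : Type*} [Group W] {G : Type*} [Group G]
  {cs : CoxeterSystem M W} {B : Subgroup G} {P : I → Subgroup G} {D : W → Set G}

/-- the panels -/
theorem param (h : Bruhat.Cosets cs B P D) (i : I) {q : ℕ} (hq : B.relIndex (P i) = q + 1) :
    h.bldg.Param i q := by
  intro x
  induction x using QuotientGroup.induction_on with | _ a =>
  rw [← hq, Subgroup.relIndex, Subgroup.index]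
  symm
  refine Nat.card_congr (Equiv.ofBijective
    (Quotient.lift (fun p : P i => (⟨QuotientGroup.mk (a * p), ?_⟩ : h.bldg.Pan i (QuotientGroup.mk a))) ?_) ?_)
  · by_cases hp : (p : G) ∈ B
    · left
      rw [QuotientGroup.eq]
      have e : (a * (p : G))⁻¹ * a = (p : G)⁻¹ := by group
      rw [e]
      exact inv_mem hp
    · right
      show h.bldg.δ (QuotientGroup.mk a) (QuotientGroup.mk (a * (p : G))) = cs.simple i
      rw [h.bldg_δ, inv_mul_cancel_left, h.mem_simple_iff]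
      exact ⟨p.2, hp⟩
  · intro p r hpr
    refine Subtype.ext ?_
    rw [QuotientGroup.eq]
    have h1 : (p⁻¹ * r : P i) ∈ B.subgroupOf (P i) := QuotientGroup.leftRel_apply.1 hpr
    rw [Subgroup.mem_subgroupOf] at h1
    have e : (a * (p : G))⁻¹ * (a * (r : G)) = ((p⁻¹ * r : P i) : G) := by
      rw [Subgroup.coe_mul, Subgroup.coe_inv]
      group
    rw [e]
    exact h1
  · constructor
    · intro x y hxy
      induction x using Quotient.inductionOn with | _ p =>
      induction y using Quotient.inductionOn with | _ r =>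
      have h1 : (QuotientGroup.mk (a * (p : G)) : G ⧸ B) = QuotientGroup.mk (a * (r : G)) :=
        congrArg Subtype.val hxy
      rw [QuotientGroup.eq] at h1
      refine Quotient.sound (QuotientGroup.leftRel_apply.2 ?_)
      rw [Subgroup.mem_subgroupOf, Subgroup.coe_mul, Subgroup.coe_inv]
      have e : (a * (p : G))⁻¹ * (a * (r : G)) = (p : G)⁻¹ * r := by group
      rwa [e] at h1
    · rintro ⟨y, hy⟩
      rcases hy with rfl | hy
      · refine ⟨Quotient.mk _ 1, Subtype.ext ?_⟩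
        show (QuotientGroup.mk (a * ((1 : P i) : G)) : G ⧸ B) = QuotientGroup.mk a
        rw [Subgroup.coe_one, mul_one]
      · induction y using QuotientGroup.induction_on with | _ b =>
        rw [h.bldg_δ, h.mem_simple_iff] at hy
        refine ⟨Quotient.mk _ ⟨_, hy.1⟩, Subtype.ext ?_⟩
        show (QuotientGroup.mk (a * (a⁻¹ * b)) : G ⧸ B) = QuotientGroup.mk b
        rw [mul_inv_cancel_left]

/-- a core-free `B`: the action is strongly transitive -/
theorem strongAct (h : Bruhat.Cosets cs B P D) (hcore : ∀ g : G, (∀ x, x⁻¹ * g * x ∈ B) → g = 1) :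
    h.bldg.StrongAct G where
  iso := h.act.iso
  trans := h.act.trans
  faithful := ⟨fun {g g'} hg => by
    have h1 : g'⁻¹ * g = 1 := by
      apply hcore
      intro x
      have h2 : (QuotientGroup.mk (g * x) : G ⧸ B) = QuotientGroup.mk (g' * x) := hg (QuotientGroup.mk x)
      rw [eq_comm, QuotientGroup.eq] at h2
      have e : x⁻¹ * (g'⁻¹ * g) * x = (g' * x)⁻¹ * (g * x) := by group
      rw [e]
      exact h2
    exact (inv_mul_eq_one.1 h1).symm⟩

/-- **`F₄(2)` from the Bruhat decomposition** -/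
theorem ident_cosets [Finite G] [Finite W] (e : I ≃ Fin 4) (hM : M.reindex e = CoxeterMatrix.F₄)
    (h : Bruhat.Cosets cs B P D) (h3 : ∀ i, B.relIndex (P i) = 3)
    (hcore : ∀ g : G, (∀ x, x⁻¹ * g * x ∈ B) → g = 1) : Nonempty (G ≃* ↥(chevF4.group (ZMod 2))) := by
  have hF : CoxeterMatrix.F₄ = cF := by
    ext i j
    fin_cases i <;> fin_cases j <;> rfl
  have hM' : M.reindex e = cF := hM.trans hF
  let cs' : CoxeterSystem cF W := hM' ▸ cs.reindex e
  have hs : ∀ i, cs'.simple i = cs.simple (e.symm i) := fun i => by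
    show (hM' ▸ cs.reindex e : CoxeterSystem cF W).simple i = _
    rw [cast_simple]
    exact cs.reindex_simple e i
  have hst := strongAct h hcore
  refine ident_bldg (re_thick hs h.thick) (fun i x => ?_) (G := G) ⟨hst.iso, hst.trans, hst.faithful⟩
  rw [re_pan]
  exact param h _ (h3 _) x

end Cosets

/-- **`F₄(2)` from a system of parabolics of type `F₄`, all `q i = 2`** -/
theorem ident {I : Type*} [Finite I] {M : CoxeterMatrix I} {G : Type*} [Group G] [Finite G] {B : Subgroup G}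
    {P : I → Subgroup G} {U : Subgroup G} (e : I ≃ Fin 4) (hM : M.reindex e = CoxeterMatrix.F₄)
    (h : FreeLoc.SysL M.toCoxeterSystem B P U (fun _ => 2)) (hcard : 2 ^ 24 ≤ Nat.card U)
    (hcore : ∀ g ∈ B, (∀ x, x⁻¹ * g * x ∈ B) → g = 1) : Nonempty (FourTwo.Base.LL ≃* G) := by
  have hQ := hasQ_F4 (M := M) (q := fun _ => 2) e hM (x := 2) (y := 2) (fun i => by simp)
  have := hQ.1
  obtain ⟨F, hF, he⟩ := M.toCoxeterSystem.exists_isReduced (w0 M.toCoxeterSystem)
  have hc := h.cosets hF he.symm (by rw [hQ.2 F hF he.symm]; exact hcard)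
  obtain ⟨f⟩ := ident_cosets e hM hc (fun i => h.card i) fun g hg => hcore g (by simpa using hg 1) hg
  exact ⟨f.symm⟩

end Cfsg.Agent.Omega.IId.FFour.Ident

end

section


/-!
# OMEGA II.d: the end `F₄(2).2` (bb OMEGA #14245), facts on `F₄(2)` and its graph automorphism `gam`

`U` the positive unipotent subgroup, `FX = C(gam)` (`= ²F₄(2)`), `z = x 44 * x 47`.

* `mem_U_of`: an element commuting with `x 44`, `x 47` and `x 28 * x 30` lies in `U`;
* `cent_z`: the centraliser of `z` centralises `x 44` and `x 47`;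
* `sk`: an element of `FX ∩ U` central in `FX ∩ U` modulo `z` is `1`, `z`, `x 40 * x 46` or `x 40 * x 46 * z`;
* `core`: `O₂(FX) = 1`.
-/

set_option autoImplicit false

namespace Cfsg.Agent.Omega.IId.FFour.TwoFacts

open Cfsg.Lie Cfsg.Agent.ChevalleyStructure.TwF4.Tables
open Cfsg.Agent.ChevalleyStructure.TwF4.Rel hiding bar
open Cfsg.Agent.ChevalleyStructure.TwF4.Torus (all_of)
open Cfsg.Agent.ChevalleyStructure.TwF4.NRoot (sp_lt)
open Cfsg.Agent.ChevalleyStructure.TwF4.NStruct (R)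
open Cfsg.Agent.ChevalleyStructure.TwF4.WeylDih (carSub)
open Cfsg.Agent.ChevalleyStructure.F4NTab (ct)
open Cfsg.Agent.FourTwo.Base hiding bar_lt
open Cfsg.Agent.FourTwo.Comm Cfsg.Agent.FourTwo.BN Cfsg.Agent.FourTwo.Par Cfsg.Agent.FourTwo.Cent
open Cfsg.Agent.FourTwo.AutF4
open Cfsg.Agent.FourTwo.UCode (mulU)
open Cfsg.Agent.FourTwo.Enum (enum goodC)
open Cfsg.Agent.FourTwo.Classes (ec ec_mulU x_eq_ec ec_zero wd_eq_ec' ec_inj)
open Cfsg.Agent.FourTwo.Facts (enum_U ec24 ec25 ec27 ec33 ec40 ec46)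

theorem xx (r : ℕ) : x r * x r = 1 := Cfsg.Agent.FourTwo.Base.x_mul_self r

theorem xi (r : ℕ) : (x r)⁻¹ = x r := Cfsg.Agent.FourTwo.Base.x_inv r

/-! ### Membership in `U` -/

/-- the positive roots outside `{25, 27, 28, 30}` -/
def L1 : List ℕ := [24, 26, 29, 31, 32, 33, 34, 35, 36, 37, 38, 39, 40, 41, 42, 43, 44, 45, 46, 47]

theorem nL1 : normB posP L1.contains = true := by decide +kernel
theorem clL1 : closedB L1.contains = true := by decide +kernel
theorem c28 : cenB L1 28 = true := by decide +kernel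
theorem c30 : cenB L1 30 = true := by decide +kernel

theorem conj_r {v : LL} (hv : v ∈ U) :
    ∃ z ∈ RG L1.contains, v * (x 28 * x 30) = x 28 * x 30 * z * v := by
  obtain ⟨z1, hz1, e1⟩ := conj_cen nL1 (by omega : 24 ≤ 28) (by omega) c28 hv
  obtain ⟨z2, hz2, e2⟩ := conj_cen nL1 (by omega : 24 ≤ 30) (by omega) c30 hv
  refine ⟨x 30 * z1 * (x 30)⁻¹ * z2, mul_mem (conj_mem nL1 (x_mem_RG (by omega) (by decide)) hz1) hz2, ?_⟩
  calc v * (x 28 * x 30) = v * x 28 * x 30 := by group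
    _ = x 28 * z1 * (v * x 30) := by rw [e1]; group
    _ = x 28 * z1 * (x 30)⁻¹ * z2 * v := by rw [e2, xi]; group
    _ = x 28 * (x 30 * x 30) * z1 * (x 30)⁻¹ * z2 * v := by rw [xx, mul_one]
    _ = _ := by group

theorem tabL1 : ((List.range 48).all fun r => L1.contains r == (decide (0 < ct r 44) || decide (0 < ct r 47))) = true := by
  decide +kernel

theorem tabB2 : ((List.range 48).all fun a => (List.range 48).all fun b =>
    !(decide (ct a 44 = 0) && decide (ct a 47 = 0) && decide (ct b 44 = 0) && decide (ct b 47 = 0) &&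
      decide (ct a b = ct 28 30) && decide (ct b a = ct 30 28)) ||
    [(19, 17), (19, 22), (20, 17), (20, 25), (27, 22), (27, 30), (28, 25), (28, 30)].contains (a, b)) = true := by
  decide +kernel

theorem solve_q {a b : ℕ} {q : LL} (h : x a * x b = x 28 * x 30 * q) : q = x 30 * x 28 * (x a * x b) := by
  calc q = (x 28 * x 30)⁻¹ * (x a * x b) := by rw [h]; group
    _ = _ := by rw [mul_inv_rev, xi, xi]

theorem mem_U_of {l : LL} (h44 : l * x 44 = x 44 * l) (h47 : l * x 47 = x 47 * l)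
    (hr : l * (x 28 * x 30) = x 28 * x 30 * l) : l ∈ U := by
  obtain ⟨u, hu, w, hw, v, hv, rfl⟩ := bruhat l
  have h1 : ∀ a ∈ [44, 47], w * x a * w⁻¹ = x a :=
    chain (l := [44, 47]) (by decide +kernel) hu hw hv rfl fun a ha => by
      simp only [List.mem_cons, List.not_mem_nil, or_false] at ha
      rcases ha with rfl | rfl
      · exact h44
      · exact h47
  obtain ⟨σ, -, hσ, hσ'⟩ := exists_perm hw
  have s44 : (σ (⟨44, by decide⟩ : R)).val = 44 := by
    have h2 := hσ' (⟨44, by decide⟩ : R)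
    rw [h1 44 (by simp)] at h2
    exact (x_inj (by omega) (σ _).2 h2).symm
  have s47 : (σ (⟨47, by decide⟩ : R)).val = 47 := by
    have h2 := hσ' (⟨47, by decide⟩ : R)
    rw [h1 47 (by simp)] at h2
    exact (x_inj (by omega) (σ _).2 h2).symm
  have ct44 : ∀ r : R, ct (σ r).val 44 = ct r.val 44 := fun r => by
    have h2 := hσ r (⟨44, by decide⟩ : R)
    rwa [s44] at h2
  have ct47 : ∀ r : R, ct (σ r).val 47 = ct r.val 47 := fun r => by
    have h2 := hσ r (⟨47, by decide⟩ : R)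
    rwa [s47] at h2
  have hwL : ∀ g ∈ RG L1.contains, w * g * w⁻¹ ∈ RG L1.contains := fun g hg =>
    Cfsg.Agent.FourTwo.CentAll.conj_RG (fun b hb hP => by
      rw [hσ' (⟨b, hb⟩ : R)]
      refine x_mem_RG (σ _).2 ?_
      have h2 := all_of tabL1 (σ (⟨b, hb⟩ : R)).2
      have h3 := all_of tabL1 hb
      rw [beq_iff_eq] at h2 h3
      rw [h2, ct44, ct47, ← h3]
      exact hP) hg
  obtain ⟨z1, hz1, e1⟩ := conj_r hv
  obtain ⟨z2, hz2, e2⟩ := conj_r (inv_mem hu)
  -- `w r w⁻¹ ∈ r · RG L1`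
  have h3 : w * (x 28 * x 30) * w⁻¹ = x 28 * x 30 * (z2 * (w * z1 * w⁻¹)⁻¹) := by
    have h4 : u⁻¹ * (x 28 * x 30) * u = x 28 * x 30 * z2 := by rw [e2]; group
    have h5 : w * (x 28 * x 30) * z1 = x 28 * x 30 * z2 * w := by
      calc w * (x 28 * x 30) * z1 = u⁻¹ * (u * w * (x 28 * x 30 * z1 * v)) * v⁻¹ := by group
        _ = u⁻¹ * (u * w * v * (x 28 * x 30)) * v⁻¹ := by rw [← e1]; group
        _ = u⁻¹ * (x 28 * x 30) * u * w := by rw [hr]; group
        _ = _ := by rw [h4]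
    calc w * (x 28 * x 30) * w⁻¹ = (w * (x 28 * x 30) * z1) * z1⁻¹ * w⁻¹ := by group
      _ = x 28 * x 30 * z2 * w * z1⁻¹ * w⁻¹ := by rw [h5]
      _ = _ := by group
  have h6 : w * (x 28 * x 30) * w⁻¹ = x (σ (⟨28, by decide⟩ : R)).val * x (σ (⟨30, by decide⟩ : R)).val := by
    rw [← hσ' (⟨28, by decide⟩ : R), ← hσ' (⟨30, by decide⟩ : R)]
    group
  have a44 := ct44 (⟨28, by decide⟩ : R)
  have a47 := ct47 (⟨28, by decide⟩ : R)
  have b44 := ct44 (⟨30, by decide⟩ : R)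
  have b47 := ct47 (⟨30, by decide⟩ : R)
  have ab := hσ (⟨28, by decide⟩ : R) (⟨30, by decide⟩ : R)
  have ba := hσ (⟨30, by decide⟩ : R) (⟨28, by decide⟩ : R)
  have ha48 := (σ (⟨28, by decide⟩ : R)).2
  have hb48 := (σ (⟨30, by decide⟩ : R)).2
  have hq : z2 * (w * z1 * w⁻¹)⁻¹ ∈ RG L1.contains := mul_mem hz2 (inv_mem (hwL _ hz1))
  rw [h6] at h3
  generalize z2 * (w * z1 * w⁻¹)⁻¹ = q at h3 hq
  generalize ha : (σ (⟨28, by decide⟩ : R)).val = a at *
  generalize hb : (σ (⟨30, by decide⟩ : R)).val = b at *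
  have hqU : q ∈ U := RG_le_U clL1 hq
  have habU : x a * x b ∈ U := by
    rw [h3]
    exact mul_mem (mul_mem (x_mem_U (by omega) (by omega)) (x_mem_U (by omega) (by omega))) hqU
  have hab : (a, b) ∈ [(19, 17), (19, 22), (20, 17), (20, 25), (27, 22), (27, 30), (28, 25), (28, 30)] := by
    have h7 := all_of (all_of tabB2 ha48) hb48
    have e44 : ct 28 44 = 0 := by decide +kernel
    have e47 : ct 28 47 = 0 := by decide +kernel
    have f44 : ct 30 44 = 0 := by decide +kernel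
    have f47 : ct 30 47 = 0 := by decide +kernel
    have i1 : ct a 44 = 0 := a44.trans e44
    have i2 : ct a 47 = 0 := a47.trans e47
    have i3 : ct b 44 = 0 := b44.trans f44
    have i4 : ct b 47 = 0 := b47.trans f47
    have i5 : ct a b = ct 28 30 := ab
    have i6 : ct b a = ct 30 28 := ba
    rw [i1, i2, i3, i4, i5, i6] at h7
    simpa using h7
  have neg2 : ∀ a b : ℕ, a < 24 → b < 24 → a ≠ b → x a * x b ∈ U → False := by
    intro a b ha hb hne hU
    have h8 : x a * x b ∈ U ⊓ V := ⟨hU, mul_mem (x_mem_V ha) (x_mem_V hb)⟩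
    rw [U_inf_V, Subgroup.mem_bot] at h8
    apply hne
    apply x_inj (by omega) (by omega)
    rw [← xi b]
    exact eq_inv_of_mul_eq_one_left h8
  have key : a = 28 ∧ b = 30 := by
    simp only [List.mem_cons, Prod.mk.injEq, List.not_mem_nil, or_false] at hab
    rcases hab with ⟨rfl, rfl⟩ | ⟨rfl, rfl⟩ | ⟨rfl, rfl⟩ | ⟨rfl, rfl⟩ | ⟨rfl, rfl⟩ | ⟨rfl, rfl⟩ | ⟨rfl, rfl⟩ | ⟨rfl, rfl⟩
    · exact (neg2 _ _ (by omega) (by omega) (by omega) habU).elim
    · exact (neg2 _ _ (by omega) (by omega) (by omega) habU).elim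
    · exact (neg2 _ _ (by omega) (by omega) (by omega) habU).elim
    · have h8 : x 20 ∈ U := by
        have := mul_mem habU (inv_mem (x_mem_U (by omega : 24 ≤ 25) (by omega)))
        rwa [mul_inv_cancel_right] at this
      have := pos_of_mem_U (by omega) h8
      omega
    · have h8 : x 22 ∈ U := by
        have := mul_mem (inv_mem (x_mem_U (by omega : 24 ≤ 27) (by omega))) habU
        rwa [inv_mul_cancel_left] at this
      have := pos_of_mem_U (by omega) h8
      omega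
    · have h8 : x 27 * x 28 ∈ RG L1.contains := by
        have h10 : x 27 * x 28 = q := by
          have := wd_eq [27, 28] [30, 28, 27, 30] (by decide +kernel)
          simp only [wd_cons, wd_nil, mul_one] at this
          rw [solve_q h3, this, mul_assoc (x 30)]
        rw [h10]; exact hq
      have := (mul_not_mem_RG clL1 (by omega) (by omega) (by omega) h8).1
      exact absurd this (by decide)
    · have h8 : x 25 * x 30 ∈ RG L1.contains := by
        have h10 : x 25 * x 30 = q⁻¹ := by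
          rw [solve_q h3]
          simp only [mul_inv_rev, xi]
          calc x 25 * x 30 = x 25 * (x 28 * x 28) * x 30 := by rw [xx, mul_one]
            _ = _ := by simp only [mul_assoc]
        rw [h10]; exact inv_mem hq
      have := (mul_not_mem_RG clL1 (by omega) (by omega) (by omega) h8).1
      exact absurd this (by decide)
    · exact ⟨rfl, rfl⟩
  have hw1 : w = 1 := by
    refine eq_one_of_fix hw (l := [28, 30, 44, 47]) (by decide) (by decide +kernel) fun p hp => ?_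
    simp only [List.mem_cons, List.not_mem_nil, or_false] at hp
    rcases hp with rfl | rfl | rfl | rfl
    · rw [hσ' (⟨28, by decide⟩ : R), ha, key.1]
    · rw [hσ' (⟨30, by decide⟩ : R), hb, key.2]
    · exact h1 44 (by simp)
    · exact h1 47 (by simp)
  rw [hw1, mul_one]
  exact mul_mem hu hv

/-! ### The centraliser of `z` -/

theorem cent_z {l : LL} (h : l * (x 44 * x 47) = x 44 * x 47 * l) : l * x 44 = x 44 * l ∧ l * x 47 = x 47 * l := by
  have hU : U ≤ Subgroup.centralizer {x 44 * x 47} := fun u hu => by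
    rw [Subgroup.mem_centralizer_singleton_iff]
    exact comm_c hu
  have hn12 : ∀ i < 4, n i ∈ Subgroup.centralizer {x 44 * x 47} → refl i 44 = 44 ∧ refl i 47 = 47 := by
    intro i hi hn
    rw [Subgroup.mem_centralizer_singleton_iff] at hn
    have h4 := n_mul_x hi (by omega : 44 < 48)
    have h5 := n_mul_x hi (by omega : 47 < 48)
    have e : n i * (x 44 * x 47) = x (refl i 44) * x (refl i 47) * n i := by
      rw [← mul_assoc, h4, mul_assoc, h5, ← mul_assoc]
    rw [hn] at e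
    have e' := mul_right_cancel e
    have hT : ∀ i < 4, (refl i 44 = 44 ∧ refl i 47 = 47) ∨ (refl i 44 ≠ 44 ∧ refl i 47 = 47) ∨
      (refl i 44 = 44 ∧ refl i 47 ≠ 47) := by decide
    rcases hT i hi with h6 | ⟨h6, h7⟩ | ⟨h6, h7⟩
    · exact h6
    · rw [h7] at e'
      exact absurd (x_inj (by omega) (refl_lt i 44 hi (by omega)) (mul_right_cancel e')).symm h6
    · rw [h6] at e'
      exact absurd (x_inj (by omega) (refl_lt i 47 hi (by omega)) (mul_left_cancel e')).symm h7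
  have hle : Subgroup.centralizer {x 44 * x 47} ≤ Subgroup.centralizer {x 44} ⊓ Subgroup.centralizer {x 47} := by
    rw [parabolic_eq hU]
    refine sup_le (le_inf (fun u hu => ?_) (fun u hu => ?_)) ?_
    · rw [Subgroup.mem_centralizer_singleton_iff]
      exact comm_44 hu
    · rw [Subgroup.mem_centralizer_singleton_iff]
      exact comm_47 hu
    · rw [Subgroup.closure_le]
      rintro _ ⟨i, hi, hn, rfl⟩
      obtain ⟨h6, h7⟩ := hn12 i hi hn
      have h4 := n_mul_x hi (by omega : 44 < 48)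
      have h5 := n_mul_x hi (by omega : 47 < 48)
      rw [h6] at h4
      rw [h7] at h5
      exact ⟨Subgroup.mem_centralizer_singleton_iff.2 h4, Subgroup.mem_centralizer_singleton_iff.2 h5⟩
  obtain ⟨h1, h2⟩ := Subgroup.mem_inf.1 (hle (Subgroup.mem_centralizer_singleton_iff.2 h))
  rw [Subgroup.mem_centralizer_singleton_iff] at h1 h2
  exact ⟨h1, h2⟩

/-! ### `gam` on words -/

theorem gam_wd {w : List ℕ} (h : ∀ r ∈ w, r < 48) : gam (wd w) = wd (w.map bar) := by
  induction w with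
  | nil => exact map_one _
  | cons r w ih =>
    rw [wd_cons, map_mul, List.map_cons, wd_cons, gam_x (h r List.mem_cons_self),
      ih fun s hs => h s (List.mem_cons_of_mem _ hs)]

/-- an element of `FX ∩ U` -/
def gA : LL := wd [24, 33]

/-- an element of order 4 of `FX ∩ U` -/
def gC : LL := wd [27, 25, 28]

/-- an element of `FX ∩ U` with square `z` -/
def gT : LL := wd [29, 41, 44]

theorem gam_gA : gam gA = gA := by
  unfold gA
  rw [gam_wd (by decide)]
  exact wd_eq _ _ (by decide +kernel)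

theorem gam_gC : gam gC = gC := by
  unfold gC
  rw [gam_wd (by decide)]
  exact wd_eq _ _ (by decide +kernel)

theorem gam_gT : gam gT = gT := by
  unfold gT
  rw [gam_wd (by decide)]
  exact wd_eq _ _ (by decide +kernel)

theorem gA_mem : gA ∈ U := wd_mem_U (by decide)
theorem gC_mem : gC ∈ U := wd_mem_U (by decide)
theorem gT_mem : gT ∈ U := wd_mem_U (by decide)

theorem gC_sq : gC * gC = x 28 * x 30 := by
  have h := wd_eq ([27, 25, 28] ++ [27, 25, 28]) [28, 30] (by decide +kernel)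
  rw [wd_append] at h
  unfold gC
  rw [h, wd_cons, wd_one]

theorem gT_sq : gT * gT = x 44 * x 47 := by
  have h := wd_eq ([29, 41, 44] ++ [29, 41, 44]) [44, 47] (by decide +kernel)
  rw [wd_append] at h
  unfold gT
  rw [h, wd_cons, wd_one]

theorem ec_gA : gA = ec 513 := wd_eq_ec' _ (by decide) _ (by decide +kernel)
theorem ec_gC : gC = ec 74 := wd_eq_ec' _ (by decide) _ (by decide +kernel)

/-! ### The enumerations -/

/-- The elements of `U` commuting with `gA` and `gC` modulo `z`. -/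
theorem enumZ {u : LL} (hu : u ∈ U) (hA : gA * u * gA⁻¹ = u ∨ gA * u * gA⁻¹ = u * (x 44 * x 47))
    (hC : gC * u * gC⁻¹ = u ∨ gC * u * gC⁻¹ = u * (x 44 * x 47)) :
    ∃ w ∈ [[], [47], [44], [44, 47], [40, 46], [40, 46, 47], [40, 44, 46], [40, 44, 46, 47]], u = wd w := by
  have aux : ∀ g : LL, (g * u * g⁻¹ = u ∨ g * u * g⁻¹ = u * (x 44 * x 47)) →
      ∃ t ∈ [0, 9437184], g * u * g⁻¹ * u⁻¹ = ec t := by
    rintro g (h | h)
    · exact ⟨0, by simp, by rw [h, ec_zero, mul_inv_cancel]⟩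
    · refine ⟨9437184, by simp, ?_⟩
      rw [h, ← Cfsg.Agent.FourTwo.Facts.ec_9437184, comm_c hu, mul_inv_cancel_right]
  have h1 := enum_U [(513, [0, 9437184]), (74, [0, 9437184])]
    [0, 8388608, 1048576, 9437184, 4259840, 12648448, 5308416, 13697024] (by decide +kernel) hu (by
      intro c hc
      simp only [List.mem_cons, List.not_mem_nil, or_false] at hc
      rcases hc with rfl | rfl
      · dsimp only
        rw [← ec_gA]
        exact aux _ hA
      · dsimp only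
        rw [← ec_gC]
        exact aux _ hC)
  obtain ⟨f, hf, rfl⟩ := h1
  simp only [List.mem_cons, List.not_mem_nil, or_false] at hf
  rcases hf with rfl | rfl | rfl | rfl | rfl | rfl | rfl | rfl
  · exact ⟨[], by simp, ec_zero⟩
  · exact ⟨[47], by simp, (wd_eq_ec' _ (by decide) _ (by decide +kernel)).symm⟩
  · exact ⟨[44], by simp, (wd_eq_ec' _ (by decide) _ (by decide +kernel)).symm⟩
  · exact ⟨[44, 47], by simp, (wd_eq_ec' _ (by decide) _ (by decide +kernel)).symm⟩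
  · exact ⟨[40, 46], by simp, (wd_eq_ec' _ (by decide) _ (by decide +kernel)).symm⟩
  · exact ⟨[40, 46, 47], by simp, (wd_eq_ec' _ (by decide) _ (by decide +kernel)).symm⟩
  · exact ⟨[40, 44, 46], by simp, (wd_eq_ec' _ (by decide) _ (by decide +kernel)).symm⟩
  · exact ⟨[40, 44, 46, 47], by simp, (wd_eq_ec' _ (by decide) _ (by decide +kernel)).symm⟩

theorem wd_ne {w w' : List ℕ} {e e' : ℕ} (h : (w.all fun r => decide (24 ≤ r ∧ r < 48)) = true)
    (h' : (w'.all fun r => decide (24 ≤ r ∧ r < 48)) = true)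
    (he : Cfsg.Agent.FourTwo.UCode.colW (w.map fun r => r - 24) = e)
    (he' : Cfsg.Agent.FourTwo.UCode.colW (w'.map fun r => r - 24) = e') (h1 : e < 2 ^ 24) (h2 : e' < 2 ^ 24)
    (hne : e ≠ e') : wd w ≠ wd w' := by
  rw [wd_eq_ec' w h e he, wd_eq_ec' w' h' e' he']
  exact fun h3 => hne (ec_inj h1 h2 h3)

/-- The fixed points of `gam` among them. -/
theorem sk {u : LL} (hu : u ∈ U) (hf : gam u = u) (hA : gA * u * gA⁻¹ = u ∨ gA * u * gA⁻¹ = u * (x 44 * x 47))
    (hC : gC * u * gC⁻¹ = u ∨ gC * u * gC⁻¹ = u * (x 44 * x 47)) :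
    u = 1 ∨ u = x 44 * x 47 ∨ u = wd [40, 46] ∨ u = wd [40, 44, 46, 47] := by
  obtain ⟨w, hw, rfl⟩ := enumZ hu hA hC
  simp only [List.mem_cons, List.not_mem_nil, or_false] at hw
  rcases hw with rfl | rfl | rfl | rfl | rfl | rfl | rfl | rfl
  · exact Or.inl rfl
  · exfalso
    rw [gam_wd (by decide)] at hf
    exact wd_ne (e := 1048576) (e' := 8388608) (by decide) (by decide) (by decide +kernel) (by decide +kernel)
      (by norm_num) (by norm_num) (by norm_num) hf
  · exfalso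
    rw [gam_wd (by decide)] at hf
    exact wd_ne (e := 8388608) (e' := 1048576) (by decide) (by decide) (by decide +kernel) (by decide +kernel)
      (by norm_num) (by norm_num) (by norm_num) hf
  · right; left
    rw [wd_cons, wd_one]
  · exact Or.inr (Or.inr (Or.inl rfl))
  · exfalso
    rw [gam_wd (by decide)] at hf
    exact wd_ne (e := 5308416) (e' := 12648448) (by decide) (by decide) (by decide +kernel) (by decide +kernel)
      (by norm_num) (by norm_num) (by norm_num) hf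
  · exfalso
    rw [gam_wd (by decide)] at hf
    exact wd_ne (e := 12648448) (e' := 5308416) (by decide) (by decide) (by decide +kernel) (by decide +kernel)
      (by norm_num) (by norm_num) (by norm_num) hf
  · exact Or.inr (Or.inr (Or.inr rfl))

theorem n0_eq : n 0 = wd [33, 14, 33] := n_eq_wd 0
theorem n3_eq : n 3 = wd [24, 23, 24] := n_eq_wd 3

/-- conjugating `x 47 * (x 40 * x 46)` to `z` -/
theorem conj1 : ∃ g : LL, g * (x 47 * wd [40, 46]) * g⁻¹ = x 44 * x 47 := by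
  refine ⟨n 0 * n 3 * x 24, ?_⟩
  rw [mul_inv_eq_iff_eq_mul, n0_eq, n3_eq]
  have h := wd_eq ([33, 14, 33] ++ [24, 23, 24] ++ [24] ++ ([47] ++ [40, 46])) ([44] ++ [47] ++ ([33, 14, 33] ++ [24, 23, 24] ++ [24]))
    (by decide +kernel)
  simp only [wd_append, wd_one] at h
  exact h

/-- conjugating `x 47 * (x 40 * x 44 * x 46 * x 47)` to `z` -/
theorem conj2 : ∃ g : LL, g * (x 47 * wd [40, 44, 46, 47]) * g⁻¹ = x 44 * x 47 := by
  refine ⟨n 0 * n 3 * x 33, ?_⟩
  rw [mul_inv_eq_iff_eq_mul, n0_eq, n3_eq]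
  have h := wd_eq ([33, 14, 33] ++ [24, 23, 24] ++ [33] ++ ([47] ++ [40, 44, 46, 47]))
    ([44] ++ [47] ++ ([33, 14, 33] ++ [24, 23, 24] ++ [33])) (by decide +kernel)
  simp only [wd_append, wd_one] at h
  exact h

theorem sq1 : (wd [40, 46] : LL) * wd [40, 46] = 1 := by
  rw [← wd_append]
  exact wd_eq _ [] (by decide +kernel)

theorem sq2 : (wd [40, 44, 46, 47] : LL) * wd [40, 44, 46, 47] = 1 := by
  rw [← wd_append]
  exact wd_eq _ [] (by decide +kernel)

/-! ### `O₂(FX) = 1` -/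

theorem w0_alt : nw (w0L.map fun i => 3 - i) = w0 := by
  have hl : ∀ i ∈ w0L.map (fun i => 3 - i), i < 4 := by decide
  have hact : ∀ r < 48, act (w0L.map fun i => 3 - i) r = 47 - r := by decide +kernel
  have h1 : nw (w0L.map fun i => 3 - i) * w0⁻¹ = 1 := by
    refine eq_one_of_fix (mul_mem (nw_mem_N hl) (inv_mem w0_mem)) (l := [33, 27, 25, 24]) (by decide)
      sep_simple fun p hp => ?_
    have hp48 : p < 48 := by
      simp only [List.mem_cons, List.not_mem_nil, or_false] at hp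
      omega
    have h2 := w0_conj (show 47 - p < 48 by omega)
    have h3 := nw_conj hl (show 47 - p < 48 by omega)
    rw [hact _ (by omega)] at h3
    rw [show 47 - (47 - p) = p by omega] at h2 h3
    have h4 : w0⁻¹ * x p * w0 = x (47 - p) := by rw [← h2]; group
    calc nw (w0L.map fun i => 3 - i) * w0⁻¹ * x p * (nw (w0L.map fun i => 3 - i) * w0⁻¹)⁻¹ =
        nw (w0L.map fun i => 3 - i) * (w0⁻¹ * x p * w0) * (nw (w0L.map fun i => 3 - i))⁻¹ := by group
      _ = x p := by rw [h4, h3]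
  exact mul_inv_eq_one.1 h1

theorem gam_n {i : ℕ} (hi : i < 4) : gam (n i) = n (3 - i) := by
  have hT : ∀ i < 4, [sp i, 47 - sp i, sp i].map bar = [sp (3 - i), 47 - sp (3 - i), sp (3 - i)] := by decide
  have h48 : ∀ i < 4, ∀ r ∈ [sp i, 47 - sp i, sp i], r < 48 := by decide
  rw [n_eq_wd, gam_wd (h48 i hi), hT i hi, n_eq_wd]

theorem gam_nw {w : List ℕ} (h : ∀ i ∈ w, i < 4) : gam (nw w) = nw (w.map fun i => 3 - i) := by
  induction w with
  | nil => exact map_one _
  | cons i w ih =>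
    have e : ∀ (i : ℕ) (w : List ℕ), nw (i :: w) = n i * nw w := fun i w => by simp [nw]
    rw [e, map_mul, List.map_cons, e, gam_n (h i List.mem_cons_self), ih fun j hj => h j (List.mem_cons_of_mem _ hj)]

theorem gam_w0 : gam w0 = w0 := by
  unfold w0
  rw [gam_nw w0L_lt]
  exact w0_alt

theorem five : (x 44 * x 47 * (x 3 * x 0)) ^ 5 = 1 := by
  have h := wd_eq ([44, 47, 3, 0] ++ [44, 47, 3, 0] ++ [44, 47, 3, 0] ++ [44, 47, 3, 0] ++ [44, 47, 3, 0]) []
    (by decide +kernel)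
  simp only [wd_append] at h
  have e : (wd [44, 47, 3, 0] : LL) = x 44 * x 47 * (x 3 * x 0) := by
    simp only [wd_cons, wd_nil, mul_one, mul_assoc]
  rw [e] at h
  rw [pow_succ, pow_succ, pow_succ, pow_succ, pow_one]
  exact h

theorem z_ne : (x 44 * x 47 : LL) ≠ 1 := by
  intro h
  apply x44_ne_x47
  have h1 : x 44 * x 47 * x 47 = 1 * x 47 := by rw [h]
  rw [mul_assoc, xx, mul_one, one_mul] at h1
  exact h1

theorem nA1 : ¬ gA * wd [40, 46] = wd [40, 46] * gA := by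
  intro h
  have h1 := wd_eq ([24, 33] ++ [40, 46]) ([44, 47] ++ ([40, 46] ++ [24, 33])) (by decide +kernel)
  rw [wd_append, wd_append [44, 47], wd_append] at h1
  change gA * _ = _ * (_ * gA) at h1
  rw [h] at h1
  apply z_ne
  rw [show (x 44 * x 47 : LL) = wd [44, 47] by rw [wd_cons, wd_one]]
  exact right_eq_mul.1 h1

theorem nA2 : ¬ gA * wd [40, 44, 46, 47] = wd [40, 44, 46, 47] * gA := by
  intro h
  have h1 := wd_eq ([24, 33] ++ [40, 44, 46, 47]) ([44, 47] ++ ([40, 44, 46, 47] ++ [24, 33])) (by decide +kernel)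
  rw [wd_append, wd_append [44, 47], wd_append] at h1
  change gA * _ = _ * (_ * gA) at h1
  rw [h] at h1
  apply z_ne
  rw [show (x 44 * x 47 : LL) = wd [44, 47] by rw [wd_cons, wd_one]]
  exact right_eq_mul.1 h1

/-- A 2-subgroup of `FX` normalised by `FX` is trivial. -/
theorem core {D : Subgroup LL} (hD : IsPGroup 2 D) (hDf : ∀ d ∈ D, gam d = d)
    (hDn : ∀ k, gam k = k → ∀ d ∈ D, k * d * k⁻¹ ∈ D) : ∀ d ∈ D, d = 1 := by
  have := finite_LL
  have hp : Fact (Nat.Prime 2) := ⟨Nat.prime_two⟩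
  by_contra hcon
  push Not at hcon
  obtain ⟨d0, hd0, hd01⟩ := hcon
  let K : Subgroup LL :=
    { carrier := {u | u ∈ U ∧ gam u = u}
      mul_mem' := fun {a b} ha hb => ⟨mul_mem ha.1 hb.1, by rw [map_mul, ha.2, hb.2]⟩
      one_mem' := ⟨one_mem _, map_one _⟩
      inv_mem' := fun {a} ha => ⟨inv_mem ha.1, by rw [map_inv, ha.2]⟩ }
  have hK2 : IsPGroup 2 K := isPGroup_U.to_le fun u hu => hu.1
  have hKn : K ≤ Subgroup.normalizer (D : Set LL) := by
    intro k hk
    rw [Subgroup.mem_normalizer_iff]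
    intro r
    refine ⟨fun hr => hDn k hk.2 r hr, fun hr => ?_⟩
    have h1 := hDn k⁻¹ (by rw [map_inv, hk.2]) _ hr
    rwa [show k⁻¹ * (k * r * k⁻¹) * k⁻¹⁻¹ = r by group] at h1
  have hP : IsPGroup 2 (K ⊔ D : Subgroup LL) := hK2.to_sup_of_normal_right' hD hKn
  let P : Subgroup LL := K ⊔ D
  let D' : Subgroup P := D.subgroupOf P
  have hDn' : D'.Normal := by
    constructor
    intro x hx g
    change ((g * x * g⁻¹ : P) : LL) ∈ D
    have hg : (g : LL) ∈ Subgroup.normalizer (D : Set LL) :=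
      (sup_le hKn Subgroup.le_normalizer : P ≤ Subgroup.normalizer (D : Set LL)) g.2
    exact (Subgroup.mem_normalizer_iff.1 hg _).1 hx
  have hne : D' ≠ ⊥ := by
    intro h0
    have h1 : (⟨d0, (le_sup_right : D ≤ P) hd0⟩ : P) ∈ D' := hd0
    rw [h0, Subgroup.mem_bot] at h1
    exact hd01 (congrArg Subtype.val h1)
  have hnil : Group.IsNilpotent P := hP.isNilpotent
  have h1 := Cfsg.Agent.Lib.NormalAbelian.normal_inf_center_ne_bot D' hne
  obtain ⟨⟨⟨d, hdP⟩, hd⟩, hd1⟩ := Subgroup.ne_bot_iff_exists_ne_one.mp h1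
  have hdD : d ∈ D := hd.1
  have hd1' : d ≠ 1 := fun h => hd1 (Subtype.ext (Subtype.ext h))
  have hcom : ∀ k ∈ K, k * d = d * k := fun k hk => by
    have h2 := Subgroup.mem_center_iff.mp (Subgroup.mem_inf.1 hd).2 ⟨k, (le_sup_left : K ≤ P) hk⟩
    rw [Subtype.ext_iff, Subgroup.coe_mul, Subgroup.coe_mul] at h2
    exact h2
  have hA := hcom gA ⟨gA_mem, gam_gA⟩
  have hC := hcom gC ⟨gC_mem, gam_gC⟩
  have hT := hcom gT ⟨gT_mem, gam_gT⟩
  have hC2 : d * (x 28 * x 30) = x 28 * x 30 * d := by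
    rw [← gC_sq, ← mul_assoc, ← hC, mul_assoc, ← hC, mul_assoc]
  have hT2 : d * (x 44 * x 47) = x 44 * x 47 * d := by
    rw [← gT_sq, ← mul_assoc, ← hT, mul_assoc, ← hT, mul_assoc]
  obtain ⟨h44, h47⟩ := cent_z hT2
  have hdU : d ∈ U := mem_U_of h44 h47 hC2
  have hdf := hDf d hdD
  have key : d = x 44 * x 47 := by
    rcases sk hdU hdf (Or.inl (by rw [hA, mul_inv_cancel_right])) (Or.inl (by rw [hC, mul_inv_cancel_right])) with
      h | h | h | h
    · exact absurd h hd1'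
    · exact h
    · exact (nA1 (h ▸ hA)).elim
    · exact (nA2 (h ▸ hA)).elim
  have hw := hDn w0 gam_w0 d hdD
  have hw' : w0 * d * w0⁻¹ = x 3 * x 0 := by
    rw [key, show w0 * (x 44 * x 47) * w0⁻¹ = (w0 * x 44 * w0⁻¹) * (w0 * x 47 * w0⁻¹) by group,
      w0_conj (by omega), w0_conj (by omega)]
  rw [hw'] at hw
  have h5 : d * (x 3 * x 0) = 1 := by
    have h6 : d * (x 3 * x 0) ∈ D := mul_mem hdD hw
    obtain ⟨m, hm⟩ := hD ⟨_, h6⟩
    have hm' : (d * (x 3 * x 0)) ^ 2 ^ m = 1 := congrArg Subtype.val hm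
    have h7 : (d * (x 3 * x 0)) ^ 5 = 1 := by rw [key]; exact five
    have h8 := orderOf_dvd_of_pow_eq_one hm'
    have h9 := orderOf_dvd_of_pow_eq_one h7
    have h10 : orderOf (d * (x 3 * x 0)) ∣ 1 := by
      have hco : Nat.Coprime (2 ^ m) 5 := Nat.Coprime.pow_left _ (by norm_num)
      rw [← hco.gcd_eq_one]
      exact Nat.dvd_gcd h8 h9
    exact orderOf_eq_one_iff.1 (Nat.dvd_one.1 h10)
  apply hd1'
  have h6 : d ∈ U ⊓ V := by
    refine ⟨hdU, ?_⟩
    have m3 : x 3 ∈ V := x_mem_V (by omega)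
    have m0 : x 0 ∈ V := x_mem_V (by omega)
    have h7 : d = (x 3 * x 0)⁻¹ := by
      calc d = d * (x 3 * x 0) * (x 3 * x 0)⁻¹ := by rw [mul_inv_cancel_right]
        _ = (x 3 * x 0)⁻¹ := by rw [h5, one_mul]
    rw [h7]
    exact V.inv_mem (V.mul_mem m3 m0)
  rwa [U_inf_V, Subgroup.mem_bot] at h6

/-- `Z(F₄(2)) = 1` -/
theorem center {c : LL} (h : ∀ l : LL, c * l = l * c) : c = 1 := by
  have h1 : c ∈ U := mem_U_of (h _) (h _) (h _)
  refine U_inf_Vo h1 ⟨c, h1, ?_⟩
  show w0 * c * w0⁻¹ = c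
  rw [← h, mul_inv_cancel_right]

/-- The elements centralising `U`. -/
theorem center_U {c : LL} (h : ∀ u ∈ U, c * u = u * c) : c = 1 ∨ c = x 44 ∨ c = x 47 ∨ c = x 44 * x 47 := by
  have hc : c ∈ U := mem_U_of (h _ (x_mem_U (by omega) (by omega))) (h _ (x_mem_U (by omega) (by omega)))
    (h _ (mul_mem (x_mem_U (by omega) (by omega)) (x_mem_U (by omega) (by omega))))
  refine Cfsg.Agent.FourTwo.Facts.cent_U hc fun r hr => (h _ ?_).symm
  simp only [List.mem_cons, List.not_mem_nil, or_false] at hr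
  rcases hr with rfl | rfl | rfl | rfl <;> exact x_mem_U (by omega) (by omega)

theorem zz : (x 44 * x 47 : LL) * (x 44 * x 47) = 1 := by
  have h := wd_eq ([44, 47] ++ [44, 47]) [] (by decide +kernel)
  rw [wd_append, wd_cons, wd_one] at h
  exact h

end Cfsg.Agent.Omega.IId.FFour.TwoFacts

end
end
end
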