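import Cfsg.Agent.Mrg.Omega.Lie.TorD
import Cfsg.Agent.FastGrp
import Cfsg.Agent.Prune
set_option linter.all false
prune_inst 0x7f00000000000000000000000000000000000000000000000000000000000000000000000000000000000000000000000000000000000000000000000000000000000000000000000000000000000000003fffffffffffffffffffffffffffbeffbdffffffff
open scoped Cfsg.Agent.FastGrp


/-!
# #11818 (L) and (N): elements of `C(V)` acting trivially on `W i / Z(W i)` lie in `Q i`; `Q i' ≤ R i`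
-/

set_option autoImplicit false

namespace Cfsg.Agent.Omega.BTwo

open Subgroup

variable {G : Type*} [Group G] {ι : Type*} {V : Subgroup G} {R : ι → Subgroup G}

/-- `Z(W i)` -/
def ZW (V : Subgroup G) (R : ι → Subgroup G) (i : ι) : Subgroup G :=
  WW V (R i) ⊓ centralizer (WW V (R i) : Set G)

theorem ZW_comm {i : ι} {z w : G} (hz : z ∈ ZW V R i) (hw : w ∈ WW V (R i)) : w * z = z * w :=
  mem_centralizer_iff.1 hz.2 w hw

theorem N_le_NZW (i : ι) : normalizer (R i : Set G) ≤ normalizer (ZW V R i : Set G) := by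
  intro g hg
  have h1 := normalizer_le_WW V (R i) hg
  rw [← cj_eq_self_iff, ZW, cj_inf, ← centralizer_cj, cj_eq_self_iff.2 h1]

section

variable (b : BT V R)
include b

theorem BT.R_le_ZW (i : ι) : R i ≤ ZW V R i := fun _ ha =>
  mem_inf.2 ⟨V_le_WW V (R i) (b.R_le i ha), b.R_cen_W i ha⟩

/-- a point other than `R i` is not centralised by `W i` -/
theorem BT.not_ZW {i j : ι} (hij : i ≠ j) {a : G} (ha : a ∈ R j) (h : a ∈ ZW V R i) : a = 1 := by
  obtain ⟨k, hkj, hki⟩ := b.third j i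
  obtain ⟨w, hw, e⟩ := b.trans i (Ne.symm hij) hki
  have h1 : w * a * w⁻¹ ∈ R k := by rw [← e]; exact conj_mem_cj ha
  rw [ZW_comm h hw, mul_inv_cancel_right] at h1
  exact b.eq_one (Ne.symm hkj) ha h1

theorem BT.Q_cenMod (i : ι) : QQ (R i) ≤ cenMod (R i) (WW V (R i)) := b.Q_le_K i

end

/-- `Q i' ≤ R i` -/
theorem BTC.Q_comm (b : BTC V R) [Finite G] {i : ι} {x y : G} (hx : x ∈ QQ (R i)) (hy : y ∈ QQ (R i)) :
    x * y * x⁻¹ * y⁻¹ ∈ R i := by
  have hW : WW V (R i) ≤ cenMod (R i) (QQ (R i)) := fun w hw =>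
    ⟨b.W_le_N i hw, fun d hd => by
      have h1 := b.WQ i hd hw
      have e : w * d * w⁻¹ * d⁻¹ = (d * w * d⁻¹ * w⁻¹)⁻¹ := by group
      rw [e]
      exact inv_mem h1⟩
  have hC : CC R ≤ cenMod (R i) (QQ (R i)) := fun c hc => by
    have hcQ : c ∈ QQ (R i) := mem_iInf.1 hc i
    refine ⟨b.Q_le i hcQ, fun d hd => ?_⟩
    obtain ⟨w, hw, hd'⟩ := b.exists_eps_W hd
    have h1 := b.C_comm hc hd'
    have h2 := b.WQ i hcQ (inv_mem hw)
    -- `d = (d w) w⁻¹`
    have e : c * d * c⁻¹ * d⁻¹ = (c * (d * w) * c⁻¹ * (d * w)⁻¹) * ((d * w) * (c * w⁻¹ * c⁻¹ * w⁻¹⁻¹) * (d * w)⁻¹) := by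
      group
    rw [e]
    refine mul_mem ?_ (conj_mem_of_normalizer (b.Q_le i (mul_mem hd (b.W_le_Q i hw))) h2)
    rw [h1]
    have e2 : d * w * c * c⁻¹ * (d * w)⁻¹ = 1 := by group
    rw [e2]
    exact one_mem _
  obtain ⟨w, hw, hx'⟩ := b.exists_eps_W hx
  have h : x ∈ cenMod (R i) (QQ (R i)) := by
    have e : x = (x * w) * w⁻¹ := by group
    rw [e]
    exact mul_mem (hC hx') (inv_mem (hW hw))
  exact h.2 y hy

/-- elements of `C(R i)` stabilising `W i ≥ Z(W i) ≥ R i` -/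
def NN (V : Subgroup G) (R : ι → Subgroup G) (i : ι) : Subgroup G :=
  cenMod (ZW V R i) (WW V (R i)) ⊓ cenMod (R i) (ZW V R i) ⊓ centralizer (R i : Set G)

theorem conj_cenMod {V D : Subgroup G} {g x : G} (hgV : g ∈ normalizer (V : Set G))
    (hgD : g ∈ normalizer (D : Set G)) (hx : x ∈ cenMod V D) : g * x * g⁻¹ ∈ cenMod V D := by
  refine ⟨mul_mem (mul_mem hgV hx.1) (inv_mem hgV), fun w hw => ?_⟩
  have h1 := hx.2 _ (conj_inv_mem_of_normalizer hgD hw)
  have h2 := conj_mem_of_normalizer hgV h1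
  have e : g * (x * (g⁻¹ * w * g) * x⁻¹ * (g⁻¹ * w * g)⁻¹) * g⁻¹ =
      g * x * g⁻¹ * w * (g * x * g⁻¹)⁻¹ * w⁻¹ := by group
  rwa [e] at h2

section

variable (b : BTC V R)
include b

end

end Cfsg.Agent.Omega.BTwo

private theorem dce_eaeee3e2d687 : _root_.True := by
  try have : _root_.True := by simp only [_root_.Cfsg.Agent.Omega.BTwo.ZW.eq_1]
  exact _root_.True.intro
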